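import Mathlib
import Cfsg.Agent.SignalizersComponents.CoprimeBasic

/-!
# Exact lifting modulo an odd subgroup

`N` is a subgroup of odd order; congruence modulo `N` is written `a⁻¹ * b ∈ N`.
-/

set_option autoImplicit false

open Subgroup Cfsg.Agent.SignalizersComponents

namespace Cfsg.Agent.Intrinsic.Lifting

variable {G : Type*} [Group G]

theorem eq_one_of_odd [Finite G] {N : Subgroup G} (hN : Odd (Nat.card N)) {x : G} (hx : x ∈ N)
    {n : ℕ} (hn : x ^ 2 ^ n = 1) : x = 1 := by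
  have h1 : orderOf x ∣ 2 ^ n := orderOf_dvd_of_pow_eq_one hn
  have h2 : orderOf x ∣ Nat.card N := Subgroup.orderOf_dvd_natCard N hx
  have h3 : Nat.Coprime (2 ^ n) (Nat.card N) := Nat.Coprime.pow_left n hN.coprime_two_left
  exact orderOf_eq_one_iff.mp (Nat.eq_one_of_dvd_coprimes h3 h1 h2)

theorem not_dvd_of_odd {N : Subgroup G} (hN : Odd (Nat.card N)) : ¬ 2 ∣ Nat.card N := by
  intro h
  exact (Nat.not_even_iff_odd.mpr hN) (even_iff_two_dvd.mpr h)

/-- **L1.** `m` commutes with the 2-element `v` modulo `N`, `v` normalizes `N`: some `m * o`,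
`o ∈ N`, commutes with `v`. -/
theorem exists_commute [Finite G] {N : Subgroup G} (hN : Odd (Nat.card N)) {v m : G} {n : ℕ}
    (hv : v ^ 2 ^ n = 1) (hvN : v ∈ normalizer (N : Set G)) (h : m⁻¹ * (v * m * v⁻¹) ∈ N) :
    ∃ o ∈ N, v * (m * o) = (m * o) * v := by
  have : Fact (Nat.Prime 2) := ⟨Nat.prime_two⟩
  exact CoprimeBasic.exists_fixed_in_coset_of_pow (p := 2) v n hv N (not_dvd_of_odd hN)
    (fun d hd => (mem_normalizer_iff.mp hvN d).mp hd) m h

/-- **L1'.** The same for a 2-subgroup `P`. -/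
theorem exists_commute_group [Finite G] {N : Subgroup G} (hN : Odd (Nat.card N)) {P : Subgroup G}
    (hP : IsPGroup 2 P) (hPN : P ≤ normalizer (N : Set G)) {m : G}
    (h : ∀ a ∈ P, m⁻¹ * (a * m * a⁻¹) ∈ N) :
    ∃ o ∈ N, ∀ a ∈ P, a * (m * o) = (m * o) * a := by
  have : Fact (Nat.Prime 2) := ⟨Nat.prime_two⟩
  exact CoprimeBasic.exists_fixed_in_coset (p := 2) P hP N (not_dvd_of_odd hN)
    (fun a ha d hd => (mem_normalizer_iff.mp (hPN ha) d).mp hd) m h

/-- **L2.** the 2-part of `x` modulo `N` -/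
theorem exists_two_part {N : Subgroup G} [Finite N] (hN : Odd (Nat.card N)) {x : G} {n : ℕ}
    (hx : x ^ 2 ^ n ∈ N) : ∃ k : ℕ, (x ^ k) ^ 2 ^ n = 1 ∧ x⁻¹ * x ^ k ∈ N := by
  have hcop : Nat.Coprime (2 ^ n) (Nat.card N) := Nat.Coprime.pow_left n hN.coprime_two_left
  obtain ⟨k, hk1, hk2⟩ := Nat.chineseRemainder hcop 1 0
  have hk2' : Nat.card N ∣ k := (Nat.modEq_zero_iff_dvd).mp hk2
  refine ⟨k, ?_, ?_⟩
  · obtain ⟨m, rfl⟩ := hk2'
    rw [← pow_mul, show Nat.card N * m * 2 ^ n = 2 ^ n * Nat.card N * m by ring, pow_mul, pow_mul]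
    have h1 : (x ^ 2 ^ n) ^ Nat.card N = 1 := by
      have := pow_card_eq_one' (x := (⟨x ^ 2 ^ n, hx⟩ : N))
      exact congrArg Subtype.val this
    rw [h1, one_pow]
  · have h1 : (2 ^ n : ℤ) ∣ (k : ℤ) - 1 := by
      have := (Nat.modEq_iff_dvd.mp hk1.symm)
      exact_mod_cast this
    obtain ⟨c, hc⟩ := h1
    have h2 : x⁻¹ * x ^ k = (x ^ 2 ^ n) ^ c := by
      have e1 : x⁻¹ * x ^ k = x ^ ((k : ℤ) - 1) := by
        rw [zpow_sub, zpow_one, zpow_natCast]
        exact ((Commute.refl x).inv_left.pow_right k).eq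
      rw [e1, hc, zpow_mul]
      norm_cast
    rw [h2]
    exact zpow_mem hx c

/-- **L3.** 2-elements congruent modulo `N` are conjugate under `N`. -/
theorem exists_conj_eq [Finite G] {N : Subgroup G} (hN : Odd (Nat.card N)) {v v' : G} {n m : ℕ}
    (hv : v ^ 2 ^ n = 1) (hv' : v' ^ 2 ^ m = 1) (hvN : v ∈ normalizer (N : Set G))
    (h : v⁻¹ * v' ∈ N) : ∃ o ∈ N, o * v * o⁻¹ = v' := by
  have h2 : Fact (Nat.Prime 2) := ⟨Nat.prime_two⟩
  have hv'v : v' * v⁻¹ ∈ N := by
    have := (mem_normalizer_iff.mp hvN _).mp h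
    convert this using 1
    group
  have hβ : ∀ y ∈ N, v' * y * v⁻¹ ∈ N := by
    intro y hy
    have h3 := N.mul_mem hv'v ((mem_normalizer_iff.mp hvN _).mp hy)
    convert h3 using 1
    group
  -- the group generated by `(v', v)` acts on `N`
  let P : Subgroup (G × G) := zpowers (v', v)
  have hP : IsPGroup 2 P := by
    rintro ⟨z, hz⟩
    obtain ⟨k, rfl⟩ := mem_zpowers_iff.mp hz
    refine ⟨n + m, ?_⟩
    apply Subtype.ext
    change ((v', v) ^ k) ^ 2 ^ (n + m) = 1
    rw [← zpow_natCast, ← zpow_mul, mul_comm, zpow_mul, zpow_natCast]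
    have : ((v', v) : G × G) ^ 2 ^ (n + m) = 1 := by
      apply Prod.ext
      · change v' ^ 2 ^ (n + m) = 1
        rw [pow_add, mul_comm, pow_mul, hv', one_pow]
      · change v ^ 2 ^ (n + m) = 1
        rw [pow_add, pow_mul, hv, one_pow]
    rw [this, one_zpow]
  have hmem : ∀ z ∈ P, ∀ y ∈ N, z.1 * y * z.2⁻¹ ∈ N := by
    intro z hz
    have hle : P ≤ { carrier := {z : G × G | ∀ y, y ∈ N ↔ z.1 * y * z.2⁻¹ ∈ N}
                     one_mem' := fun y => by simp
                     mul_mem' := fun {a b} ha hb y => by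
                       rw [hb y, ha _]
                       simp only [Prod.fst_mul, Prod.snd_mul, mul_inv_rev, mul_assoc]
                     inv_mem' := fun {a} ha y => by
                       have e : a.1 * (a⁻¹.1 * y * a⁻¹.2⁻¹) * a.2⁻¹ = y := by
                         simp only [Prod.fst_inv, Prod.snd_inv, inv_inv]; group
                       have h5 := ha (a⁻¹.1 * y * a⁻¹.2⁻¹)
                       rw [e] at h5
                       exact h5.symm : Subgroup (G × G) } := by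
      rw [zpowers_le]
      intro y
      constructor
      · exact hβ y
      · intro hy
        have h3 : v⁻¹ * ((v' * v⁻¹)⁻¹ * (v' * y * v⁻¹)) * v = y := by group
        have h4 : (v' * v⁻¹)⁻¹ * (v' * y * v⁻¹) ∈ N := N.mul_mem (N.inv_mem hv'v) hy
        have h5 := (mem_normalizer_iff.mp ((normalizer (N : Set G)).inv_mem hvN) _).mp h4
        rw [inv_inv, h3] at h5
        exact h5
    intro y hy
    exact (hle hz y).mp hy
  let act : MulAction P N :=
    { smul := fun z y => ⟨z.1.1 * y * z.1.2⁻¹, hmem z.1 z.2 y y.2⟩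
      one_smul := fun y => Subtype.ext (by
        change (1 : G × G).1 * (y : G) * (1 : G × G).2⁻¹ = y
        simp)
      mul_smul := fun a b y => Subtype.ext (by
        change (a.1 * b.1).1 * (y : G) * (a.1 * b.1).2⁻¹ = a.1.1 * (b.1.1 * y * b.1.2⁻¹) * a.1.2⁻¹
        simp only [Prod.fst_mul, Prod.snd_mul, mul_inv_rev, mul_assoc]) }
  obtain ⟨y, hy⟩ := hP.nonempty_fixed_point_of_prime_not_dvd_card N (not_dvd_of_odd hN)
  have h3 := congrArg Subtype.val (hy ⟨(v', v), mem_zpowers _⟩)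
  have h4 : v' * (y : G) * v⁻¹ = y := h3
  refine ⟨y, y.2, ?_⟩
  calc (y : G) * v * (y : G)⁻¹ = (v' * (y : G) * v⁻¹) * v * (y : G)⁻¹ := by rw [h4]
    _ = v' := by group

/-- **L4.** an involution modulo `N` commuting with `v` modulo `N` lifts to an involution
commuting with `v`. -/
theorem exists_involution [Finite G] {N : Subgroup G} (hN : Odd (Nat.card N)) {v x : G} {n : ℕ}
    (hv : v ^ 2 ^ n = 1) (hvN : v ∈ normalizer (N : Set G)) (hxN : x ∈ normalizer (N : Set G))
    (hx : x * x ∈ N) (h : x⁻¹ * (v * x * v⁻¹) ∈ N) :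
    ∃ o ∈ N, (x * o) * (x * o) = 1 ∧ v * (x * o) = (x * o) * v := by
  obtain ⟨o, ho, hc⟩ := exists_commute hN hv hvN h
  have h1 : (x * o) ^ 2 ^ 1 ∈ N := by
    have e : (x * o) ^ 2 ^ 1 = (x * x) * (x⁻¹ * o * x) * o := by
      rw [pow_one, pow_two]; group
    rw [e]
    refine N.mul_mem (N.mul_mem hx ?_) ho
    have := (mem_normalizer_iff.mp ((normalizer (N : Set G)).inv_mem hxN) _).mp ho
    rwa [inv_inv] at this
  obtain ⟨k, hk1, hk2⟩ := exists_two_part hN h1
  refine ⟨o * ((x * o)⁻¹ * (x * o) ^ k), N.mul_mem ho hk2, ?_, ?_⟩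
  · have e : x * (o * ((x * o)⁻¹ * (x * o) ^ k)) = (x * o) ^ k := by group
    rw [e, ← pow_two, ← hk1, pow_one]
  · have e : x * (o * ((x * o)⁻¹ * (x * o) ^ k)) = (x * o) ^ k := by group
    rw [e]
    exact (show Commute v (x * o) from hc).pow_right k

/-- **L4'.** a 2-element modulo `N` commuting with `v` modulo `N` lifts to a 2-element commuting
with `v`. -/
theorem exists_two_element [Finite G] {N : Subgroup G} (hN : Odd (Nat.card N)) {v x : G} {n m : ℕ}
    (hv : v ^ 2 ^ n = 1) (hvN : v ∈ normalizer (N : Set G)) (hxN : x ∈ normalizer (N : Set G))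
    (hx : x ^ 2 ^ m ∈ N) (h : x⁻¹ * (v * x * v⁻¹) ∈ N) :
    ∃ o ∈ N, (x * o) ^ 2 ^ m = 1 ∧ v * (x * o) = (x * o) * v := by
  obtain ⟨o, ho, hc⟩ := exists_commute hN hv hvN h
  have h1 : (x * o) ^ 2 ^ m ∈ N := by
    have key : ∀ k : ℕ, (x ^ k)⁻¹ * (x * o) ^ k ∈ N := by
      intro k
      induction k with
      | zero => simp
      | succ k ih =>
        have e : (x ^ (k + 1))⁻¹ * (x * o) ^ (k + 1) =
            (x⁻¹ * ((x ^ k)⁻¹ * (x * o) ^ k) * x) * o := by
          rw [pow_succ, pow_succ]; group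
        rw [e]
        refine N.mul_mem ?_ ho
        have := (mem_normalizer_iff.mp ((normalizer (N : Set G)).inv_mem hxN) _).mp ih
        rwa [inv_inv] at this
    have := N.mul_mem hx (key (2 ^ m))
    rwa [mul_inv_cancel_left] at this
  obtain ⟨k, hk1, hk2⟩ := exists_two_part hN h1
  have e : x * (o * ((x * o)⁻¹ * (x * o) ^ k)) = (x * o) ^ k := by group
  refine ⟨o * ((x * o)⁻¹ * (x * o) ^ k), N.mul_mem ho hk2, ?_, ?_⟩
  · rw [e]; exact hk1
  · rw [e]
    exact (show Commute v (x * o) from hc).pow_right k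

/-- **L5.** 2-elements commuting with `v` and congruent modulo `N` are conjugate under `C_N(v)`. -/
theorem exists_conj_commute [Finite G] {N : Subgroup G} (hN : Odd (Nat.card N)) {v a b : G}
    {n m : ℕ} (ha : a ^ 2 ^ n = 1) (hb : b ^ 2 ^ m = 1) (haN : a ∈ normalizer (N : Set G))
    (hav : a * v = v * a) (hbv : b * v = v * b) (h : a⁻¹ * b ∈ N) :
    ∃ o ∈ N, o * v = v * o ∧ o * a * o⁻¹ = b := by
  have hN' : Odd (Nat.card (N ⊓ centralizer ({v} : Set G) : Subgroup G)) :=
    Odd.of_dvd_nat hN (card_dvd_of_le inf_le_left)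
  have hac : a ∈ centralizer ({v} : Set G) := mem_centralizer_singleton_iff.mpr hav
  have hbc : b ∈ centralizer ({v} : Set G) := mem_centralizer_singleton_iff.mpr hbv
  obtain ⟨o, ho, h1⟩ := exists_conj_eq hN' ha hb (by
    rw [mem_normalizer_iff]
    intro x
    rw [mem_inf, mem_inf, ← mem_normalizer_iff.mp haN x]
    refine and_congr_right fun _ => ?_
    constructor
    · intro hx
      exact mul_mem (mul_mem hac hx) ((centralizer ({v} : Set G)).inv_mem hac)
    · intro hx
      have := mul_mem (mul_mem ((centralizer ({v} : Set G)).inv_mem hac) hx) hac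
      convert this using 1
      group) (show a⁻¹ * b ∈ N ⊓ centralizer ({v} : Set G) from
        ⟨h, mul_mem ((centralizer ({v} : Set G)).inv_mem hac) hbc⟩)
  exact ⟨o, ho.1, mem_centralizer_singleton_iff.mp ho.2, h1⟩

/-- Commuting 2-elements congruent modulo `N` are equal. -/
theorem eq_of_commute [Finite G] {N : Subgroup G} (hN : Odd (Nat.card N)) {a b : G} {n m : ℕ}
    (ha : a ^ 2 ^ n = 1) (hb : b ^ 2 ^ m = 1) (hab : a * b = b * a) (h : a⁻¹ * b ∈ N) : a = b := by
  have h1 : (a⁻¹ * b) ^ 2 ^ (n + m) = 1 := by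
    have hc : Commute a⁻¹ b := (show Commute a b from hab).inv_left
    rw [hc.mul_pow, inv_pow, pow_add, pow_mul, ha, one_pow, inv_one, one_mul, mul_comm, pow_mul,
      hb, one_pow]
  exact inv_mul_eq_one.mp (eq_one_of_odd hN h h1)

end Cfsg.Agent.Intrinsic.Lifting
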