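import Cfsg.Agent.Intrinsic.QAct
import Cfsg.Agent.Intrinsic.Cen
import Cfsg.Agent.StandardComponent.AltExists

/-!
# From pairs to `QAct`

`exists_qact`: a normal subgroup which is a non-split double cover of `A_n` gives the record `QAct`.
`exists_qact_pair`: for a pair `(u, X)` the record on `(N(X) ∩ C(u)) / O(X)`.
-/

set_option autoImplicit false

open Cfsg Subgroup Equiv
open Cfsg.Agent.SignalizersComponents Cfsg.Agent.Lib
open Cfsg.Agent.SignalizersComponents.IntrinsicBasic
open Cfsg.Agent.SporRec.TwoAn Cfsg.Agent.SporadicRecognition.AltCover Cfsg.Agent.StandardComponent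
open Cfsg.Agent.Intrinsic.Basic Cfsg.Agent.Intrinsic.Cen

namespace Cfsg.Agent.Intrinsic.Bridge

/-- A non-split double cover of `A_n` is perfect. -/
theorem perfect_of_cover {C : Type*} [Group C] {n : ℕ} (hn : 5 ≤ n)
    (h : IsNonsplitDoubleCover C ↥(alternatingGroup (Fin n))) : Group.IsPerfect C := by
  obtain ⟨π, z0, hcov, -⟩ := exists_isCover h
  have hz : z0 ∈ commutator C := (ofIsCover hn hcov).z_mem_commutator (by rw [Fintype.card_fin]; omega)
  refine ⟨eq_top_iff.mpr fun x _ => ?_⟩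
  have h1 : π x ∈ commutator ↥(alternatingGroup (Fin n)) := by
    rw [commutator_alternatingGroup_eq_top (by rwa [Nat.card_fin])]
    exact mem_top _
  have h2 : (commutator C).map π = commutator ↥(alternatingGroup (Fin n)) := by
    rw [commutator_def, commutator_def, Subgroup.map_commutator, ← MonoidHom.range_eq_map,
      MonoidHom.range_eq_top.mpr hcov.surj]
  rw [← h2] at h1
  obtain ⟨c, hc, hcx⟩ := h1
  rcases hcov.eq_or_of_map_eq hcx.symm with h3 | h3
  · rw [h3]; exact hc
  · rw [h3]; exact mul_mem hc hz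

theorem exists_qact {H : Type*} [Group H] (L : Subgroup H) (hL : L.Normal) {n : ℕ} (hn : 7 ≤ n)
    (hc : IsNonsplitDoubleCover ↥L ↥(alternatingGroup (Fin n))) {z : H} (hz : z ∈ L) (hz1 : z ≠ 1)
    (hzc : ∀ x ∈ L, x * z = z * x) : ∃ S : QAct H n z, S.L = L := by
  classical
  obtain ⟨π, z0, hcov, hcen⟩ := exists_isCover hc
  obtain ⟨ψ, hψ⟩ := AltAut.exists_autHom n hn
  have hperf : Group.IsPerfect ↥L := perfect_of_cover (by omega) hc
  have hz0 : (z0 : H) = z := by
    have h1 : (⟨z, hz⟩ : L) ∈ Subgroup.center L := by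
      rw [Subgroup.mem_center_iff]
      intro x
      exact Subtype.ext (hzc x x.2)
    rcases (hcen _).1 h1 with h | h
    · exact absurd (congrArg Subtype.val h) hz1
    · exact (congrArg Subtype.val h).symm
  have hmemL : ∀ y : H, ∀ x ∈ L, y * x * y⁻¹ ∈ L := fun y x hx => hL.conj_mem x hx y
  have hcen' : ∀ x ∈ L, (∀ u ∈ L, x * u = u * x) → x = 1 ∨ x = z := by
    intro x hx hxu
    have h1 : (⟨x, hx⟩ : L) ∈ Subgroup.center L := by
      rw [Subgroup.mem_center_iff]
      intro u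
      exact Subtype.ext (hxu u u.2).symm
    rcases (hcen _).1 h1 with h | h
    · exact Or.inl (congrArg Subtype.val h)
    · exact Or.inr ((congrArg Subtype.val h).trans hz0)
  have hNz : ∀ y : H, y * z = z * y := by
    intro y
    have h2 : y * z * y⁻¹ = 1 ∨ y * z * y⁻¹ = z := by
      apply hcen' _ (hmemL y z hz)
      intro u hu
      have hu' : y⁻¹ * u * y ∈ L := by
        have := hmemL y⁻¹ u hu
        rwa [inv_inv] at this
      have h3 := hzc _ hu'
      calc y * z * y⁻¹ * u = y * (z * (y⁻¹ * u * y)) * y⁻¹ := by group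
        _ = y * ((y⁻¹ * u * y) * z) * y⁻¹ := by rw [h3]
        _ = u * (y * z * y⁻¹) := by group
    rcases h2 with h | h
    · exfalso
      apply hz1
      have : z = y⁻¹ * (y * z * y⁻¹) * y := by group
      rw [this, h]; group
    · rwa [mul_inv_eq_iff_eq_mul] at h
  -- the induced automorphisms
  have hind : ∀ y : H, ∃ β : MulAut (alternatingGroup (Fin n)),
      ∀ (x : H) (hx : x ∈ L), β (π ⟨x, hx⟩) = π ⟨y * x * y⁻¹, hmemL y x hx⟩ := by
    intro y
    obtain ⟨β, hβ⟩ := AltExists.exists_induced π hcov.surj (MulAut.conjNormal y) (by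
      intro x
      rw [hcov.ker, hcov.ker]
      constructor
      · rintro (rfl | rfl)
        · left; exact map_one _
        · right
          apply Subtype.ext
          rw [MulAut.conjNormal_apply, hz0, hNz y, mul_inv_cancel_right]
      · rintro (h | h)
        · left
          exact (map_eq_one_iff _ (MulAut.conjNormal y).injective).mp h
        · right
          have h1 := congrArg Subtype.val h
          rw [MulAut.conjNormal_apply, hz0] at h1
          apply Subtype.ext
          rw [hz0]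
          have h2 : y * (x : H) = z * y := mul_inv_eq_iff_eq_mul.mp h1
          rw [← hNz y] at h2
          exact mul_left_cancel h2)
    refine ⟨β, fun x hx => ?_⟩
    rw [hβ]
    congr 1
  choose B hB using hind
  -- B is determined
  have hBuniq : ∀ y (γ : MulAut (alternatingGroup (Fin n))),
      (∀ (x : H) (hx : x ∈ L), γ (π ⟨x, hx⟩) = π ⟨y * x * y⁻¹, hmemL y x hx⟩) → γ = B y := by
    intro y γ hγ
    ext a
    obtain ⟨⟨x, hx⟩, rfl⟩ := hcov.surj a
    rw [hγ x hx, hB y x hx]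
  have hBone : B 1 = 1 := by
    symm
    apply hBuniq
    intro x hx
    rw [MulAut.one_apply]
    congr 1
    apply Subtype.ext
    show x = 1 * x * 1⁻¹
    group
  have hBmul : ∀ x y, B (x * y) = B x * B y := by
    intro x y
    symm
    apply hBuniq
    intro u hu
    rw [MulAut.mul_apply, hB y u hu, hB x _ (hmemL y u hu)]
    congr 1
    apply Subtype.ext
    show x * (y * u * y⁻¹) * x⁻¹ = x * y * u * (x * y)⁻¹
    group
  let φ : H →* Perm (Fin n) :=
    { toFun := fun y => ψ (B y)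
      map_one' := by rw [hBone, map_one]
      map_mul' := fun x y => by rw [hBmul, map_mul] }
  have hφ : ∀ y, φ y = ψ (B y) := fun _ => rfl
  -- values on L
  have hφL : ∀ (x : H) (hx : x ∈ L), φ x = ((π ⟨x, hx⟩ : alternatingGroup (Fin n)) : Perm (Fin n)) := by
    intro x hx
    obtain ⟨m, rfl⟩ : ∃ m, n = m + 2 := ⟨n - 2, by omega⟩
    apply AltAut.conj_unique (m := m) (by omega)
    intro a
    rw [hφ, ← hψ (B x) a]
    have h1 : MulAut.conj (π ⟨x, hx⟩) = B x := by
      apply hBuniq x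
      intro u hu
      rw [MulAut.conj_apply, ← map_mul, ← map_inv, ← map_mul]
      rfl
    rw [← h1]
    rfl
  have hcovL := ofIsCover (by omega : 5 ≤ n) hcov
  refine ⟨⟨L, hL, ofIsCover (by omega : 5 ≤ n) hcov, hz0, φ, ?_, ?_⟩, rfl⟩
  · intro x
    rw [hφL x x.2]
    rfl
  · intro y
    constructor
    · intro h
      apply AltExists.comm_of_perfect L hperf y (hmemL y)
      intro x hx u hu
      have hx' := hmemL y x hx
      have h1 : π ⟨y * x * y⁻¹, hx'⟩ = π ⟨x, hx⟩ := by
        rw [← hB y x hx]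
        apply Subtype.ext
        rw [hψ (B y)]
        show ψ (B y) * _ * (ψ (B y))⁻¹ = _
        have h2 : ψ (B y) = 1 := h
        rw [h2]; simp
      rcases hcov.eq_or_of_map_eq h1 with h3 | h3
      · have h4 : y * x * y⁻¹ = x := congrArg Subtype.val h3
        rw [h4]; group
      · have h4 : y * x * y⁻¹ = x * z := by
          have := congrArg Subtype.val h3
          rw [← hz0]; exact this
        have h5 : y * x * y⁻¹ * x⁻¹ = z := by
          rw [h4, hzc x hx, mul_inv_cancel_right]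
        rw [h5]
        exact (hzc u hu).symm
    · intro h
      rw [hφ]
      have h1 : (1 : MulAut (alternatingGroup (Fin n))) = B y := by
        apply hBuniq y
        intro x hx
        rw [MulAut.one_apply]
        congr 1
        apply Subtype.ext
        show x = y * x * y⁻¹
        rw [h x hx, mul_inv_cancel_right]
      rw [← h1, map_one]

/-! ### quotients of subgroups of `C(u)` normalizing `X` -/

section Of

variable {G : Type*} [Group G] [Finite G] {n : ℕ} {u : G} {X N : Subgroup G}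

omit [Finite G] in
theorem map_normal (hN : N ≤ normalizer (X : Set G)) (M : Subgroup ↥N) [M.Normal] :
    ((X.subgroupOf N).map (QuotientGroup.mk' M)).Normal := by
  have : (X.subgroupOf N).Normal := normal_subgroupOf_of_le_normalizer hN
  exact Subgroup.Normal.map this _ (QuotientGroup.mk'_surjective M)

omit [Finite G] in
/-- `X M / M ≅ X / O(X)` when `X ∩ M = O(X)` -/
noncomputable def mapEquiv (hXN : X ≤ N) (M : Subgroup ↥N) [M.Normal]
    (hM : M.comap (inclusion hXN) = oddCore ↥X) :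
    (↥X ⧸ oddCore ↥X) ≃* ↥((X.subgroupOf N).map (QuotientGroup.mk' M)) :=
  (QuotientGroup.quotientMulEquivOfEq (by
    rw [← hM]; ext x
    rw [MonoidHom.mem_ker, MonoidHom.comp_apply, QuotientGroup.mk'_apply, QuotientGroup.eq_one_iff]
    rfl)).trans
  ((QuotientGroup.quotientKerEquivRange ((QuotientGroup.mk' M).comp (inclusion hXN))).trans
    (MulEquiv.subgroupCongr (by
      rw [MonoidHom.range_comp]
      congr 1
      ext x
      constructor
      · rintro ⟨y, rfl⟩; exact y.2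
      · intro hx; exact ⟨⟨x, hx⟩, rfl⟩)))

theorem exists_qact_of (h : IsPair n u X) (hn : 7 ≤ n) (hXN : X ≤ N)
    (hN : N ≤ normalizer (X : Set G)) (M : Subgroup ↥N) [M.Normal]
    (hM : M.comap (inclusion hXN) = oddCore ↥X) :
    ∃ S : QAct (↥N ⧸ M) n (QuotientGroup.mk ⟨u, hXN h.mem⟩),
      S.L = (X.subgroupOf N).map (QuotientGroup.mk' M) := by
  refine exists_qact _ (map_normal hN M) hn (cover_congr (mapEquiv hXN M hM) h.cover) ?_ ?_ ?_
  · exact ⟨⟨u, hXN h.mem⟩, h.mem, rfl⟩
  · intro h1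
    rw [QuotientGroup.eq_one_iff] at h1
    have h2 : (⟨u, h.mem⟩ : ↥X) ∈ oddCore ↥X := by rw [← hM]; exact h1
    exact h.ne_one (eq_one_of_mem_core_sq ⟨_, h2, rfl⟩ h.sq)
  · rintro _ ⟨x, hx, rfl⟩
    rw [QuotientGroup.mk'_apply, ← QuotientGroup.mk_mul, ← QuotientGroup.mk_mul]
    congr 1
    apply Subtype.ext
    exact pair_comm h hx

omit [Finite G] in
/-- the image in `N / M` of an element of `N` lies in the image of `X` -/
theorem mk_mem_iff (hXN : X ≤ N) (M : Subgroup ↥N) [M.Normal] {a : ↥N} :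
    (QuotientGroup.mk a : ↥N ⧸ M) ∈ (X.subgroupOf N).map (QuotientGroup.mk' M) ↔
      ∃ x ∈ X, x⁻¹ * a ∈ M.map N.subtype := by
  constructor
  · rintro ⟨x, hx, hxa⟩
    refine ⟨x, hx, ⟨x⁻¹ * a, ?_, rfl⟩⟩
    exact QuotientGroup.eq.mp hxa
  · rintro ⟨x, hx, ⟨m, hm, hmx⟩⟩
    refine ⟨⟨x, hXN hx⟩, hx, ?_⟩
    refine QuotientGroup.eq.mpr ?_
    have : (⟨x, hXN hx⟩ : ↥N)⁻¹ * a = m := Subtype.ext hmx.symm
    rw [this]; exact hm

omit [Finite G] in
/-- the kernel of the action -/
theorem φ_eq_one_iff (hXN : X ≤ N) (hN : N ≤ normalizer (X : Set G)) (M : Subgroup ↥N) [M.Normal]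
    (hM : M.comap (inclusion hXN) = oddCore ↥X) {z : ↥N ⧸ M} (S : QAct (↥N ⧸ M) n z)
    (hS : S.L = (X.subgroupOf N).map (QuotientGroup.mk' M)) {a : G} (ha : a ∈ N) :
    S.φ (QuotientGroup.mk ⟨a, ha⟩) = 1 ↔ Fixes a X := by
  rw [S.φ_ker, hS, fixes_iff_conj]
  have key : ∀ y (hy : y ∈ X), (QuotientGroup.mk ⟨a, ha⟩ : ↥N ⧸ M) * QuotientGroup.mk ⟨y, hXN hy⟩ =
      QuotientGroup.mk ⟨y, hXN hy⟩ * QuotientGroup.mk ⟨a, ha⟩ ↔ y⁻¹ * (a * y * a⁻¹) ∈ core X := by
    intro y hy
    have hya : y⁻¹ * (a * y * a⁻¹) ∈ X :=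
      X.mul_mem (X.inv_mem hy) ((mem_normalizer_iff.mp (hN ha) y).mp hy)
    rw [mem_core_iff hya, ← hM, mem_comap]
    rw [← QuotientGroup.mk_mul, ← QuotientGroup.mk_mul, eq_comm, QuotientGroup.eq]
    have e : inclusion hXN ⟨y⁻¹ * (a * y * a⁻¹), hya⟩ =
        ⟨a, ha⟩ * ((⟨y, hXN hy⟩ * ⟨a, ha⟩)⁻¹ * (⟨a, ha⟩ * ⟨y, hXN hy⟩)) * (⟨a, ha⟩ : ↥N)⁻¹ := by
      apply Subtype.ext
      show y⁻¹ * (a * y * a⁻¹) = a * ((y * a)⁻¹ * (a * y)) * a⁻¹
      group
    rw [e]
    constructor
    · intro h; exact Subgroup.Normal.conj_mem ‹_› _ h _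
    · intro h
      have := Subgroup.Normal.conj_mem (H := M) ‹_› _ h (⟨a, ha⟩ : ↥N)⁻¹
      convert this using 1
      group
  constructor
  · intro h
    refine ⟨hN ha, fun y hy => (key y hy).mp (h _ ⟨⟨y, hXN hy⟩, hy, rfl⟩)⟩
  · rintro ⟨-, h⟩ _ ⟨y, hy, rfl⟩
    exact (key y hy).mpr (h y hy)

/-- the elements of `C(u)` normalizing `X` -/
def NX (u : G) (X : Subgroup G) : Subgroup G := normalizer (X : Set G) ⊓ centralizer ({u} : Set G)

omit [Finite G] in
theorem mem_NX {a : G} : a ∈ NX u X ↔ a ∈ normalizer (X : Set G) ∧ a * u = u * a := by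
  rw [NX, mem_inf, mem_centralizer_singleton_iff]

omit [Finite G] in
theorem le_NX (h : IsPair n u X) : X ≤ NX u X := le_inf le_normalizer h.comp.le

omit [Finite G] in
theorem core_normal (u : G) (X : Subgroup G) : ((core X).subgroupOf (NX u X)).Normal := by
  apply normal_subgroupOf_of_le_normalizer
  exact (inf_le_left : NX u X ≤ _).trans (normalizer_le_normalizer_core X)

instance instCoreNormal (u : G) (X : Subgroup G) : ((core X).subgroupOf (NX u X)).Normal :=
  core_normal u X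

/-- `(N(X) ∩ C(u)) / O(X)` -/
abbrev QX (u : G) (X : Subgroup G) : Type _ := ↥(NX u X) ⧸ (core X).subgroupOf (NX u X)

/-- The action of `N(X) ∩ C(u)` on `X / O(X)` for a pair `(u, X)`. -/
theorem exists_pair_act (h : IsPair n u X) (hn : 7 ≤ n) :
    ∃ S : QAct (QX u X) n (QuotientGroup.mk ⟨u, le_NX h h.mem⟩),
      (∀ (a : G) (ha : a ∈ NX u X), QuotientGroup.mk ⟨a, ha⟩ ∈ S.L ↔ a ∈ X) ∧
      (∀ (a : G) (ha : a ∈ NX u X), S.φ (QuotientGroup.mk ⟨a, ha⟩) = 1 ↔ Fixes a X) := by
  have hM : ((core X).subgroupOf (NX u X)).comap (inclusion (le_NX h)) = oddCore ↥X := by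
    ext x
    rw [mem_comap, mem_subgroupOf]
    exact mem_core_iff x.2
  obtain ⟨S, hS⟩ := exists_qact_of h hn (le_NX h) inf_le_left ((core X).subgroupOf (NX u X)) hM
  refine ⟨S, fun a ha => ?_, fun a ha => φ_eq_one_iff (le_NX h) inf_le_left _ hM S hS ha⟩
  rw [hS, mk_mem_iff (le_NX h)]
  constructor
  · rintro ⟨x, hx, hxa⟩
    rw [subgroupOf_map_subtype] at hxa
    have h1 := X.mul_mem hx (core_le X hxa.1)
    rwa [mul_inv_cancel_left] at h1
  · intro hx
    refine ⟨a, hx, ?_⟩
    rw [inv_mul_cancel]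
    exact one_mem _

/-- The action of `C(u)` on `X / O(X)` for a pair `(u, X)` with `X` normal in `C(u)`. -/
theorem exists_cent_act (h : IsPair n u X) (hn : 7 ≤ n)
    (hX : centralizer ({u} : Set G) ≤ normalizer (X : Set G)) :
    ∃ S : QAct (↥(centralizer ({u} : Set G)) ⧸ oddCore ↥(centralizer ({u} : Set G))) n
        (QuotientGroup.mk ⟨u, h.comp.le h.mem⟩),
      (∀ (a : G) (ha : a ∈ centralizer ({u} : Set G)), QuotientGroup.mk ⟨a, ha⟩ ∈ S.L ↔
        ∃ x ∈ X, x⁻¹ * a ∈ core (centralizer ({u} : Set G))) ∧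
      (∀ (a : G) (ha : a ∈ centralizer ({u} : Set G)), S.φ (QuotientGroup.mk ⟨a, ha⟩) = 1 ↔
        Fixes a X) := by
  have hM : (oddCore ↥(centralizer ({u} : Set G))).comap (inclusion h.comp.le) = oddCore ↥X := by
    ext x
    rw [mem_comap]
    have h1 := h.comp.core_eq
    have h2 := mem_core_iff (K := X) x.2
    rw [h1] at h2
    constructor
    · intro h3
      exact h2.mp ⟨x.2, ⟨_, h3, rfl⟩⟩
    · intro h3
      obtain ⟨-, y, hy, hyx⟩ := h2.mpr h3
      have : inclusion h.comp.le x = y := Subtype.ext hyx.symm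
      rw [this]; exact hy
  obtain ⟨S, hS⟩ := exists_qact_of h hn h.comp.le hX (oddCore ↥(centralizer ({u} : Set G))) hM
  refine ⟨S, fun a ha => ?_, fun a ha => φ_eq_one_iff h.comp.le hX _ hM S hS ha⟩
  rw [hS, mk_mem_iff h.comp.le]
  rfl

end Of

end Cfsg.Agent.Intrinsic.Bridge
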