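import Cfsg.Agent.Intrinsic.TypeGOne
import Cfsg.Agent.StandardComponent.CoverExtra
import Cfsg.Agent.StandardComponent.AltAut
import Cfsg.Agent.StandardComponent.AltExists

/-!
# S1738, (3.G)(ii): type (2) does not occur
-/

set_option autoImplicit false

open Cfsg Subgroup Equiv
open Cfsg.Agent.SignalizersComponents
open Cfsg.Agent.SignalizersComponents.IntrinsicBasic
open Cfsg.Agent.SporRec.TwoAn Cfsg.Agent.SporadicRecognition.AltCover Cfsg.Agent.StandardComponent
open Cfsg.Agent.Intrinsic.Basic Cfsg.Agent.Intrinsic.Cen Cfsg.Agent.Intrinsic.Quot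
open Cfsg.Agent.Intrinsic.Diag Cfsg.Agent.Intrinsic.TypesDef Cfsg.Agent.Intrinsic.TypeF
open Cfsg.Agent.Intrinsic.TypeGOne
open scoped commutatorElement

namespace Cfsg.Agent.Intrinsic.TypeGTwo

/-! ### permutations -/

theorem exists_perm {n : ℕ} (hn : 8 ≤ n) : ∃ σ : Perm (Fin n), σ ∈ alternatingGroup (Fin n) ∧
    σ * σ = 1 ∧ σ.support.card = 8 := by
  let e : Fin 8 ↪ Fin n := ⟨fun i => ⟨i, by omega⟩, fun i j h => by
    have := congrArg Fin.val h
    exact Fin.ext this⟩
  let τ : Perm (Fin 8) := swap 0 1 * swap 2 3 * (swap 4 5 * swap 6 7)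
  have hτ2 : τ * τ = 1 := by decide
  have hτc : τ.support.card = 8 := by decide
  let σ : Perm (Fin n) := τ.viaFintypeEmbedding e
  have hσs : σ.sign = 1 := by
    rw [Perm.viaFintypeEmbedding_sign]
    decide
  have hσ2 : σ * σ = 1 := by
    ext a
    by_cases ha : a ∈ Set.range e
    · obtain ⟨i, rfl⟩ := ha
      rw [Perm.mul_apply, Perm.viaFintypeEmbedding_apply_image, Perm.viaFintypeEmbedding_apply_image,
        ← Perm.mul_apply, hτ2]
      rfl
    · rw [Perm.mul_apply, Perm.viaFintypeEmbedding_apply_notMem_range _ _ ha,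
        Perm.viaFintypeEmbedding_apply_notMem_range _ _ ha]
      rfl
  have hσc : σ.support.card = 8 := by
    have h1 : σ.support = τ.support.map e := by
      ext a
      rw [Perm.mem_support, Finset.mem_map]
      constructor
      · intro h
        by_cases ha : a ∈ Set.range e
        · obtain ⟨i, rfl⟩ := ha
          refine ⟨i, ?_, rfl⟩
          rw [Perm.mem_support]
          intro h'
          apply h
          rw [Perm.viaFintypeEmbedding_apply_image, h']
        · exact absurd (Perm.viaFintypeEmbedding_apply_notMem_range _ _ ha) h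
      · rintro ⟨i, hi, rfl⟩
        rw [Perm.viaFintypeEmbedding_apply_image]
        rw [Perm.mem_support] at hi
        exact fun h' => hi (e.injective h')
    rw [h1, Finset.card_map, hτc]
  exact ⟨σ, Perm.mem_alternatingGroup.2 hσs, hσ2, hσc⟩

/-- two maps onto `A_n` with the same kernel differ by an inner automorphism of `S_n` -/
theorem conj_of_ker {C : Type*} [Group C] {n : ℕ} (hn : 7 ≤ n) (p q : C →* Perm (Fin n))
    (hp : p.range = alternatingGroup (Fin n)) (hq : q.range = alternatingGroup (Fin n))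
    (hk : p.ker = q.ker) : ∃ ρ : Perm (Fin n), ∀ g, q g = ρ * p g * ρ⁻¹ := by
  obtain ⟨ψ, hψ⟩ := AltAut.exists_autHom n hn
  let ep : C ⧸ p.ker ≃* alternatingGroup (Fin n) :=
    (QuotientGroup.quotientKerEquivRange p).trans (MulEquiv.subgroupCongr hp)
  let eq : C ⧸ q.ker ≃* alternatingGroup (Fin n) :=
    (QuotientGroup.quotientKerEquivRange q).trans (MulEquiv.subgroupCongr hq)
  let α : MulAut (alternatingGroup (Fin n)) :=
    (ep.symm.trans (QuotientGroup.quotientMulEquivOfEq hk)).trans eq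
  have hep : ∀ g : C, ((ep (QuotientGroup.mk g) : alternatingGroup (Fin n)) : Perm (Fin n)) = p g :=
    fun g => rfl
  have heq : ∀ g : C, ((eq (QuotientGroup.mk g) : alternatingGroup (Fin n)) : Perm (Fin n)) = q g :=
    fun g => rfl
  refine ⟨ψ α, fun g => ?_⟩
  have h1 : α (ep (QuotientGroup.mk g)) = eq (QuotientGroup.mk g) := by
    change eq (QuotientGroup.quotientMulEquivOfEq hk (ep.symm (ep (QuotientGroup.mk g)))) = _
    rw [ep.symm_apply_apply]
    rfl
  have h2 := hψ α (ep (QuotientGroup.mk g))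
  rw [h1, heq, hep] at h2
  exact h2

theorem ker_eq_center {C : Type*} [Group C] {n : ℕ} (hn : 4 ≤ n) (K : Cover (Fin n) C) :
    K.π.ker = center C := by
  ext g
  rw [MonoidHom.mem_ker, K.ker, K.mem_center_iff (by rw [Fintype.card_fin]; exact hn)]

/-- the support in a cover does not depend on the cover -/
theorem card_support_eq {C : Type*} [Group C] {n : ℕ} (hn : 7 ≤ n) (K K' : Cover (Fin n) C) (g : C) :
    (K'.π g).support.card = (K.π g).support.card := by
  obtain ⟨ρ, hρ⟩ := conj_of_ker hn K.π K'.π K.range_eq K'.range_eq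
    (by rw [ker_eq_center (by omega), ker_eq_center (by omega)])
  rw [hρ, Perm.card_support_conj]

/-! ### small facts -/

section

variable {G : Type*} [Group G]

theorem swap_facts {x v e : G} (hx2 : x * x = 1) (hv2 : v * v = 1)
    (hxv : x * (v * x * v⁻¹) = (v * x * v⁻¹) * x) (he : e = x * (v * x * v⁻¹)) :
    x * v * x⁻¹ = v * e ∧ e * v = v * e ∧ e * x = x * e ∧ e * e = 1 := by
  have hvi : v⁻¹ = v := inv_eq_of_mul_eq_one_left hv2
  have hxi : x⁻¹ = x := inv_eq_of_mul_eq_one_left hx2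
  have hxvx : x * v * x⁻¹ = v * e := by
    rw [he, hxv, hxi, hvi]
    calc x * v * x = (v * v) * x * v * x := by rw [hv2, one_mul]
      _ = _ := by group
  refine ⟨hxvx, ?_, ?_, ?_⟩
  · rw [← hxvx, he, hxi, mul_assoc, inv_mul_cancel_right, mul_assoc]
  · rw [he]
    nth_rewrite 1 [hxv]
    rw [mul_assoc, hx2, mul_one, ← mul_assoc, hx2, one_mul]
  · calc e * e = (x * (v * x * v⁻¹)) * ((v * x * v⁻¹) * x) := by rw [← hxv, ← he]
      _ = x * v * (x * x) * v⁻¹ * x := by group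
      _ = 1 := by rw [hx2, mul_one, mul_inv_cancel_right, hx2]

theorem fixes_of_central {u : G} {X : Subgroup G} (hu : u ∈ X) (h : ∀ y ∈ X, y * u = u * y) :
    Fixes u X := by
  rw [fixes_iff_conj]
  refine ⟨le_normalizer hu, fun y hy => ?_⟩
  have : u * y * u⁻¹ = y := by rw [← h y hy, mul_inv_cancel_right]
  rw [this, inv_mul_cancel]
  exact one_mem _

theorem fixes_pair {n : ℕ} {u : G} {X : Subgroup G} (h : IsPair n u X) : Fixes u X :=
  fixes_of_central h.mem fun _ hy => pair_comm h hy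

variable [Finite G]

theorem fixes_mul {H X : Subgroup G} (hX : IsComp H X) {a b : G}
    (ha : a ∈ H) (hb : b ∈ H) (hfa : Fixes a X) (hfb : Fixes b X) : Fixes (a * b) X := by
  rw [hX.fixes_iff ha] at hfa
  rw [hX.fixes_iff hb] at hfb
  rw [hX.fixes_iff (mul_mem ha hb)]
  exact mul_mem hfa hfb

theorem fixes_inv {H X : Subgroup G} (hX : IsComp H X) {a : G}
    (ha : a ∈ H) (hfa : Fixes a X) : Fixes a⁻¹ X := by
  rw [hX.fixes_iff ha] at hfa
  rw [hX.fixes_iff (inv_mem ha)]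
  exact inv_mem hfa

omit [Finite G] in
/-- elements of odd order fix both members of a pair of subgroups they permute -/
theorem mem_normalizer_of_two {A B : Subgroup G} {y : G} (hy : Odd (orderOf y))
    (hA : cj y A = A ∨ cj y A = B) (hB : cj y B = A ∨ cj y B = B) :
    y ∈ normalizer (A : Set G) := by
  rw [mem_normalizer_iff_cj]
  rcases hA with h | h
  · exact h
  · rcases hB with h' | h'
    · have h2 : y * y ∈ normalizer (A : Set G) := by
        rw [mem_normalizer_iff_cj, cj_mul, h, h']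
      have h3 := mem_of_sq_mem (N := zpowers y) (by rw [Nat.card_zpowers]; exact hy)
        (mem_zpowers y) h2
      exact mem_normalizer_iff_cj.mp h3
    · have : A = B := cj_injective y (h.trans h'.symm)
      rw [h, this]

end

/-! ### the involution `x` -/

section

variable {G : Type*} [Group G] [Finite G] {n : ℕ} {z : G} {L : Subgroup G}

omit [Finite G] in
theorem exists_cover {u : G} {X : Subgroup G} (h : IsPair n u X) (hn : 5 ≤ n) :
    Nonempty (Cover (Fin n) (↥X ⧸ oddCore ↥X)) := by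
  obtain ⟨π, z0, hcov, -⟩ := exists_isCover h.cover
  exact ⟨ofIsCover hn hcov⟩

omit [Finite G] in
theorem π_of_fixes (hn : 5 ≤ n) {X : Subgroup G} (K : Cover (Fin n) (↥X ⧸ oddCore ↥X)) {a : G}
    (ha : a ∈ X) (hf : Fixes a X) : K.π (QuotientGroup.mk ⟨a, ha⟩) = 1 := by
  rw [K.ker, ← K.mem_center_iff (by rw [Fintype.card_fin]; omega)]
  exact mk_mem_center ha hf

theorem exists_x (hn : 8 ≤ n) {u v : G} {X : Subgroup G} (hp : IsPair n u X)
    (hv : v * v = 1) (huv : u * v = v * u) (hmove : cj v X ≠ X) :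
    ∃ x, ∃ hx : x ∈ X, x * x = 1 ∧ x ≠ 1 ∧ x ≠ u ∧ x * (v * x * v⁻¹) = (v * x * v⁻¹) * x ∧
      ∀ K : Cover (Fin n) (↥X ⧸ oddCore ↥X), (K.π (QuotientGroup.mk ⟨x, hx⟩)).support.card = 8 := by
  have hvC : v ∈ centralizer ({u} : Set G) := mem_centralizer_singleton_iff.mpr huv.symm
  obtain ⟨K₀⟩ := exists_cover hp (by omega)
  obtain ⟨σ, hσ, hσ2, hσc⟩ := exists_perm hn
  obtain ⟨g, hg⟩ := K₀.exists_lift hσ
  have hg2 : g * g = 1 := K₀.sq_eq_one_iff.mpr ⟨by rw [hg, hσ2], by rw [hg, hσc]⟩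
  obtain ⟨⟨c, hc⟩, rfl⟩ := QuotientGroup.mk_surjective g
  have hc2 : c ^ 2 ^ 1 ∈ core X := by
    rw [pow_one, pow_two, ← mk_eq_one_iff (X.mul_mem hc hc)]
    exact hg2
  obtain ⟨k, hk1, hk2⟩ := Lifting.exists_two_part (odd_card_core X) hc2
  have hx0 : c ^ k ∈ X := X.pow_mem hc k
  have hx02 : c ^ k * c ^ k = 1 := by
    rw [pow_one, pow_two] at hk1; exact hk1
  obtain ⟨x, hxX, hx2, hx0x, hxv⟩ := exists_comm_swap hp.comp hvC hv hmove hx0 hx02
  have hmk : (QuotientGroup.mk ⟨x, hxX⟩ : ↥X ⧸ oddCore ↥X) = QuotientGroup.mk ⟨c, hc⟩ := by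
    have e1 : (QuotientGroup.mk ⟨c, hc⟩ : ↥X ⧸ oddCore ↥X) = QuotientGroup.mk ⟨c ^ k, hx0⟩ :=
      (mk_eq_mk_iff' hc hx0).mpr hk2
    have e2 : (QuotientGroup.mk ⟨c ^ k, hx0⟩ : ↥X ⧸ oddCore ↥X) = QuotientGroup.mk ⟨x, hxX⟩ := by
      rw [mk_eq_mk_iff' hx0 hxX, hp.comp.core_eq]
      exact ⟨X.mul_mem (X.inv_mem hx0) hxX, hx0x⟩
    rw [e1, e2]
  have hcard : ∀ K : Cover (Fin n) (↥X ⧸ oddCore ↥X),
      (K.π (QuotientGroup.mk ⟨x, hxX⟩)).support.card = 8 := by
    intro K
    rw [card_support_eq (by omega) K₀ K, hmk, hg, hσc]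
  refine ⟨x, hxX, hx2, ?_, ?_, hxv, hcard⟩
  · rintro rfl
    have h1 := hcard K₀
    have h2 : (QuotientGroup.mk ⟨1, hxX⟩ : ↥X ⧸ oddCore ↥X) = 1 := rfl
    rw [h2, map_one, Perm.support_one, Finset.card_empty] at h1
    exact absurd h1 (by norm_num)
  · rintro rfl
    have h1 := hcard K₀
    rw [π_of_fixes (by omega) K₀ hxX (fixes_pair hp), Perm.support_one, Finset.card_empty] at h1
    exact absurd h1 (by norm_num)

/-! ### the map of the diagonal to `A_n` -/

theorem exists_p (hn : 8 ≤ n) {u v : G} {X : Subgroup G} (hp : IsPair n u X)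
    (hv : v * v = 1) (huv : u * v = v * u) (hmove : cj v X ≠ X)
    (K : Cover (Fin n) (↥X ⧸ oddCore ↥X)) {E : Subgroup G}
    (hEdef : E = diag (centralizer ({u} : Set G)) X v) :
    ∃ p : ↥E →* Perm (Fin n), p.range = alternatingGroup (Fin n) ∧ p.ker = oddCore ↥E ∧
      ∀ (k m : G) (hk : k ∈ X) (hm : m ∈ E),
        m⁻¹ * (k * (v * k * v⁻¹)) ∈ core (centralizer ({u} : Set G)) →
        p ⟨m, hm⟩ = K.π (QuotientGroup.mk ⟨k, hk⟩) := by
  have hvC : v ∈ centralizer ({u} : Set G) := mem_centralizer_singleton_iff.mpr huv.symm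
  obtain ⟨hE, -, -, -, f, hfs, hfk, hf1, hf2⟩ := exists_diag hp.comp hvC hv hmove
  rw [← hEdef] at hE
  subst hEdef
  -- the kernel of `f` is the centre
  have hu1 : f (QuotientGroup.mk ⟨u, hp.mem⟩) = 1 := by
    refine (hf2 ⟨u, hp.mem⟩).mpr ?_
    change u * (v * u * v⁻¹) ∈ _
    rw [← huv, mul_inv_cancel_right, hp.sq]
    exact one_mem _
  have hker : f.ker = K.π.ker := by
    apply le_antisymm
    · rw [ker_eq_center (by omega)]; exact hfk
    · intro g hg
      rw [MonoidHom.mem_ker, K.ker] at hg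
      have hmu : (QuotientGroup.mk ⟨u, hp.mem⟩ : ↥X ⧸ oddCore ↥X) = K.z := by
        have h1 := mk_mem_center hp.mem (fixes_pair hp)
        rw [K.mem_center_iff (by rw [Fintype.card_fin]; omega)] at h1
        rcases h1 with h1 | h1
        · exact absurd (eq_one_of_mem_core_sq ((mk_eq_one_iff hp.mem).mp h1) hp.sq) hp.ne_one
        · exact h1
      rw [MonoidHom.mem_ker]
      rcases hg with rfl | rfl
      · exact map_one f
      · rw [← hmu]; exact hu1
  -- the map on the quotient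
  have hle : f.ker ≤ K.π.ker := hker.le
  let p0 := (QuotientGroup.lift f.ker K.π hle).comp
    (QuotientGroup.quotientKerEquivOfSurjective f hfs).symm.toMonoidHom
  have hp0 : ∀ g, p0 (f g) = K.π g := by
    intro g
    change QuotientGroup.lift f.ker K.π hle
      ((QuotientGroup.quotientKerEquivOfSurjective f hfs).symm (f g)) = K.π g
    have h1 : (QuotientGroup.quotientKerEquivOfSurjective f hfs).symm (f g) =
        QuotientGroup.mk g := by
      rw [MulEquiv.symm_apply_eq]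
      rfl
    rw [h1]
    rfl
  refine ⟨p0.comp (QuotientGroup.mk' (oddCore _)), ?_, ?_, ?_⟩
  · rw [← K.range_eq]
    ext σ
    constructor
    · rintro ⟨m, rfl⟩
      obtain ⟨g, hg⟩ := hfs (QuotientGroup.mk' _ m)
      refine ⟨g, ?_⟩
      rw [← hp0, hg]
      rfl
    · rintro ⟨g, rfl⟩
      obtain ⟨m, hm⟩ := QuotientGroup.mk'_surjective _ (f g)
      refine ⟨m, ?_⟩
      change p0 (QuotientGroup.mk' _ m) = _
      rw [hm, hp0]
  · ext m
    rw [MonoidHom.mem_ker]
    change p0 (QuotientGroup.mk' _ m) = 1 ↔ _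
    obtain ⟨g, hg⟩ := hfs (QuotientGroup.mk' _ m)
    rw [← hg, hp0, ← MonoidHom.mem_ker, ← hker, MonoidHom.mem_ker, hg]
    exact QuotientGroup.eq_one_iff m
  · intro k m hk hm hkm
    change p0 (QuotientGroup.mk' _ ⟨m, hm⟩) = _
    rw [← hf1 ⟨k, hk⟩ ⟨m, hm⟩ hkm, hp0]
    rfl

end

/-! ### (3.G) -/

/-- the part of (3.D) used here -/
def TypeD {G : Type*} [Group G] (n : ℕ) (z : G) (L : Subgroup G) : Prop :=
  ∀ (u v : G) (X X' : Subgroup G), u ≠ v → u * v = v * u → Om z L u X → Om z L v X' →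
    v ∈ normalizer (X : Set G) → ¬ Fixes v X →
    ∃ w ∈ X, ((∃ Y, Om z L v Y ∧ v * w ∈ normalizer (Y : Set G)) →
        ∀ Y₁ Y₂, Om z L z Y₁ → Om z L z Y₂ → Y₁ = Y₂) ∧
      (∀ (a : G) (ha : a ∈ X), Fixes (a⁻¹ * v) X →
        (∀ K : Cover (Fin n) (↥X ⧸ oddCore ↥X),
          (K.π (QuotientGroup.mk ⟨a, ha⟩)).support.card = 8) →
        w ∈ closure {y | y ∈ X ∧ y * v = v * y ∧ Odd (orderOf y)})

section

variable {G : Type*} [Group G] [Finite G] {n : ℕ} {z : G} {L : Subgroup G}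

/-- **(3.G)**: there are no pairs of type (2). -/
theorem no_type_two (hW : World n z L) (hs : HasSqrt z L) (hD : TypeD n z L) {u v : G}
    {X X' : Subgroup G} (hne : u ≠ v) (huv : u * v = v * u) (hX : Om z L u X)
    (hX' : Om z L v X') : cj v X = X := by
  by_contra hmove
  have hpu := hX.pair hW.pair
  have hpv := hX'.pair hW.pair
  have hn := hW.le
  have hmove' := typeF hW.pair hs hne huv hX hX' hmove
  have hvCu : v ∈ centralizer ({u} : Set G) := mem_centralizer_singleton_iff.mpr huv.symm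
  have huCv : u ∈ centralizer ({v} : Set G) := mem_centralizer_singleton_iff.mpr huv
  have hv2 := hpv.sq
  have hu2 := hpu.sq
  obtain ⟨x, hxX, hx2, hx1, hxu, hxv, hxK⟩ := exists_x hn hpu hv2 huv hmove
  have hdiag := diag_eq hW hs hne huv hX hX' hmove hxX hx2 hx1 hxu hxv
  -- `Ω_u = {X, X ^ v}`
  have htwo : ∀ Y, Om z L u Y → Y = X ∨ Y = cj v X := by
    intro Y hY
    by_contra hYne
    push Not at hYne
    have hpY := hY.pair hW.pair
    have hYmove : cj v Y ≠ Y := typeF hW.pair hs hne.symm huv.symm hX' hY hmove'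
    obtain ⟨y, hyY, hy2, hy1, hyu, hyv, -⟩ := exists_x hn hpY hv2 huv hYmove
    have h2 := diag_eq hW hs hne huv hY hX' hYmove hyY hy2 hy1 hyu hyv
    exact diag_ne hpu.comp hvCu hv2 hmove hpY.comp hYmove hYne.1 hYne.2 (h2.trans hdiag.symm)
  -- the element `e`
  obtain ⟨e, he⟩ : ∃ e, e = x * (v * x * v⁻¹) := ⟨_, rfl⟩
  obtain ⟨hxvx, hev, -, hee⟩ := swap_facts hx2 hv2 hxv he
  have hxu' : x * u = u * x := pair_comm hpu hxX
  have hvi : v⁻¹ = v := inv_eq_of_mul_eq_one_left hv2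
  have hxi : x⁻¹ = x := inv_eq_of_mul_eq_one_left hx2
  have hxCu : x ∈ centralizer ({u} : Set G) := mem_centralizer_singleton_iff.mpr hxu'
  have heCu : e ∈ centralizer ({u} : Set G) := by
    rw [he]
    exact mul_mem hxCu (mul_mem (mul_mem hvCu hxCu) (inv_mem hvCu))
  have heCv : e ∈ centralizer ({v} : Set G) := mem_centralizer_singleton_iff.mpr hev
  have hvCv : v ∈ centralizer ({v} : Set G) := mem_centralizer_singleton_iff.mpr rfl
  obtain ⟨E, hEdef⟩ : ∃ E, E = diag (centralizer ({u} : Set G)) X v := ⟨_, rfl⟩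
  have hEdef' : E = diag (centralizer ({v} : Set G)) X' u := hEdef.trans hdiag
  have hcore : e⁻¹ * (x * (v * x * v⁻¹)) ∈ core (centralizer ({u} : Set G)) := by
    rw [← he, inv_mul_cancel]; exact one_mem _
  have heE : e ∈ E := by
    rw [hEdef]
    exact mem_diag heCu hev hxX hcore (n := 1) (by rw [pow_one, pow_two]; exact hee)
  obtain ⟨hE', hE'm, -, -, -⟩ := exists_diag hpv.comp huCv hu2 hmove'
  rw [← hEdef'] at hE' hE'm
  have heX' : e ∈ normalizer (X' : Set G) :=
    hpv.comp.L2_le_normalizer (isComp_le_L2 huCv hu2 hE' heE)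
  obtain ⟨a, haX', hae⟩ := hE'm e heE
  -- `a` has type `2^4`
  obtain ⟨K₁⟩ := exists_cover hpu (by omega)
  have haK : ∀ K : Cover (Fin n) (↥X' ⧸ oddCore ↥X'),
      (K.π (QuotientGroup.mk ⟨a, haX'⟩)).support.card = 8 := by
    intro K
    obtain ⟨p, hp1, hp2, hp3⟩ := exists_p hn hpu hv2 huv hmove K₁ hEdef
    obtain ⟨q, hq1, hq2, hq3⟩ := exists_p hn hpv hu2 huv.symm hmove' K hEdef'
    obtain ⟨ρ, hρ⟩ := conj_of_ker (by omega) p q hp1 hq1 (hp2.trans hq2.symm)
    rw [← hq3 a e haX' heE hae, hρ, hp3 x e hxX heE hcore, Perm.card_support_conj]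
    exact hxK K₁
  have hfa : ¬ Fixes a X' := by
    intro hf
    obtain ⟨K₂⟩ := exists_cover hpv (by omega)
    have h1 := haK K₂
    rw [π_of_fixes (by omega) K₂ haX' hf, Perm.support_one, Finset.card_empty] at h1
    exact absurd h1 (by norm_num)
  have haCv : a ∈ centralizer ({v} : Set G) := hpv.comp.le haX'
  have hfae : Fixes (a⁻¹ * (v * e)) X' := by
    have h1 := fixes_inv_mul hpv.comp huCv hmove' haX' heCv hae
    have h2 : a⁻¹ * (v * e) = (a⁻¹ * e) * v := by rw [← hev, mul_assoc]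
    rw [h2]
    exact fixes_mul hpv.comp (mul_mem (inv_mem haCv) heCv) hvCv h1 (fixes_pair hpv)
  have hnfe : ¬ Fixes (v * e) X' := by
    intro hf
    apply hfa
    have h3 := fixes_inv hpv.comp (mul_mem (inv_mem haCv) (mul_mem hvCv heCv)) hfae
    have h4 := fixes_mul hpv.comp (mul_mem hvCv heCv)
      (inv_mem (mul_mem (inv_mem haCv) (mul_mem hvCv heCv))) hf h3
    have h5 : v * e * (a⁻¹ * (v * e))⁻¹ = a := by group
    rwa [h5] at h4
  have he1 : e ≠ 1 := by
    rintro rfl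
    rw [mul_one] at hnfe
    exact hnfe (fixes_pair hpv)
  -- the pair `(v, v e)`
  have hOm : Om z L (v * e) (cj x X') := by
    rw [← hxvx]; exact hX'.cj x
  obtain ⟨w, hwX', hw1, hw2⟩ := hD v (v * e) X' (cj x X') (fun h => he1 (mul_eq_left.mp h.symm))
    (by rw [mul_assoc v e v, hev]) hX' hOm (mul_mem (le_normalizer hpv.mem) heX') hnfe
  have hw3 := hw2 a haX' hfae haK
  -- `|Ω| = 2`
  obtain ⟨g₀, hg₀, hg₀X⟩ := hX
  obtain ⟨g₁, hg₁, -⟩ := hOm
  obtain ⟨g, hg⟩ : ∃ g, g = g₁ * g₀⁻¹ := ⟨_, rfl⟩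
  have hgu : g * u * g⁻¹ = v * e := by rw [← hg₁, ← hg₀, hg]; group
  have hXu : Om z L u X := ⟨g₀, hg₀, hg₀X⟩
  have hXu2 : Om z L u (cj v X) := hXu.cj_of_comm huv.symm
  have hY1 : Om z L (v * e) (cj g X) := by rw [← hgu]; exact hXu.cj g
  have hY2 : Om z L (v * e) (cj g (cj v X)) := by rw [← hgu]; exact hXu2.cj g
  have htwo' : ∀ Y, Om z L (v * e) Y → Y = cj g X ∨ Y = cj g (cj v X) := by
    intro Y hY
    have h1 : Om z L u (cj g⁻¹ Y) := by
      have h2 := hY.cj g⁻¹
      have h3 : g⁻¹ * (v * e) * g⁻¹⁻¹ = u := by rw [← hgu]; group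
      rwa [h3] at h2
    rcases htwo _ h1 with h2 | h2
    · left; rw [← h2, cj_cj_inv]
    · right; rw [← h2, cj_cj_inv]
  have hwnot : ¬ (∃ Y, Om z L (v * e) Y ∧ v * e * w ∈ normalizer (Y : Set G)) := by
    intro h
    have h1 := hw1 h
    have hback : ∀ Y, Om z L u Y → Om z L z (cj g₀⁻¹ Y) := by
      intro Y hY
      have h2 := hY.cj g₀⁻¹
      have h3 : g₀⁻¹ * u * g₀⁻¹⁻¹ = z := by rw [← hg₀]; group
      rwa [h3] at h2
    have h2 := h1 _ _ (hback X hXu) (hback _ hXu2)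
    exact hmove (cj_injective g₀⁻¹ h2).symm
  apply hwnot
  refine ⟨cj g X, hY1, mul_mem ?_ ?_⟩
  · exact le_normalizer (hY1.pair hW.pair).mem
  · have hcl : closure {y | y ∈ X' ∧ y * (v * e) = v * e * y ∧ Odd (orderOf y)} ≤
        normalizer (cj g X : Set G) := by
      rw [closure_le]
      rintro y ⟨-, hyc, hyo⟩
      have hyc' : y * (v * e) * y⁻¹ = v * e := by rw [hyc, mul_inv_cancel_right]
      refine mem_normalizer_of_two (B := cj g (cj v X)) hyo ?_ ?_
      · apply htwo'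
        have := hY1.cj y
        rwa [hyc'] at this
      · apply htwo'
        have := hY2.cj y
        rwa [hyc'] at this
    exact hcl hw3

end

end Cfsg.Agent.Intrinsic.TypeGTwo
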