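import Cfsg.Agent.SignalizersComponents.IntrinsicBasic
import Cfsg.Agent.SignalizersComponents.IntrinsicIntr
import Cfsg.Agent.ClassificationK.PCompTransport
import Cfsg.Agent.SignalizersComponents.PCompQuot
import Cfsg.Agent.Lib.PComponents

/-!
# Characterization of 2-components; restriction to subgroups, quotients modulo odd cores

`isPComponent_iff`: `K` is a `p`-component iff it is subnormal, `K / O_{p'}(K)` is quasisimple
and `K = O^{p'}(K)`.  Hence a 2-component of `H` contained in `M ≤ H` is a 2-component of `M`.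
-/

set_option autoImplicit false

open Cfsg Subgroup
open Cfsg.Agent.SignalizersComponents Cfsg.Agent.Lib
open Cfsg.Agent.SignalizersComponents.IntrinsicBasic
open Cfsg.Agent.SignalizersComponents.PLayerAut

namespace Cfsg.Agent.Intrinsic.Charac

section group

variable {X : Type*} [Group X] [Finite X] {p : ℕ} [Fact p.Prime]

theorem pElem_eq_of_isPComponent {K : Subgroup X} (hK : IsPComponent p K) :
    PComponents.pElem p K = K :=
  PComponents.pElem_pcomp hK

theorem isPComponent_iff {K : Subgroup X} :
    IsPComponent p K ↔ K.IsSubnormal ∧ IsQuasisimple (↥K ⧸ pPrimeCore p ↥K) ∧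
      PComponents.pElem p K = K := by
  constructor
  · intro h
    exact ⟨h.1, PCompQuot.quasisimple_quotient h, PComponents.pElem_pcomp h⟩
  · rintro ⟨h1, h2, h3⟩
    obtain ⟨e, -⟩ := PCompQuot.exists_quotient_equiv p h1
    refine ⟨h1, ⟨?_, PCompQuot.quasisimple_congr e h2⟩, ?_⟩
    · exact h1.map (QuotientGroup.mk'_surjective _)
    · intro H hH hle hmap
      apply le_antisymm hle
      calc K = PComponents.pElem p K := h3.symm
        _ ≤ PComponents.pElem p ((K.map (QuotientGroup.mk' (pPrimeCore p X))).comap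
              (QuotientGroup.mk' (pPrimeCore p X))) := PComponents.pElem_mono (le_comap_map _ _)
        _ ≤ H := PComponents.pElem_comap_le hH hmap

end group

variable {G : Type*} [Group G] [Finite G]

omit [Finite G] in
theorem pElem_map_subtype {H : Subgroup G} (K : Subgroup H) :
    (PComponents.pElem 2 K).map H.subtype = PComponents.pElem 2 (K.map H.subtype) := by
  apply le_antisymm
  · rw [Subgroup.map_le_iff_le_comap]
    refine (Subgroup.closure_le _).mpr ?_
    rintro y ⟨hy, n, hn⟩
    exact PComponents.mem_pElem (n := n) ⟨y, hy, rfl⟩ (by simpa using congrArg Subtype.val hn)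
  · refine (Subgroup.closure_le _).mpr ?_
    rintro _ ⟨⟨y, hy, rfl⟩, n, hn⟩
    refine ⟨y, PComponents.mem_pElem (n := n) hy ?_, rfl⟩
    ext; simpa using hn

theorem pElem_eq {H K : Subgroup G} (h : TC H K) : PComponents.pElem 2 K = K := by
  have : Fact (Nat.Prime 2) := ⟨Nat.prime_two⟩
  have h1 := PComponents.pElem_pcomp h.comp
  have h2 := congrArg (Subgroup.map H.subtype) h1
  rw [pElem_map_subtype, subgroupOf_map_subtype, inf_of_le_left h.le] at h2
  exact h2

/-- A characterization of relative 2-components not depending on the core of the big group. -/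
theorem tc_iff {H K : Subgroup G} : TC H K ↔ K ≤ H ∧ (K.subgroupOf H).IsSubnormal ∧
    IsQuasisimple (↥K ⧸ oddCore ↥K) ∧ PComponents.pElem 2 K = K := by
  have : Fact (Nat.Prime 2) := ⟨Nat.prime_two⟩
  constructor
  · intro h
    have h1 := isPComponent_iff.mp h.comp
    refine ⟨h.le, h1.1, ?_, pElem_eq h⟩
    have e := subgroupOfEquivOfLe h.le
    refine PCompQuot.quasisimple_congr (QuotientGroup.congr _ _ e ?_) h1.2.1
    exact Cores.map_equiv_pPrimeCore e 2
  · rintro ⟨hle, h1, h2, h3⟩
    refine ⟨hle, isPComponent_iff.mpr ⟨h1, ?_, ?_⟩⟩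
    · have e := (subgroupOfEquivOfLe hle).symm
      refine PCompQuot.quasisimple_congr (QuotientGroup.congr _ _ e ?_) h2
      exact Cores.map_equiv_pPrimeCore e 2
    · apply Subgroup.map_injective H.subtype_injective
      rw [pElem_map_subtype, subgroupOf_map_subtype, inf_of_le_left hle, h3]

/-- A 2-component of `H` contained in `M ≤ H` is a 2-component of `M`. -/
theorem restrict {H M K : Subgroup G} (h : TC H K) (hM : M ≤ H) (hKM : K ≤ M) : TC M K := by
  obtain ⟨h1, h2, h3, h4⟩ := tc_iff.mp h
  refine tc_iff.mpr ⟨hKM, ?_, h3, h4⟩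
  exact h2.comap (inclusion hM)

/-- A 2-component of `M` is a 2-component of every `H` in which `M` is subnormal. -/
theorem extend {H M K : Subgroup G} (h : TC M K) (hM : M ≤ H)
    (hs : (M.subgroupOf H).IsSubnormal) : TC H K := by
  obtain ⟨h1, h2, h3, h4⟩ := tc_iff.mp h
  refine tc_iff.mpr ⟨h1.trans hM, ?_, h3, h4⟩
  have h5 : ((K.subgroupOf M).map (inclusion hM)).IsSubnormal := by
    have h6 : ((K.subgroupOf M).map (inclusion hM).rangeRestrict).IsSubnormal :=
      h2.map (inclusion hM).rangeRestrict_surjective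
    have h7 := h6.trans' (by rw [inclusion_range]; exact hs)
    rwa [Subgroup.map_map, MonoidHom.subtype_comp_rangeRestrict] at h7
  convert h5 using 1
  ext x
  simp only [mem_subgroupOf, mem_map]
  constructor
  · intro hx
    exact ⟨⟨x, h1 hx⟩, hx, rfl⟩
  · rintro ⟨y, hy, rfl⟩
    exact hy

omit [Finite G] in
theorem tc_of_subtype {H : Subgroup G} {K : Subgroup H} (hK : IsPComponent 2 K) :
    TC H (K.map H.subtype) := by
  refine ⟨map_subtype_le _, ?_⟩
  rw [subgroupOf, comap_map_eq_self_of_injective H.subtype_injective]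
  exact hK

theorem tc_top_iff {K : Subgroup G} : TC (⊤ : Subgroup G) K ↔ IsPComponent 2 K := by
  have : Fact (Nat.Prime 2) := ⟨Nat.prime_two⟩
  rw [tc_iff, isPComponent_iff]
  constructor
  · rintro ⟨-, h1, h2, h3⟩
    refine ⟨?_, h2, h3⟩
    have h4 := h1.map (f := (Subgroup.topEquiv (G := G)).toMonoidHom) Subgroup.topEquiv.surjective
    convert h4 using 1
    ext x
    simp [mem_map, mem_subgroupOf]
  · rintro ⟨h1, h2, h3⟩
    exact ⟨le_top, h1.subgroupOf, h2, h3⟩

theorem even_card {H K : Subgroup G} (h : TC H K) : 2 ∣ Nat.card K := by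
  have : Fact (Nat.Prime 2) := ⟨Nat.prime_two⟩
  have h1 := PComponents.prime_dvd_card_pcomp h.comp
  rwa [Nat.card_congr (subgroupOfEquivOfLe h.le).toEquiv] at h1

end Cfsg.Agent.Intrinsic.Charac
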