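import Cfsg.Agent.Intrinsic.Charac
import Cfsg.Agent.SignalizersComponents.IntrinsicBalance
import Cfsg.Agent.SignalizersComponents.IntrinsicLift
import Cfsg.Agent.SignalizersComponents.LBalanceCore

/-!
# Pump-ups of intrinsic 2-components

`X ≤ G`, `z ∈ X` an involution, `L` a 2-component of `C_X(z)` with `z ∈ L`.  Then `L` lies in exactly
one 2-component `J` of `X`.
-/

set_option autoImplicit false

open Cfsg Subgroup
open Cfsg.Agent.SignalizersComponents Cfsg.Agent.Lib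
open Cfsg.Agent.SignalizersComponents.IntrinsicBasic
open Cfsg.Agent.SignalizersComponents.IntrinsicIntr
open Cfsg.Agent.SignalizersComponents.PLayerAut
open Cfsg.Agent.Intrinsic.Charac
open scoped commutatorElement

namespace Cfsg.Agent.Intrinsic.PumpUp

/-! ### the core-free case -/

section corefree

variable {Q : Type*} [Group Q] [Finite Q]

omit [Finite Q] in
theorem sup_form {K : Subgroup Q} {a : Q} (ha : a ∈ K ⊔ centralizer (K : Set Q)) :
    ∃ k ∈ K, ∃ c ∈ centralizer (K : Set Q), a = k * c := by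
  have hle : K ≤ normalizer (centralizer (K : Set Q) : Set Q) := by
    intro k hk
    have h1 : k ∈ normalizer (K : Set Q) := le_normalizer hk
    rw [mem_normalizer_iff]
    have h2 : ∀ k ∈ K, ∀ c ∈ centralizer (K : Set Q), k * c * k⁻¹ ∈ centralizer (K : Set Q) := by
      intro k hk c hc
      have : k * c * k⁻¹ = c := by
        rw [mem_centralizer_iff.mp hc k hk, mul_inv_cancel_right]
      rwa [this]
    intro c
    constructor
    · exact h2 k hk c
    · intro h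
      have := h2 k⁻¹ (K.inv_mem hk) _ h
      convert this using 1
      group
  have h1 : a ∈ ((K ⊔ centralizer (K : Set Q) : Subgroup Q) : Set Q) := ha
  rw [Subgroup.coe_mul_of_left_le_normalizer_right _ _ hle] at h1
  obtain ⟨k, hk, c, hc, rfl⟩ := h1
  exact ⟨k, hk, c, hc, rfl⟩

omit [Finite Q] in
/-- If `z = k₀ c₀`, `l = k c` commute then `k₀ k k₀⁻¹ = k ζ` with `ζ ∈ Z(K)`. -/
theorem conj_eq {K : Subgroup Q} {z l k₀ c₀ k c : Q} (hk₀ : k₀ ∈ K) (hk : k ∈ K)
    (hc₀ : c₀ ∈ centralizer (K : Set Q)) (hc : c ∈ centralizer (K : Set Q))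
    (hz : z = k₀ * c₀) (hl : l = k * c) (h : z * l = l * z) :
    k⁻¹ * (k₀ * k * k₀⁻¹) ∈ centralizer (K : Set Q) := by
  have e1 : c₀ * k = k * c₀ := (mem_centralizer_iff.mp hc₀ k hk).symm
  have e2 : c * k₀ = k₀ * c := (mem_centralizer_iff.mp hc k₀ hk₀).symm
  have h1 : k₀ * k * (c₀ * c) = k * k₀ * (c * c₀) := by
    calc k₀ * k * (c₀ * c) = k₀ * (k * c₀) * c := by group
      _ = k₀ * (c₀ * k) * c := by rw [e1]
      _ = z * l := by rw [hz, hl]; group
      _ = l * z := h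
      _ = k * (c * k₀) * c₀ := by rw [hz, hl]; group
      _ = k * (k₀ * c) * c₀ := by rw [e2]
      _ = _ := by group
  have h2 : k⁻¹ * (k₀ * k * k₀⁻¹) = k₀ * ((c * c₀) * (c₀ * c)⁻¹) * k₀⁻¹ := by
    have h3 : k₀ * k = k * k₀ * (c * c₀) * (c₀ * c)⁻¹ := by rw [← h1]; group
    rw [h3]; group
  have h4 : (c * c₀) * (c₀ * c)⁻¹ ∈ centralizer (K : Set Q) :=
    mul_mem (mul_mem hc hc₀) (inv_mem (mul_mem hc₀ hc))
  have h5 : k₀ * ((c * c₀) * (c₀ * c)⁻¹) * k₀⁻¹ = (c * c₀) * (c₀ * c)⁻¹ := by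
    rw [mem_centralizer_iff.mp h4 k₀ hk₀, mul_inv_cancel_right]
  rw [h2, h5]
  exact h4

/-- the core-free case of the pump-up lemma -/
theorem comp_le_or {K : Subgroup Q} {z : Q} {L : Subgroup Q}
    (hL : TC (centralizer ({z} : Set Q)) L) (hz : z ∈ K ⊔ centralizer (K : Set Q))
    (hLK : L ≤ K ⊔ centralizer (K : Set Q)) : L ≤ K ∨ L ≤ centralizer (K : Set Q) := by
  have : Fact (Nat.Prime 2) := ⟨Nat.prime_two⟩
  have hCN : K ⊔ centralizer (K : Set Q) ≤ normalizer (K : Set Q) :=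
    sup_le le_normalizer (centralizer_le_normalizer _)
  obtain ⟨M, hM⟩ : ∃ M, M = centralizer ({z} : Set Q) ⊓ normalizer (K : Set Q) := ⟨_, rfl⟩
  have hMC : M ≤ centralizer ({z} : Set Q) := hM ▸ inf_le_left
  have hLM : L ≤ M := hM ▸ le_inf hL.le (hLK.trans hCN)
  have hLtc : TC M L := restrict hL hMC hLM
  obtain ⟨N, hN⟩ : ∃ N, N = K ⊓ centralizer ({z} : Set Q) := ⟨_, rfl⟩
  have hNM : N ≤ M := by
    rw [hN, hM]
    exact le_inf inf_le_right (inf_le_left.trans le_normalizer)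
  have hNn : (N.subgroupOf M).Normal := by
    constructor
    intro n hn g
    have hn' : (n : Q) ∈ K ⊓ centralizer ({z} : Set Q) := hN ▸ hn
    have hg' : (g : Q) ∈ centralizer ({z} : Set Q) ⊓ normalizer (K : Set Q) := hM ▸ g.2
    change (g : Q) * n * (g : Q)⁻¹ ∈ N
    rw [hN]
    exact ⟨(mem_normalizer_iff.mp hg'.2 _).mp hn'.1,
      mul_mem (mul_mem hg'.1 hn'.2) ((centralizer ({z} : Set Q)).inv_mem hg'.1)⟩
  rcases LBalanceCore.pcomp_le_or_commutator_le hLtc.comp hNn with h | h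
  · left
    intro l hl
    have h1 : (⟨l, hLM hl⟩ : M) ∈ N.subgroupOf M := h hl
    have h2 : l ∈ N := h1
    rw [hN] at h2
    exact h2.1
  · right
    -- `⁅L, N⁆` has odd order
    have hodd : (Nat.card (⁅L, N⁆ : Subgroup Q)).Coprime 2 := by
      have h1 : (⁅L, N⁆ : Subgroup Q) = (⁅L.subgroupOf M, N.subgroupOf M⁆).map M.subtype := by
        rw [map_commutator, subgroupOf_map_subtype, subgroupOf_map_subtype, inf_of_le_left hLM,
          inf_of_le_left hNM]
      rw [h1, card_map_of_injective M.subtype_injective]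
      exact (Cores.pPrimeCore_coprime (G := M) 2).coprime_dvd_left (card_dvd_of_le h)
    -- the action on `K`
    let α : normalizer (K : Set Q) →* MulAut K := K.normalizerMonoidHom
    have hLN : L ≤ normalizer (K : Set Q) := hLK.trans hCN
    have hNN : N ≤ normalizer (K : Set Q) := by rw [hN]; exact inf_le_left.trans le_normalizer
    obtain ⟨A, hA⟩ : ∃ A, A = (L.subgroupOf (normalizer (K : Set Q))).map α := ⟨_, rfl⟩
    obtain ⟨B, hB⟩ : ∃ B, B = (N.subgroupOf (normalizer (K : Set Q))).map α := ⟨_, rfl⟩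
    have hAA : ⁅A, A⁆ = A := by
      have h1 : ⁅L.subgroupOf (normalizer (K : Set Q)), L.subgroupOf (normalizer (K : Set Q))⁆ =
          L.subgroupOf (normalizer (K : Set Q)) := by
        apply map_injective (normalizer (K : Set Q)).subtype_injective
        rw [map_commutator, subgroupOf_map_subtype, inf_of_le_left hLN, hL.perfect]
      rw [hA, ← map_commutator, h1]
    obtain ⟨k₀, hk₀, c₀, hc₀, hz₀⟩ := sup_form hz
    have hAB : A ≤ B := by
      rw [← hAA, commutator_le]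
      intro a ha b hb
      rw [hA] at ha hb
      obtain ⟨l, hl, rfl⟩ := ha
      obtain ⟨m, hm, rfl⟩ := hb
      have hl' : (l : Q) ∈ L := hl
      have hm' : (m : Q) ∈ L := hm
      obtain ⟨k, hk, c, hc, hlk⟩ := sup_form (hLK hl')
      obtain ⟨j, hj, d, hd, hmj⟩ := sup_form (hLK hm')
      have hzl : z * (l : Q) = l * z := (mem_centralizer_singleton_iff.mp (hL.le hl')).symm
      have hzm : z * (m : Q) = m * z := (mem_centralizer_singleton_iff.mp (hL.le hm')).symm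
      have hx := conj_eq hk₀ hk hc₀ hc hz₀ hlk hzl
      have hy := conj_eq hk₀ hj hc₀ hd hz₀ hmj hzm
      obtain ⟨ζ, hζ⟩ : ∃ ζ, ζ = k⁻¹ * (k₀ * k * k₀⁻¹) := ⟨_, rfl⟩
      obtain ⟨ξ, hξ⟩ : ∃ ξ, ξ = j⁻¹ * (k₀ * j * k₀⁻¹) := ⟨_, rfl⟩
      rw [← hζ] at hx
      rw [← hξ] at hy
      have hζK : ζ ∈ K := hζ ▸ mul_mem (inv_mem hk) (mul_mem (mul_mem hk₀ hk) (inv_mem hk₀))
      have hξK : ξ ∈ K := hξ ▸ mul_mem (inv_mem hj) (mul_mem (mul_mem hk₀ hj) (inv_mem hk₀))
      have eζ : k₀ * k * k₀⁻¹ = k * ζ := by rw [hζ]; group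
      have eξ : k₀ * j * k₀⁻¹ = j * ξ := by rw [hξ]; group
      have cζk : Commute ζ k := (mem_centralizer_iff.mp hx k hk).symm
      have cζj : Commute ζ j := (mem_centralizer_iff.mp hx j hj).symm
      have cξk : Commute ξ k := (mem_centralizer_iff.mp hy k hk).symm
      have cξj : Commute ξ j := (mem_centralizer_iff.mp hy j hj).symm
      have cζξ : Commute ζ ξ := (mem_centralizer_iff.mp hx ξ hξK).symm
      obtain ⟨w, hw⟩ : ∃ w, w = k * j * k⁻¹ * j⁻¹ := ⟨_, rfl⟩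
      have hwK : w ∈ K := hw ▸ mul_mem (mul_mem (mul_mem hk hj) (inv_mem hk)) (inv_mem hj)
      have hwk₀ : k₀ * w * k₀⁻¹ = w := by
        calc k₀ * w * k₀⁻¹
            = (k₀ * k * k₀⁻¹) * (k₀ * j * k₀⁻¹) * (k₀ * k * k₀⁻¹)⁻¹ * (k₀ * j * k₀⁻¹)⁻¹ := by
              rw [hw]; group
          _ = (k * ζ) * (j * ξ) * (k * ζ)⁻¹ * (j * ξ)⁻¹ := by rw [eζ, eξ]
          _ = k * (ζ * j) * ξ * ζ⁻¹ * k⁻¹ * ξ⁻¹ * j⁻¹ := by group
          _ = k * (j * ζ) * ξ * ζ⁻¹ * k⁻¹ * ξ⁻¹ * j⁻¹ := by rw [cζj.eq]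
          _ = k * j * (ζ * ξ) * ζ⁻¹ * k⁻¹ * ξ⁻¹ * j⁻¹ := by group
          _ = k * j * (ξ * ζ) * ζ⁻¹ * k⁻¹ * ξ⁻¹ * j⁻¹ := by rw [cζξ.eq]
          _ = k * j * (ξ * k⁻¹) * ξ⁻¹ * j⁻¹ := by group
          _ = k * j * (k⁻¹ * ξ) * ξ⁻¹ * j⁻¹ := by rw [cξk.inv_right.eq]
          _ = w := by rw [hw]; group
      have hwz : w * z = z * w := by
        have e1 : k₀ * w = w * k₀ := by
          calc k₀ * w = (k₀ * w * k₀⁻¹) * k₀ := by group
            _ = w * k₀ := by rw [hwk₀]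
        have e2 : w * c₀ = c₀ * w := mem_centralizer_iff.mp hc₀ w hwK
        calc w * z = (w * k₀) * c₀ := by rw [hz₀]; group
          _ = (k₀ * w) * c₀ := by rw [e1]
          _ = k₀ * (w * c₀) := by group
          _ = k₀ * (c₀ * w) := by rw [e2]
          _ = z * w := by rw [hz₀]; group
      have hwN : w ∈ N := by
        rw [hN]
        exact ⟨hwK, mem_centralizer_singleton_iff.mpr hwz⟩
      rw [hB]
      refine ⟨⟨w, hNN hwN⟩, hwN, ?_⟩
      apply MulEquiv.ext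
      intro x
      apply Subtype.ext
      have hc' : ∀ y ∈ K, c * y = y * c := fun y hy => (mem_centralizer_iff.mp hc y hy).symm
      have hd' : ∀ y ∈ K, d * y = y * d := fun y hy => (mem_centralizer_iff.mp hd y hy).symm
      have hlx : ∀ y ∈ K, (l : Q) * y * (l : Q)⁻¹ = k * y * k⁻¹ := by
        intro y hy
        rw [hlk]
        calc k * c * y * (k * c)⁻¹ = k * (c * y) * c⁻¹ * k⁻¹ := by group
          _ = k * (y * c) * c⁻¹ * k⁻¹ := by rw [hc' y hy]
          _ = _ := by group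
      have hmx : ∀ y ∈ K, (m : Q) * y * (m : Q)⁻¹ = j * y * j⁻¹ := by
        intro y hy
        rw [hmj]
        calc j * d * y * (j * d)⁻¹ = j * (d * y) * d⁻¹ * j⁻¹ := by group
          _ = j * (y * d) * d⁻¹ * j⁻¹ := by rw [hd' y hy]
          _ = _ := by group
      have hlx' : ∀ y ∈ K, (l : Q)⁻¹ * y * (l : Q) = k⁻¹ * y * k := by
        intro y hy
        have h1 := hlx (k⁻¹ * y * k) (mul_mem (mul_mem (inv_mem hk) hy) hk)
        have h2 : k * (k⁻¹ * y * k) * k⁻¹ = y := by group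
        rw [h2] at h1
        calc (l : Q)⁻¹ * y * (l : Q) = (l : Q)⁻¹ * ((l : Q) * (k⁻¹ * y * k) * (l : Q)⁻¹) * l := by
              rw [h1]
          _ = _ := by group
      have hmx' : ∀ y ∈ K, (m : Q)⁻¹ * y * (m : Q) = j⁻¹ * y * j := by
        intro y hy
        have h1 := hmx (j⁻¹ * y * j) (mul_mem (mul_mem (inv_mem hj) hy) hj)
        have h2 : j * (j⁻¹ * y * j) * j⁻¹ = y := by group
        rw [h2] at h1
        calc (m : Q)⁻¹ * y * (m : Q) = (m : Q)⁻¹ * ((m : Q) * (j⁻¹ * y * j) * (m : Q)⁻¹) * m := by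
              rw [h1]
          _ = _ := by group
      have hfin : w * (x : Q) * w⁻¹ = (l : Q) * (m * ((l : Q)⁻¹ * ((m : Q)⁻¹ * x * m) * l) *
          (m : Q)⁻¹) * (l : Q)⁻¹ := by
        have x1 : j⁻¹ * (x : Q) * j ∈ K := mul_mem (mul_mem (inv_mem hj) x.2) hj
        have x2 : k⁻¹ * (j⁻¹ * (x : Q) * j) * k ∈ K := mul_mem (mul_mem (inv_mem hk) x1) hk
        have x3 : j * (k⁻¹ * (j⁻¹ * (x : Q) * j) * k) * j⁻¹ ∈ K :=
          mul_mem (mul_mem hj x2) (inv_mem hj)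
        rw [hmx' _ x.2, hlx' _ x1, hmx _ x2, hlx _ x3, hw]
        group
      have hL1 : ((α ⟨w, hNN hwN⟩ x : K) : Q) = w * (x : Q) * w⁻¹ := rfl
      have hR1 : (((⁅α l, α m⁆ : MulAut K) x : K) : Q) = (l : Q) * (m * ((l : Q)⁻¹ *
          ((m : Q)⁻¹ * x * m) * l) * (m : Q)⁻¹) * (l : Q)⁻¹ := by
        rw [commutatorElement_def, ← map_mul, ← map_inv, ← map_mul, ← map_inv, ← map_mul]
        change ((l * m * l⁻¹ * m⁻¹ : normalizer (K : Set Q)) : Q) * (x : Q) *
          ((l * m * l⁻¹ * m⁻¹ : normalizer (K : Set Q)) : Q)⁻¹ = _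
        push_cast
        group
      rw [hL1, hR1]
      exact hfin
    have hABodd : (Nat.card (⁅A, B⁆ : Subgroup (MulAut K))).Coprime 2 := by
      have h1 : (⁅L.subgroupOf (normalizer (K : Set Q)), N.subgroupOf (normalizer (K : Set Q))⁆).map
          (normalizer (K : Set Q)).subtype = ⁅L, N⁆ := by
        rw [map_commutator, subgroupOf_map_subtype, subgroupOf_map_subtype, inf_of_le_left hLN,
          inf_of_le_left hNN]
      have h2 : (Nat.card (⁅L.subgroupOf (normalizer (K : Set Q)),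
          N.subgroupOf (normalizer (K : Set Q))⁆ : Subgroup _)).Coprime 2 := by
        rw [← card_map_of_injective (normalizer (K : Set Q)).subtype_injective, h1]
        exact hodd
      rw [hA, hB, ← map_commutator]
      exact h2.coprime_dvd_left (card_map_dvd _ _)
    have hAodd : (Nat.card A).Coprime 2 := by
      have h1 : A ≤ ⁅A, B⁆ := by
        calc A = ⁅A, A⁆ := hAA.symm
          _ ≤ ⁅A, B⁆ := commutator_mono le_rfl hAB
      exact hABodd.coprime_dvd_left (card_dvd_of_le h1)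
    -- `L` is generated by 2-elements
    rw [← pElem_eq hL]
    refine (Subgroup.closure_le _).mpr ?_
    rintro y ⟨hy, n, hn⟩
    have h1 : α ⟨y, hLN hy⟩ = 1 := by
      have h2 : α ⟨y, hLN hy⟩ ∈ A := by
        rw [hA]; exact ⟨⟨y, hLN hy⟩, hy, rfl⟩
      have h3 : orderOf (⟨_, h2⟩ : A) ∣ Nat.card A := orderOf_dvd_natCard _
      have h4 : (⟨_, h2⟩ : A) ^ 2 ^ n = 1 := by
        apply Subtype.ext
        change (α ⟨y, hLN hy⟩) ^ 2 ^ n = 1
        rw [← map_pow]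
        have : (⟨y, hLN hy⟩ : normalizer (K : Set Q)) ^ 2 ^ n = 1 := by
          apply Subtype.ext; simpa using hn
        rw [this, map_one]
      have h5 := orderOf_dvd_of_pow_eq_one h4
      have h6 : orderOf (⟨_, h2⟩ : A) = 1 :=
        Nat.eq_one_of_dvd_coprimes (Nat.Coprime.pow_right n hAodd) h3 h5
      exact congrArg Subtype.val (orderOf_eq_one_iff.mp h6)
    have h2 : (⟨y, hLN hy⟩ : normalizer (K : Set Q)) ∈ α.ker := h1
    rw [show α.ker = _ from normalizerMonoidHom_ker K] at h2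
    exact h2

end corefree

/-! ### the general case -/

variable {G : Type*} [Group G] [Finite G]

/-- image of a 2-component of `C_X(z)` in `C(z̄)`, `z̄` the image of `z` in `X / O(X)` -/
theorem tc_image {X L : Subgroup G} {z : G} (hzX : z ∈ X) (hz2 : z * z = 1)
    (hL : TC (X ⊓ centralizer ({z} : Set G)) L) :
    TC (centralizer ({(QuotientGroup.mk' (oddCore ↥X)) ⟨z, hzX⟩} : Set (↥X ⧸ oddCore ↥X)))
      ((L.subgroupOf X).map (QuotientGroup.mk' (oddCore ↥X))) := by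
  have hf := centMap_surjective X z hzX hz2
  have hfc := centMap_coe X z hzX
  set f := centMap X z hzX with hfdef
  have hfker : ∀ m : ↥(X ⊓ centralizer ({z} : Set G)), m ∈ f.ker ↔ (m : G) ∈ relCore 2 X := by
    intro m
    rw [MonoidHom.mem_ker, Subtype.ext_iff, mem_relCore_iff m.2.1, hfc]
    exact Iff.rfl
  have hker : (Nat.card f.ker).Coprime 2 := by
    have h1 : f.ker.map (X ⊓ centralizer ({z} : Set G)).subtype ≤ relCore 2 X := by
      rintro _ ⟨m, hm, rfl⟩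
      exact (hfker m).mp hm
    have h2 := Subgroup.card_dvd_of_le h1
    rw [card_map_of_injective (X ⊓ centralizer ({z} : Set G)).subtype_injective] at h2
    exact (relCore_coprime 2 X).coprime_dvd_left h2
  have h1 := ClassificationK.PCompTransport.isPComponent_map 2 f hker
    (by rw [MonoidHom.range_eq_top.mpr hf]; exact Subgroup.IsSubnormal.top) hL.comp
  have h2 := tc_of_subtype h1
  convert h2 using 1
  ext x
  constructor
  · rintro ⟨⟨l, hlX⟩, hl, rfl⟩
    have hl' : l ∈ L := hl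
    exact ⟨f ⟨l, hL.le hl'⟩, ⟨⟨l, hL.le hl'⟩, hl', rfl⟩, rfl⟩
  · rintro ⟨_, ⟨m, hm, rfl⟩, rfl⟩
    exact ⟨⟨m, m.2.1⟩, hm, rfl⟩

theorem le_or_le_cenMod {X K L : Subgroup G} {z : G} (hzX : z ∈ X) (hz2 : z * z = 1)
    (hL : TC (X ⊓ centralizer ({z} : Set G)) L) (hK : TC X K) (hz : z ∈ K ⊔ cenMod X K) :
    L ≤ K ∨ L ≤ cenMod X K := by
  have hbal := IntrinsicBalance.balance hzX hz2 hL hK
  have hLX : L ≤ X := hL.le.trans inf_le_left
  obtain ⟨π, hπ⟩ : ∃ π, π = QuotientGroup.mk' (oddCore ↥X) := ⟨_, rfl⟩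
  have key : ∀ a : G, ∀ haX : a ∈ X, a ∈ K ⊔ cenMod X K → π ⟨a, haX⟩ ∈
      (K.subgroupOf X).map π ⊔ centralizer (((K.subgroupOf X).map π : Subgroup _) : Set _) := by
    intro a haX ha
    obtain ⟨k, hk, hc⟩ := IntrinsicBalance.sup_form hK ha
    obtain ⟨⟨c, hcX⟩, hc1, hc2⟩ := hc
    have h1 : (⟨a, haX⟩ : ↥X) = ⟨k, hK.le hk⟩ * ⟨c, hcX⟩ := by
      apply Subtype.ext
      change a = k * c
      have : c = k⁻¹ * a := hc2
      rw [this]; group
    rw [h1, map_mul]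
    refine mul_mem (mem_sup_left ⟨_, hk, rfl⟩) (mem_sup_right ?_)
    rw [hπ]
    exact hc1
  have himg := tc_image hzX hz2 hL
  rw [← hπ] at himg
  have hLle : (L.subgroupOf X).map π ≤
      (K.subgroupOf X).map π ⊔ centralizer (((K.subgroupOf X).map π : Subgroup _) : Set _) := by
    rintro _ ⟨l, hl, rfl⟩
    exact key l l.2 (hbal hl)
  rcases comp_le_or himg (key z hzX hz) hLle with h | h
  · left
    rw [← pElem_eq hL]
    refine (Subgroup.closure_le _).mpr ?_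
    rintro y ⟨hy, n, hn⟩
    obtain ⟨k, hk, hky⟩ := h ⟨⟨y, hLX hy⟩, hy, rfl⟩
    refine hK.mem_of_two (k := k) hk ?_ (n := n) hn
    rw [hπ] at hky
    exact mk_eq_mk_iff.mp hky
  · right
    intro l hl
    refine ⟨⟨l, hLX hl⟩, ?_, rfl⟩
    rw [hπ] at h
    exact h ⟨⟨l, hLX hl⟩, hl, rfl⟩

/-- a 2-component of `X` does not centralize itself modulo `O(X)` -/
theorem not_le_cenMod {X K : Subgroup G} (hK : TC X K) : ¬ K ≤ cenMod X K := by
  intro h
  have : Fact (Nat.Prime 2) := ⟨Nat.prime_two⟩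
  have h1 : (⊤ ⊓ K.subgroupOf X).map (QuotientGroup.mk' (oddCore ↥X)) ≤
      centralizer (((K.subgroupOf X).map (QuotientGroup.mk' (oddCore ↥X)) : Subgroup _) : Set _) := by
    rintro _ ⟨k, hk, rfl⟩
    obtain ⟨⟨c, hcX⟩, hc1, hc2⟩ := h (show (k : G) ∈ K from hk.2)
    have : k = ⟨c, hcX⟩ := Subtype.ext hc2.symm
    rw [this]
    exact hc1
  exact PCompCore.not_map_le_centralizer hK.comp ⊤ (by simp) h1

/-- `L ≤ K₁`, `L ≤ K₂` for two different 2-components `K₁`, `K₂` of `X`: impossible for a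
2-component `L` of a subgroup containing `L` -/
theorem eq_of_le {X H K₁ K₂ L : Subgroup G} (hL : TC H L) (h₁ : TC X K₁) (h₂ : TC X K₂)
    (hL₁ : L ≤ K₁) (hL₂ : L ≤ K₂) : K₁ = K₂ := by
  by_contra hne
  have h3 : L ≤ cenMod X K₂ := hL₁.trans (h₂.le_cenMod h₁ (Ne.symm hne))
  -- `L` is abelian modulo `O(X)`
  have h4 : ⁅L, L⁆ ≤ relCore 2 X := by
    rw [commutator_le]
    intro a ha b hb
    have h5 := ((mem_cenMod h₂.le).mp (h3 ha)).2 b (hL₂ hb)
    have h6 : ⁅a, b⁆ = (a * b * a⁻¹) * b⁻¹ := rfl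
    have h7 : b * (b⁻¹ * (a * b * a⁻¹)) * b⁻¹ ∈ relCore 2 X :=
      conj_mem_relCore' (h₂.le (hL₂ hb)) h5
    rw [h6]
    convert h7 using 1
    group
  rw [hL.perfect] at h4
  have h5 := even_card hL
  have h6 := odd_card_relCore X
  have h7 := card_dvd_of_le h4
  exact (Nat.not_even_iff_odd.mpr h6) (even_iff_two_dvd.mpr (h5.trans h7))

/-- **Pump-up**: if `z ∈ L`, the 2-component `L` of `C_X(z)` lies in a 2-component of `X`. -/
theorem exists_pumpup {X L : Subgroup G} {z : G} (hz2 : z * z = 1) (hzL : z ∈ L)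
    (hL : TC (X ⊓ centralizer ({z} : Set G)) L) : ∃ K, TC X K ∧ L ≤ K := by
  have hLX : L ≤ X := hL.le.trans inf_le_left
  have hzX : z ∈ X := hLX hzL
  by_contra hno
  push Not at hno
  have h1 : ∀ K, TC X K → L ≤ cenMod X K := by
    intro K hK
    exact (le_or_le_cenMod hzX hz2 hL hK
      (IntrinsicBalance.balance hzX hz2 hL hK hzL)).resolve_left (hno K hK)
  -- `L` lies in the 2-layer
  have h2 : L ≤ (pLayer 2 ↥X).map X.subtype := by
    have hT : IsPGroup 2 ↥(zpowers (⟨z, hzX⟩ : ↥X)) := by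
      rintro ⟨_, n, rfl⟩
      refine ⟨1, ?_⟩
      apply Subtype.ext
      have h1 : (⟨z, hzX⟩ : ↥X) ^ 2 = 1 := by
        apply Subtype.ext
        simpa [pow_two] using hz2
      change ((⟨z, hzX⟩ : ↥X) ^ n) ^ (2 ^ 1) = 1
      rw [pow_one, ← zpow_natCast, ← zpow_mul, mul_comm, zpow_mul, zpow_natCast, h1, one_zpow]
    have h1 := Cfsg.Agent.S1301.result (X := ↥X) (zpowers (⟨z, hzX⟩ : ↥X)) hT
    have h2 := isPComponent_map_equiv 2 (IntrinsicBalance.centEquiv X z hzX) hL.comp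
    intro a ha
    have ha' : (⟨a, hL.le ha⟩ : ↥(X ⊓ centralizer ({z} : Set G))) ∈
        L.subgroupOf (X ⊓ centralizer ({z} : Set G)) := ha
    have h3 : (IntrinsicBalance.centEquiv X z hzX) ⟨a, hL.le ha⟩ ∈
        pLayer 2 ↥(centralizer ((zpowers (⟨z, hzX⟩ : ↥X) : Subgroup ↥X) : Set ↥X)) :=
      (le_sSup (show _ ∈ {K | IsPComponent 2 K} from h2)) ⟨_, ha', rfl⟩
    have h4 := h1 ⟨_, h3, rfl⟩
    exact ⟨⟨a, (hL.le ha).1⟩, h4, rfl⟩
  -- hence `L` is abelian modulo `O(X)`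
  have h3 : ∀ l ∈ L, ∀ x ∈ (pLayer 2 ↥X).map X.subtype, x⁻¹ * (l * x * l⁻¹) ∈ relCore 2 X := by
    intro l hl
    let W : Subgroup ↥X := (centralizer ({(QuotientGroup.mk' (oddCore ↥X)) ⟨l, hLX hl⟩} :
      Set (↥X ⧸ oddCore ↥X))).comap (QuotientGroup.mk' (oddCore ↥X))
    have hW : ∀ x : ↥X, x ∈ W ↔ (x : G)⁻¹ * (l * x * l⁻¹) ∈ relCore 2 X := by
      intro x
      change (QuotientGroup.mk' (oddCore ↥X)) x ∈ centralizer _ ↔ _
      rw [mem_centralizer_singleton_iff]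
      have e : (QuotientGroup.mk' (oddCore ↥X)) x =
          (QuotientGroup.mk' (oddCore ↥X)) (⟨l, hLX hl⟩ * x * ⟨l, hLX hl⟩⁻¹) ↔
          (x : G)⁻¹ * (l * x * l⁻¹) ∈ relCore 2 X := mk_eq_mk_iff
      rw [← e, map_mul, map_mul, map_inv]
      constructor
      · intro h
        rw [← h]; group
      · intro h
        nth_rewrite 1 [h]
        group
    have hle : pLayer 2 ↥X ≤ W := by
      rw [pLayer_def]
      refine sSup_le fun K hK => ?_
      intro x hx
      rw [hW]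
      have hTC : TC X (K.map X.subtype) := tc_of_subtype hK
      exact ((mem_cenMod hTC.le).mp (h1 _ hTC hl)).2 x ⟨x, hx, rfl⟩
    rintro _ ⟨x, hx, rfl⟩
    exact (hW x).mp (hle hx)
  have h4 : ⁅L, L⁆ ≤ relCore 2 X := by
    rw [commutator_le]
    intro a ha b hb
    have h5 := h3 a ha b (h2 hb)
    have h6 : ⁅a, b⁆ = (a * b * a⁻¹) * b⁻¹ := rfl
    have h7 : b * (b⁻¹ * (a * b * a⁻¹)) * b⁻¹ ∈ relCore 2 X :=
      conj_mem_relCore' (hLX hb) h5
    rw [h6]
    convert h7 using 1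
    group
  rw [hL.perfect] at h4
  have h5 := even_card hL
  have h6 := odd_card_relCore X
  have h7 := card_dvd_of_le h4
  exact (Nat.not_even_iff_odd.mpr h6) (even_iff_two_dvd.mpr (h5.trans h7))

end Cfsg.Agent.Intrinsic.PumpUp
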