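import Cfsg.Agent.Intrinsic.Charac
import Cfsg.Agent.Intrinsic.PumpUp
import Cfsg.Agent.SignalizersComponents.IntrinsicBalance
import Cfsg.Agent.SignalizersComponents.IntrinsicLift
import Cfsg.Prelude.Def_SporadicB

/-!
# Definitions and basic tools for S1738 (2-components of subgroups of a fixed group)

Conjugates of subgroups are written `cj g K` (`IntrinsicBasic.cj g K = K.map (MulAut.conj g).toMonoidHom`).
-/

set_option autoImplicit false

open Cfsg Subgroup
open Cfsg.Agent.SignalizersComponents Cfsg.Agent.Lib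
open Cfsg.Agent.SignalizersComponents.IntrinsicBasic
open Cfsg.Agent.SignalizersComponents.PLayerAut
open scoped commutatorElement

namespace Cfsg.Agent.Intrinsic.Basic

/-! ### definitions -/

section defs

variable {G : Type*} [Group G]

/-- `K` is a 2-component of the subgroup `H`. -/
def IsComp (H K : Subgroup G) : Prop := K ≤ H ∧ IsPComponent 2 (K.subgroupOf H)

/-- `O(K)` as a subgroup of `G`. -/
def core (K : Subgroup G) : Subgroup G := (oddCore ↥K).map K.subtype

/-- `a` normalizes `K` and centralizes `K / O(K)`. -/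
def Fixes (a : G) (K : Subgroup G) : Prop :=
  a ∈ normalizer (K : Set G) ∧ ∀ y ∈ K, ⁅a, y⁆ ∈ core K

/-- The 2-layer `L_{2'}(H)` as a subgroup of `G`. -/
def L2 (H : Subgroup G) : Subgroup G := (pLayer 2 ↥H).map H.subtype

/-- `X` is a 2-component of `C(u)` containing the involution `u`, `X / O(X) ≅ 2.A_n`. -/
structure IsPair (n : ℕ) (u : G) (X : Subgroup G) : Prop where
  inv : orderOf u = 2
  mem : u ∈ X
  comp : IsComp (centralizer ({u} : Set G)) X
  cover : IsNonsplitDoubleCover (↥X ⧸ oddCore ↥X) ↥(alternatingGroup (Fin n))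

/-- The target configurations (`2.A_8` in `McL`, `2.A_11` in `Ly`). -/
def Target (n : ℕ) (X : Type*) [Group X] (z : X) (L : Subgroup X) : Prop :=
  (n = 8 ∨ n = 11) ∧ IsSimpleGroup X ∧ centralizer ({z} : Set X) = L ∧ oddCore ↥L = ⊥ ∧
    ∀ x : X, orderOf x = 2 → ∃ g, g * z * g⁻¹ = x

/-- Induction hypothesis: quasisimple core-free groups of order `< N`. -/
def PQS.{u} (N : ℕ) : Prop :=
  ∀ (X : Type u) [Group X] [Finite X], Nat.card X < N → IsQuasisimple X → oddCore X = ⊥ →
    ∀ n, 8 ≤ n → ∀ (z : X) (L : Subgroup X), IsPair n z L → z ∈ center X ∨ Target n X z L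

end defs

/-! ### basic facts -/

variable {G : Type*} [Group G]

theorem isComp_iff_tc {H K : Subgroup G} : IsComp H K ↔ TC H K :=
  ⟨fun h => ⟨h.1, h.2⟩, fun h => ⟨h.le, h.comp⟩⟩

theorem IsComp.tc {H K : Subgroup G} (h : IsComp H K) : TC H K := isComp_iff_tc.mp h

theorem IsComp.of_tc {H K : Subgroup G} (h : TC H K) : IsComp H K := isComp_iff_tc.mpr h

theorem IsComp.le {H K : Subgroup G} (h : IsComp H K) : K ≤ H := h.1

theorem IsComp.perfect {H K : Subgroup G} (h : IsComp H K) : ⁅K, K⁆ = K := h.tc.perfect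

theorem core_eq_relCore (K : Subgroup G) : core K = relCore 2 K := rfl

theorem core_le (K : Subgroup G) : core K ≤ K := map_subtype_le _

theorem mem_core_iff {K : Subgroup G} {x : G} (hx : x ∈ K) :
    x ∈ core K ↔ (⟨x, hx⟩ : ↥K) ∈ oddCore ↥K := by
  constructor
  · rintro ⟨y, hy, rfl⟩; exact hy
  · intro h; exact ⟨_, h, rfl⟩

theorem core_cj (g : G) (K : Subgroup G) : core (cj g K) = cj g (core K) := (cj_relCore g K).symm

theorem conj_mem_core {K : Subgroup G} {x o : G} (hx : x ∈ normalizer (K : Set G))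
    (ho : o ∈ core K) : x * o * x⁻¹ ∈ core K := conj_mem_relCore hx ho

theorem normalizer_le_normalizer_core (K : Subgroup G) :
    normalizer (K : Set G) ≤ normalizer (core K : Set G) :=
  PLayerAut.normalizer_le_normalizer_relCore 2 K

theorem le_normalizer_core (K : Subgroup G) : K ≤ normalizer (core K : Set G) :=
  le_normalizer.trans (normalizer_le_normalizer_core K)

theorem L2_le (H : Subgroup G) : L2 H ≤ H := map_subtype_le _

theorem IsComp.le_L2 {H K : Subgroup G} (h : IsComp H K) : K ≤ L2 H := by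
  intro k hk
  exact ⟨⟨k, h.le hk⟩, le_sSup (show _ ∈ {K | IsPComponent 2 K} from h.2) hk, rfl⟩

theorem IsComp.cj {H K : Subgroup G} (h : IsComp H K) (g : G) :
    IsComp (cj g H) (cj g K) := IsComp.of_tc (h.tc.cj g)

theorem isComp_of_subtype {H : Subgroup G} {K : Subgroup H} (hK : IsPComponent 2 K) :
    IsComp H (K.map H.subtype) := IsComp.of_tc (Charac.tc_of_subtype hK)

/-- membership in `Fixes` in the form of `mem_cenMod` -/
theorem fixes_iff_conj {a : G} {K : Subgroup G} :
    Fixes a K ↔ a ∈ normalizer (K : Set G) ∧ ∀ y ∈ K, y⁻¹ * (a * y * a⁻¹) ∈ core K := by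
  unfold Fixes
  refine and_congr_right fun ha => forall_congr' fun y => forall_congr' fun hy => ?_
  have h1 : ⁅a, y⁆ = (a * y * a⁻¹) * y⁻¹ := rfl
  rw [h1]
  constructor
  · intro h
    have := conj_mem_core (x := y⁻¹) (le_normalizer (K.inv_mem hy)) h
    convert this using 1
    group
  · intro h
    have := conj_mem_core (x := y) (le_normalizer hy) h
    convert this using 1
    group

variable [Finite G]

theorem odd_card_core (K : Subgroup G) : Odd (Nat.card (core K)) := odd_card_relCore K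

theorem coprime_card_core (K : Subgroup G) : (Nat.card (core K)).Coprime 2 :=
  relCore_coprime 2 K

theorem eq_one_of_mem_core {K : Subgroup G} {x : G} (hx : x ∈ core K) {n : ℕ}
    (hn : x ^ 2 ^ n = 1) : x = 1 := eq_one_of_mem_relCore hx hn

theorem eq_one_of_mem_core_sq {K : Subgroup G} {x : G} (hx : x ∈ core K) (h : x * x = 1) :
    x = 1 := IntrinsicBasic.eq_one_of_sq hx h

/-- an odd subnormal subgroup of `X` lies in `core X` -/
theorem le_core_of_subnormal {X N : Subgroup G} (hNX : N ≤ X)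
    (hn : (N.subgroupOf X).IsSubnormal) (hodd : Odd (Nat.card N)) : N ≤ core X :=
  le_relCore_of_subnormal hNX hn hodd

/-- an odd normal subgroup of `X` lies in `core X` -/
theorem le_core {X N : Subgroup G} (hNX : N ≤ X) (hn : X ≤ normalizer (N : Set G))
    (hodd : Odd (Nat.card N)) : N ≤ core X := by
  refine le_core_of_subnormal hNX ?_ hodd
  have : (N.subgroupOf X).Normal := normal_subgroupOf_of_le_normalizer hn
  exact this.isSubnormal

/-- `O(S) = S ∩ O(H)` for `S` subnormal in `H` -/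
theorem core_eq_inf_of_subnormal {H S : Subgroup G} (hS : S ≤ H)
    (hs : (S.subgroupOf H).IsSubnormal) : core S = S ⊓ core H := by
  have h1 := PCompQuot.map_subtype_pPrimeCore_subnormal 2 hs
  have h2 := Cores.map_equiv_pPrimeCore (subgroupOfEquivOfLe hS) 2
  have h3 : core S = ((pPrimeCore 2 ↥(S.subgroupOf H)).map (S.subgroupOf H).subtype).map
      H.subtype := by
    rw [core, show oddCore ↥S = _ from h2.symm, map_map, map_map]
    rfl
  rw [h3, h1, core]
  ext x
  constructor
  · rintro ⟨y, ⟨hy1, hy2⟩, rfl⟩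
    exact ⟨hy1, ⟨y, hy2, rfl⟩⟩
  · rintro ⟨hx, y, hy, rfl⟩
    exact ⟨y, ⟨hx, hy⟩, rfl⟩

theorem IsComp.core_eq {H K : Subgroup G} (h : IsComp H K) : core K = K ⊓ core H :=
  core_eq_inf_of_subnormal h.le h.2.1

theorem IsComp.core_le_core {H K : Subgroup G} (h : IsComp H K) : core K ≤ core H := by
  rw [h.core_eq]; exact inf_le_right

/-- For elements of `H`: `Fixes a K` is membership in `cenMod H K`. -/
theorem IsComp.fixes_iff {H K : Subgroup G} (h : IsComp H K) {a : G} (ha : a ∈ H) :
    Fixes a K ↔ a ∈ cenMod H K := by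
  rw [fixes_iff_conj, mem_cenMod h.le]
  constructor
  · rintro ⟨h1, h2⟩
    exact ⟨ha, fun k hk => h.core_le_core (h2 k hk)⟩
  · rintro ⟨h1, h2⟩
    have h3 : a ∈ normalizer (K : Set G) := by
      apply h.tc.cenMod_le_normalizer
      rw [mem_cenMod h.le]
      exact ⟨h1, h2⟩
    refine ⟨h3, fun k hk => ?_⟩
    rw [h.core_eq]
    exact ⟨K.mul_mem (K.inv_mem hk) ((mem_normalizer_iff.mp h3 k).mp hk), h2 k hk⟩

theorem IsComp.even {H K : Subgroup G} (h : IsComp H K) : 2 ∣ Nat.card K :=
  Charac.even_card h.tc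

theorem IsComp.ne_bot {H K : Subgroup G} (h : IsComp H K) : K ≠ ⊥ := by
  rintro rfl
  have := h.even
  simp at this

theorem IsComp.not_odd {H K : Subgroup G} (h : IsComp H K) {N : Subgroup G}
    (hN : Odd (Nat.card N)) : ¬ K ≤ N := fun hle =>
  (Nat.not_even_iff_odd.mpr hN) (even_iff_two_dvd.mpr (h.even.trans (card_dvd_of_le hle)))

/-- Characterization of 2-components without the core of `H`. -/
theorem isComp_iff {H K : Subgroup G} : IsComp H K ↔ K ≤ H ∧ (K.subgroupOf H).IsSubnormal ∧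
    IsQuasisimple (↥K ⧸ oddCore ↥K) ∧ PComponents.pElem 2 K = K := by
  rw [isComp_iff_tc, Charac.tc_iff]

/-- A 2-component of `H` contained in `M ≤ H` is a 2-component of `M`. -/
theorem IsComp.restrict {H M K : Subgroup G} (h : IsComp H K) (hM : M ≤ H) (hKM : K ≤ M) :
    IsComp M K := IsComp.of_tc (Charac.restrict h.tc hM hKM)

/-- A 2-component of `M` is a 2-component of every `H` in which `M` is subnormal. -/
theorem IsComp.extend {H M K : Subgroup G} (h : IsComp M K) (hM : M ≤ H)
    (hs : (M.subgroupOf H).IsSubnormal) : IsComp H K := IsComp.of_tc (Charac.extend h.tc hM hs)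

/-- `K = O^{2'}(K)` -/
theorem IsComp.pElem_eq {H K : Subgroup G} (h : IsComp H K) : PComponents.pElem 2 K = K :=
  Charac.pElem_eq h.tc

/-- A 2-component lies in `N` as soon as its 2-elements do. -/
theorem IsComp.le_of_two {H K : Subgroup G} (h : IsComp H K) {N : Subgroup G}
    (hN : ∀ k ∈ K, ∀ n : ℕ, k ^ 2 ^ n = 1 → k ∈ N) : K ≤ N := by
  rw [← h.pElem_eq]
  refine (Subgroup.closure_le _).mpr ?_
  rintro y ⟨hy, n, hn⟩
  exact hN y hy n hn

/-- 2-elements of `K O(H)` lie in `K`. -/
theorem IsComp.mem_of_two {H K : Subgroup G} (hK : IsComp H K) {x k : G} (hk : k ∈ K)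
    (hx : k⁻¹ * x ∈ core H) {n : ℕ} (hn : x ^ 2 ^ n = 1) : x ∈ K :=
  hK.tc.mem_of_two hk hx hn

/-! ### T1: distinct 2-components -/

theorem IsComp.comm_le_core {H K M : Subgroup G} (hK : IsComp H K) (hM : IsComp H M)
    (hne : K ≠ M) : ⁅K, M⁆ ≤ core K ⊓ core M := by
  have hp : Fact (Nat.Prime 2) := ⟨Nat.prime_two⟩
  have hne' : K.subgroupOf H ≠ M.subgroupOf H := by
    intro h
    apply hne
    have := congrArg (Subgroup.map H.subtype) h
    rwa [subgroupOf_map_subtype, subgroupOf_map_subtype, inf_of_le_left hK.le,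
      inf_of_le_left hM.le] at this
  have h1 : ⁅K.subgroupOf H, M.subgroupOf H⁆ ≤ pPrimeCore 2 ↥H :=
    PComponents.commutator_pcomp_le_core hK.2 hM.2 hne'
  have h0 : ⁅K, M⁆ ≤ core H := by
    have := Subgroup.map_mono (f := H.subtype) h1
    rwa [map_commutator, subgroupOf_map_subtype, subgroupOf_map_subtype, inf_of_le_left hK.le,
      inf_of_le_left hM.le] at this
  have h2 : K ≤ normalizer (M : Set G) := by
    intro k hk
    exact hM.tc.cenMod_le_normalizer (hM.tc.le_cenMod hK.tc hne.symm hk)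
  have h3 : M ≤ normalizer (K : Set G) := by
    intro k hk
    exact hK.tc.cenMod_le_normalizer (hK.tc.le_cenMod hM.tc hne hk)
  have h4 : ⁅K, M⁆ ≤ K := Subgroup.le_normalizer_iff_commutator_le_left.mp h3
  have h5 : ⁅K, M⁆ ≤ M := Subgroup.le_normalizer_iff_commutator_le_right.mp h2
  rw [hK.core_eq, hM.core_eq]
  exact le_inf (le_inf h4 h0) (le_inf h5 h0)

/-- the members of a 2-component fix all other 2-components -/
theorem IsComp.fixes_of_mem {H K M : Subgroup G} (hK : IsComp H K) (hM : IsComp H M)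
    (hne : K ≠ M) {a : G} (ha : a ∈ M) : Fixes a K :=
  (hK.fixes_iff (hM.le ha)).mpr (hK.tc.le_cenMod hM.tc hne ha)

theorem IsComp.fixes_of_core {H K : Subgroup G} (hK : IsComp H K) {a : G} (ha : a ∈ core H) :
    Fixes a K :=
  (hK.fixes_iff (core_le H ha)).mpr (relCore_le_cenMod H K ha)

theorem IsComp.core_le_normalizer {H K : Subgroup G} (hK : IsComp H K) :
    core H ≤ normalizer (K : Set G) := fun _ ha => (hK.fixes_of_core ha).1

/-- a 2-component does not fix itself -/
theorem IsComp.not_fixes {H K : Subgroup G} (hK : IsComp H K) : ¬ ∀ a ∈ K, Fixes a K := by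
  intro h
  exact PumpUp.not_le_cenMod hK.tc fun a ha => (hK.fixes_iff (hK.le ha)).mp (h a ha)

/-- distinct 2-components of `H` are not contained in each other -/
theorem IsComp.eq_of_le {H K M : Subgroup G} (hK : IsComp H K) (hM : IsComp H M) (h : K ≤ M) :
    K = M := PumpUp.eq_of_le hK.tc hK.tc hM.tc le_rfl h

/-- a 2-component of any group lies in at most one 2-component of `X` -/
theorem IsComp.unique {X H K₁ K₂ L : Subgroup G} (hL : IsComp H L) (h₁ : IsComp X K₁)
    (h₂ : IsComp X K₂) (hL₁ : L ≤ K₁) (hL₂ : L ≤ K₂) : K₁ = K₂ :=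
  PumpUp.eq_of_le hL.tc h₁.tc h₂.tc hL₁ hL₂

/-! ### T2: conjugation -/

omit [Finite G] in
theorem Fixes.cj {a : G} {K : Subgroup G} (h : Fixes a K) (g : G) :
    Fixes (g * a * g⁻¹) (cj g K) := by
  obtain ⟨h1, h2⟩ := h
  constructor
  · rw [mem_normalizer_iff_cj] at h1 ⊢
    rw [← cj_mul, show g * a * g⁻¹ * g = g * a by group, cj_mul, h1]
  · intro y hy
    rw [core_cj, mem_cj]
    have h3 := h2 _ (mem_cj.mp hy)
    have : g⁻¹ * ⁅g * a * g⁻¹, y⁆ * g = ⁅a, g⁻¹ * y * g⁆ := by
      simp only [commutatorElement_def]; group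
    rw [this]
    exact h3

omit [Finite G] in
theorem cj_inf (g : G) (A B : Subgroup G) : cj g (A ⊓ B) = cj g A ⊓ cj g B := by
  ext x
  simp only [mem_cj, mem_inf]

omit [Finite G] in
theorem IsPair.sq {n : ℕ} {u : G} {X : Subgroup G} (h : IsPair n u X) : u * u = 1 := by
  rw [← pow_two, ← h.inv, pow_orderOf_eq_one]

omit [Finite G] in
theorem IsPair.ne_one {n : ℕ} {u : G} {X : Subgroup G} (h : IsPair n u X) : u ≠ 1 := by
  rintro rfl
  have := h.inv
  simp at this

/-- the quotients of a subgroup and of its conjugate modulo the cores -/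
noncomputable def cjQuot (g : G) (K : Subgroup G) :
    (↥K ⧸ oddCore ↥K) ≃* (↥(cj g K) ⧸ oddCore ↥(cj g K)) :=
  QuotientGroup.congr _ _ (K.equivMapOfInjective (MulAut.conj g).toMonoidHom
    (MulAut.conj g).injective) (Cores.map_equiv_pPrimeCore _ 2)

theorem cover_congr {A B C : Type*} [Group A] [Group B] [Group C] (e : A ≃* B)
    (h : IsNonsplitDoubleCover A C) : IsNonsplitDoubleCover B C := by
  obtain ⟨h1, ⟨h2⟩, h3⟩ := h
  have hc : (center A).map e.toMonoidHom = center B := by
    apply le_antisymm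
    · rintro _ ⟨a, ha, rfl⟩
      rw [mem_center_iff]
      intro b
      obtain ⟨b, rfl⟩ := e.surjective b
      change e b * e a = e a * e b
      rw [← map_mul, ← map_mul, mem_center_iff.mp ha b]
    · intro b hb
      obtain ⟨a, rfl⟩ := e.surjective b
      refine ⟨a, mem_center_iff.mpr fun x => e.injective ?_, rfl⟩
      rw [map_mul, map_mul]
      exact mem_center_iff.mp hb (e x)
  refine ⟨?_, ⟨(QuotientGroup.congr _ _ e hc).symm.trans h2⟩, ?_⟩
  · rw [← hc, card_map_of_injective e.injective]; exact h1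
  · intro L hL
    apply h3 (L.comap e.toMonoidHom)
    rw [isComplement'_def, isComplement_iff_existsUnique] at hL ⊢
    intro a
    obtain ⟨⟨x, y⟩, hxy, huniq⟩ := hL (e a)
    have hx : e.symm x ∈ center A := by
      have h0 : (x : B) ∈ center B := x.2
      have h0' : (x : B) ∈ (center A).map e.toMonoidHom := by rw [hc]; exact h0
      obtain ⟨x', hx', hx''⟩ := h0'
      have hx3 : e.symm x = x' := by
        rw [← hx'']; exact e.symm_apply_apply x'
      rw [hx3]; exact hx'
    have hy : e.symm y ∈ L.comap e.toMonoidHom := by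
      change e (e.symm y) ∈ L
      rw [e.apply_symm_apply]; exact y.2
    refine ⟨(⟨e.symm x, hx⟩, ⟨e.symm y, hy⟩), ?_, ?_⟩
    · change e.symm x * e.symm y = a
      rw [← map_mul, hxy, e.symm_apply_apply]
    · rintro ⟨⟨x', hx'⟩, ⟨y', hy'⟩⟩ h
      have h4 := huniq (⟨e x', by rw [SetLike.mem_coe, ← hc]; exact ⟨x', hx', rfl⟩⟩, ⟨e y', hy'⟩) (by
        change e x' * e y' = e a
        rw [← map_mul]
        exact congrArg e h)
      have h5 := congrArg (fun p => (p.1 : B)) h4
      have h6 := congrArg (fun p => (p.2 : B)) h4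
      simp only at h5 h6
      apply Prod.ext
      · apply Subtype.ext
        change x' = e.symm x
        rw [← h5, e.symm_apply_apply]
      · apply Subtype.ext
        change y' = e.symm y
        rw [← h6, e.symm_apply_apply]

omit [Finite G] in
theorem IsPair.cj {n : ℕ} {u : G} {X : Subgroup G} (h : IsPair n u X) (g : G) :
    IsPair n (g * u * g⁻¹) (cj g X) := by
  refine ⟨?_, conj_mem_cj h.mem, ?_, cover_congr (cjQuot g X) h.cover⟩
  · have := h.inv
    have e : orderOf (MulAut.conj g u) = orderOf u := orderOf_injective (MulAut.conj g).toMonoidHom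
      (MulAut.conj g).injective u
    rw [← this, ← e]
    rfl
  · rw [← cj_centralizer]
    exact h.comp.cj g

/-! ### T3: 2-components and subnormal subgroups -/

theorem IsComp.le_or_comm {H K S : Subgroup G} (hK : IsComp H K) (hS : S ≤ H)
    (hs : (S.subgroupOf H).IsSubnormal) : K ≤ S ∨ ⁅K, S⁆ ≤ core H := by
  have hs' : ((S.subgroupOf H).map (QuotientGroup.mk' (pPrimeCore 2 ↥H))).IsSubnormal :=
    hs.map (QuotientGroup.mk'_surjective _)
  rcases Components.component_le_or_commutator_eq_bot hK.2.2.1 hs' with h | h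
  · left
    apply hK.le_of_two
    intro k hk n hn
    have h1 : (QuotientGroup.mk' (pPrimeCore 2 ↥H)) ⟨k, hK.le hk⟩ ∈
        (S.subgroupOf H).map (QuotientGroup.mk' (pPrimeCore 2 ↥H)) := h ⟨_, hk, rfl⟩
    have h2 : (⟨k, hK.le hk⟩ : ↥H) ∈ S.subgroupOf H := by
      have h3 := PComponents.pElem_comap_le (p := 2) hs
        (C := (S.subgroupOf H).map (QuotientGroup.mk' (pPrimeCore 2 ↥H))) rfl
      apply h3
      refine PComponents.mem_pElem (n := n) h1 ?_
      ext; simpa using hn
    exact h2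
  · right
    rw [← map_commutator, Subgroup.map_eq_bot_iff, QuotientGroup.ker_mk'] at h
    have := Subgroup.map_mono (f := H.subtype) h
    rwa [map_commutator, subgroupOf_map_subtype, subgroupOf_map_subtype, inf_of_le_left hK.le,
      inf_of_le_left hS] at this

/-- Members of a subnormal subgroup not containing `K` fix `K`. -/
theorem IsComp.fixes_of_subnormal {H K S : Subgroup G} (hK : IsComp H K) (hS : S ≤ H)
    (hs : (S.subgroupOf H).IsSubnormal) (hKS : ¬ K ≤ S) {a : G} (ha : a ∈ S) : Fixes a K := by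
  have h := (hK.le_or_comm hS hs).resolve_left hKS
  rw [hK.fixes_iff (hS ha), mem_cenMod hK.le]
  refine ⟨hS ha, fun k hk => ?_⟩
  have h1 : ⁅k⁻¹, a⁆ ∈ core H := h (commutator_mem_commutator (K.inv_mem hk) ha)
  have h2 : k⁻¹ * (a * k * a⁻¹) = ⁅k⁻¹, a⁆ := by
    rw [commutatorElement_def]; group
  rw [h2]; exact h1

/-! ### T4, T5: L-balance -/

theorem isComp_le_L2 {H J : Subgroup G} {u : G} (hu : u ∈ H) (hu2 : u * u = 1)
    (hJ : IsComp (H ⊓ centralizer ({u} : Set G)) J) : J ≤ L2 H := by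
  have hT : IsPGroup 2 ↥(zpowers (⟨u, hu⟩ : ↥H)) := by
    rintro ⟨_, n, rfl⟩
    refine ⟨1, ?_⟩
    apply Subtype.ext
    have h1 : (⟨u, hu⟩ : ↥H) ^ 2 = 1 := by
      apply Subtype.ext
      simpa [pow_two] using hu2
    change ((⟨u, hu⟩ : ↥H) ^ n) ^ (2 ^ 1) = 1
    rw [pow_one, ← zpow_natCast, ← zpow_mul, mul_comm, zpow_mul, zpow_natCast, h1, one_zpow]
  have h1 := Cfsg.Agent.S1301.result (X := ↥H) (zpowers (⟨u, hu⟩ : ↥H)) hT
  have h2 := isPComponent_map_equiv 2 (IntrinsicBalance.centEquiv H u hu) hJ.2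
  intro a ha
  have ha' : (⟨a, hJ.le ha⟩ : ↥(H ⊓ centralizer ({u} : Set G))) ∈
      J.subgroupOf (H ⊓ centralizer ({u} : Set G)) := ha
  have h3 : (IntrinsicBalance.centEquiv H u hu) ⟨a, hJ.le ha⟩ ∈
      pLayer 2 ↥(centralizer ((zpowers (⟨u, hu⟩ : ↥H) : Subgroup ↥H) : Set ↥H)) :=
    (le_sSup (show _ ∈ {K | IsPComponent 2 K} from h2)) ⟨_, ha', rfl⟩
  have h4 := h1 ⟨_, h3, rfl⟩
  exact ⟨⟨a, (hJ.le ha).1⟩, h4, rfl⟩

/-- T5: elements of `L2 H` normalize every 2-component of `H` -/
theorem IsComp.L2_le_normalizer {H K : Subgroup G} (hK : IsComp H K) :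
    L2 H ≤ normalizer (K : Set G) := by
  have h1 := IntrinsicBalance.pLayer_le hK.tc
  exact h1.trans (IntrinsicBalance.sup_le_normalizer hK.tc)

theorem IsComp.L2_le_sup {H K : Subgroup G} (hK : IsComp H K) :
    L2 H ≤ K ⊔ cenMod H K := IntrinsicBalance.pLayer_le hK.tc

/-! ### T7: pump-up -/

/-- The pump-up: existence.  Uniqueness is `IsComp.unique`. -/
theorem exists_pumpup {H J : Subgroup G} {u : G} (hu2 : u * u = 1) (huJ : u ∈ J)
    (hJ : IsComp (H ⊓ centralizer ({u} : Set G)) J) : ∃ M, IsComp H M ∧ J ≤ M := by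
  obtain ⟨M, hM, hJM⟩ := PumpUp.exists_pumpup hu2 huJ hJ.tc
  exact ⟨M, IsComp.of_tc hM, hJM⟩

/-- `J` is a component of `C_M(u)`. -/
theorem isComp_inf {H J M : Subgroup G} {u : G} (hJ : IsComp (H ⊓ centralizer ({u} : Set G)) J)
    (hM : IsComp H M) (hJM : J ≤ M) : IsComp (M ⊓ centralizer ({u} : Set G)) J :=
  hJ.restrict (inf_le_inf_right _ hM.le) (le_inf hJM (hJ.le.trans inf_le_right))

end Cfsg.Agent.Intrinsic.Basic
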