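import Cfsg.Agent.S1660

/-!
# S1738 : recognition of `Ly` in the form used by the assembly
-/

set_option autoImplicit false

namespace Cfsg.Agent.Intrinsic.RecogLy

open Subgroup Cfsg

universe u

/-- `C(z) = 2.A_11` in a simple group: the group is `Ly`. -/
theorem ly (X : Type u) [Group X] [Finite X] [IsSimpleGroup X] (z : X) (hz : orderOf z = 2)
    (hcov : IsNonsplitDoubleCover ↥(centralizer ({z} : Set X)) ↥(alternatingGroup (Fin 11))) :
    Spor.IsoLy X :=
  Cfsg.Agent.S1660.result z hz hcov

end Cfsg.Agent.Intrinsic.RecogLy
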