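import Cfsg.Agent.McLType.Final
import Cfsg.Agent.SporRec.LyReduce

/-!
# S1738 : recognition of `McL` in the form used by the assembly
-/

set_option autoImplicit false

namespace Cfsg.Agent.Intrinsic.RecogMcL

open Subgroup Cfsg
open Cfsg.Agent.SporadicRecognition.AltCover

universe u

/-- `C(z) = 2.A_8` in a simple group: the group is `McL`. -/
theorem mcl (X : Type u) [Group X] [Finite X] [IsSimpleGroup X] (z : X) (hz : orderOf z = 2)
    (hcov : IsNonsplitDoubleCover ↥(centralizer ({z} : Set X)) ↥(alternatingGroup (Fin 8))) :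
    Spor.IsoMcL X := by
  obtain ⟨-, π, h, v, -, -, hvz, hc, g, hg, -⟩ :=
    Cfsg.Agent.SporRec.LyReduce.reduce 8 (by norm_num) z hz hcov
  exact McLType.Final.isoMcL h ⟨g, by rw [hg]; exact hvz, by rw [hg]; exact hc⟩

end Cfsg.Agent.Intrinsic.RecogMcL
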