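import Cfsg.Agent.Intrinsic.Final
import Cfsg.Agent.Intrinsic.RecogMcL
import Cfsg.Agent.Intrinsic.RecogLy

/-!
# S1738 from the three worlds
-/

set_option autoImplicit false

open Cfsg Subgroup

namespace Cfsg.Agent.Intrinsic.AssembleLy

universe u

/-- S1738. -/
theorem s1738 (h0 : Final.ZeroStmt.{u}) (hN : Final.NZStmt.{u}) (hP : Final.PairStmt.{u})
    {G : Type u} [Group G] [Finite G]
    (hO : Cfsg.oddCore G = ⊥) (hF : Cfsg.IsQuasisimple ↥(Cfsg.generalizedFittingSubgroup G))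
    (t : G) (ht : orderOf t = 2)
    (K : Subgroup ↥(Subgroup.centralizer ({t} : Set G))) (hK : Cfsg.IsPComponent 2 K)
    (htK : t ∈ K.map (Subgroup.centralizer ({t} : Set G)).subtype)
    (n : ℕ) (hn : 8 ≤ n)
    (hKA : Cfsg.IsNonsplitDoubleCover (↥K ⧸ Cfsg.oddCore ↥K) ↥(alternatingGroup (Fin n))) :
    Cfsg.IsNonsplitDoubleCover ↥(Cfsg.generalizedFittingSubgroup G) ↥(alternatingGroup (Fin n)) ∨
      (n = 8 ∧ Cfsg.Spor.IsoMcL ↥(Cfsg.generalizedFittingSubgroup G)) ∨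
      (n = 11 ∧ Cfsg.Spor.IsoLy ↥(Cfsg.generalizedFittingSubgroup G)) :=
  Red.assemble (Final.simpleCase h0 hN hP) RecogMcL.mcl RecogLy.ly hO hF t ht K hK htK n hn hKA

end Cfsg.Agent.Intrinsic.AssembleLy
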