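import Cfsg.Agent.Intrinsic.ANFactBigCent
import Cfsg.Agent.Intrinsic.Lifting
import Cfsg.Agent.Lib.GenFitting
import Cfsg.Agent.SignalizersComponents.Components

/-!
# Balance for pairs of type (0) with a big pump-up

`(u, X)` a pair, `s` an involution commuting with `u` and fixing `X`, `M` the 2-component of `C(s)` above `cen X s`,
`M` big. Then `O(C(u)) ∩ C(s) ≤ O(C(s))`.
-/

set_option autoImplicit false

open Cfsg Subgroup
open Cfsg.Agent.SignalizersComponents Cfsg.Agent.Lib
open Cfsg.Agent.SignalizersComponents.IntrinsicBasic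
open Cfsg.Agent.SignalizersComponents.PLayerAut
open Cfsg.Agent.Intrinsic.Basic Cfsg.Agent.Intrinsic.Cen Cfsg.Agent.Intrinsic.Quot
open scoped commutatorElement

namespace Cfsg.Agent.Intrinsic.BigBal

section fstar

variable {X : Type*} [Group X] [Finite X]

/-- If `O(X) = 1`, a subgroup of odd order normalized by `F*(X)` is trivial. -/
theorem eq_bot_of_fstar (hO : oddCore X = ⊥) {N : Subgroup X} (hodd : Odd (Nat.card N))
    (hF : generalizedFittingSubgroup X ≤ normalizer (N : Set X)) : N = ⊥ := by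
  have hFn : (generalizedFittingSubgroup X).Normal := GenFitting.genFitting_normal
  have h1 : core (generalizedFittingSubgroup X) = ⊥ := by
    have h2 := core_eq_inf_of_subnormal (H := (⊤ : Subgroup X)) (S := generalizedFittingSubgroup X) le_top
      (by
        have : ((generalizedFittingSubgroup X).subgroupOf ⊤).Normal := inferInstance
        exact this.isSubnormal)
    have h3 : core (⊤ : Subgroup X) = ⊥ := by
      rw [core]
      have h4 := Cores.map_equiv_pPrimeCore (topEquiv (G := X)) 2
      have h5 : (oddCore ↥(⊤ : Subgroup X)).map (⊤ : Subgroup X).subtype = oddCore X := h4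
      rw [h5, hO]
    rw [h2, h3, inf_bot_eq]
  have h2 : N ⊓ generalizedFittingSubgroup X = ⊥ := by
    rw [eq_bot_iff, ← h1]
    refine le_core inf_le_right ?_ (Odd.of_dvd_nat hodd (card_dvd_of_le inf_le_left))
    intro f hf
    have e1 := hF hf
    have e2 : f ∈ normalizer (generalizedFittingSubgroup X : Set X) := le_normalizer hf
    rw [mem_normalizer_iff_cj] at e1 e2 ⊢
    rw [cj_inf, e1, e2]
  have h3 : ⁅N, generalizedFittingSubgroup X⁆ = ⊥ := by
    rw [eq_bot_iff, ← h2]
    refine le_inf ?_ (commutator_le_right _ _)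
    exact le_normalizer_iff_commutator_le_left.mp hF
  have h4 : N ≤ centralizer (generalizedFittingSubgroup X : Set X) :=
    commutator_eq_bot_iff_le_centralizer.mp h3
  have h5 : N ≤ generalizedFittingSubgroup X := h4.trans GenFitting.centralizer_genFitting_le
  rw [← h2, inf_eq_left.mpr h5]

omit [Finite X] in
/-- `F*(X) ≤ K C(K)` for a component `K`. -/
theorem genFitting_le_sup {K : Subgroup X} (hK : IsComponent K) :
    generalizedFittingSubgroup X ≤ K ⊔ centralizer (K : Set X) := by
  rw [GenFitting.genFitting_def]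
  refine sup_le ?_ ?_
  · rw [Components.layer_le_iff]
    intro L hL
    by_cases h : L = K
    · rw [h]; exact le_sup_left
    · exact (Components.component_le_centralizer_of_ne hL hK h).trans le_sup_right
  · refine le_trans ?_ le_sup_right
    have h1 := Components.layer_le_centralizer_fitting (G := X)
    have h2 := (Components.component_le_layer hK).trans h1
    exact le_centralizer_iff.mp h2

/-- If `O(X) = 1`, `K` is a component, `N` has odd order, centralizes `K` and is normalized by `C(K)`, then `N = 1`. -/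
theorem eq_bot_of_component (hO : oddCore X = ⊥) {K N : Subgroup X} (hK : IsComponent K)
    (hodd : Odd (Nat.card N)) (hNK : N ≤ centralizer (K : Set X))
    (hn : centralizer (K : Set X) ≤ normalizer (N : Set X)) : N = ⊥ := by
  refine eq_bot_of_fstar hO hodd ((genFitting_le_sup hK).trans (sup_le ?_ hn))
  intro k hk
  rw [mem_normalizer_iff_cj]
  have hc : ∀ y ∈ N, y * k = k * y := fun y hy => (mem_centralizer_iff.mp (hNK hy) k hk).symm
  ext y
  rw [mem_cj]
  constructor
  · intro hy
    have h1 := hc _ hy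
    have h2 : k⁻¹ * y * k = y := by
      calc k⁻¹ * y * k = k⁻¹ * (k * (k⁻¹ * y * k)) := by group
        _ = k⁻¹ * (k⁻¹ * y * k * k) := by rw [h1]
        _ = k⁻¹ * (k⁻¹ * (y * k)) * k := by group
        _ = y := by
          have h3 : k⁻¹ * y * k * k = y * k := by rw [h1]; group
          have h4 : k⁻¹ * y * k = y := mul_right_cancel h3
          rw [show k⁻¹ * (k⁻¹ * (y * k)) * k = k⁻¹ * (k⁻¹ * y * k) * k by group, h4, h4]
    rwa [h2] at hy
  · intro hy
    have h1 := hc y hy
    rwa [show k⁻¹ * y * k = k⁻¹ * (y * k) by group, h1, show k⁻¹ * (k * y) = y by group]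

end fstar

variable {G : Type*} [Group G] [Finite G]

/-- A subgroup of odd order of `cenMod Y K` containing `O(Y)` and normalized by `cenMod Y K` is `O(Y)`. -/
theorem le_core_of_cenMod {Y K N : Subgroup G} (hK : IsComp Y K) (hN : N ≤ cenMod Y K)
    (hcN : core Y ≤ N) (hn : cenMod Y K ≤ normalizer (N : Set G)) (hodd : Odd (Nat.card N)) :
    N ≤ core Y := by
  have hNY : N ≤ Y := hN.trans (cenMod_le Y K)
  set mk := QuotientGroup.mk' (oddCore ↥Y) with hmk
  have hO : oddCore (↥Y ⧸ oddCore ↥Y) = ⊥ := oddCore_quot Y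
  have hmem : ∀ x (hx : x ∈ Y), mk ⟨x, hx⟩ ∈ (N.subgroupOf Y).map mk ↔ x ∈ N := by
    intro x hx
    constructor
    · rintro ⟨y, hy, hyx⟩
      have h1 : (y : G)⁻¹ * x ∈ core Y := mk_eq_mk_iff.mp hyx
      have h2 := N.mul_mem (show (y : G) ∈ N from hy) (hcN h1)
      rwa [mul_inv_cancel_left] at h2
    · intro h
      exact ⟨⟨x, hx⟩, h, rfl⟩
  have h1 : (N.subgroupOf Y).map mk = ⊥ := by
    refine eq_bot_of_component hO hK.2.2.1 ?_ ?_ ?_
    · have h2 : Nat.card ((N.subgroupOf Y).map mk) ∣ Nat.card (N.subgroupOf Y) :=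
        Subgroup.card_map_dvd (N.subgroupOf Y) mk
      rw [Nat.card_congr (subgroupOfEquivOfLe hNY).toEquiv] at h2
      exact Odd.of_dvd_nat hodd h2
    · rintro _ ⟨y, hy, rfl⟩
      obtain ⟨y', hy', e⟩ := hN (show (y : G) ∈ N from hy)
      have : y' = y := Subtype.ext e
      rw [← this]
      exact hy'
    · intro c hc
      obtain ⟨⟨c, hcY⟩, rfl⟩ := QuotientGroup.mk_surjective c
      have h2 : c ∈ cenMod Y K := ⟨⟨c, hcY⟩, hc, rfl⟩
      have h3 := mem_normalizer_iff.mp (hn h2)
      rw [mem_normalizer_iff]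
      intro y
      obtain ⟨⟨y, hyY⟩, rfl⟩ := QuotientGroup.mk_surjective y
      have e1 := hmem y hyY
      have e2 := hmem (c * y * c⁻¹) (Y.mul_mem (Y.mul_mem hcY hyY) (Y.inv_mem hcY))
      exact (e1.trans (h3 y)).trans e2.symm
  intro x hx
  have h2 := (hmem x (hNY hx)).mpr hx
  rw [h1, mem_bot] at h2
  exact ⟨⟨x, hNY hx⟩, (QuotientGroup.eq_one_iff _).mp h2, rfl⟩

/-- An odd subgroup `Q` of `C_Y(u)` normalized by `C_Y(u)` and centralizing modulo `O(Y)` a 2-component `K` of `Y`
containing the involution `u` lies in `O(Y)`. -/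
theorem le_core_of_cent {Y K Q : Subgroup G} (hK : IsComp Y K) {u : G} (huK : u ∈ K) (huu : u * u = 1)
    (hQ : Q ≤ cenMod Y K) (hQn : Y ⊓ centralizer ({u} : Set G) ≤ normalizer (Q : Set G))
    (hodd : Odd (Nat.card Q)) : Q ≤ core Y := by
  have hcn : ∀ y ∈ Y, y ∈ normalizer (core Y : Set G) := fun y hy => le_normalizer_core Y hy
  have hQY : Q ≤ Y := hQ.trans (cenMod_le Y K)
  have hQc : Q ≤ normalizer (core Y : Set G) := fun q hq => hcn q (hQY hq)
  -- `N = Q O(Y)`
  have h1 : Q ⊔ core Y ≤ core Y := by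
    refine le_core_of_cenMod hK (sup_le hQ (relCore_le_cenMod Y K)) le_sup_right ?_ ?_
    · intro c hc
      have hcY := cenMod_le Y K hc
      have huY := hK.le huK
      -- `c` commutes with `u` modulo the core
      have h2 : c⁻¹ * (u * c * u⁻¹) ∈ core Y := by
        have h3 := ((mem_cenMod hK.le).mp hc).2 u huK
        -- `u⁻¹ (c u c⁻¹) ∈ O(Y)`
        have h4 := conj_mem_core (K := Y) (le_normalizer (Y.mul_mem (Y.inv_mem hcY) huY)) ((core Y).inv_mem h3)
        have h5 : c⁻¹ * u * (u⁻¹ * (c * u * c⁻¹))⁻¹ * (c⁻¹ * u)⁻¹ = c⁻¹ * (u * c * u⁻¹) := by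
          have hui : u⁻¹ = u := inv_eq_of_mul_eq_one_left huu
          calc c⁻¹ * u * (u⁻¹ * (c * u * c⁻¹))⁻¹ * (c⁻¹ * u)⁻¹
              = c⁻¹ * u * (c * u⁻¹ * c⁻¹) * (u * u⁻¹) * c := by group
            _ = c⁻¹ * u * c * u⁻¹ := by rw [mul_inv_cancel, mul_one]; group
            _ = _ := by group
        rwa [h5] at h4
      obtain ⟨o, ho, hoc⟩ := Lifting.exists_commute (odd_card_core Y) (v := u) (m := c) (n := 1)
        (by rw [pow_one, pow_two, huu]) (hcn u huY) h2
      have h6 : c * o ∈ normalizer (Q : Set G) := by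
        apply hQn
        refine ⟨Y.mul_mem hcY (core_le Y ho), mem_centralizer_singleton_iff.mpr hoc.symm⟩
      have h7 : c * o ∈ normalizer ((Q ⊔ core Y : Subgroup G) : Set G) := by
        have e1 := h6
        have e2 := hcn _ (Y.mul_mem hcY (core_le Y ho))
        rw [mem_normalizer_iff_cj] at e1 e2 ⊢
        rw [cj, Subgroup.map_sup]
        exact congrArg₂ (· ⊔ ·) e1 e2
      have h8 : o ∈ normalizer ((Q ⊔ core Y : Subgroup G) : Set G) :=
        le_normalizer (mem_sup_right ho)
      have h9 := mul_mem h7 (inv_mem h8)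
      rwa [mul_inv_cancel_right] at h9
    · -- the order of `Q O(Y)` is odd
      have h2 : Nat.card ↥(Q ⊔ core Y) ∣ Nat.card Q * Nat.card (core Y) := by
        rw [sup_comm, mul_comm]
        exact CoprimeBasic.card_sup_dvd hQc
      exact Odd.of_dvd_nat (hodd.mul (odd_card_core Y)) h2
  exact le_sup_left.trans h1

theorem fixes_pow {H K : Subgroup G} (hK : IsComp H K) {a : G} (ha : a ∈ H) (hf : Fixes a K) (k : ℕ) :
    Fixes (a ^ k) K := by
  rw [hK.fixes_iff ha] at hf
  rw [hK.fixes_iff (H.pow_mem ha k)]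
  exact pow_mem hf k

/-- **Balance.** `(u, X)` a pair, `s` an involution commuting with `u` and fixing `X`, with big pump-up `M`. -/
theorem bal {n : ℕ} {u : G} {X : Subgroup G} (h : IsPair n u X) {s : G} (hss : s * s = 1) (hsu : s * u = u * s)
    (hf : Fixes s X) {M : Subgroup G} (hM : IsComp (centralizer ({s} : Set G)) M) (hle : cen X s ≤ M)
    (hB : Big n u (cen X s) M) (hSE : ∀ S : Subgroup (↥M ⧸ oddCore ↥M), ¬ IsStronglyEmbedded S) {x : G}
    (hx : x ∈ core (centralizer ({u} : Set G))) (hxs : x * s = s * x) : x ∈ core (centralizer ({s} : Set G)) := by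
  have hsC : s ∈ centralizer ({u} : Set G) := mem_centralizer_singleton_iff.mpr hsu
  have hcen := isComp_cen h.comp hsC hss hf
  have huJ : u ∈ cen X s := pair_mem_cen h hsu
  have hcJ : core (cen X s) = cen X s ⊓ core X := core_cen h.comp hsC hss hf
  have hJM : IsComp (M ⊓ centralizer ({u} : Set G)) (cen X s) := by
    have h1 := hcen.1
    rw [inf_comm] at h1
    exact isComp_inf h1 hM hle
  have hcov : IsNonsplitDoubleCover (↥(cen X s) ⧸ oddCore ↥(cen X s)) ↥(alternatingGroup (Fin n)) :=
    (cover_cen h.comp hsC hss hf).mpr h.cover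
  have hcoreM : core (cen X s) ≤ core M := hB.core_le hle
  -- the members of `Q = O(C(u)) ∩ C(s)` fix `M`
  have key : ∀ q ∈ core (centralizer ({u} : Set G)), q * s = s * q → Fixes q M := by
    intro q hq hqs
    have hqC : q ∈ centralizer ({u} : Set G) := core_le _ hq
    have hqu : q * u = u * q := mem_centralizer_singleton_iff.mp hqC
    have hqX : Fixes q X := h.comp.fixes_of_core hq
    have hqJ : q ∈ normalizer (cen X s : Set G) := mem_normalizer_cen hqX.1 hqs
    have hqS : q ∈ centralizer ({s} : Set G) := mem_centralizer_singleton_iff.mpr hqs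
    -- `q` normalizes `M`
    have hqM : q ∈ normalizer (M : Set G) := by
      rw [mem_normalizer_iff_cj]
      have h1 : IsComp (centralizer ({s} : Set G)) (cj q M) := by
        have h2 := hM.cj q
        have h3 : q ∈ normalizer (centralizer ({s} : Set G) : Set G) := le_normalizer hqS
        rw [mem_normalizer_iff_cj] at h3
        rwa [h3] at h2
      refine hcen.1.unique h1 hM ?_ hle
      rw [mem_normalizer_iff_cj] at hqJ
      rw [← hqJ]
      exact cj_mono hle
    have hqJ' : ∀ j ∈ cen X s, j⁻¹ * (q * j * q⁻¹) ∈ core M := by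
      intro j hj
      apply hcoreM
      rw [hcJ]
      exact ⟨(cen X s).mul_mem ((cen X s).inv_mem hj) ((mem_normalizer_iff.mp hqJ j).mp hj),
        (fixes_iff_conj.mp hqX).2 j (cen_le X s hj)⟩
    rcases ANFactBigCent.Big.fixes_or hB h.inv huJ hJM hcov hSE hqM hqJ' with h1 | h1
    · exact h1
    · exfalso
      have huS : u ∈ centralizer ({s} : Set G) := hM.le hB.mem
      have h2 := fixes_pow hM ((centralizer ({s} : Set G)).mul_mem huS hqS) h1 (orderOf q)
      have hcomm : Commute u q := hqu.symm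
      rw [hcomm.mul_pow, pow_orderOf_eq_one, mul_one] at h2
      have hodd : Odd (orderOf q) := by
        have h3 : orderOf q ∣ Nat.card (core (centralizer ({u} : Set G))) := Subgroup.orderOf_dvd_natCard _ hq
        exact Odd.of_dvd_nat (odd_card_core _) h3
      obtain ⟨k, hk⟩ := hodd
      rw [hk, pow_succ, pow_mul, pow_two, h.sq, one_pow, one_mul] at h2
      exact hB.not_fixes h.sq h.ne_one hM h2
  -- `Q`
  have hQ : core (centralizer ({u} : Set G)) ⊓ centralizer ({s} : Set G) ≤ core (centralizer ({s} : Set G)) := by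
    refine le_core_of_cent hM hB.mem h.sq ?_ ?_ (Odd.of_dvd_nat (odd_card_core _) (card_dvd_of_le inf_le_left))
    · rintro q ⟨hq, hqS⟩
      exact (hM.fixes_iff hqS).mp (key q hq (mem_centralizer_singleton_iff.mp hqS))
    · rintro c ⟨hcs, hcu⟩
      have e1 : c ∈ normalizer (core (centralizer ({u} : Set G)) : Set G) := le_normalizer_core _ hcu
      have e2 : c ∈ normalizer (centralizer ({s} : Set G) : Set G) := le_normalizer hcs
      rw [mem_normalizer_iff_cj] at e1 e2 ⊢
      rw [cj_inf, e1, e2]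
  exact hQ ⟨hx, mem_centralizer_singleton_iff.mpr hxs⟩

/-- The form of Bender's theorem (S0222) used for big components. -/
def BenderSimple.{u} : Prop :=
  ∀ (Y : Type u) [Group Y] [Finite Y] [IsSimpleGroup Y], (∃ a b : Y, a * b ≠ b * a) →
    ∀ H : Subgroup Y, IsStronglyEmbedded H → ANFactBigCent.BenderList Y

/-- Big components have no strongly embedded subgroups modulo the core. -/
theorem big_no_se.{u} {G : Type u} [Group G] [Finite G] (hBen : BenderSimple.{u}) {m : ℕ} {u : G}
    {J M : Subgroup G} (hB : Big m u J M) (hu : orderOf u = 2) (huJ : u ∈ J)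
    (hJ : IsComp (M ⊓ Subgroup.centralizer ({u} : Set G)) J)
    (hcov : IsNonsplitDoubleCover (↥J ⧸ oddCore ↥J) ↥(alternatingGroup (Fin m)))
    (S : Subgroup (↥M ⧸ oddCore ↥M)) : ¬ IsStronglyEmbedded S := by
  have huM := hB.mem
  have huu : u * u = 1 := by rw [← pow_two, ← hu, pow_orderOf_eq_one]
  have hu1 : u ≠ 1 := by rintro rfl; simp at hu
  have hp := isPair_quot huu hu1 huJ huM hJ hcov
  obtain ⟨huM', hT⟩ := id hB
  have hs : IsSimpleGroup (↥M ⧸ oddCore ↥M) := hT.2.1
  refine ANFactBigCent.Target.no_se hT hp (fun H hH => hBen _ ?_ H hH) S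
  -- non-commutativity
  by_contra hc
  push Not at hc
  obtain ⟨K, -⟩ := ANFactBigCent.Target.exists_cover hT hp
  obtain ⟨σ, hσ, hσ2, hσ8⟩ := ANFactBigCent.exists_perm_eight (n := m) (by have := hT.1; omega)
  obtain ⟨g, hg⟩ := K.exists_lift hσ
  obtain ⟨w, hw⟩ := K.exists_conj_mul_z (g := g) (by rw [hg, hσ2]) (by
    rw [hg]
    rintro rfl
    rw [Equiv.Perm.support_one, Finset.card_empty] at hσ8
    exact absurd hσ8 (by norm_num))
  have h2 : w * g * w⁻¹ = g := by
    have h3 : w * g = g * w := Subtype.ext (hc w g)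
    rw [h3, mul_inv_cancel_right]
  exact K.mul_z_ne g (hw.symm.trans h2)

end Cfsg.Agent.Intrinsic.BigBal
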