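import Cfsg.Agent.Intrinsic.TypeF

/-!
# S1738, (3.G)(i)

If `v` moves `X ∈ Ω_u` then the two diagonals `C_{X X^v}(v)^∞` and `C_{X' X'^u}(u)^∞` coincide.
-/

set_option autoImplicit false

open Cfsg Subgroup Equiv
open Cfsg.Agent.SignalizersComponents
open Cfsg.Agent.SignalizersComponents.IntrinsicBasic
open Cfsg.Agent.Intrinsic.Basic Cfsg.Agent.Intrinsic.Cen Cfsg.Agent.Intrinsic.Quot
open Cfsg.Agent.Intrinsic.Diag Cfsg.Agent.Intrinsic.TypesDef Cfsg.Agent.Intrinsic.TypeF
open scoped commutatorElement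

namespace Cfsg.Agent.Intrinsic.TypeGOne

section

variable {G : Type*} [Group G] [Finite G]

omit [Finite G] in
theorem mk_mem_center {M : Subgroup G} {a : G} (ha : a ∈ M) (hf : Fixes a M) :
    (QuotientGroup.mk ⟨a, ha⟩ : ↥M ⧸ oddCore ↥M) ∈ center (↥M ⧸ oddCore ↥M) := by
  rw [mem_center_iff]
  intro x
  obtain ⟨⟨x, hx⟩, rfl⟩ := QuotientGroup.mk_surjective x
  rw [mk_comm_iff]
  exact (fixes_iff_conj.mp hf).2 x hx

/-- commuting involutions of `M` fixing `M` are equal if `M / O(M) = 2.A_m` -/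
theorem eq_of_fixes {m : ℕ} {M : Subgroup G}
    (hcov : IsNonsplitDoubleCover (↥M ⧸ oddCore ↥M) ↥(alternatingGroup (Fin m))) {a b : G}
    (ha : a ∈ M) (hb : b ∈ M) (ha2 : a * a = 1) (hb2 : b * b = 1) (ha1 : a ≠ 1) (hb1 : b ≠ 1)
    (hfa : Fixes a M) (hfb : Fixes b M) (hab : a * b = b * a) : a = b := by
  obtain ⟨w, hw1, hw2⟩ := (Nat.card_eq_two_iff' (1 : center (↥M ⧸ oddCore ↥M))).mp hcov.1
  have e1 := hw2 ⟨_, mk_mem_center ha hfa⟩ (by
    intro h
    exact ha1 (eq_one_of_mem_core_sq ((mk_eq_one_iff ha).mp (congrArg Subtype.val h)) ha2))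
  have e2 := hw2 ⟨_, mk_mem_center hb hfb⟩ (by
    intro h
    exact hb1 (eq_one_of_mem_core_sq ((mk_eq_one_iff hb).mp (congrArg Subtype.val h)) hb2))
  have e3 := congrArg Subtype.val (e1.trans e2.symm)
  have e4 := (mk_eq_mk_iff' ha hb).mp e3
  have hai : a⁻¹ = a := inv_eq_of_mul_eq_one_left ha2
  have e5 : a⁻¹ * b = 1 := by
    apply eq_one_of_mem_core_sq e4
    rw [hai]
    calc a * b * (a * b) = a * b * (b * a) := by rw [hab]
      _ = a * (b * b) * a := by group
      _ = 1 := by rw [hb2, mul_one, ha2]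
  exact (inv_mul_eq_one.mp e5)

end

section

variable {G : Type*} [Group G] [Finite G] {n : ℕ} {z : G} {L : Subgroup G}

theorem card_lt_of_comp {x : G} (hx : centralizer ({x} : Set G) ≠ ⊤) {R : Subgroup G}
    (hR : R ≤ centralizer ({x} : Set G)) : Nat.card R < Nat.card G := by
  have h1 : R ≠ ⊤ := by
    intro h
    apply hx
    rw [eq_top_iff, ← h]
    exact hR
  have h2 := Subgroup.card_le_card_group R
  rcases h2.lt_or_eq with h | h
  · exact h
  · exact absurd (Subgroup.eq_top_of_card_eq R h) h1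

end

section

variable {G : Type*} [Group G] [Finite G] {n : ℕ} {z : G} {L : Subgroup G}

/-- `E` is the only 2-component of `C(x) ∩ C(e)` below its pump-up in `C(x)`. -/
theorem unique_in_pump (hW : World n z L) {x e : G} (hx : orderOf x = 2) (he : orderOf e = 2)
    {E R E' : Subgroup G} (heE : e ∈ E)
    (hE : IsComp (centralizer ({x} : Set G) ⊓ centralizer ({e} : Set G)) E)
    (hcov : IsNonsplitDoubleCover (↥E ⧸ oddCore ↥E) ↥(alternatingGroup (Fin n)))
    (hR : IsComp (centralizer ({x} : Set G)) R) (hER : E ≤ R)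
    (hE' : IsComp (centralizer ({x} : Set G) ⊓ centralizer ({e} : Set G)) E') (hE'R : E' ≤ R) :
    E' = E := by
  have h := small_or_big hW.ih hW.le he heE hE hcov hR hER (card_lt_of_comp (hW.cent x hx) hR.le)
  apply hE'.eq_of_le hE
  apply hE'.le_of_two
  intro k hk m hm
  exact mem_of_comm_two h (isComp_inf hE hR hER) (hE'R hk)
    (mem_centralizer_singleton_iff.mp (hE'.le hk).2) hm

omit [Finite G] in
theorem order_two {x : G} (hx2 : x * x = 1) (hx1 : x ≠ 1) : orderOf x = 2 :=
  orderOf_eq_prime (by rw [pow_two]; exact hx2) hx1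

/-- **(3.G)(i)** -/
theorem diag_eq (hW : World n z L) (hs : HasSqrt z L) {u v : G} {X X' : Subgroup G} (hne : u ≠ v)
    (huv : u * v = v * u) (hX : Om z L u X) (hX' : Om z L v X') (hmove : cj v X ≠ X) {x : G}
    (hxX : x ∈ X) (hx2 : x * x = 1) (hx1 : x ≠ 1) (hxu : x ≠ u)
    (hxv : x * (v * x * v⁻¹) = (v * x * v⁻¹) * x) :
    diag (centralizer ({u} : Set G)) X v = diag (centralizer ({v} : Set G)) X' u := by
  by_contra hEE
  have hpu := hX.pair hW.pair
  have hpv := hX'.pair hW.pair
  have hmove' := typeF hW.pair hs hne huv hX hX' hmove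
  have hvCu : v ∈ centralizer ({u} : Set G) := mem_centralizer_singleton_iff.mpr huv.symm
  have huCv : u ∈ centralizer ({v} : Set G) := mem_centralizer_singleton_iff.mpr huv
  have hv2 := hpv.sq
  have hu2 := hpu.sq
  have hvi : v⁻¹ = v := inv_eq_of_mul_eq_one_left hv2
  have hui : u⁻¹ = u := inv_eq_of_mul_eq_one_left hu2
  have hxi : x⁻¹ = x := inv_eq_of_mul_eq_one_left hx2
  have hxu' : x * u = u * x := pair_comm hpu hxX
  have huvi : u * v * u⁻¹ = v := by rw [huv, mul_inv_cancel_right]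
  have huxi : u * x * u⁻¹ = x := by rw [← hxu', mul_inv_cancel_right]
  -- the element `e`
  obtain ⟨e, he⟩ : ∃ e, e = x * (v * x * v⁻¹) := ⟨_, rfl⟩
  have hxvx : x * v * x⁻¹ = v * e := by
    rw [he, hxv, hxi, hvi]
    calc x * v * x = (v * v) * x * v * x := by rw [hv2, one_mul]
      _ = _ := by group
  have hev : e * v = v * e := by
    rw [← hxvx, he, hxi, mul_assoc, inv_mul_cancel_right, mul_assoc]
  have hex : e * x = x * e := by
    rw [he]
    nth_rewrite 1 [hxv]
    rw [mul_assoc, hx2, mul_one, ← mul_assoc, hx2, one_mul]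
  have hee : e * e = 1 := by
    calc e * e = (x * (v * x * v⁻¹)) * ((v * x * v⁻¹) * x) := by rw [← hxv, ← he]
      _ = x * v * (x * x) * v⁻¹ * x := by group
      _ = 1 := by rw [hx2, mul_one, mul_inv_cancel_right, hx2]
  have heu : e * u = u * e := by
    rw [he]
    calc x * (v * x * v⁻¹) * u = x * v * x * (v⁻¹ * u) := by group
      _ = x * v * x * (u * v⁻¹) := by rw [hvi, huv]
      _ = x * v * (x * u) * v⁻¹ := by group
      _ = x * (v * u) * x * v⁻¹ := by rw [hxu']; group
      _ = x * (u * v) * x * v⁻¹ := by rw [huv]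
      _ = (x * u) * v * x * v⁻¹ := by group
      _ = u * (x * (v * x * v⁻¹)) := by rw [hxu']; group
  have huei : u * e * u⁻¹ = e := by rw [← heu, mul_inv_cancel_right]
  have hX2 : IsComp (centralizer ({u} : Set G)) (cj v X) := isComp_cj_of_mem hpu.comp hvCu
  have he1 : e ≠ 1 := by
    intro h
    rw [he] at h
    have h1 : v * x * v⁻¹ = x := by
      have := inv_eq_of_mul_eq_one_right h
      rw [← this, hxi]
    have h2 : x ∈ cj v X := by
      have := conj_mem_cj (g := v) hxX
      rwa [h1] at this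
    have h3 : Fixes x X := hpu.comp.fixes_of_mem hX2 (Ne.symm hmove) h2
    have h4 : Fixes u X := by
      rw [fixes_iff_conj]
      refine ⟨le_normalizer hpu.mem, fun y hy => ?_⟩
      have : u * y * u⁻¹ = y := by rw [← pair_comm hpu hy, mul_inv_cancel_right]
      rw [this, inv_mul_cancel]
      exact one_mem _
    exact hxu (eq_of_fixes hpu.cover hxX hpu.mem hx2 hu2 hx1 hpu.ne_one h3 h4 hxu')
  have hxo := order_two hx2 hx1
  have heo := order_two hee he1
  have heCu : e ∈ centralizer ({u} : Set G) := mem_centralizer_singleton_iff.mpr heu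
  have heCv : e ∈ centralizer ({v} : Set G) := mem_centralizer_singleton_iff.mpr hev
  have huCe : u ∈ centralizer ({e} : Set G) := mem_centralizer_singleton_iff.mpr heu.symm
  have hvCe : v ∈ centralizer ({e} : Set G) := mem_centralizer_singleton_iff.mpr hev.symm
  have hxCe : x ∈ centralizer ({e} : Set G) := mem_centralizer_singleton_iff.mpr hex.symm
  have hxCu : x ∈ centralizer ({u} : Set G) := mem_centralizer_singleton_iff.mpr hxu'
  have huCx : u ∈ centralizer ({x} : Set G) := mem_centralizer_singleton_iff.mpr hxu'.symm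
  -- the two diagonals
  obtain ⟨hE, -, -, -, -⟩ := exists_diag hpu.comp hvCu hv2 hmove
  obtain ⟨hE', -, -, hE'core, -⟩ := exists_diag hpv.comp huCv hu2 hmove'
  have hE2 : IsComp (centralizer ({v} : Set G) ⊓ centralizer ({u} : Set G))
      (diag (centralizer ({u} : Set G)) X v) := by rw [inf_comm]; exact hE
  have heE : e ∈ diag (centralizer ({u} : Set G)) X v :=
    mem_diag heCu hev hxX (by rw [← he, inv_mul_cancel]; exact one_mem _) (n := 1)
      (by rw [pow_one, pow_two]; exact hee)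
  have hL2 := isComp_le_L2 huCv hu2 hE2
  have heX' : e ∈ normalizer (X' : Set G) := hpv.comp.L2_le_normalizer (hL2 heE)
  have heX'2 : e ∈ normalizer (cj u X' : Set G) :=
    (isComp_cj_of_mem hpv.comp huCv).L2_le_normalizer (hL2 heE)
  have hfe : Fixes e X' := by
    refine fixes_of_comm_diag hpv.comp huCv hu2 hmove' heCv heX' heX'2 fun m hm => ?_
    have h1 := hE2.comm_le_core hE' hEE (commutator_mem_commutator heE hm)
    have h2 := h1.2
    rw [hE'core] at h2
    exact h2.2
  -- the pump-up in `C(e)`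
  obtain ⟨N, hN, hJN, hvN⟩ := exists_pump hpv hee hev hfe
  obtain ⟨hJ, hJsup⟩ := isComp_cen hpv.comp heCv hee hfe
  have hJcov := (cover_cen hpv.comp heCv hee hfe (C := ↥(alternatingGroup (Fin n)))).mpr hpv.cover
  have hvJ : v ∈ cen X' e := pair_mem_cen hpv hev
  have hJ2 : IsComp (centralizer ({e} : Set G) ⊓ centralizer ({v} : Set G)) (cen X' e) := by
    rw [inf_comm]; exact hJ
  have hN3 : IsComp (centralizer ({e} : Set G)) (cj u N) := isComp_cj_of_mem hN huCe
  have hN13 : cj u N ≠ N := by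
    intro h
    have h1 : IsComp (centralizer ({e} : Set G) ⊓ centralizer ({v} : Set G)) (cj u (cen X' e)) :=
      isComp_cj_of_mem hJ2 ⟨huCe, huCv⟩
    have h2 : cj u (cen X' e) ≤ N := by
      have := cj_mono (g := u) hJN
      rwa [h] at this
    have h3 := unique_in_pump hW heo hpv.inv hvJ hJ2 hJcov hN hJN h1 h2
    apply hmove'
    refine hJ.unique (isComp_cj_of_mem hpv.comp huCv) hpv.comp ?_ (cen_le X' e)
    rw [← h3]
    exact cj_mono (cen_le X' e)
  have hvN3 : v ∈ cj u N := by
    have := conj_mem_cj (g := u) hvN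
    rwa [huvi] at this
  have hfv : Fixes v N := hN.fixes_of_mem hN3 (Ne.symm hN13) hvN3
  have hJcen : cen X' e = cen N v := by
    apply hJ2.eq_of_le (isComp_cen hN hvCe hv2 hfv).1
    apply hJ2.le_of_two
    intro k hk m hm
    exact mem_cen (hJN hk) (mem_centralizer_singleton_iff.mp (hJ2.le hk).2) hm
  have hcovN : IsNonsplitDoubleCover (↥N ⧸ oddCore ↥N) ↥(alternatingGroup (Fin n)) := by
    rw [← cover_cen hN hvCe hv2 hfv, ← hJcen]
    exact hJcov
  -- `v e` lies in `N ^ x`
  have hve2 : (v * e) * (v * e) = 1 := by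
    calc (v * e) * (v * e) = v * (e * v) * e := by group
      _ = (v * v) * (e * e) := by rw [hev]; group
      _ = 1 := by rw [hv2, hee, one_mul]
  have hve1 : v * e ≠ 1 := by
    rw [← hxvx]
    intro h
    apply hpv.ne_one
    calc v = x⁻¹ * (x * v * x⁻¹) * x := by group
      _ = 1 := by rw [h]; group
  have hvve : v * (v * e) = (v * e) * v := by
    rw [mul_assoc v e v, hev]
  have hveN2 : v * e ∈ cj x N := by
    rw [← hxvx]; exact conj_mem_cj hvN
  have hfve : Fixes (v * e) (cj x N) := by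
    rw [← hxvx]; exact hfv.cj x
  have hne_ve : v ≠ v * e := fun h => he1 (mul_eq_left.mp h.symm)
  have hN12 : cj x N ≠ N := by
    intro h
    rw [h] at hveN2 hfve
    exact hne_ve (eq_of_fixes hcovN hvN hveN2 hv2 hve2 hpv.ne_one hve1 hfv hfve hvve)
  have hN32 : cj u N ≠ cj x N := by
    intro h
    rw [← h] at hveN2 hfve
    have hfv3 : Fixes v (cj u N) := by
      have := hfv.cj u
      rwa [huvi] at this
    exact hne_ve (eq_of_fixes (cover_congr (cjQuot u N) hcovN) hvN3 hveN2 hv2 hve2 hpv.ne_one hve1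
      hfv3 hfve hvve)
  -- the diagonal of `N N ^ x`
  obtain ⟨hG, -, -, -, f, hfsurj, hfker, -, hfone⟩ := exists_diag hN hxCe hx2 hN12
  have hvxv : v * (x * v * x⁻¹) = e := by rw [hxvx, ← mul_assoc, hv2, one_mul]
  have heG : e ∈ diag (centralizer ({e} : Set G)) N x :=
    mem_diag (mem_centralizer_singleton_iff.mpr rfl) hex hvN
      (by rw [hvxv, inv_mul_cancel]; exact one_mem _) (n := 1)
      (by rw [pow_one, pow_two]; exact hee)
  have hfv1 : f (QuotientGroup.mk ⟨v, hvN⟩) ≠ 1 := by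
    intro h
    have h1 := (hfone ⟨v, hvN⟩).mp h
    change v * (x * v * x⁻¹) ∈ _ at h1
    rw [hvxv] at h1
    exact he1 (eq_one_of_mem_core_sq h1 hee)
  have hfinj : Function.Injective f := by
    rw [injective_iff_map_eq_one]
    intro a ha
    by_contra ha1
    obtain ⟨w, hw1, hw2⟩ := (Nat.card_eq_two_iff' (1 : center (↥N ⧸ oddCore ↥N))).mp hcovN.1
    have e1 := hw2 ⟨_, mk_mem_center hvN hfv⟩ (by
      intro h
      exact hpv.ne_one (eq_one_of_mem_core_sq
        ((mk_eq_one_iff hvN).mp (congrArg Subtype.val h)) hv2))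
    have e2 := hw2 ⟨a, hfker (by rw [MonoidHom.mem_ker]; exact ha)⟩ (by
      intro h
      exact ha1 (congrArg Subtype.val h))
    have e3 := congrArg Subtype.val (e1.trans e2.symm)
    apply hfv1
    change (QuotientGroup.mk ⟨v, hvN⟩ : ↥N ⧸ oddCore ↥N) = a at e3
    rw [e3, ha]
  have hGcov : IsNonsplitDoubleCover (↥(diag (centralizer ({e} : Set G)) N x) ⧸
      oddCore ↥(diag (centralizer ({e} : Set G)) N x)) ↥(alternatingGroup (Fin n)) :=
    cover_congr (MulEquiv.ofBijective f ⟨hfinj, hfsurj⟩) hcovN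
  have hG2 : IsComp (centralizer ({x} : Set G) ⊓ centralizer ({e} : Set G))
      (diag (centralizer ({e} : Set G)) N x) := by rw [inf_comm]; exact hG
  -- its pump-up in `C(x)`
  obtain ⟨R, hR, hGR⟩ := exists_pumpup hee heG hG2
  have hcjG : cj u (diag (centralizer ({e} : Set G)) N x) =
      diag (centralizer ({e} : Set G)) (cj u N) x := by
    rw [cj_diag, cj_eq_self_of_mem huCe, huxi]
  have hRu : cj u R ≠ R := by
    intro h
    have h1 : IsComp (centralizer ({x} : Set G) ⊓ centralizer ({e} : Set G))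
        (cj u (diag (centralizer ({e} : Set G)) N x)) := isComp_cj_of_mem hG2 ⟨huCx, huCe⟩
    have h2 : cj u (diag (centralizer ({e} : Set G)) N x) ≤ R := by
      have := cj_mono (g := u) hGR
      rwa [h] at this
    have h3 := unique_in_pump hW hxo heo heG hG2 hGcov hR hGR h1 h2
    rw [hcjG] at h3
    refine diag_ne hN hxCe hx2 hN12 hN3 ?_ hN13 hN32 h3
    intro h4
    rw [← cj_mul, hxu', cj_mul] at h4
    exact hN12 (cj_injective u h4)
  -- but `u` normalizes `R`
  apply hRu
  have hX2p := (hX.cj_of_comm (g := v) huv.symm).pair hW.pair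
  have hfx : Fixes x (cj v X) := hX2.fixes_of_mem hpu.comp hmove hxX
  have h5 := (isComp_cen hX2 hxCu hx2 hfx).1
  rw [inf_comm] at h5
  have h6 := isComp_le_L2 huCx hu2 h5
  exact mem_normalizer_iff_cj.mp (hR.L2_le_normalizer (h6 (pair_mem_cen hX2p hxu')))

end

end Cfsg.Agent.Intrinsic.TypeGOne
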