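import Cfsg.Agent.Intrinsic.NZGlue
import Cfsg.Agent.Intrinsic.WOne.NZTwo

/-!
# S1738: the world W1 without pairs of type (0)
-/

set_option autoImplicit false

namespace Cfsg.Agent.Intrinsic.NZFinal

open Cfsg Cfsg.Agent.Intrinsic.WOne

universe u

/-- **The world W1 without pairs of type (0).** -/
theorem nzStmt (hBen : BigBal.BenderSimple.{u}) (ft : NineCore.NoTarget.FTStatement.{u})
    (hC1 : ∀ (G : Type u) [Group G] [Finite G], WOne.COne G) : Final.NZStmt.{u} :=
  NZGlue.nzStmt hBen ft fun G _ _ _ _ _ _ h hz _ hu _ _ h2 hc hf => h.eq_of_fixes_two hBen (hC1 G) hz hu h2 hc hf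

end Cfsg.Agent.Intrinsic.NZFinal
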