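import Cfsg.Agent.Intrinsic.Functor
import Cfsg.Agent.Intrinsic.WOneA.Block

/-!
# S1738, (5b.1) : the cores in the world with pairs of type (0)

`hW` : for a `Frame` with one pair of type (0) there are odd subgroups `W u ⊇ O(C(u))` (`u ∈ D`), with
`W (u^g) = (W u)^g` and `W u = W v` for commuting `u, v ∈ D`.
-/

set_option autoImplicit false

namespace Cfsg.Agent.Intrinsic.FunctorFrame

open Subgroup Cfsg Cfsg.Agent.Intrinsic.Functor
open Cfsg.Agent.Intrinsic.WOneA
open Cfsg.Agent.SignalizersComponents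
open Cfsg.Agent.SignalizersComponents.PLayerAut
open Cfsg.Agent.SignalizersComponents.IntrinsicBasic
open scoped commutatorElement

universe u

variable {G : Type u} [Group G]

/-! ### four-groups -/

theorem mem_four {a b : G} (ha : a * a = 1) (hb : b * b = 1) (hab : Commute a b) {x : G} :
    x ∈ closure ({a, b} : Set G) ↔ x = 1 ∨ x = a ∨ x = b ∨ x = a * b := by
  have hab' : b * a = a * b := hab.eq.symm
  constructor
  · intro hx
    induction hx using Subgroup.closure_induction with
    | mem x hx =>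
      rcases hx with rfl | hx
      · exact Or.inr (Or.inl rfl)
      · rw [Set.mem_singleton_iff] at hx
        exact Or.inr (Or.inr (Or.inl hx))
    | one => exact Or.inl rfl
    | mul x y _ _ hx hy =>
      have e1 : a * (a * b) = b := by rw [← mul_assoc, ha, one_mul]
      have e2 : b * (a * b) = a := by
        rw [← hab', ← mul_assoc, hb, one_mul]
      have e3 : a * b * a = b := by rw [mul_assoc, hab', e1]
      have e4 : a * b * b = a := by rw [mul_assoc, hb, mul_one]
      have e5 : a * b * (a * b) = 1 := by rw [mul_assoc, e2, ha]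
      rcases hx with rfl | rfl | rfl | rfl <;> rcases hy with rfl | rfl | rfl | rfl <;>
        simp [ha, hb, e1, e2, e3, e4, e5, hab']
    | inv x _ hx =>
      have ia : a⁻¹ = a := inv_eq_of_mul_eq_one_left ha
      have ib : b⁻¹ = b := inv_eq_of_mul_eq_one_left hb
      rcases hx with rfl | rfl | rfl | rfl
      · simp
      · rw [ia]; simp
      · rw [ib]; simp
      · rw [mul_inv_rev, ia, ib, hab']; simp
  · rintro (rfl | rfl | rfl | rfl)
    · exact one_mem _
    · exact subset_closure (by simp)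
    · exact subset_closure (by simp)
    · exact mul_mem (subset_closure (by simp)) (subset_closure (by simp))

theorem card_four {a b : G} (ha : a * a = 1) (hb : b * b = 1) (hab : Commute a b) (ha1 : a ≠ 1)
    (hb1 : b ≠ 1) (hne : a ≠ b) : Nat.card ↥(closure ({a, b} : Set G)) = 4 := by
  classical
  have hc1 : a * b ≠ 1 := fun h => hne (by
    have := eq_inv_of_mul_eq_one_left h
    rw [this]; exact inv_eq_of_mul_eq_one_left hb)
  have hca : a * b ≠ a := fun h => hb1 (by simpa using h)
  have hcb : a * b ≠ b := fun h => ha1 (by simpa using h)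
  have e : ((closure ({a, b} : Set G) : Subgroup G) : Set G) = (({1, a, b, a * b} : Finset G) : Set G) := by
    ext x
    rw [SetLike.mem_coe, mem_four ha hb hab]
    simp
  have h1 : Nat.card ↥(closure ({a, b} : Set G)) = ({1, a, b, a * b} : Finset G).card := by
    have h2 : Nat.card ↥(closure ({a, b} : Set G)) =
        ((closure ({a, b} : Set G) : Subgroup G) : Set G).ncard := Nat.card_coe_set_eq _
    rw [h2, e, Set.ncard_coe_finset]
  rw [h1]
  rw [Finset.card_insert_of_notMem, Finset.card_insert_of_notMem, Finset.card_insert_of_notMem,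
    Finset.card_singleton]
  · simpa using hcb.symm
  · simp [hne, hca.symm]
  · simp [ha1.symm, hb1.symm, hc1.symm]

theorem cj_four (g a b : G) :
    cj g (closure ({a, b} : Set G)) = closure ({g * a * g⁻¹, g * b * g⁻¹} : Set G) := by
  rw [cj_def, MonoidHom.map_closure, Set.image_pair]
  rfl

theorem comm_four {a b : G} (ha : a * a = 1) (hb : b * b = 1) (hab : Commute a b) :
    ∀ x ∈ closure ({a, b} : Set G), ∀ y ∈ closure ({a, b} : Set G), x * y = y * x := by
  have h1 : closure ({a, b} : Set G) ≤ centralizer ({a, b} : Set G) := by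
    rw [closure_le]
    intro x hx
    rw [SetLike.mem_coe, mem_centralizer_iff]
    intro y hy
    rcases hx with rfl | hx <;> rcases hy with rfl | hy
    · rfl
    · rw [Set.mem_singleton_iff] at hy; subst hy; exact hab.eq.symm
    · rw [Set.mem_singleton_iff] at hx; subst hx; exact hab.eq
    · rw [Set.mem_singleton_iff] at hx hy; subst hx; subst hy; rfl
  intro x hx y hy
  have h2 : closure ({a, b} : Set G) ≤ centralizer ({x} : Set G) := by
    rw [closure_le]
    intro y hy
    rw [SetLike.mem_coe, mem_centralizer_singleton_iff]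
    exact (mem_centralizer_iff.mp (h1 hx) y hy)
  exact (mem_centralizer_singleton_iff.mp (h2 hy)).symm

theorem sq_four {a b : G} (ha : a * a = 1) (hb : b * b = 1) (hab : Commute a b) :
    ∀ x ∈ closure ({a, b} : Set G), x ^ 2 = 1 := by
  intro x hx
  rw [pow_two]
  rcases (mem_four ha hb hab).mp hx with rfl | rfl | rfl | rfl
  · exact one_mul 1
  · exact ha
  · exact hb
  · calc a * b * (a * b) = a * (b * a) * b := by group
      _ = a * (a * b) * b := by rw [hab.eq]
      _ = (a * a) * (b * b) := by group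
      _ = 1 := by rw [ha, hb, one_mul]

theorem elem_four {a b : G} (ha : a * a = 1) (hb : b * b = 1) (hab : Commute a b) :
    IsElementaryAbelian 2 (closure ({a, b} : Set G)) :=
  ⟨⟨⟨fun x y => Subtype.ext (comm_four ha hb hab x x.2 y y.2)⟩⟩, sq_four ha hb hab⟩

/-! ### the four-groups `⟨u, t⟩` -/

variable {F : Frame G}

/-- `t` is an involution of `L u` different from `u` -/
structure Pr (F : Frame G) (u t : G) : Prop where
  left : u ∈ F.D
  mem : t ∈ F.L u
  ord : orderOf t = 2
  ne : t ≠ u

namespace Pr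

variable {u t : G} (h : Pr F u t)

include h

theorem uu : u * u = 1 := mul_self_of_order (F.ord u h.left)

theorem tt : t * t = 1 := mul_self_of_order h.ord

theorem u1 : u ≠ 1 := ne_one_of_order (F.ord u h.left)

theorem t1 : t ≠ 1 := ne_one_of_order h.ord

theorem comm : Commute u t := (mem_Ce.mp (F.L_le h.left h.mem)).symm

theorem right : t ∈ F.D := (F.invol u h.left t h.mem h.ord).1

theorem swap : Pr F t u := ⟨h.right, (F.invol u h.left t h.mem h.ord).2, F.ord u h.left, h.ne.symm⟩

theorem mul_ord : orderOf (u * t) = 2 := by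
  apply order_two
  · have := sq_four h.uu h.tt h.comm (u * t)
      (mul_mem (subset_closure (by simp)) (subset_closure (by simp)))
    rwa [pow_two] at this
  · intro e
    apply h.ne
    have e1 : u = t⁻¹ := eq_inv_of_mul_eq_one_left e
    rw [e1, inv_eq_of_order h.ord]

theorem mul_mem' : u * t ∈ F.L u := mul_mem (F.self_mem u h.left) h.mem

theorem mul : Pr F u (u * t) := ⟨h.left, h.mul_mem', h.mul_ord, fun e => h.t1 (by simpa using e)⟩

theorem cj (g : G) : Pr F (g * u * g⁻¹) (g * t * g⁻¹) := by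
  refine ⟨F.conj u h.left g, ?_, ?_, ?_⟩
  · rw [F.L_conj u h.left g]; exact conj_mem_cj h.mem
  · rw [orderOf_cj]; exact h.ord
  · intro e
    apply h.ne
    have := congrArg (fun y => g⁻¹ * y * g) e
    simpa [mul_assoc] using this

theorem elem : IsElementaryAbelian 2 (closure ({u, t} : Set G)) := elem_four h.uu h.tt h.comm

theorem card : Nat.card ↥(closure ({u, t} : Set G)) = 4 :=
  card_four h.uu h.tt h.comm h.u1 h.t1 h.ne.symm

/-- the nontrivial elements are in `D` and the four-group is in their `L` -/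
theorem of_mem {a : G} (ha : a ∈ closure ({u, t} : Set G)) (ha1 : a ≠ 1) :
    a ∈ F.D ∧ closure ({u, t} : Set G) ≤ F.L a := by
  have key : ∀ b : G, b ∈ F.D → u ∈ F.L b → t ∈ F.L b → closure ({u, t} : Set G) ≤ F.L b := by
    intro b _ h1 h2
    rw [closure_le]
    rintro x (rfl | hx)
    · exact h1
    · rw [Set.mem_singleton_iff] at hx; rw [hx]; exact h2
  rcases (mem_four h.uu h.tt h.comm).mp ha with rfl | rfl | rfl | rfl
  · exact absurd rfl ha1
  · exact ⟨h.left, key _ h.left (F.self_mem _ h.left) h.mem⟩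
  · exact ⟨h.right, key _ h.right h.swap.mem (F.self_mem _ h.right)⟩
  · have h1 := h.mul.swap.mem
    have h2 := h.mul.right
    refine ⟨h2, key _ h2 h1 ?_⟩
    have h3 : u * (u * t) ∈ F.L (u * t) := mul_mem h1 (F.self_mem _ h2)
    rwa [← mul_assoc, h.uu, one_mul] at h3

theorem isPGroup : IsPGroup 2 (closure ({u, t} : Set G)) := isPGroup_of_sq h.elem.2

end Pr

/-! ### the configuration -/

/-- `⟨u, t⟩` and `⟨s, t'⟩`, commuting, of type (0) -/
structure Cfg (F : Frame G) (u t s t' : G) : Prop where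
  z : F.Z u s
  left : Pr F u t
  right : Pr F s t'
  us : Commute u t'
  ts : Commute t s
  tt : Commute t t'

namespace Cfg

variable {u t s t' : G}

theorem symm (h : Cfg F u t s t') : Cfg F s t' u t :=
  ⟨h.z.symm, h.right, h.left, h.ts.symm, h.us.symm, h.tt.symm⟩

variable (h : Cfg F u t s t')

include h

theorem comm_all {a b : G} (ha : a ∈ closure ({u, t} : Set G)) (hb : b ∈ closure ({s, t'} : Set G)) :
    Commute a b := by
  have h1 : closure ({u, t} : Set G) ≤ centralizer ({s, t'} : Set G) := by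
    rw [closure_le]
    intro x hx
    rw [SetLike.mem_coe, mem_centralizer_iff]
    intro y hy
    rcases hx with rfl | hx <;> rcases hy with rfl | hy
    · exact h.z.comm.eq.symm
    · rw [Set.mem_singleton_iff] at hy; subst hy; exact h.us.eq.symm
    · rw [Set.mem_singleton_iff] at hx; subst hx; exact h.ts.eq.symm
    · rw [Set.mem_singleton_iff] at hx hy; subst hx; subst hy; exact h.tt.eq.symm
  have h2 : closure ({s, t'} : Set G) ≤ centralizer ({a} : Set G) := by
    rw [closure_le]
    intro y hy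
    rw [SetLike.mem_coe, mem_centralizer_singleton_iff]
    exact (mem_centralizer_iff.mp (h1 ha) y hy)
  exact (mem_centralizer_singleton_iff.mp (h2 hb)).symm

/-- all pairs are of type (0), left part -/
theorem z_left {a : G} (ha : a ∈ closure ({u, t} : Set G)) (ha1 : a ≠ 1) : F.Z a s := by
  rcases (mem_four h.left.uu h.left.tt h.left.comm).mp ha with rfl | rfl | rfl | rfl
  · exact absurd rfl ha1
  · exact h.z
  · exact (h.z.inherit h.left.mem h.left.ord h.ts).1
  · exact (h.z.inherit h.left.mul_mem' h.left.mul_ord (h.z.comm.mul_left h.ts)).1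

theorem zz {a b : G} (ha : a ∈ closure ({u, t} : Set G)) (ha1 : a ≠ 1)
    (hb : b ∈ closure ({s, t'} : Set G)) (hb1 : b ≠ 1) : F.Z a b := by
  have h1 := (h.z_left ha ha1).symm
  have hc : ∀ x ∈ closure ({s, t'} : Set G), Commute x a := fun x hx => (h.comm_all ha hx).symm
  rcases (mem_four h.right.uu h.right.tt h.right.comm).mp hb with rfl | rfl | rfl | rfl
  · exact absurd rfl hb1
  · exact h1.symm
  · exact (h1.inherit h.right.mem h.right.ord (hc _ hb)).1.symm
  · exact (h1.inherit h.right.mul_mem' h.right.mul_ord (hc _ hb)).1.symm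

theorem inf_eq_bot : closure ({u, t} : Set G) ⊓ closure ({s, t'} : Set G) = ⊥ := by
  rw [eq_bot_iff]
  rintro x ⟨hx, hx'⟩
  rw [mem_bot]
  by_contra hx1
  exact (h.zz hx hx1 hx' hx1).ne rfl

end Cfg

variable [Finite G]

omit [Finite G] in
/-- a subgroup of `C(a)` centralizing a 2-component modulo core -/
theorem commutator_le_of_cenMod {X K A : Subgroup G} (hK : K ≤ X) (hA : A ≤ cenMod X K) :
    ⁅K, A⁆ ≤ relCore 2 X := by
  rw [Subgroup.commutator_le]
  intro k hk a ha
  have h1 := (mem_cenMod hK).mp (hA ha)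
  have h2 := h1.2 k⁻¹ (inv_mem hk)
  have h3 : ⁅k, a⁆ = k⁻¹⁻¹ * (a * k⁻¹ * a⁻¹) := by
    rw [commutatorElement_def]; group
  rw [h3]
  exact h2

theorem Cfg.separated {u t s t' : G} (h : Cfg F u t s t') :
    IsCoreSeparated (closure ({u, t} : Set G)) (closure ({s, t'} : Set G)) := by
  refine ⟨h.left.elem, h.right.elem, h.left.card, h.right.card, ?_, h.inf_eq_bot,
    fun x hx y hy => (h.comm_all hx hy).eq, ?_⟩
  · intro e
    have h1 := h.inf_eq_bot
    rw [← e, inf_idem] at h1
    have h2 := h.left.card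
    rw [h1, Subgroup.card_bot] at h2
    omega
  · intro a ha ha1 E hE
    have hE' : TC (Ce a) (E.map (Ce a).subtype) := by
      refine ⟨map_subtype_le _, ?_⟩
      have : (E.map (Ce a).subtype).subgroupOf (Ce a) = E :=
        Subgroup.comap_map_eq_self_of_injective (Ce a).subtype_injective _
      rw [this]
      exact hE
    change ⁅E.map (Ce a).subtype, _⁆ ≤ relCore 2 (Ce a) ∨ ⁅E.map (Ce a).subtype, _⁆ ≤ relCore 2 (Ce a)
    obtain ⟨a₁, ha₁, a₂, ha₂, hprod⟩ : ∃ a₁ ∈ closure ({u, t} : Set G),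
        ∃ a₂ ∈ closure ({s, t'} : Set G), a₁ * a₂ = a := by
      apply mem_sup_of_normalizes _ ha
      intro x hx
      rw [mem_normalizer_iff]
      intro y
      have hxy : ∀ y ∈ closure ({s, t'} : Set G), x * y * x⁻¹ = y := fun y hy =>
        conj_eq_of_commute (h.comm_all hx hy)
      constructor
      · intro hy; rw [hxy y hy]; exact hy
      · intro hy
        have h1 : x⁻¹ * (x * y * x⁻¹) * x⁻¹⁻¹ = x * y * x⁻¹ :=
          conj_eq_of_commute (h.comm_all (inv_mem hx) hy)
        have h2 : x⁻¹ * (x * y * x⁻¹) * x⁻¹⁻¹ = y := by group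
        rw [h2] at h1
        rw [h1]; exact hy
    -- a component different from `M` is centralized by the subgroups of `M`
    have key : ∀ M A : Subgroup G, TC (Ce a) M → A ≤ M → E.map (Ce a).subtype ≠ M →
        ⁅E.map (Ce a).subtype, A⁆ ≤ relCore 2 (Ce a) := by
      intro M A hM hA hne
      exact commutator_le_of_cenMod hE'.le (hA.trans (hE'.le_cenMod hM hne))
    by_cases e1 : a₁ = 1
    · subst e1
      rw [one_mul] at hprod
      subst hprod
      obtain ⟨hD, hL⟩ := h.right.of_mem ha₂ ha1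
      by_cases hne : E.map (Ce a₂).subtype = F.L a₂
      · left
        rw [hne]
        apply commutator_le_of_cenMod (F.L_le hD)
        intro x hx
        by_cases hx1 : x = 1
        · rw [hx1]; exact one_mem _
        · exact (h.zz hx hx1 ha₂ ha1).K_right
      · right
        exact key _ _ (F.L_comp _ hD) hL hne
    by_cases e2 : a₂ = 1
    · subst e2
      rw [mul_one] at hprod
      subst hprod
      obtain ⟨hD, hL⟩ := h.left.of_mem ha₁ ha1
      by_cases hne : E.map (Ce a₁).subtype = F.L a₁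
      · right
        rw [hne]
        apply commutator_le_of_cenMod (F.L_le hD)
        intro x hx
        by_cases hx1 : x = 1
        · rw [hx1]; exact one_mem _
        · exact (h.zz ha₁ ha1 hx hx1).K_left
      · left
        exact key _ _ (F.L_comp _ hD) hL hne
    have hz := h.zz ha₁ e1 ha₂ e2
    have ho : orderOf a = 2 := by rw [← hprod]; exact hz.orderOf_mul
    have hK1 : a ∈ F.K a₁ := by
      rw [← hprod]; exact mul_mem (F.self_mem_K hz.left) hz.K_left
    have hK2 : a ∈ F.K a₂ := by
      rw [← hprod]; exact mul_mem hz.K_right (F.self_mem_K hz.right)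
    have hne := hz.cmp_ne ho hK1 hK2
    have hL1 := (h.left.of_mem ha₁ e1).2
    have hL2 := (h.right.of_mem ha₂ e2).2
    have hA1 : closure ({u, t} : Set G) ≤ F.cmp a a₁ := by
      intro x hx
      refine F.mem_cmp a₁ hz.left a hK1 ho x (hL1 hx) 1 ?_ ?_
      · rw [pow_one]; exact h.left.elem.2 x hx
      · rw [← hprod]
        exact Commute.mul_right (comm_four h.left.uu h.left.tt h.left.comm x hx a₁ ha₁)
          (h.comm_all hx ha₂)
    have hA2 : closure ({s, t'} : Set G) ≤ F.cmp a a₂ := by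
      intro x hx
      refine F.mem_cmp a₂ hz.right a hK2 ho x (hL2 hx) 1 ?_ ?_
      · rw [pow_one]; exact h.right.elem.2 x hx
      · rw [← hprod]
        exact Commute.mul_right (h.comm_all ha₁ hx).symm
          (comm_four h.right.uu h.right.tt h.right.comm x hx a₂ ha₂)
    by_cases e : E.map (Ce a).subtype = F.cmp a a₁
    · right
      apply key _ _ (F.cmp_comp a₂ hz.right a hK2 ho) hA2
      rw [e]; exact hne
    · left
      exact key _ _ (F.cmp_comp a₁ hz.left a hK1 ho) hA1 e

theorem Cfg.bal {u t s t' : G} (h : Cfg F u t s t') :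
    ∀ a ∈ closure ({u, t} : Set G), a ≠ 1 →
      th a ⊓ centralizer ((closure ({s, t'} : Set G) : Subgroup G) : Set G) ≤
        relCore 2 (centralizer ((closure ({s, t'} : Set G) : Subgroup G) : Set G)) := by
  intro a ha ha1
  have hs : s ∈ closure ({s, t'} : Set G) := subset_closure (by simp)
  have hz := h.z_left ha ha1
  apply bal_of' hs
  rintro x ⟨hx, hx'⟩
  exact F.bal a hz.left s hz.right hz.ne hz.mem x hx (mem_centralizer_singleton_iff.mp hx')

theorem Cfg.main (FT : OddSol G) {u t s t' : G} (h : Cfg F u t s t') :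
    Odd (Nat.card (W (closure ({u, t} : Set G)))) ∧
      W (closure ({u, t} : Set G)) = W (closure ({s, t'} : Set G)) := by
  exact ⟨(closure_of_separated FT h.separated h.bal).1,
    eq_of_separated FT h.separated h.bal h.symm.bal⟩

/-! ### independence -/

theorem exists_conj_commute {u t : G} {V : Subgroup G} (h : Pr F u t) (hV : IsPGroup 2 V)
    (hVK : V ≤ F.K u) : ∃ o ∈ OC u, ∀ v ∈ V, Commute (o * t * o⁻¹) v := by
  have hR : IsPGroup 2 (zpowers t) := by
    have h1 : zpowers t ≤ closure ({u, t} : Set G) := by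
      rw [zpowers_le]; exact subset_closure (by simp)
    exact h.isPGroup.to_le h1
  have hCn : Ce u ≤ normalizer (OC u : Set G) :=
    le_normalizer.trans (normalizer_le_normalizer_relCore 2 _)
  have hRn : zpowers t ≤ normalizer (OC u : Set G) := by
    rw [zpowers_le]; exact hCn (F.L_le h.left h.mem)
  obtain ⟨y, hy, hyc⟩ := exists_commuting_conj (N := OC u) (R := zpowers t) (W := V)
    (odd_card_relCore _) hR hV hRn ((hVK.trans (F.K_le u)).trans hCn)
    (fun r hr w hw => ((F.mem_K h.left).mp (hVK hw)).2 r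
      ((zpowers_le.mpr h.mem : zpowers t ≤ F.L u) hr))
  obtain ⟨r, hr, n, hn, rfl⟩ := mem_sup_of_normalizes hRn hy
  refine ⟨r * n * r⁻¹, (mem_normalizer_iff.mp (hRn hr) n).mp hn, ?_⟩
  intro v hv
  have h1 : (r * n) * (r⁻¹ * t * r) * (r * n)⁻¹ ∈ cj (r * n) (zpowers t) := by
    apply conj_mem_cj
    exact mul_mem (mul_mem (inv_mem hr) (mem_zpowers t)) hr
  have h2 := hyc _ h1 v hv
  have h3 : r * n * r⁻¹ * t * (r * n * r⁻¹)⁻¹ = (r * n) * (r⁻¹ * t * r) * (r * n)⁻¹ := by group
  rw [h3]
  exact h2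

theorem W_conj_eq {u t o : G} (h : Pr F u t) (ho : o ∈ OC u) :
    Pr F u (o * t * o⁻¹) ∧
      W (closure ({u, o * t * o⁻¹} : Set G)) = W (closure ({u, t} : Set G)) := by
  have hoC : o ∈ Ce u := relCore_le 2 _ ho
  have hou : o * u * o⁻¹ = u := conj_eq_of_commute (mem_Ce.mp hoC)
  have h1 := h.cj o
  rw [hou] at h1
  refine ⟨h1, ?_⟩
  have h2 : closure ({u, o * t * o⁻¹} : Set G) = cj o (closure ({u, t} : Set G)) := by
    rw [cj_four, hou]
  rw [h2, ← cj_W]
  apply cj_eq_self_of_mem
  exact le_W (subset_closure (by simp)) h.u1 ho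

/-- independence of all choices -/
theorem W_eq (FT : OddSol G) {u t s t' : G} (hz : F.Z u s) (h : Pr F u t) (h' : Pr F s t') :
    Odd (Nat.card (W (closure ({u, t} : Set G)))) ∧
    W (closure ({u, t} : Set G)) = W (closure ({s, t'} : Set G)) := by
  -- make `t` commute with `s`
  have hsp : IsPGroup 2 (zpowers s) := by
    have h1 : zpowers s ≤ closure ({s, t'} : Set G) := by
      rw [zpowers_le]; exact subset_closure (by simp)
    exact h'.isPGroup.to_le h1
  obtain ⟨o, ho, hoc⟩ := exists_conj_commute h hsp (zpowers_le.mpr hz.mem)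
  obtain ⟨h1, e1⟩ := W_conj_eq h ho
  rw [← e1]
  obtain ⟨t₁, ht₁⟩ : ∃ t₁, t₁ = o * t * o⁻¹ := ⟨_, rfl⟩
  rw [← ht₁] at h1 hoc ⊢
  have hc1 : Commute t₁ s := hoc s (mem_zpowers s)
  -- make `t'` commute with `⟨u, t₁⟩`
  have hVK : closure ({u, t₁} : Set G) ≤ F.K s := by
    rw [closure_le]
    rintro x (rfl | hx)
    · exact hz.K_right
    · rw [Set.mem_singleton_iff] at hx
      subst hx
      exact (hz.inherit h1.mem h1.ord hc1).1.K_right
  obtain ⟨o', ho', hoc'⟩ := exists_conj_commute h' h1.isPGroup hVK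
  obtain ⟨h2, e2⟩ := W_conj_eq h' ho'
  rw [← e2]
  have hcfg : Cfg F u t₁ s (o' * t' * o'⁻¹) :=
    ⟨hz, h1, h2, (hoc' u (subset_closure (by simp))).symm, hc1,
      (hoc' t₁ (subset_closure (by simp))).symm⟩
  exact hcfg.main FT

/-- **(5b.1)** -/
theorem hW (FT : OddSol G) (F : Frame G) {u s : G} (h : F.Z u s) :
    ∃ W : G → Subgroup G, (∀ u ∈ F.D, Odd (Nat.card (W u))) ∧ (∀ u ∈ F.D, OC u ≤ W u) ∧
      (∀ u ∈ F.D, ∀ g, W (g * u * g⁻¹) = cj g (W u)) ∧
      (∀ u ∈ F.D, ∀ v ∈ F.D, Commute u v → W u = W v) := by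
  classical
  have hex : ∀ v ∈ F.D, ∃ s, F.Z v s := by
    intro v hv
    obtain ⟨g, rfl⟩ := F.one_class u h.left v hv
    exact ⟨_, h.conj g⟩
  have hpr : ∀ v ∈ F.D, ∃ t, Pr F v t := by
    intro v hv
    obtain ⟨t, h1, h2, h3, -⟩ := F.exists_inv v hv ⊥ (IsPGroup.of_bot) bot_le
    exact ⟨t, hv, h1, h2, h3⟩
  have hind : ∀ v t₁ t₂, Pr F v t₁ → Pr F v t₂ →
      W (closure ({v, t₁} : Set G)) = W (closure ({v, t₂} : Set G)) := by
    intro v t₁ t₂ h1 h2
    obtain ⟨s, hs⟩ := hex v h1.left
    obtain ⟨t', ht'⟩ := hpr s hs.right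
    rw [(W_eq FT hs h1 ht').2, (W_eq FT hs h2 ht').2]
  obtain ⟨Wf, hWf⟩ : ∃ Wf : G → Subgroup G, ∀ v t, Pr F v t →
      Wf v = W (closure ({v, t} : Set G)) := by
    refine ⟨fun v => if hv : ∃ t, Pr F v t then W (closure ({v, hv.choose} : Set G)) else ⊥, ?_⟩
    intro v t ht
    have hv : ∃ t, Pr F v t := ⟨t, ht⟩
    simp only [dif_pos hv]
    exact hind v _ _ hv.choose_spec ht
  refine ⟨Wf, ?_, ?_, ?_, ?_⟩
  · intro v hv
    obtain ⟨t, ht⟩ := hpr v hv
    obtain ⟨s, hs⟩ := hex v hv
    obtain ⟨t', ht'⟩ := hpr s hs.right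
    rw [hWf v t ht]
    exact (W_eq FT hs ht ht').1
  · intro v hv
    obtain ⟨t, ht⟩ := hpr v hv
    rw [hWf v t ht]
    exact le_W (subset_closure (by simp)) ht.u1
  · intro v hv g
    obtain ⟨t, ht⟩ := hpr v hv
    rw [hWf v t ht, hWf _ _ (ht.cj g), cj_W, cj_four]
  · intro v hv w hw hc
    by_cases e : v = w
    · rw [e]
    rcases F.split v hv w hw hc with h1 | h1
    · have hp : Pr F v w := ⟨hv, h1, F.ord w hw, Ne.symm e⟩
      rw [hWf v w hp, hWf w v hp.swap, Set.pair_comm]
    · have hz : F.Z v w := ⟨hv, hw, e, h1⟩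
      obtain ⟨t, ht⟩ := hpr v hv
      obtain ⟨t', ht'⟩ := hpr w hw
      rw [hWf v t ht, hWf w t' ht', (W_eq FT hz ht ht').2]

end Cfsg.Agent.Intrinsic.FunctorFrame
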