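import Cfsg.Agent.Intrinsic.WZeroFive
import Cfsg.Agent.SignalizersComponents.SolFunctorTwo
import Cfsg.Agent.S0205

/-!
# World `W0` (S1738, section 4): (4.4) for `|A| ≥ 8`

`WW A` = the group generated by the `O(C(a))`, `a ∈ A#`.
`false_of_odd`: if `WW A` has odd order and `C(a) = O(C(a)) N_{C(a)}(A)` we have a contradiction.
`false_of_eight`: the case `|A| ≥ 8` from the balance condition.
-/

set_option autoImplicit false

open Cfsg Subgroup
open Cfsg.Agent.SignalizersComponents
open Cfsg.Agent.SignalizersComponents.IntrinsicBasic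
open Cfsg.Agent.Intrinsic.Basic Cfsg.Agent.Intrinsic.Cen Cfsg.Agent.Intrinsic.WZero
open Cfsg.Agent.Intrinsic.WZeroFive

namespace Cfsg.Agent.Intrinsic.WZeroEight

/-- the group generated by the cores of the centralizers of the nontrivial elements of `A` -/
def WW {G : Type*} [Group G] (A : Subgroup G) : Subgroup G :=
  ⨆ a : {a : G // a ∈ A ∧ a ≠ 1}, core (centralizer ({(a : G)} : Set G))

section

variable {G : Type*} [Group G]

theorem core_le_WW {A : Subgroup G} {a : G} (ha : a ∈ A) (ha1 : a ≠ 1) :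
    core (centralizer ({a} : Set G)) ≤ WW A :=
  le_iSup (fun a : {a : G // a ∈ A ∧ a ≠ 1} => core (centralizer ({(a : G)} : Set G))) ⟨a, ha, ha1⟩

theorem normalizer_le (A : Subgroup G) : normalizer (A : Set G) ≤ normalizer (WW A : Set G) := by
  have key : ∀ g ∈ normalizer (A : Set G), WW A ≤ cj g⁻¹ (WW A) := by
    intro g hg
    refine iSup_le fun a => ?_
    have h1 : g * (a : G) * g⁻¹ ∈ A := (mem_normalizer_iff.mp hg _).mp a.2.1
    have h2 : g * (a : G) * g⁻¹ ≠ 1 := by
      intro h
      apply a.2.2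
      calc (a : G) = g⁻¹ * (g * a * g⁻¹) * g := by group
        _ = 1 := by rw [h]; group
    have h3 := core_le_WW h1 h2
    rw [← cj_centralizer, core_cj] at h3
    have h4 := cj_mono (g := g⁻¹) h3
    rwa [cj_inv_cj] at h4
  intro g hg
  rw [mem_normalizer_iff_cj]
  apply le_antisymm
  · have h1 := cj_mono (g := g) (key g hg)
    rwa [cj_cj_inv] at h1
  · have h1 := key g⁻¹ (inv_mem hg)
    rwa [inv_inv] at h1

end

variable {G : Type*} [Group G] [Finite G] {z : G} {L : Subgroup G}

theorem AA_ne_bot (W : World z L) (T : Sylow 2 G) : AA z (T : Subgroup G) ≠ ⊥ := by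
  obtain ⟨v, hv, hvT⟩ := W.exists_inD T
  intro h
  have h1 : v ∈ AA z (T : Subgroup G) := mem_AA hv hvT
  rw [h, mem_bot] at h1
  exact W.ne_one hv h1

/-- the end of section 4 -/
theorem false_of_odd [IsSimpleGroup G] (W : World z L) (hCrit : Crit G) {t : G} (ht : t ∈ L)
    (ht2 : t * t = 1) (hf : ¬ Fixes t L) (T : Sylow 2 G)
    (hodd : Odd (Nat.card (WW (AA z (T : Subgroup G)))))
    (hnorm : ∀ a ∈ AA z (T : Subgroup G), a ≠ 1 → ∀ x ∈ centralizer ({a} : Set G),
      ∃ o ∈ core (centralizer ({a} : Set G)), o * x ∈ normalizer (AA z (T : Subgroup G) : Set G)) :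
    False := by
  set A := AA z (T : Subgroup G) with hA
  by_cases h : WW A = ⊥
  · refine false_of_le W hCrit ht ht2 hf T (M := normalizer (A : Set G)) ?_ ?_
    · intro h1
      have hn : A.Normal := normalizer_eq_top_iff.mp h1
      rcases hn.eq_bot_or_eq_top with h2 | h2
      · exact AA_ne_bot W T h2
      · apply W.comp.ne_bot
        rw [← W.comp.perfect, eq_bot_iff, Subgroup.commutator_le]
        intro a _ b _
        rw [mem_bot, commutatorElement_eq_one_iff_mul_comm]
        exact W.AA_comm T.isPGroup' a (hA ▸ h2 ▸ mem_top a) b (hA ▸ h2 ▸ mem_top b)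
    · intro a ha ha1 x hx
      obtain ⟨o, ho, hox⟩ := hnorm a ha ha1 x hx
      have h3 := core_le_WW ha ha1 ho
      rw [h, mem_bot] at h3
      rwa [h3, one_mul] at hox
  · refine false_of_le W hCrit ht ht2 hf T (M := normalizer (WW A : Set G)) ?_ ?_
    · intro h1
      have hn : (WW A).Normal := normalizer_eq_top_iff.mp h1
      rcases hn.eq_bot_or_eq_top with h2 | h2
      · exact h h2
      · rw [h2, card_top] at hodd
        have h3 : orderOf z = 2 := orderOf_two W.zz W.z1
        have h4 := orderOf_dvd_natCard z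
        rw [h3] at h4
        exact (Nat.not_even_iff_odd.mpr hodd) (even_iff_two_dvd.mpr h4)
    · intro a ha ha1 x hx
      obtain ⟨o, ho, hox⟩ := hnorm a ha ha1 x hx
      have h3 : x = o⁻¹ * (o * x) := by group
      rw [h3]
      exact mul_mem (inv_mem (le_normalizer (core_le_WW ha ha1 ho))) (normalizer_le A hox)

/-- **(4.4)** for `|A| ≥ 8` and (4.5) -/
theorem false_of_eight.{u} {G : Type u} [Group G] [Finite G] {z : G} {L : Subgroup G}
    [IsSimpleGroup G] (W : World z L) (hCrit : Crit G) {t : G} (ht : t ∈ L)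
    (ht2 : t * t = 1) (hf : ¬ Fixes t L) (T : Sylow 2 G)
    (h8 : 8 ≤ Nat.card (AA z (T : Subgroup G)))
    (hnorm : ∀ a ∈ AA z (T : Subgroup G), a ≠ 1 → ∀ x ∈ centralizer ({a} : Set G),
      ∃ o ∈ core (centralizer ({a} : Set G)), o * x ∈ normalizer (AA z (T : Subgroup G) : Set G))
    (hbal : ∀ a ∈ AA z (T : Subgroup G), a ≠ 1 → ∀ b ∈ AA z (T : Subgroup G), b ≠ 1 →
      core (centralizer ({a} : Set G)) ⊓ centralizer ({b} : Set G) ≤
        core (centralizer ({b} : Set G))) : False := by
  refine false_of_odd W hCrit ht ht2 hf T ?_ hnorm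
  obtain ⟨h1, -, -⟩ := SolFunctorTwo.solvable_signalizer_functor_two (AA z (T : Subgroup G))
    (W.AA_comm T.isPGroup') (fun a ha => by rw [pow_two]; exact W.AA_sq T.isPGroup' a ha)
    (by simpa using h8) (fun a => core (centralizer ({a} : Set G)))
    (fun a _ _ => core_le _)
    (fun a _ _ => by
      rw [← even_iff_two_dvd, Nat.not_even_iff_odd]
      exact odd_card_core _)
    (fun a ha _ b hb x hx => conj_mem_core (le_normalizer (mem_centralizer_singleton_iff.mpr
      (W.AA_comm T.isPGroup' b hb a ha))) hx)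
    (fun a _ _ => Cfsg.Agent.S0205.result (odd_card_core _))
    hbal
  rw [← Nat.not_even_iff_odd, even_iff_two_dvd]
  exact h1

end Cfsg.Agent.Intrinsic.WZeroEight
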