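import Cfsg.Agent.Intrinsic.WZeroBal
import Cfsg.Agent.ProdFusion.Functor
import Cfsg.Agent.SignalizersComponents.SFTwo

/-!
# World `W0` (S1738, 4.4): the signalizer functor
-/

set_option autoImplicit false

open Cfsg Subgroup
open Cfsg.Agent.SignalizersComponents
open Cfsg.Agent.SignalizersComponents.IntrinsicBasic
open Cfsg.Agent.Intrinsic.Basic Cfsg.Agent.Intrinsic.Cen
open scoped commutatorElement

namespace Cfsg.Agent.Intrinsic.WZero

variable {G : Type*} [Group G] [Finite G]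

/-- the group generated by the cores of the centralizers of the elements of `A#` -/
def WW (A : Subgroup G) : Subgroup G :=
  ⨆ a : {a : G // a ∈ A ∧ a ≠ 1}, core (centralizer ({(a : G)} : Set G))

omit [Finite G] in
theorem core_le_WW {A : Subgroup G} {a : G} (ha : a ∈ A) (ha1 : a ≠ 1) :
    core (centralizer ({a} : Set G)) ≤ WW A :=
  le_iSup (fun a : {a : G // a ∈ A ∧ a ≠ 1} => core (centralizer ({(a : G)} : Set G)))
    ⟨a, ha, ha1⟩

omit [Finite G] in
theorem WW_le {A H : Subgroup G}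
    (h : ∀ a ∈ A, a ≠ 1 → core (centralizer ({a} : Set G)) ≤ H) : WW A ≤ H :=
  iSup_le fun a => h a a.2.1 a.2.2

omit [Finite G] in
theorem not_two_dvd {H : Subgroup G} (h : Odd (Nat.card H)) : ¬ 2 ∣ Nat.card H := fun h2 =>
  (Nat.not_even_iff_odd.mpr h) (even_iff_two_dvd.mpr h2)

omit [Finite G] in
theorem odd_of_not_two_dvd {H : Subgroup G} (h : ¬ 2 ∣ Nat.card H) : Odd (Nat.card H) := by
  rw [← Nat.not_even_iff_odd]
  exact fun h2 => h (even_iff_two_dvd.mp h2)

omit [Finite G] in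
/-- the four-group `⟨a, b⟩` -/
theorem exists_klein {a b : G} (ha : a * a = 1) (hb : b * b = 1) (hab : a * b = b * a)
    (ha1 : a ≠ 1) (hb1 : b ≠ 1) (hne : a ≠ b) :
    ∃ E : Subgroup G, Nat.card E = 4 ∧ (∀ x, x ∈ E ↔ x = 1 ∨ x = a ∨ x = b ∨ x = a * b) ∧
      (∀ x ∈ E, x * x = 1) ∧ ∀ x ∈ E, ∀ y ∈ E, x * y = y * x := by
  have hE := TwoFusion.WreathedFour.isKleinFour_klein a b ha hb hab ha1 hb1 hne
  have hsq : ∀ x ∈ TwoFusion.WreathedFour.klein a b ha hb hab, x * x = 1 := by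
    rintro x (rfl | rfl | rfl | rfl)
    · exact one_mul 1
    · exact ha
    · exact hb
    · calc a * b * (a * b) = a * (b * a) * b := by group
        _ = (a * a) * (b * b) := by rw [← hab]; group
        _ = 1 := by rw [ha, hb, one_mul]
  refine ⟨TwoFusion.WreathedFour.klein a b ha hb hab, hE.card_four, fun x => Iff.rfl, hsq, ?_⟩
  intro x hx y hy
  have h1 := inv_eq (hsq _ hx)
  have h2 := inv_eq (hsq _ hy)
  have h3 := inv_eq (hsq _ (mul_mem hx hy))
  rw [← h3, mul_inv_rev, h1, h2]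

namespace World

variable {z : G} {L : Subgroup G} (W : World z L)
include W

/-- `w` fixes the 2-components of `C(α β)` for `β` in the pump-up of another member -/
theorem good_four {v w x α β : G} {X : Subgroup G} (hX : Om z L v X) (hw : InD z w)
    (hne : v ≠ w) (hvw : w * v = v * w) (hβ : β ∈ cen X w) (hα : ∀ Y, Om z L w Y → Fixes α Y)
    (hx : x = α * β) (hx1 : x ≠ 1) (hxx : x * x = 1) (hxw : x * w = w * x) :
    w ∈ L2 (centralizer ({x} : Set G)) ∧
      ∀ E, IsComp (centralizer ({x} : Set G)) E → Fixes w E := by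
  obtain ⟨Y, hY⟩ := hw.exists_om L
  obtain ⟨M, hM, hle, hvM, hfM, -, h2⟩ := W.exists_good hX (W.sq hw) (W.ne_one hw) hvw
    (W.type0 v X w hX hw hvw)
  have hYM : Y ≠ M := by
    intro h
    exact W.absurd_two hX.inD hw hne hvw.symm hvM (h ▸ hY.mem W.zL) hfM
      (h ▸ hY.fixes_self W.comp) h2
  have hfβ : Fixes β Y := (W.ocomp hY).fixes_of_mem hM hYM (hle hβ)
  have hfx : Fixes x Y := hx ▸ fixes_mul (hα Y hY) hfβ
  obtain ⟨N, hN, -, hwN, -, hE, -⟩ := W.exists_good hY hxx hx1 hxw hfx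
  exact ⟨hN.le_L2 hwN, hE⟩

/-- **4.4** -/
theorem odd_WW (T : Sylow 2 G) (hC : TwoFusion.ClosedFunctor.Complete G)
    (hFT : ∀ H : Subgroup G, Odd (Nat.card H) → Group.IsSolvable H)
    (hzs : ∀ c ∈ AA z (T : Subgroup G), c ≠ 1 → ∃ g, g * c * g⁻¹ ∈ (T : Subgroup G) ∧
      g * c * g⁻¹ ≠ c) {n : ℕ} (hn : 8 ≤ n)
    (hcov : IsNonsplitDoubleCover (↥L ⧸ oddCore ↥L) ↥(alternatingGroup (Fin n))) :
    Odd (Nat.card ↥(WW (AA z (T : Subgroup G)))) := by
  have hp : Fact (Nat.Prime 2) := ⟨Nat.prime_two⟩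
  obtain ⟨A, hA⟩ : ∃ A, A = AA z (T : Subgroup G) := ⟨_, rfl⟩
  have hAp : IsPGroup 2 ↥A := hA ▸ T.isPGroup'.to_le (AA_le _ _)
  have hsq : ∀ b ∈ A, b * b = 1 := hA ▸ W.AA_sq T.isPGroup'
  have hcm : ∀ b ∈ A, ∀ c ∈ A, b * c = c * b := hA ▸ W.AA_comm T.isPGroup'
  have hgood : ∀ a ∈ A, a ≠ 1 → Good A a := fun a ha ha1 => by
    rw [hA] at ha ⊢
    exact W.good_of_mem T.isPGroup' ha ha1
  have hbal : ∀ a ∈ A, ∀ x, Good A x → core (centralizer ({a} : Set G)) ⊓
      centralizer ({x} : Set G) ≤ core (centralizer ({x} : Set G)) := fun a ha x hx =>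
    W.bal T (hA ▸ ha) (hA ▸ hx)
  rw [← hA] at hzs ⊢
  by_cases h8 : 2 ^ 3 ≤ Nat.card A
  · have h1 := SFTwo.result A hcm (fun a ha => by rw [pow_two]; exact hsq a ha) h8
      (fun a => core (centralizer ({a} : Set G))) (fun a _ _ => core_le _)
      (fun a _ _ => not_two_dvd (odd_card_core _))
      (fun a ha ha1 b hb x hx => conj_mem_core (Subgroup.le_normalizer
        (mem_cent.mpr (hcm b hb a ha))) hx)
      (fun a _ _ => hFT _ (odd_card_core _))
      (fun a ha ha1 b hb hb1 => hbal a ha b (hgood b hb hb1))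
    exact odd_of_not_two_dvd h1.1
  -- `|A| = 4`
  obtain ⟨v, hv, hvT⟩ := W.exists_inD T
  have hvA : v ∈ A := hA ▸ mem_AA hv hvT
  obtain ⟨g, hgT, hgne⟩ := hzs v hvA (W.ne_one hv)
  obtain ⟨w, hw⟩ : ∃ w, w = g * v * g⁻¹ := ⟨_, rfl⟩
  have hwD : InD z w := hw ▸ hv.conj g
  rw [← hw] at hgT hgne
  have hwA : w ∈ A := hA ▸ mem_AA hwD hgT
  have hvw : v * w = w * v := hcm v hvA w hwA
  have hvv := W.sq hv
  have hww := W.sq hwD
  obtain ⟨E, hE4, hEm, hEsq, hEcm⟩ := exists_klein hvv hww hvw (W.ne_one hv) (W.ne_one hwD)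
    hgne.symm
  have hEA : E ≤ A := by
    intro x hx
    rcases (hEm x).mp hx with rfl | rfl | rfl | rfl
    · exact one_mem _
    · exact hvA
    · exact hwA
    · exact mul_mem hvA hwA
  have hA4 : Nat.card A = 4 := by
    obtain ⟨k, hk⟩ := IsPGroup.iff_card.mp hAp
    have h1 : 4 ≤ Nat.card A := by
      rw [← hE4]; exact Subgroup.card_le_of_le hEA
    rw [hk] at h1 h8 ⊢
    have h2 : k < 3 := by
      by_contra hk3
      exact h8 (Nat.pow_le_pow_right (by norm_num) (by omega))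
    have h3 : k = 0 ∨ k = 1 ∨ k = 2 := by omega
    rcases h3 with rfl | rfl | rfl
    · norm_num at h1
    · norm_num at h1
    · norm_num
  have hEA' : E = A := Subgroup.eq_of_le_of_card_ge hEA (by rw [hE4, hA4])
  have hAm : ∀ x, x ∈ A ↔ x = 1 ∨ x = v ∨ x = w ∨ x = v * w := by rw [← hEA']; exact hEm
  have hvw1 : v * w ≠ 1 := by
    intro h
    apply hgne
    have := inv_eq_of_mul_eq_one_right h
    rw [← this, inv_eq hvv]
  -- `v w ∈ D`
  have hvwD : InD z (v * w) := by
    obtain ⟨k, hkT, hkne⟩ := hzs (v * w) (mul_mem hvA hwA) hvw1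
    have h1 : k * (v * w) * k⁻¹ ∈ A := by
      rw [hA] at hvA hwA ⊢
      exact W.strongly T (mul_mem hvA hwA) hkT
    have h2 : InD z (k * (v * w) * k⁻¹) := by
      rcases (hAm _).mp h1 with h | h | h | h
      · exfalso
        apply hvw1
        have h3 : v * w = k⁻¹ * (k * (v * w) * k⁻¹) * k := by group
        rw [h3, h]; group
      · rw [h]; exact hv
      · rw [h]; exact hwD
      · exact absurd h hkne
    have h3 := h2.conj k⁻¹
    have h4 : k⁻¹ * (k * (v * w) * k⁻¹) * k⁻¹⁻¹ = v * w := by group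
    rwa [h4] at h3
  obtain ⟨X, hX⟩ := hv.exists_om L
  have hXC := W.ocomp hX
  have hcov' : IsNonsplitDoubleCover (↥X ⧸ oddCore ↥X) ↥(alternatingGroup (Fin n)) := by
    obtain ⟨g, -, rfl⟩ := hX
    exact cover_congr (cjQuot g L) hcov
  have hwv : w * v = v * w := hvw.symm
  have hfw : Fixes w X := W.type0 v X w hX hwD hwv
  have hcov'' := (cover_cen hXC (mem_cent.mpr hwv) hww hfw (C := ↥(alternatingGroup (Fin n)))).mpr
    hcov'
  obtain ⟨a, haJ, b, hbJ, haa, hbb, hab, hfa, hfb, hfab⟩ :=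
    WZeroFour.exists_four_lift hn hcov''
  have hfone := fixes_one (cen X w)
  have ha1 : a ≠ 1 := fun h => hfa (h ▸ hfone)
  have hb1 : b ≠ 1 := fun h => hfb (h ▸ hfone)
  have hane : a ≠ b := by
    intro h
    apply hfab
    rw [← h, haa]; exact hfone
  obtain ⟨B, hB4, hBm, hBsq, hBcm⟩ := exists_klein haa hbb hab ha1 hb1 hane
  have hBJ : B ≤ cen X w := by
    intro x hx
    rcases (hBm x).mp hx with rfl | rfl | rfl | rfl
    · exact one_mem _
    · exact haJ
    · exact hbJ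
    · exact mul_mem haJ hbJ
  have hBX : B ≤ X := hBJ.trans (cen_le X w)
  have hBv : ∀ β ∈ B, β * v = v * β := fun β hβ => mem_cent.mp (hXC.le (hBX hβ))
  have hBw : ∀ β ∈ B, β * w = w * β := fun β hβ => comm_of_mem_cen (hBJ hβ)
  have hBvw : ∀ β ∈ B, β * (v * w) = (v * w) * β := fun β hβ => by
    rw [← mul_assoc, hBv β hβ, mul_assoc, hBw β hβ, mul_assoc]
  have hAB : ∀ α ∈ A, ∀ β ∈ B, α * β = β * α := by
    intro α hα β hβ
    rcases (hAm α).mp hα with rfl | rfl | rfl | rfl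
    · simp
    · exact (hBv β hβ).symm
    · exact (hBw β hβ).symm
    · exact (hBvw β hβ).symm
  have hfixA : ∀ α ∈ A, Fixes α (cen X w) := by
    have hv' : Fixes v (cen X w) := fixes_of_comm fun y hy =>
      (mem_cent.mp (hXC.le (cen_le X w hy))).symm
    have hw' : Fixes w (cen X w) := fixes_of_comm fun y hy => (comm_of_mem_cen hy).symm
    intro α hα
    rcases (hAm α).mp hα with rfl | rfl | rfl | rfl
    · exact hfone
    · exact hv'
    · exact hw'
    · exact fixes_mul hv' hw'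
  have hdisj : A ⊓ B = ⊥ := by
    rw [eq_bot_iff]
    rintro x ⟨hxA, hxB⟩
    rw [mem_bot]
    have h1 := hfixA x hxA
    rcases (hBm x).mp hxB with h | h | h | h
    · exact h
    · exact absurd (h ▸ h1) hfa
    · exact absurd (h ▸ h1) hfb
    · exact absurd (h ▸ h1) hfab
  have hαfix : ∀ α ∈ A, ∀ u ∈ A, InD z u → ∀ Y, Om z L u Y → Fixes α Y := by
    intro α hα u hu huD Y hY
    rw [hA] at hα hu
    exact W.AA_fixes T.isPGroup' huD (AA_le _ _ hu) hY α hα
  -- all of `A B` is good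
  have hgoodAB : ∀ x ∈ A ⊔ B, x ≠ 1 → Good A x := by
    intro x hx hx1
    obtain ⟨α, hα, β, hβ, hxe⟩ := (TwoFusion.ClosedFunctor.mem_sup_of_comm hAB).mp hx
    have hxx : x * x = 1 := by
      rw [hxe]
      calc α * β * (α * β) = α * (β * α) * β := by group
        _ = (α * α) * (β * β) := by rw [← hAB α hα β hβ]; group
        _ = 1 := by rw [hsq α hα, hBsq β hβ, one_mul]
    have hxc : ∀ c ∈ A, x * c = c * x := by
      intro c hc
      rw [hxe]
      calc α * β * c = α * (β * c) := by group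
        _ = (α * c) * β := by rw [← hAB c hc β hβ]; group
        _ = c * (α * β) := by rw [hcm α hα c hc]; group
    have hβw : β ∈ cen X w := hBJ hβ
    have hβvw : β ∈ cen X (v * w) := mem_cen_of_sq (hBX hβ) (hBvw β hβ) (hBsq β hβ)
    have hne' : v ≠ v * w := by
      intro h
      apply W.ne_one hwD
      have : v * w = v * 1 := by rw [← h, mul_one]
      exact mul_left_cancel this
    have hvwA := mul_mem hvA hwA
    have h1 := W.good_four hX hwD hgne.symm hwv hβw (hαfix α hα w hwA hwD) hxe hx1 hxx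
      (hxc w hwA)
    have h2 := W.good_four hX hvwD hne' (hcm _ hvwA v hvA) hβvw (hαfix α hα _ hvwA hvwD) hxe hx1
      hxx (hxc _ hvwA)
    have hve : v = v * w * w := by rw [mul_assoc, hww, mul_one]
    refine ⟨hxx, hx1, fun c hc => (hxc c hc).symm, ?_, ?_⟩
    · intro c hc
      rcases (hAm c).mp hc with rfl | rfl | rfl | rfl
      · exact one_mem _
      · rw [hve]; exact mul_mem h2.1 h1.1
      · exact h1.1
      · exact h2.1
    · intro c hc E hE
      rcases (hAm c).mp hc with rfl | rfl | rfl | rfl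
      · exact fixes_one E
      · rw [hve]; exact fixes_mul (h2.2 E hE) (h1.2 E hE)
      · exact h1.2 E hE
      · exact h2.2 E hE
  have hFA : TwoFusion.ClosedFour.Four Set.univ A := ⟨hcm, hsq, hA4, fun _ _ => Set.mem_univ _⟩
  have hFB : TwoFusion.ClosedFour.Four Set.univ B := ⟨hBcm, hBsq, hB4, fun _ _ => Set.mem_univ _⟩
  have hcs : TwoFusion.GoldWFunctor.CS A B := by
    refine ⟨hFA, hFB, hAB, hdisj, hFA.isElementaryAbelian, hFB.isElementaryAbelian, hA4, hB4,
      ?_, hdisj, hAB, ?_⟩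
    · intro h
      rw [← h, inf_idem] at hdisj
      rw [hdisj, card_bot] at hA4
      omega
    · intro x hx hx1 K hK
      left
      have hg := hgoodAB x hx hx1
      have hc := isComp_of_subtype hK
      rw [commutator_le]
      intro e he c hc'
      rw [← commutatorElement_inv]
      exact inv_mem (hc.core_le_core ((hg.fix c hc' _ hc).2 e he))
  refine Odd.of_dvd_nat (hC A B hcs.cs).1 (card_dvd_of_le (WW_le fun x hx hx1 => ?_))
  have haB : a ∈ B := (hBm a).mpr (Or.inr (Or.inl rfl))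
  have hT := TwoFusion.GoldWFunctor.CS.theta_eq_T hC hcs hx hx1 haB ha1
  refine le_trans ?_ (TwoFusion.GoldWFunctor.CS.theta_le_vc hC hcs (mem_sup_left hx) hx1)
  rw [hT]
  have hn' : zpowers a ≤ normalizer (core (centralizer ({x} : Set G)) : Set G) := by
    rw [zpowers_le]
    exact le_normalizer_core _ (mem_cent.mpr (hAB x hx a haB).symm)
  refine (TwoFusion.ClosedFour.le_commutator_sup (isPGroup_zpowers haa) (odd_card_core _)
    hn').trans ?_
  rw [TwoFusion.ClosedFunctor.Fours.centralizer_zpowers]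
  exact sup_le_sup le_rfl (le_inf inf_le_left
    (hbal x hx a (hgoodAB a (mem_sup_right haB) ha1)))

end World

end Cfsg.Agent.Intrinsic.WZero
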