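import Cfsg.Agent.Intrinsic.Cen
import Cfsg.Agent.ClassificationK.PCompTransport

/-!
# T8: the quotient `M / O(M)`; small and big pump-ups

`qs M J` is the image of `J` in `M / O(M)`.  Let `J ∋ u` be a 2-component of `C_M(u)` with
`J / O(J) ≅ 2.A_m`, `M` a 2-component.  By induction (`PQS`) either `Small J M` (`M = J O(M)`) or
`Big m u J M` (the target situation in `M / O(M)`).
-/

set_option autoImplicit false

open Cfsg Subgroup
open Cfsg.Agent.SignalizersComponents Cfsg.Agent.Lib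
open Cfsg.Agent.SignalizersComponents.IntrinsicBasic
open Cfsg.Agent.SignalizersComponents.PLayerAut
open Cfsg.Agent.Intrinsic.Basic Cfsg.Agent.Intrinsic.Cen
open scoped commutatorElement

namespace Cfsg.Agent.Intrinsic.Quot

section surj

variable {A B : Type*} [Group A] [Group B] [Finite A] [Finite B]

/-- An epimorphism with odd kernel induces `A / O(A) ≅ B / O(B)`. -/
theorem exists_equiv_of_surjective (f : A →* B) (hf : Function.Surjective f)
    (hker : (Nat.card f.ker).Coprime 2) :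
    ∃ e : (A ⧸ oddCore A) ≃* (B ⧸ oddCore B), ∀ a : A,
      e (QuotientGroup.mk a) = QuotientGroup.mk (f a) := by
  have hc := ClassificationK.PCompTransport.comap_pPrimeCore 2 f hker
    (by rw [MonoidHom.range_eq_top.mpr hf]; exact Subgroup.IsSubnormal.top)
  let g : A →* (B ⧸ oddCore B) := (QuotientGroup.mk' (oddCore B)).comp f
  have hg : Function.Surjective g := (QuotientGroup.mk'_surjective _).comp hf
  have hk : oddCore A = g.ker := by
    rw [← MonoidHom.comap_ker, QuotientGroup.ker_mk']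
    exact hc.symm
  exact ⟨(QuotientGroup.quotientMulEquivOfEq hk).trans
    (QuotientGroup.quotientKerEquivOfSurjective g hg), fun a => rfl⟩

end surj

variable {G : Type*} [Group G]

/-- the image of `J` in `M / O(M)` -/
def qs (M J : Subgroup G) : Subgroup (↥M ⧸ oddCore ↥M) :=
  (J.subgroupOf M).map (QuotientGroup.mk' (oddCore ↥M))

theorem mem_qs {M J : Subgroup G} {x : G} (hx : x ∈ M) :
    (QuotientGroup.mk ⟨x, hx⟩ : ↥M ⧸ oddCore ↥M) ∈ qs M J ↔
      ∃ j ∈ J ⊓ M, j⁻¹ * x ∈ core M := by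
  constructor
  · rintro ⟨j, hj, hjx⟩
    exact ⟨j, ⟨hj, j.2⟩, mk_eq_mk_iff.mp hjx⟩
  · rintro ⟨j, ⟨hj, hjM⟩, hc⟩
    exact ⟨⟨j, hjM⟩, hj, mk_eq_mk_iff.mpr hc⟩

/-- `M = J O(M)` -/
def Small (J M : Subgroup G) : Prop := J ⊔ core M = M

/-- the target situation in `M / O(M)` -/
def Big (m : ℕ) (u : G) (J M : Subgroup G) : Prop :=
  ∃ hu : u ∈ M, Target m (↥M ⧸ oddCore ↥M) (QuotientGroup.mk ⟨u, hu⟩) (qs M J)

theorem mk_eq_one_iff {M : Subgroup G} {x : G} (hx : x ∈ M) :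
    (QuotientGroup.mk ⟨x, hx⟩ : ↥M ⧸ oddCore ↥M) = 1 ↔ x ∈ core M := by
  rw [QuotientGroup.eq_one_iff, mem_core_iff hx]

theorem mk_eq_mk_iff' {M : Subgroup G} {x y : G} (hx : x ∈ M) (hy : y ∈ M) :
    (QuotientGroup.mk ⟨x, hx⟩ : ↥M ⧸ oddCore ↥M) = QuotientGroup.mk ⟨y, hy⟩ ↔
      x⁻¹ * y ∈ core M := mk_eq_mk_iff

theorem mk_comm_iff {M : Subgroup G} {x y : G} (hx : x ∈ M) (hy : y ∈ M) :
    (QuotientGroup.mk ⟨x, hx⟩ : ↥M ⧸ oddCore ↥M) * QuotientGroup.mk ⟨y, hy⟩ =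
      QuotientGroup.mk ⟨y, hy⟩ * QuotientGroup.mk ⟨x, hx⟩ ↔
      x⁻¹ * (y * x * y⁻¹) ∈ core M := by
  have h1 : (QuotientGroup.mk ⟨x, hx⟩ : ↥M ⧸ oddCore ↥M) * QuotientGroup.mk ⟨y, hy⟩ =
      QuotientGroup.mk ⟨x * y, M.mul_mem hx hy⟩ := rfl
  have h2 : (QuotientGroup.mk ⟨y, hy⟩ : ↥M ⧸ oddCore ↥M) * QuotientGroup.mk ⟨x, hx⟩ =
      QuotientGroup.mk ⟨y * x, M.mul_mem hy hx⟩ := rfl
  rw [h1, h2, mk_eq_mk_iff']
  constructor
  · intro h
    have := conj_mem_core (le_normalizer hy) h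
    convert this using 1
    group
  · intro h
    have := conj_mem_core (le_normalizer (M.inv_mem hy)) h
    convert this using 1
    group

variable [Finite G]

theorem quasisimple_quot {H M : Subgroup G} (hM : IsComp H M) :
    IsQuasisimple (↥M ⧸ oddCore ↥M) := (isComp_iff.mp hM).2.2.1

theorem oddCore_quot (M : Subgroup G) : oddCore (↥M ⧸ oddCore ↥M) = ⊥ :=
  PComponents.pPrimeCore_quotient_eq_bot 2

theorem card_quot_le (M : Subgroup G) : Nat.card (↥M ⧸ oddCore ↥M) ≤ Nat.card M :=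
  Nat.card_le_card_of_surjective _ (QuotientGroup.mk'_surjective (oddCore ↥M))

/-- `J / O(J)` and the image of `J` in `M / O(M)` modulo its core -/
theorem exists_qs_equiv {M J : Subgroup G} (hJM : J ≤ M) :
    ∃ e : (↥J ⧸ oddCore ↥J) ≃* (↥(qs M J) ⧸ oddCore ↥(qs M J)),
      ∀ (j : G) (hj : j ∈ J), e (QuotientGroup.mk ⟨j, hj⟩) =
        QuotientGroup.mk ⟨QuotientGroup.mk ⟨j, hJM hj⟩, (mem_qs (hJM hj)).mpr
          ⟨j, ⟨hj, hJM hj⟩, by simp⟩⟩ := by
  let f : ↥J →* ↥(qs M J) :=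
    { toFun := fun j => ⟨QuotientGroup.mk ⟨j, hJM j.2⟩, (mem_qs (hJM j.2)).mpr
          ⟨j, ⟨j.2, hJM j.2⟩, by simp⟩⟩
      map_one' := rfl
      map_mul' := fun _ _ => rfl }
  have hf : Function.Surjective f := by
    rintro ⟨_, j, hj, rfl⟩
    exact ⟨⟨j, hj⟩, rfl⟩
  have hker : (Nat.card f.ker).Coprime 2 := by
    have h1 : f.ker.map J.subtype ≤ core M := by
      rintro _ ⟨j, hj, rfl⟩
      have h2 : (QuotientGroup.mk ⟨(j : G), hJM j.2⟩ : ↥M ⧸ oddCore ↥M) = 1 :=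
        congrArg Subtype.val hj
      exact (mk_eq_one_iff _).mp h2
    have h2 := card_dvd_of_le h1
    rw [card_map_of_injective J.subtype_injective] at h2
    exact (coprime_card_core M).coprime_dvd_left h2
  obtain ⟨e, he⟩ := exists_equiv_of_surjective f hf hker
  exact ⟨e, fun j hj => he ⟨j, hj⟩⟩

/-- The image of a pair in `M / O(M)`. -/
theorem isPair_quot {m : ℕ} {u : G} {M J : Subgroup G} (hu : u * u = 1) (hu1 : u ≠ 1)
    (huJ : u ∈ J) (huM : u ∈ M) (hJ : IsComp (M ⊓ centralizer ({u} : Set G)) J)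
    (hcov : IsNonsplitDoubleCover (↥J ⧸ oddCore ↥J) ↥(alternatingGroup (Fin m))) :
    IsPair m (QuotientGroup.mk ⟨u, huM⟩ : ↥M ⧸ oddCore ↥M) (qs M J) := by
  have hJM : J ≤ M := hJ.le.trans inf_le_left
  refine ⟨?_, ?_, ?_, ?_⟩
  · rw [orderOf_eq_iff two_pos]
    constructor
    · rw [pow_two]
      change (QuotientGroup.mk ⟨u * u, M.mul_mem huM huM⟩ : ↥M ⧸ oddCore ↥M) = 1
      rw [mk_eq_one_iff, hu]
      exact one_mem _
    · intro k hk hk0 h
      have : k = 1 := by omega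
      rw [this, pow_one, mk_eq_one_iff] at h
      exact hu1 (eq_one_of_mem_core_sq h hu)
  · exact (mem_qs huM).mpr ⟨u, ⟨huJ, huM⟩, by simp⟩
  · exact IsComp.of_tc (PumpUp.tc_image huM hu hJ.tc)
  · obtain ⟨e, -⟩ := exists_qs_equiv hJM
    exact cover_congr e hcov

/-- **T8.** Small or big. -/
theorem small_or_big.{u} {G : Type u} [Group G] [Finite G] {N m : ℕ} (hN : PQS.{u} N)
    (hm : 8 ≤ m) {H M J : Subgroup G} {u : G} (hu : orderOf u = 2) (huJ : u ∈ J)
    (hJ : IsComp (H ⊓ centralizer ({u} : Set G)) J)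
    (hcov : IsNonsplitDoubleCover (↥J ⧸ oddCore ↥J) ↥(alternatingGroup (Fin m)))
    (hM : IsComp H M) (hJM : J ≤ M) (hcard : Nat.card M < N) : Small J M ∨ Big m u J M := by
  have huM : u ∈ M := hJM huJ
  have hu2 : u * u = 1 := by rw [← pow_two, ← hu, pow_orderOf_eq_one]
  have hu1 : u ≠ 1 := by rintro rfl; simp at hu
  have hJ' := isComp_inf hJ hM hJM
  have hp := isPair_quot hu2 hu1 huJ huM hJ' hcov
  rcases hN _ ((card_quot_le M).trans_lt hcard) (quasisimple_quot hM) (oddCore_quot M) m hm _ _ hp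
    with h | h
  · left
    -- the image of `u` is central: the image of `J` is a 2-component of the whole quotient
    have h1 : centralizer ({(QuotientGroup.mk ⟨u, huM⟩ : ↥M ⧸ oddCore ↥M)} : Set _) = ⊤ := by
      rw [eq_top_iff]
      intro x _
      rw [mem_centralizer_singleton_iff]
      exact mem_center_iff.mp h x
    have h2 := hp.comp
    rw [h1] at h2
    have h3 : IsComp (⊤ : Subgroup (↥M ⧸ oddCore ↥M)) ⊤ := by
      have : Fact (Nat.Prime 2) := ⟨Nat.prime_two⟩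
      have hq := quasisimple_quot hM
      have heven : 2 ∣ Nat.card (↥M ⧸ oddCore ↥M) := h2.even.trans (card_subgroup_dvd_card _)
      rw [isComp_iff]
      refine ⟨le_rfl, ?_, ?_, ?_⟩
      · rw [subgroupOf_self]; exact Subgroup.IsSubnormal.top
      · obtain ⟨e, -⟩ := exists_equiv_of_surjective
          (topEquiv (G := ↥M ⧸ oddCore ↥M)).symm.toMonoidHom (topEquiv.symm.surjective) (by
            rw [(MonoidHom.ker_eq_bot_iff _).mpr (topEquiv.symm.injective)]; simp)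
        have h4 : IsQuasisimple ((↥M ⧸ oddCore ↥M) ⧸ oddCore (↥M ⧸ oddCore ↥M)) := by
          have h5 : oddCore (↥M ⧸ oddCore ↥M) = ⊥ := oddCore_quot M
          exact PCompQuot.quasisimple_congr ((QuotientGroup.quotientMulEquivOfEq h5).trans
            QuotientGroup.quotientBot).symm hq
        exact PCompQuot.quasisimple_congr e h4
      · exact PComponents.quasisimple_pElem_top hq heven
    have h4 := h2.eq_of_le h3 le_top
    refine Cen.sup_of_exists hJM fun x hx => ?_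
    have h5 : (QuotientGroup.mk ⟨x, hx⟩ : ↥M ⧸ oddCore ↥M) ∈ qs M J := by rw [h4]; trivial
    obtain ⟨j, hj, hc⟩ := (mem_qs hx).mp h5
    exact ⟨j, hj.1, hc⟩
  · exact Or.inr ⟨huM, h⟩

/-! ### consequences -/

omit [Finite G] in
theorem Small.fixes {J M : Subgroup G} {u : G} (h : Small J M) (huJ : u ∈ J)
    (hJ : J ≤ centralizer ({u} : Set G)) : Fixes u M := by
  have hJM : J ≤ M := by rw [← (h : J ⊔ core M = M)]; exact le_sup_left
  rw [fixes_iff_conj]
  refine ⟨le_normalizer (hJM huJ), fun x hx => ?_⟩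
  obtain ⟨j, hj, hc⟩ := exists_mul_of_sup h hx
  obtain ⟨c, hc'⟩ : ∃ c, c = j⁻¹ * x := ⟨_, rfl⟩
  rw [← hc'] at hc
  have hx' : x = j * c := by rw [hc']; group
  have hju : j * u = u * j := mem_centralizer_singleton_iff.mp (hJ hj)
  have h2 : u * c * u⁻¹ ∈ core M := conj_mem_core (le_normalizer (hJM huJ)) hc
  have h3 : x⁻¹ * (u * x * u⁻¹) = c⁻¹ * (u * c * u⁻¹) := by
    calc x⁻¹ * (u * x * u⁻¹) = c⁻¹ * j⁻¹ * (u * j) * c * u⁻¹ := by rw [hx']; group
      _ = c⁻¹ * j⁻¹ * (j * u) * c * u⁻¹ := by rw [hju]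
      _ = _ := by group
  rw [h3]
  exact mul_mem (inv_mem hc) h2

omit [Finite G] in
theorem Big.mem {m : ℕ} {u : G} {J M : Subgroup G} (h : Big m u J M) : u ∈ M := h.1

omit [Finite G] in
theorem Big.eight_or {m : ℕ} {u : G} {J M : Subgroup G} (h : Big m u J M) : m = 8 ∨ m = 11 :=
  h.2.1

omit [Finite G] in
theorem Big.simple {m : ℕ} {u : G} {J M : Subgroup G} (h : Big m u J M) :
    IsSimpleGroup (↥M ⧸ oddCore ↥M) := h.2.2.1

omit [Finite G] in
theorem Big.cent {m : ℕ} {u : G} {J M : Subgroup G} (h : Big m u J M) {a : G} (ha : a ∈ M)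
    (hau : a * u = u * a) : ∃ j ∈ J ⊓ M, j⁻¹ * a ∈ core M := by
  obtain ⟨hu, -, -, h3, -, -⟩ := h
  rw [← mem_qs ha, ← h3, mem_centralizer_singleton_iff]
  change (QuotientGroup.mk ⟨a * u, M.mul_mem ha hu⟩ : ↥M ⧸ oddCore ↥M) =
    QuotientGroup.mk ⟨u * a, M.mul_mem hu ha⟩
  congr 1
  exact Subtype.ext hau

omit [Finite G] in
/-- congruence version of `Big.cent` -/
theorem Big.cent' {m : ℕ} {u : G} {J M : Subgroup G} (h : Big m u J M) {a : G} (ha : a ∈ M)
    (hau : a⁻¹ * (u * a * u⁻¹) ∈ core M) : ∃ j ∈ J ⊓ M, j⁻¹ * a ∈ core M := by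
  obtain ⟨hu, -, -, h3, -, -⟩ := h
  rw [← mem_qs ha, ← h3, mem_centralizer_singleton_iff, mk_comm_iff]
  exact hau

/-- in the big case `M` has one class of involutions -/
theorem Big.conj {m : ℕ} {u : G} {J M : Subgroup G} (h : Big m u J M) (hu2 : u * u = 1) {x : G}
    (hx : x ∈ M) (hx2 : x * x = 1) (hx1 : x ≠ 1) : ∃ g ∈ M, g * u * g⁻¹ = x := by
  obtain ⟨hu, -, -, -, -, h5⟩ := h
  have hox : orderOf (QuotientGroup.mk ⟨x, hx⟩ : ↥M ⧸ oddCore ↥M) = 2 := by
    rw [orderOf_eq_iff two_pos]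
    constructor
    · rw [pow_two]
      change (QuotientGroup.mk ⟨x * x, M.mul_mem hx hx⟩ : ↥M ⧸ oddCore ↥M) = 1
      rw [mk_eq_one_iff, hx2]
      exact one_mem _
    · intro k hk hk0 h
      have : k = 1 := by omega
      rw [this, pow_one, mk_eq_one_iff] at h
      exact hx1 (eq_one_of_mem_core_sq h hx2)
  obtain ⟨g, hg⟩ := h5 _ hox
  obtain ⟨⟨g, hgM⟩, rfl⟩ := QuotientGroup.mk_surjective g
  have h6 : (QuotientGroup.mk ⟨g * u * g⁻¹, M.mul_mem (M.mul_mem hgM hu) (M.inv_mem hgM)⟩ :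
      ↥M ⧸ oddCore ↥M) = QuotientGroup.mk ⟨x, hx⟩ := hg
  rw [mk_eq_mk_iff'] at h6
  have hv : (g * u * g⁻¹) ^ 2 ^ 1 = 1 := by
    rw [pow_one, pow_two]
    calc g * u * g⁻¹ * (g * u * g⁻¹) = g * (u * u) * g⁻¹ := by group
      _ = 1 := by rw [hu2]; group
  obtain ⟨o, ho, h7⟩ := Lifting.exists_conj_eq (odd_card_core M) hv
    (show x ^ 2 ^ 1 = 1 by rw [pow_one, pow_two, hx2])
    (le_normalizer_core M (M.mul_mem (M.mul_mem hgM hu) (M.inv_mem hgM))) h6
  refine ⟨o * g, M.mul_mem (core_le M ho) hgM, ?_⟩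
  rw [← h7]; group

theorem Big.core_le {m : ℕ} {u : G} {J M : Subgroup G} (h : Big m u J M) (hJM : J ≤ M) :
    core J ≤ core M := by
  obtain ⟨hu, -, -, -, h4, -⟩ := h
  obtain ⟨e, he⟩ := exists_qs_equiv hJM
  intro j hj
  have hjJ := Basic.core_le J hj
  have h1 := he j hjJ
  rw [(mk_eq_one_iff hjJ).mpr hj, map_one] at h1
  have h2 := (QuotientGroup.eq_one_iff _).mp h1.symm
  rw [h4, mem_bot] at h2
  exact (mk_eq_one_iff (hJM hjJ)).mp (congrArg Subtype.val h2)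

theorem Big.core_eq {m : ℕ} {u : G} {J M : Subgroup G} (h : Big m u J M) (hJM : J ≤ M) :
    core J = J ⊓ core M := by
  apply le_antisymm (le_inf (Basic.core_le J) (h.core_le hJM))
  refine le_core inf_le_left ?_ (Odd.of_dvd_nat (odd_card_core M) (card_dvd_of_le inf_le_right))
  intro j hj
  have e2 : j ∈ normalizer (core M : Set G) := le_normalizer_core M (hJM hj)
  rw [mem_normalizer_iff_cj] at e2 ⊢
  rw [cj_inf, e2, cj_eq_self_of_mem hj]

/-- `u` is not central modulo the core in the big case -/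
theorem Big.not_fixes {m : ℕ} {u : G} {H J M : Subgroup G} (h : Big m u J M) (hu2 : u * u = 1)
    (hu1 : u ≠ 1) (hM : IsComp H M) : ¬ Fixes u M := by
  intro hf
  obtain ⟨hu, -, h2, -, -, -⟩ := h
  have h3 : (QuotientGroup.mk ⟨u, hu⟩ : ↥M ⧸ oddCore ↥M) ∈ center (↥M ⧸ oddCore ↥M) := by
    rw [mem_center_iff]
    intro x
    obtain ⟨⟨x, hx⟩, rfl⟩ := QuotientGroup.mk_surjective x
    rw [mk_comm_iff]
    exact (fixes_iff_conj.mp hf).2 x hx
  have h4 : (QuotientGroup.mk ⟨u, hu⟩ : ↥M ⧸ oddCore ↥M) ≠ 1 := by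
    rw [Ne, mk_eq_one_iff]
    intro h
    exact hu1 (eq_one_of_mem_core_sq h hu2)
  rcases h2.eq_bot_or_eq_top_of_normal _ (inferInstance : (center (↥M ⧸ oddCore ↥M)).Normal)
    with h5 | h5
  · rw [h5] at h3
    exact h4 (mem_bot.mp h3)
  · exact Components.quasisimple_center_ne_top (quasisimple_quot hM) h5

omit [Finite G] in
/-- In both cases `C_M(u) ≤ J O(M)`. -/
theorem exists_of_comm {m : ℕ} {u : G} {J M : Subgroup G} (h : Small J M ∨ Big m u J M) {a : G}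
    (ha : a ∈ M) (hau : a * u = u * a) : ∃ j ∈ J, j⁻¹ * a ∈ core M := by
  rcases h with h | h
  · exact exists_mul_of_sup h ha
  · obtain ⟨j, hj, hc⟩ := h.cent ha hau
    exact ⟨j, hj.1, hc⟩

/-- In both cases 2-elements of `C_M(u)` lie in `J`. -/
theorem mem_of_comm_two {m : ℕ} {u : G} {J M : Subgroup G} (h : Small J M ∨ Big m u J M)
    (hJ : IsComp (M ⊓ centralizer ({u} : Set G)) J) {a : G} (ha : a ∈ M) (hau : a * u = u * a)
    {n : ℕ} (hn : a ^ 2 ^ n = 1) : a ∈ J := by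
  obtain ⟨j, hj, hc⟩ := exists_of_comm h ha hau
  have hjc := (hJ.le hj).2
  have hac : a ∈ centralizer ({u} : Set G) := mem_centralizer_singleton_iff.mpr hau
  have h1 : core M ⊓ centralizer ({u} : Set G) ≤ core (M ⊓ centralizer ({u} : Set G)) := by
    refine le_core (inf_le_inf_right _ (Basic.core_le M)) ?_
      (Odd.of_dvd_nat (odd_card_core M) (card_dvd_of_le inf_le_left))
    intro x hx
    have e1 : x ∈ normalizer (core M : Set G) := le_normalizer_core M hx.1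
    rw [mem_normalizer_iff_cj] at e1 ⊢
    rw [cj_inf, e1, cj_eq_self_of_mem hx.2]
  exact hJ.mem_of_two hj (h1 ⟨hc, mul_mem ((centralizer ({u} : Set G)).inv_mem hjc) hac⟩) hn

end Cfsg.Agent.Intrinsic.Quot
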