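import Cfsg.Agent.Intrinsic.WZero
import Cfsg.Agent.Intrinsic.Quot
import Cfsg.Agent.SignalizersComponents.RelSylow

/-!
# World `W0` (S1738, section 4): (4.3)

`A = AA z T`, `b` an involution with `Good A b` (`A` lies in the 2-layer of `C(b)` and fixes all its
2-components).  Then `A` is normal in `C(b)` modulo `O(C(b))`, `C(b) = O(C(b)) N_{C(b)}(A)`, and
`O(C(a)) ∩ C(b) ≤ O(C(b))` for `a ∈ A#`.
-/

set_option autoImplicit false

open Cfsg Subgroup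
open Cfsg.Agent.SignalizersComponents
open Cfsg.Agent.SignalizersComponents.IntrinsicBasic
open Cfsg.Agent.Intrinsic.Basic Cfsg.Agent.Intrinsic.Cen Cfsg.Agent.Intrinsic.Quot
open Cfsg.Agent.Intrinsic.WZero
open scoped commutatorElement

namespace Cfsg.Agent.Intrinsic.WZeroThree

section general

variable {G : Type*} [Group G]

theorem commutator_mem_core_iff {X : Subgroup G} {a b : G} (ha : a ∈ X) (hb : b ∈ X) :
    ⁅a, b⁆ ∈ core X ↔ (QuotientGroup.mk ⟨a, ha⟩ : ↥X ⧸ oddCore ↥X) * QuotientGroup.mk ⟨b, hb⟩ =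
      QuotientGroup.mk ⟨b, hb⟩ * QuotientGroup.mk ⟨a, ha⟩ :=
  Diag.commutator_mem_core_iff ha hb

/-- an element fixing all 2-components of `H` centralizes the 2-layer modulo the core -/
theorem comm_L2 [Finite G] {H : Subgroup G} {c : G} (hc : c ∈ H)
    (hf : ∀ E, IsComp H E → Fixes c E) {l : G} (hl : l ∈ L2 H) : ⁅c, l⁆ ∈ core H := by
  obtain ⟨l, hl, rfl⟩ := hl
  have key : pLayer 2 ↥H ≤ (centralizer ({(QuotientGroup.mk ⟨c, hc⟩ : ↥H ⧸ oddCore ↥H)} :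
      Set (↥H ⧸ oddCore ↥H))).comap (QuotientGroup.mk' (oddCore ↥H)) := by
    refine sSup_le ?_
    intro K hK k hk
    have hE := isComp_of_subtype (show IsPComponent 2 K from hK)
    have h1 := (hf _ hE).2 k ⟨k, hk, rfl⟩
    have h2 := hE.core_le_core h1
    rw [commutator_mem_core_iff hc k.2] at h2
    rw [mem_comap, mem_centralizer_singleton_iff]
    exact h2.symm
  have h1 := key hl
  rw [mem_comap, mem_centralizer_singleton_iff] at h1
  exact (commutator_mem_core_iff hc l.2).mpr h1.symm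

/-- a group generated by commuting involutions -/
theorem closure_comm {Q : Type*} [Group Q] {S : Set Q} (hc : ∀ x ∈ S, ∀ y ∈ S, x * y = y * x) :
    ∀ x ∈ closure S, ∀ y ∈ closure S, x * y = y * x := by
  have h1 : closure S ≤ centralizer S := by
    rw [closure_le]
    intro x hx
    rw [SetLike.mem_coe, mem_centralizer_iff]
    exact fun y hy => hc y hy x hx
  have h2 : closure S ≤ centralizer (closure S : Set Q) := by
    rw [closure_le]
    intro x hx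
    rw [SetLike.mem_coe, mem_centralizer_iff]
    intro y hy
    exact ((mem_centralizer_iff.mp (h1 hy)) x hx).symm
  intro x hx y hy
  exact ((mem_centralizer_iff.mp (h2 hx)) y hy).symm

theorem closure_sq {Q : Type*} [Group Q] {S : Set Q} (hc : ∀ x ∈ S, ∀ y ∈ S, x * y = y * x)
    (h2 : ∀ x ∈ S, x * x = 1) : ∀ x ∈ closure S, x * x = 1 := by
  intro x hx
  refine closure_induction (p := fun x _ => x * x = 1) h2 (one_mul 1) ?_ ?_ hx
  · intro a b ha hb haa hbb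
    have h := closure_comm hc a ha b hb
    calc a * b * (a * b) = a * (b * a) * b := by group
      _ = (a * a) * (b * b) := by rw [← h]; group
      _ = 1 := by rw [haa, hbb, one_mul]
  · intro a _ haa
    rw [← mul_inv_rev, haa, inv_one]

end general

section good

variable {G : Type*} [Group G] [Finite G] {z : G} {L : Subgroup G}

omit [Finite G] in
/-- `A` is a subgroup of `C(b)` -/
theorem good_le {A : Subgroup G} {b : G} (h : Good A b) : A ≤ centralizer ({b} : Set G) :=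
  le_centralizer_singleton h.comm

/-- the conjugates of `A` under `C(b)` commute with `A` modulo the core -/
theorem conj_comm {A : Subgroup G} {b : G} (h : Good A b) {v w x : G} (hv : v ∈ A) (hw : w ∈ A)
    (hx : x ∈ centralizer ({b} : Set G)) :
    ⁅x * v * x⁻¹, w⁆ ∈ core (centralizer ({b} : Set G)) := by
  refine comm_L2 (mul_mem (mul_mem hx (good_le h hv)) (inv_mem hx)) (fun E hE => ?_) (h.le hw)
  have h1 : IsComp (centralizer ({b} : Set G)) (cj x⁻¹ E) := by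
    have := hE.cj x⁻¹
    rwa [cj_eq_self_of_mem (inv_mem hx)] at this
  have h2 := (h.fix v hv _ h1).cj x
  rwa [cj_cj_inv] at h2

/-- the normal closure of the image of `A` -/
theorem normalClosure_facts {A : Subgroup G} {b : G} (h : Good A b) (hA2 : ∀ a ∈ A, a * a = 1) :
    (∀ x ∈ normalClosure (qs (centralizer ({b} : Set G)) A : Set (↥(centralizer ({b} : Set G)) ⧸
        oddCore ↥(centralizer ({b} : Set G)))), ∀ y ∈ normalClosure
        (qs (centralizer ({b} : Set G)) A : Set (↥(centralizer ({b} : Set G)) ⧸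
        oddCore ↥(centralizer ({b} : Set G)))), x * y = y * x) := by
  have hS : ∀ s ∈ Group.conjugatesOfSet (qs (centralizer ({b} : Set G)) A :
      Set (↥(centralizer ({b} : Set G)) ⧸ oddCore ↥(centralizer ({b} : Set G)))),
      ∀ t ∈ Group.conjugatesOfSet (qs (centralizer ({b} : Set G)) A :
      Set (↥(centralizer ({b} : Set G)) ⧸ oddCore ↥(centralizer ({b} : Set G)))),
      s * t = t * s := by
    intro s hs t ht
    rw [Group.mem_conjugatesOfSet_iff] at hs ht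
    obtain ⟨v, hv, hs⟩ := hs
    obtain ⟨w, hw, ht⟩ := ht
    obtain ⟨x, rfl⟩ := isConj_iff.mp hs
    obtain ⟨y, rfl⟩ := isConj_iff.mp ht
    obtain ⟨⟨v, hvH⟩, hvA, rfl⟩ := hv
    obtain ⟨⟨w, hwH⟩, hwA, rfl⟩ := hw
    obtain ⟨⟨x, hx⟩, rfl⟩ := QuotientGroup.mk'_surjective _ x
    obtain ⟨⟨y, hy⟩, rfl⟩ := QuotientGroup.mk'_surjective _ y
    have h1 := conj_comm h (show v ∈ A from hvA) (show w ∈ A from hwA) (mul_mem (inv_mem hy) hx)
    have hc : y⁻¹ * x * v * (y⁻¹ * x)⁻¹ ∈ centralizer ({b} : Set G) :=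
      mul_mem (mul_mem (mul_mem (inv_mem hy) hx) hvH) (inv_mem (mul_mem (inv_mem hy) hx))
    rw [commutator_mem_core_iff hc hwH] at h1
    obtain ⟨π, hπ⟩ : ∃ π, π = QuotientGroup.mk' (oddCore ↥(centralizer ({b} : Set G))) := ⟨_, rfl⟩
    have h2 : (QuotientGroup.mk ⟨y⁻¹ * x * v * (y⁻¹ * x)⁻¹, hc⟩ : ↥(centralizer ({b} : Set G)) ⧸
        oddCore ↥(centralizer ({b} : Set G))) = (π ⟨y, hy⟩)⁻¹ * π ⟨x, hx⟩ * π ⟨v, hvH⟩ *
          ((π ⟨y, hy⟩)⁻¹ * π ⟨x, hx⟩)⁻¹ := by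
      rw [hπ]; rfl
    have h3 : (QuotientGroup.mk ⟨w, hwH⟩ : ↥(centralizer ({b} : Set G)) ⧸
        oddCore ↥(centralizer ({b} : Set G))) = π ⟨w, hwH⟩ := by rw [hπ]; rfl
    rw [h2, h3] at h1
    rw [← hπ]
    change π ⟨x, hx⟩ * π ⟨v, hvH⟩ * (π ⟨x, hx⟩)⁻¹ * (π ⟨y, hy⟩ * π ⟨w, hwH⟩ * (π ⟨y, hy⟩)⁻¹) =
      π ⟨y, hy⟩ * π ⟨w, hwH⟩ * (π ⟨y, hy⟩)⁻¹ * (π ⟨x, hx⟩ * π ⟨v, hvH⟩ * (π ⟨x, hx⟩)⁻¹)
    have h4 := congrArg (fun q => π ⟨y, hy⟩ * q * (π ⟨y, hy⟩)⁻¹) h1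
    calc π ⟨x, hx⟩ * π ⟨v, hvH⟩ * (π ⟨x, hx⟩)⁻¹ * (π ⟨y, hy⟩ * π ⟨w, hwH⟩ * (π ⟨y, hy⟩)⁻¹)
        = π ⟨y, hy⟩ * ((π ⟨y, hy⟩)⁻¹ * π ⟨x, hx⟩ * π ⟨v, hvH⟩ *
          ((π ⟨y, hy⟩)⁻¹ * π ⟨x, hx⟩)⁻¹ * π ⟨w, hwH⟩) * (π ⟨y, hy⟩)⁻¹ := by group
      _ = _ := h4
      _ = _ := by group
  exact closure_comm hS

/-- Sylow argument: an element of `C(b)` can be changed by an element of the normal closure such
that it normalizes `A`. -/
theorem exists_normalizer (_W : World z L) (T : Sylow 2 G) {b : G}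
    (h : Good (AA z (T : Subgroup G)) b) {x : G} (hx : x ∈ centralizer ({b} : Set G)) :
    ∃ c, ∃ hc : c ∈ centralizer ({b} : Set G),
      (QuotientGroup.mk ⟨c, hc⟩ : ↥(centralizer ({b} : Set G)) ⧸
        oddCore ↥(centralizer ({b} : Set G))) ∈
      normalClosure (qs (centralizer ({b} : Set G)) (AA z (T : Subgroup G)) :
        Set (↥(centralizer ({b} : Set G)) ⧸ oddCore ↥(centralizer ({b} : Set G)))) ∧
      c * x ∈ normalizer (AA z (T : Subgroup G) : Set G) := by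
  have hp2 : Fact (Nat.Prime 2) := ⟨Nat.prime_two⟩
  set A := AA z (T : Subgroup G) with hA
  set H := centralizer ({b} : Set G) with hH
  have hAH : A ≤ H := good_le h
  have hA2 : IsPGroup 2 A := T.isPGroup'.to_le (AA_le _ _)
  obtain ⟨N, hN⟩ : ∃ N : Subgroup G, N = ((normalClosure (qs H A : Set (↥H ⧸ oddCore ↥H))).comap
      (QuotientGroup.mk' (oddCore ↥H))).map H.subtype := ⟨_, rfl⟩
  have hAN : A ≤ N := by
    intro a ha
    rw [hN]
    exact ⟨⟨a, hAH ha⟩, subset_normalClosure ((mem_qs (hAH ha)).mpr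
      ⟨a, ⟨ha, hAH ha⟩, by simp⟩), rfl⟩
  have hxAN : cj x A ≤ N := by
    rintro _ ⟨a, ha, rfl⟩
    rw [hN]
    refine ⟨⟨x, hx⟩ * ⟨a, hAH ha⟩ * ⟨x, hx⟩⁻¹, ?_, rfl⟩
    rw [SetLike.mem_coe, mem_comap, map_mul, map_mul, map_inv]
    exact normalClosure_normal.conj_mem _ (subset_normalClosure ((mem_qs (hAH ha)).mpr
      ⟨a, ⟨ha, hAH ha⟩, by simp⟩)) _
  obtain ⟨R, hR, hAR⟩ := RelSylow.exists_isMaxP hA2 hAN
  have hxA2 : IsPGroup 2 ↥(cj x A) := hA2.map _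
  obtain ⟨c, hcN, hcR⟩ := hR.exists_conj_le hxA2 hxAN
  obtain ⟨T', hT'⟩ := hR.1.exists_le_sylow
  rw [hN] at hcN
  obtain ⟨c, hcq, rfl⟩ := hcN
  refine ⟨c, c.2, hcq, ?_⟩
  have h1 := World.inter_eq (z := z) (T := T) (T' := T') fun w hw hwT => hT' (hAR (mem_AA hw hwT))
  have h2 : A ≤ cj ((c : G) * x)⁻¹ A := by
    refine AA_le_of fun v hv hvT => ?_
    rw [mem_cj, inv_inv]
    have h3 : (c : G) * x * v * ((c : G) * x)⁻¹ ∈ (T' : Subgroup G) := by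
      apply hT'
      apply hcR
      refine ⟨x * v * x⁻¹, conj_mem_cj (mem_AA hv hvT), ?_⟩
      change (c : G) * (x * v * x⁻¹) * (c : G)⁻¹ = _
      group
    exact mem_AA (hv.conj _) (h1 _ (hv.conj _) h3)
  have h3 : cj ((c : G) * x) A ≤ A := by
    have := cj_mono (g := (c : G) * x) h2
    rwa [cj_cj_inv] at this
  rw [mem_normalizer_iff_cj]
  apply Subgroup.eq_of_le_of_card_ge h3
  exact (RelSylow.card_map_conj A ((c : G) * x)).ge

/-- `A` is normal in `C(b)` modulo the core -/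
theorem qs_normal (W : World z L) (T : Sylow 2 G) {b : G}
    (h : Good (AA z (T : Subgroup G)) b) :
    (qs (centralizer ({b} : Set G)) (AA z (T : Subgroup G))).Normal := by
  constructor
  intro a ha x
  obtain ⟨⟨a, haH⟩, haA, rfl⟩ := ha
  have haA' : a ∈ AA z (T : Subgroup G) := haA
  obtain ⟨⟨x, hx⟩, rfl⟩ := QuotientGroup.mk'_surjective _ x
  obtain ⟨c, hc, hcq, hcx⟩ := exists_normalizer W T h hx
  have hcomm := normalClosure_facts h (W.AA_sq T.isPGroup')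
  obtain ⟨π, hπ⟩ : ∃ π, π = QuotientGroup.mk' (oddCore ↥(centralizer ({b} : Set G))) := ⟨_, rfl⟩
  have haN : π ⟨a, haH⟩ ∈ normalClosure (qs (centralizer ({b} : Set G)) (AA z (T : Subgroup G)) :
      Set (↥(centralizer ({b} : Set G)) ⧸ oddCore ↥(centralizer ({b} : Set G)))) := by
    rw [hπ]
    exact subset_normalClosure ⟨_, haA, rfl⟩
  have h1 : π ⟨x, hx⟩ * π ⟨a, haH⟩ * (π ⟨x, hx⟩)⁻¹ ∈ normalClosure
      (qs (centralizer ({b} : Set G)) (AA z (T : Subgroup G)) :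
      Set (↥(centralizer ({b} : Set G)) ⧸ oddCore ↥(centralizer ({b} : Set G)))) :=
    normalClosure_normal.conj_mem _ haN _
  have h2 := hcomm _ hcq _ h1
  have h3 : (QuotientGroup.mk ⟨c, hc⟩ : ↥(centralizer ({b} : Set G)) ⧸
      oddCore ↥(centralizer ({b} : Set G))) = π ⟨c, hc⟩ := by rw [hπ]; rfl
  rw [h3] at h2
  have h4 : π ⟨x, hx⟩ * π ⟨a, haH⟩ * (π ⟨x, hx⟩)⁻¹ =
      π ⟨c * x * a * (c * x)⁻¹, mul_mem (mul_mem (mul_mem hc hx) haH) (inv_mem (mul_mem hc hx))⟩ := by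
    have h5 : π ⟨c * x * a * (c * x)⁻¹, mul_mem (mul_mem (mul_mem hc hx) haH)
        (inv_mem (mul_mem hc hx))⟩ = π ⟨c, hc⟩ * (π ⟨x, hx⟩ * π ⟨a, haH⟩ * (π ⟨x, hx⟩)⁻¹) *
          (π ⟨c, hc⟩)⁻¹ := by
      have : (⟨c * x * a * (c * x)⁻¹, mul_mem (mul_mem (mul_mem hc hx) haH)
        (inv_mem (mul_mem hc hx))⟩ : ↥(centralizer ({b} : Set G))) =
          ⟨c, hc⟩ * (⟨x, hx⟩ * ⟨a, haH⟩ * ⟨x, hx⟩⁻¹) * ⟨c, hc⟩⁻¹ := by
        apply Subtype.ext
        simp only [Subgroup.coe_mul, Subgroup.coe_inv, mul_inv_rev, mul_assoc]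
      rw [this, map_mul, map_mul, map_mul, map_mul, map_inv, map_inv]
    rw [h5, h2, mul_inv_cancel_right]
  rw [← hπ, h4, hπ]
  exact ⟨_, (mem_normalizer_iff.mp hcx a).mp haA', rfl⟩

/-- **(4.3)** `C(b) = O(C(b)) N_{C(b)}(A)` -/
theorem norm (W : World z L) (T : Sylow 2 G) {b : G} (h : Good (AA z (T : Subgroup G)) b) {x : G}
    (hx : x ∈ centralizer ({b} : Set G)) :
    ∃ o ∈ core (centralizer ({b} : Set G)), o * x ∈ normalizer (AA z (T : Subgroup G) : Set G) := by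
  have hp2 : Fact (Nat.Prime 2) := ⟨Nat.prime_two⟩
  have hn := qs_normal W T h
  set A := AA z (T : Subgroup G) with hA
  set H := centralizer ({b} : Set G) with hH
  have hAH : A ≤ H := good_le h
  have hA2 : IsPGroup 2 A := T.isPGroup'.to_le (AA_le _ _)
  have hAn : A ≤ normalizer (core H : Set G) := hAH.trans (le_normalizer_core H)
  have hmul : ∀ y : G, y ∈ A ⊔ core H → ∃ a ∈ A, ∃ o ∈ core H, y = a * o := by
    intro y hy
    have h1 : y ∈ ((A ⊔ core H : Subgroup G) : Set G) := hy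
    rw [Subgroup.coe_mul_of_left_le_normalizer_right _ _ hAn] at h1
    obtain ⟨a, ha, o, ho, rfl⟩ := h1
    exact ⟨a, ha, o, ho, rfl⟩
  have hmax : RelSylow.IsMaxP 2 (A ⊔ core H) A := by
    refine ⟨hA2, le_sup_left, fun R' hR' hR'le hAR' => ?_⟩
    intro r hr
    obtain ⟨a, ha, o, ho, rfl⟩ := hmul r (hR'le hr)
    have hoR : o ∈ R' := by
      have := mul_mem (inv_mem (hAR' ha)) hr
      rwa [inv_mul_cancel_left] at this
    obtain ⟨k, hk⟩ := hR' ⟨o, hoR⟩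
    have ho1 : o = 1 := eq_one_of_mem_core ho (n := k) (congrArg Subtype.val hk)
    rw [ho1, mul_one]; exact ha
  have hxA : cj x A ≤ A ⊔ core H := by
    rintro _ ⟨a, ha, rfl⟩
    have h1 := hn.conj_mem (QuotientGroup.mk ⟨a, hAH ha⟩) ((mem_qs (hAH ha)).mpr
      ⟨a, ⟨ha, hAH ha⟩, by simp⟩) (QuotientGroup.mk ⟨x, hx⟩)
    have h2 : (QuotientGroup.mk ⟨x, hx⟩ : ↥H ⧸ oddCore ↥H) * QuotientGroup.mk ⟨a, hAH ha⟩ *
        (QuotientGroup.mk ⟨x, hx⟩)⁻¹ = QuotientGroup.mk ⟨x * a * x⁻¹,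
          mul_mem (mul_mem hx (hAH ha)) (inv_mem hx)⟩ := rfl
    rw [h2, mem_qs] at h1
    obtain ⟨j, hj, hjc⟩ := h1
    change x * a * x⁻¹ ∈ _
    have h3 : x * a * x⁻¹ = j * (j⁻¹ * (x * a * x⁻¹)) := by group
    rw [h3]
    exact mul_mem (mem_sup_left hj.1) (mem_sup_right hjc)
  obtain ⟨c, hc, hcA⟩ := hmax.exists_conj_le (hA2.map (MulAut.conj x).toMonoidHom) hxA
  obtain ⟨a, ha, o, ho, rfl⟩ := hmul c hc
  refine ⟨o, ho, ?_⟩
  rw [mem_normalizer_iff_cj]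
  have h1 : cj (o * x) A ≤ A := by
    rintro _ ⟨y, hy, rfl⟩
    change o * x * y * (o * x)⁻¹ ∈ A
    have h2 : (a * o) * (x * y * x⁻¹) * (a * o)⁻¹ ∈ A := hcA ⟨x * y * x⁻¹, ⟨y, hy, rfl⟩, rfl⟩
    have h3 : o * x * y * (o * x)⁻¹ = a⁻¹ * ((a * o) * (x * y * x⁻¹) * (a * o)⁻¹) * a := by group
    rw [h3]
    exact mul_mem (mul_mem (inv_mem ha) h2) ha
  exact Subgroup.eq_of_le_of_card_ge h1 (RelSylow.card_map_conj A (o * x)).ge

/-- **(4.3)** balance -/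
theorem bal (W : World z L) (T : Sylow 2 G) {a b : G} (ha : a ∈ AA z (T : Subgroup G))
    (h : Good (AA z (T : Subgroup G)) b) :
    core (centralizer ({a} : Set G)) ⊓ centralizer ({b} : Set G) ≤
      core (centralizer ({b} : Set G)) := by
  have hp2 : Fact (Nat.Prime 2) := ⟨Nat.prime_two⟩
  have hn := qs_normal W T h
  have hA2 := W.AA_sq T.isPGroup'
  have hAc := W.AA_comm T.isPGroup'
  set A := AA z (T : Subgroup G) with hA
  set H := centralizer ({b} : Set G) with hH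
  have hAH : A ≤ H := good_le h
  have hAa : A ≤ centralizer ({a} : Set G) := fun y hy =>
    mem_centralizer_singleton_iff.mpr (hAc y hy a ha)
  obtain ⟨D, hD⟩ : ∃ D, D = core (centralizer ({a} : Set G)) ⊓ H := ⟨_, rfl⟩
  rw [← hD]
  have hDH : D ≤ H := hD ▸ inf_le_right
  have hDodd : Odd (Nat.card D) := by
    rw [hD]
    exact Odd.of_dvd_nat (odd_card_core _) (card_dvd_of_le inf_le_left)
  -- elements of `C(a) ∩ H` normalize `D`
  have hconj : ∀ y ∈ centralizer ({a} : Set G), y ∈ H → ∀ d ∈ D, y * d * y⁻¹ ∈ D := by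
    intro y hy hyH d hd
    rw [hD] at hd ⊢
    exact mem_inf.mpr ⟨conj_mem_core (le_normalizer hy) hd.1,
      H.mul_mem (H.mul_mem hyH hd.2) (H.inv_mem hyH)⟩
  -- the images
  have hqA2 : ∀ q ∈ qs H A, q * q = 1 := by
    rintro _ ⟨⟨y, hyH⟩, hy, rfl⟩
    rw [← map_mul, ← map_one (QuotientGroup.mk' (oddCore ↥H))]
    congr 1
    exact Subtype.ext (hA2 y hy)
  have hqDodd : Odd (Nat.card (qs H D)) := by
    have h1 : Nat.card (qs H D) ∣ Nat.card (D.subgroupOf H) := Subgroup.card_map_dvd _ _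
    rw [Nat.card_congr (subgroupOfEquivOfLe hDH).toEquiv] at h1
    exact Odd.of_dvd_nat hDodd h1
  have hdisj : ∀ q, q ∈ qs H A → q ∈ qs H D → q = 1 := by
    intro q h1 h2
    exact eq_one_of_mem_odd hqDodd h2 (n := 1) (by rw [pow_one, pow_two]; exact hqA2 q h1)
  -- `D` commutes with `A` modulo the core
  have hle : qs H D ≤ centralizer (qs H A : Set (↥H ⧸ oddCore ↥H)) := by
    rintro _ ⟨⟨d, hdH⟩, hd, rfl⟩
    rw [mem_centralizer_iff]
    rintro _ ⟨⟨y, hyH⟩, hy, rfl⟩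
    have hd' : d ∈ D := hd
    have hy' : y ∈ A := hy
    obtain ⟨π, hπ⟩ : ∃ π, π = QuotientGroup.mk' (oddCore ↥H) := ⟨_, rfl⟩
    rw [← hπ]
    have h1 : π ⟨d, hdH⟩ * π ⟨y, hyH⟩ * (π ⟨d, hdH⟩)⁻¹ * (π ⟨y, hyH⟩)⁻¹ ∈ qs H A := by
      refine mul_mem (hn.conj_mem _ ?_ _) (inv_mem ?_) <;> rw [hπ] <;> exact ⟨_, hy, rfl⟩
    have h2 : π ⟨d, hdH⟩ * π ⟨y, hyH⟩ * (π ⟨d, hdH⟩)⁻¹ * (π ⟨y, hyH⟩)⁻¹ ∈ qs H D := by
      have h3 : y * d⁻¹ * y⁻¹ ∈ D := hconj y (hAa hy') hyH _ (inv_mem hd')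
      have h4 : π ⟨d, hdH⟩ * π ⟨y, hyH⟩ * (π ⟨d, hdH⟩)⁻¹ * (π ⟨y, hyH⟩)⁻¹ =
          π ⟨d, hdH⟩ * π ⟨y * d⁻¹ * y⁻¹, hDH h3⟩ := by
        have h5 : π ⟨y * d⁻¹ * y⁻¹, hDH h3⟩ = π ⟨y, hyH⟩ * (π ⟨d, hdH⟩)⁻¹ * (π ⟨y, hyH⟩)⁻¹ := by
          rw [hπ]; rfl
        rw [h5]; group
      rw [h4]
      refine mul_mem ?_ ?_ <;> rw [hπ]
      · exact ⟨_, hd, rfl⟩
      · exact ⟨_, h3, rfl⟩
    have h3 := hdisj _ h1 h2
    rw [mul_inv_eq_one, mul_inv_eq_iff_eq_mul] at h3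
    exact h3.symm
  -- `D` is normal in the centralizer of `A` modulo the core
  have hnorm : ((qs H D).subgroupOf (centralizer (qs H A : Set (↥H ⧸ oddCore ↥H)))).Normal := by
    constructor
    rintro ⟨q, hq⟩ hqD ⟨x, hx⟩
    rw [mem_subgroupOf] at hqD ⊢
    obtain ⟨⟨d, hdH⟩, hd, hdq⟩ := hqD
    have hd' : d ∈ D := hd
    obtain ⟨⟨x, hxH⟩, rfl⟩ := QuotientGroup.mk_surjective x
    have haH : a ∈ H := hAH ha
    have h1 : (QuotientGroup.mk ⟨x, hxH⟩ : ↥H ⧸ oddCore ↥H) * QuotientGroup.mk ⟨a, haH⟩ =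
        QuotientGroup.mk ⟨a, haH⟩ * QuotientGroup.mk ⟨x, hxH⟩ :=
      ((mem_centralizer_iff.mp hx) _ ⟨⟨a, haH⟩, ha, rfl⟩).symm
    rw [mk_comm_iff] at h1
    obtain ⟨o, ho, hoa⟩ := Lifting.exists_commute (odd_card_core H) (v := a) (m := x) (n := 1)
      (by rw [pow_one, pow_two]; exact hA2 a ha) (le_normalizer_core H haH) h1
    have hxo : x * o ∈ centralizer ({a} : Set G) := mem_centralizer_singleton_iff.mpr hoa.symm
    have hxoH : x * o ∈ H := mul_mem hxH (core_le H ho)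
    have h2 := hconj (x * o) hxo hxoH d hd'
    have h3 : (QuotientGroup.mk ⟨x * o, hxoH⟩ : ↥H ⧸ oddCore ↥H) = QuotientGroup.mk ⟨x, hxH⟩ := by
      rw [mk_eq_mk_iff', mul_inv_rev, mul_assoc, inv_mul_cancel, mul_one]
      exact inv_mem ho
    refine ⟨⟨x * o * d * (x * o)⁻¹, hDH h2⟩, h2, ?_⟩
    change (QuotientGroup.mk ⟨x * o * d * (x * o)⁻¹, hDH h2⟩ : ↥H ⧸ oddCore ↥H) =
      QuotientGroup.mk ⟨x, hxH⟩ * q * (QuotientGroup.mk ⟨x, hxH⟩)⁻¹
    have h4 : q = QuotientGroup.mk ⟨d, hdH⟩ := hdq.symm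
    rw [h4, ← h3]
    rfl
  -- conclusion
  have hsub : (qs H D).IsSubnormal := by
    have h1 : (centralizer (qs H A : Set (↥H ⧸ oddCore ↥H))).Normal := by
      infer_instance
    exact Subgroup.IsSubnormal.step _ _ hle h1.isSubnormal hnorm
  have h1 := CompBasic.subnormal_coprime_le_pPrimeCore (p := 2) hsub
    (Nat.coprime_two_right.mpr hqDodd)
  rw [Lib.Cores.pPrimeCore_quotient_pPrimeCore] at h1
  intro d hd
  have h2 : (QuotientGroup.mk ⟨d, hDH hd⟩ : ↥H ⧸ oddCore ↥H) ∈ qs H D :=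
    (mem_qs (hDH hd)).mpr ⟨d, ⟨hd, hDH hd⟩, by simp⟩
  exact (mk_eq_one_iff (hDH hd)).mp (mem_bot.mp (h1 h2))

end good

end Cfsg.Agent.Intrinsic.WZeroThree
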