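import Cfsg.Agent.Intrinsic.Final
import Cfsg.Agent.Intrinsic.WZeroThree
import Cfsg.Agent.Intrinsic.WZeroEight
import Cfsg.Agent.Intrinsic.WZeroFun
import Cfsg.Agent.ProdFusion.FunctorComplete
import Cfsg.Agent.S0215

/-!
# S1738, section 4: assembly of `Final.ZeroStmt`
-/

set_option autoImplicit false

open Cfsg Subgroup
open Cfsg.Agent.SignalizersComponents
open Cfsg.Agent.SignalizersComponents.IntrinsicBasic
open Cfsg.Agent.Intrinsic.Basic Cfsg.Agent.Intrinsic.Cen Cfsg.Agent.Intrinsic.Quot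

namespace Cfsg.Agent.Intrinsic.ZeroEnd

universe u

/-- The world of section 4 -/
theorem world {G : Type u} [Group G] [Finite G] {n : ℕ} {z : G} {L : Subgroup G}
    (hW : TypesDef.World n z L)
    (h0 : ∀ u v X X', TypesDef.Om z L u X → TypesDef.Om z L v X' → u * v = v * u → Fixes v X) :
    WZero.World z L := by
  have hom : ∀ {u X}, WZero.Om z L u X → TypesDef.Om z L u X := by
    rintro u X ⟨g, h1, h2⟩
    exact ⟨g, h1, h2.symm⟩
  have hex : ∀ {u}, WZero.InD z u → ∃ X, TypesDef.Om z L u X := by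
    rintro u ⟨g, h1⟩
    exact ⟨_, g, h1, rfl⟩
  refine ⟨hW.pair.sq, hW.pair.ne_one, hW.pair.mem, hW.pair.comp, ?_, ?_⟩
  · intro u X v hX hv hvu
    obtain ⟨X', hX'⟩ := hex hv
    exact h0 u v X X' (hom hX) hX' hvu.symm
  · intro u X x hX hxx hx1 hxu hf
    have hp := (hom hX).pair hW.pair
    have hM := WOne.pump_comp hp hxx hxu hf
    have hle := WOne.cen_le_pump hp hxx hxu hf
    have huM := WOne.mem_pump hp hxx hxu hf
    have hxC : x ∈ centralizer ({u} : Set G) := mem_centralizer_singleton_iff.mpr hxu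
    have hcovJ := (cover_cen hp.comp hxC hxx hf (C := ↥(alternatingGroup (Fin n)))).mpr hp.cover
    rcases WOne.isSmall_or_isBig hW.ih hW.le hW.cent hp hxx hx1 hxu hf with hs | hb
    · refine ⟨WOne.pump x X, hM, hle, huM, hs.fixes hp hxu, fun a ha hfa => ?_⟩
      have hcovM : IsNonsplitDoubleCover (↥(WOne.pump x X) ⧸ oddCore ↥(WOne.pump x X))
          ↥(alternatingGroup (Fin n)) := by
        have h2 : cen X x ⊔ core (WOne.pump x X) = WOne.pump x X := hs
        rw [← cover_of_sup h2]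
        exact hcovJ
      refine WZeroFour.center_two (by have := hW.le; omega) hcovM ha hfa huM (hs.fixes hp hxu) ?_
      intro h
      exact hp.ne_one (eq_one_of_mem_core_sq h hp.sq)
    · exfalso
      obtain ⟨a, ha, b, hb', haa, -, -, hfa, -, -⟩ := WZeroFour.exists_four_lift hW.le hcovJ
      have ha1 : a ≠ 1 := by
        rintro rfl
        exact hfa (WZero.fixes_one _)
      obtain ⟨g, -, hg⟩ := Big.conj hb hp.sq (hle ha) haa ha1
      have hau : a * u = u * a := pair_comm hp (cen_le X x ha)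
      obtain ⟨k, hk, -⟩ := hom hX
      obtain ⟨Y, hY⟩ := hex (show WZero.InD z a from ⟨g * k, by rw [← hg, ← hk]; group⟩)
      have h1 := h0 u a X Y (hom hX) hY hau.symm
      apply hfa
      rw [fixes_iff_of_sup (isComp_cen hp.comp hxC hxx hf).2 (le_normalizer ha)
        (le_normalizer (cen_le X x ha))]
      exact h1

/-- no element of `A#` is isolated in `T` -/
theorem exists_conj_ne {G : Type u} [Group G] [Finite G] [IsSimpleGroup G] {z : G} {L : Subgroup G}
    (W : WZero.World z L) (hc : ∀ x : G, orderOf x = 2 → centralizer ({x} : Set G) ≠ ⊤)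
    (T : Sylow 2 G) {v : G} (hvA : v ∈ WZero.AA z (T : Subgroup G)) (hv1 : v ≠ 1) :
    ∃ g, g * v * g⁻¹ ∈ (T : Subgroup G) ∧ g * v * g⁻¹ ≠ v := by
  by_contra hcon
  push Not at hcon
  have hvo : orderOf v = 2 := WZeroFive.orderOf_two (W.AA_sq T.isPGroup' v hvA) hv1
  obtain ⟨N, hN, hodd, hNv⟩ := Cfsg.Agent.S0215.result T v hvo (WZero.AA_le _ _ hvA) hcon
  rcases hN.eq_bot_or_eq_top with h | h
  · apply hc v hvo
    rw [eq_top_iff]
    intro g _
    have h1 := hNv g
    rw [h, mem_bot] at h1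
    rw [mem_centralizer_singleton_iff]
    have h3 : v * g = g * v := by
      calc v * g = (v * g * v⁻¹ * g⁻¹) * g * v := by group
        _ = g * v := by rw [h1, one_mul]
    exact h3.symm
  · rw [h, card_top] at hodd
    have h4 := orderOf_dvd_natCard v
    rw [hvo] at h4
    exact (Nat.not_even_iff_odd.mpr hodd) (even_iff_two_dvd.mpr h4)

/-- **Section 4.** -/
theorem zeroStmt
    (hCrit : ∀ (G : Type u) [Group G] [Finite G] [IsSimpleGroup G], WZeroFive.Crit G) :
    Final.ZeroStmt.{u} := by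
  intro G _ _ _ n z L hW h0
  have W := world hW h0
  have hp2 : Fact (Nat.Prime 2) := ⟨Nat.prime_two⟩
  obtain ⟨T⟩ : Nonempty (Sylow 2 G) := inferInstance
  obtain ⟨t, ht, b, -, htt, -, -, hf, -, -⟩ := WZeroFour.exists_four_lift hW.le hW.pair.cover
  exact WZeroEight.false_of_odd W (hCrit G) ht htt hf T
    (W.odd_WW T Cfsg.Agent.ProdFusion.FunctorComplete.complete
      (fun H hH => Cfsg.Agent.S0205.result hH)
      (fun c hc hc1 => exists_conj_ne W hW.cent T hc hc1) hW.le hW.pair.cover)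
    (fun a ha ha1 x hx => WZeroThree.norm W T (W.good_of_mem T.isPGroup' ha ha1) hx)

end Cfsg.Agent.Intrinsic.ZeroEnd
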