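import Cfsg.Agent.S0205
import Cfsg.Agent.S0222
import Cfsg.Agent.S1174
import Cfsg.Agent.S1175
import Cfsg.Agent.TwoFusion.ClosedCommutator
import Cfsg.Agent.Intrinsic.ZeroEnd
import Cfsg.Agent.Intrinsic.NZFinal
import Cfsg.Agent.Intrinsic.WOneA.PairFinal

/-!
# S1738: the three worlds from the cited statements
-/

set_option autoImplicit false

open Cfsg Subgroup

namespace Cfsg.Agent.Intrinsic.Ext

universe u

theorem hBen : BigBal.BenderSimple.{u} :=
  fun _ _ _ _ hna H hH => Cfsg.Agent.S0222.result hna H hH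

theorem zero : Final.ZeroStmt.{u} :=
  ZeroEnd.zeroStmt fun _ _ _ _ S T h1 h2 h3 => Cfsg.Agent.S1174.result S T h1 h2 h3

theorem nz : Final.NZStmt.{u} :=
  NZFinal.nzStmt hBen (fun _ _ _ h => Cfsg.Agent.S0205.result h)
    fun _ _ _ P A B h1 h2 h3 => Cfsg.Agent.TwoFusion.ClosedCommutator.commutator_le P A B h1 h2 h3

theorem pair : Final.PairStmt.{u} :=
  WOneA.PairFinal.pairStmt hBen
    (fun _ _ _ _ M hM z hz hzM h1 h2 h3 => Cfsg.Agent.S1175.result M hM z hz hzM h1 h2 h3)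
    fun _ _ _ _ h => Cfsg.Agent.S0205.result h

end Cfsg.Agent.Intrinsic.Ext
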