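import Cfsg.Agent.S0058
import Cfsg.Agent.SignalizersComponents.SolFunctorTwo
import Cfsg.Agent.SignalizersComponents.GoldschmidtFunctor
import Cfsg.Agent.SignalizersComponents.GoldschmidtGen
import Cfsg.Agent.Lib.CoprimeCommutator
import Cfsg.Agent.SignalizersComponents.IntrinsicBasic
import Cfsg.Agent.SignalizersComponents.FunctorTools

/-!
# S1738 : the signalizer functor arguments, general part

`th a = O(C_G(a))`, `W A = ⟨O(C_G(a)) : a ∈ A#⟩`.  `OddSol G` : subgroups of odd order are solvable (S0205; a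
hypothesis here, so that the file does not import the odd order theorem).

* `closure_of_separated` : `A₁, A₂` core-separated four-groups,
  `O(C(a)) ∩ C(A₂) ≤ O(C(A₂))` for `a ∈ A₁#`  ⟹ `W A₁` is odd and `W A₁ ∩ C(a) = O(C(a))` for `a ∈ A₁#`;
* `eq_of_separated` : with the inclusions in both directions also `W A₁ = W A₂`;
* `closure_of_rank` : `A` elementary abelian of order `≥ 8`, `O(C(a)) ∩ C(b) ≤ O(C(b))` for `a, b ∈ A#`.
-/

set_option autoImplicit false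

namespace Cfsg.Agent.Intrinsic.Functor

open Subgroup Cfsg
open Cfsg.Agent.SignalizersComponents
open Cfsg.Agent.SignalizersComponents.PLayerAut
open Cfsg.Agent.SignalizersComponents.IntrinsicBasic
open scoped commutatorElement

universe u

variable {G : Type u} [Group G]

/-- subgroups of odd order are solvable -/
def OddSol (G : Type u) [Group G] : Prop := ∀ Y : Subgroup G, Odd (Nat.card Y) → Group.IsSolvable Y

/-- the core of the centralizer -/
abbrev th (a : G) : Subgroup G := centralizerPPrimeCore 2 a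

theorem th_eq (a : G) : th a = relCore 2 (centralizer ({a} : Set G)) := rfl

/-- the join of the `O(C_G(e))`, `e ∈ E#` -/
def W (E : Subgroup G) : Subgroup G := ⨆ a : {a : G // a ∈ E ∧ a ≠ 1}, th (a : G)

theorem le_W {E : Subgroup G} {a : G} (ha : a ∈ E) (ha1 : a ≠ 1) : th a ≤ W E :=
  le_iSup (fun a : {a : G // a ∈ E ∧ a ≠ 1} => th (a : G)) ⟨a, ha, ha1⟩

theorem W_le {E H : Subgroup G} (h : ∀ a ∈ E, a ≠ 1 → th a ≤ H) : W E ≤ H :=
  iSup_le fun a => h a a.2.1 a.2.2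

theorem th_cj (g a : G) : th (g * a * g⁻¹) = cj g (th a) := by
  rw [th_eq, th_eq, cj_relCore, cj_centralizer]

theorem cj_W (g : G) (E : Subgroup G) : cj g (W E) = W (cj g E) := by
  apply le_antisymm
  · unfold W
    rw [cj_def, Subgroup.map_iSup]
    refine iSup_le fun a => ?_
    have h1 : g * (a : G) * g⁻¹ ∈ cj g E := conj_mem_cj a.2.1
    have h2 : g * (a : G) * g⁻¹ ≠ 1 := fun h => a.2.2 (by
      have := congrArg (fun y => g⁻¹ * y * g) h
      simpa [mul_assoc] using this)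
    have h3 := le_W h1 h2
    rw [th_cj] at h3
    exact h3
  · apply W_le
    rintro b hb hb1
    obtain ⟨a, ha, rfl⟩ := hb
    have ha1 : a ≠ 1 := fun h => hb1 (by rw [h, map_one])
    show th (g * a * g⁻¹) ≤ _
    rw [th_cj]
    exact cj_mono (le_W ha ha1)

/-- elements normalising `E` normalise `W` -/
theorem normalizer_le (E : Subgroup G) : normalizer (E : Set G) ≤ normalizer (W E : Set G) := by
  intro n hn
  rw [mem_normalizer_iff_cj] at hn ⊢
  rw [cj_W, hn]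

theorem isPGroup_of_sq {A : Subgroup G} (h : ∀ a ∈ A, a ^ 2 = 1) : IsPGroup 2 A := by
  rintro ⟨x, hx⟩
  exact ⟨1, Subtype.ext (by show x ^ 2 ^ 1 = 1; rw [pow_one]; exact h x hx)⟩

/-- Goldschmidt's functor for a pair of core-separated four-groups -/
def gf (A₁ A₂ : Subgroup G) (a : G) : Subgroup G :=
  (⁅th a, A₁⁆ ⊔ (th a ⊓ relCore 2 (centralizer (A₁ : Set G)))) ⊓
    (⁅th a, A₂⁆ ⊔ (th a ⊓ relCore 2 (centralizer (A₂ : Set G))))

variable [Finite G]

theorem conj_mem_th {a c x : G} (hc : c * a = a * c) (hx : x ∈ th a) : c * x * c⁻¹ ∈ th a :=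
  conj_mem_relCore' (mem_centralizer_singleton_iff.mpr hc) hx

theorem th_odd (a : G) : Odd (Nat.card (th a)) := odd_card_relCore _

theorem not_two_dvd_th (a : G) : ¬ 2 ∣ Nat.card (th a) := by
  have h := th_odd a
  rw [Nat.odd_iff] at h
  omega

/-- generation by centralizers of the elements of a subgroup of order at least 4 -/
theorem gen_le {F K : Subgroup G} (hFc : ∀ a ∈ F, ∀ b ∈ F, a * b = b * a) (hF2 : ∀ a ∈ F, a * a = 1)
    (hF4 : 4 ≤ Nat.card F) (hK : Odd (Nat.card K)) (hFK : F ≤ normalizer (K : Set G))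
    {H : Subgroup G} (h : ∀ f ∈ F, f ≠ 1 → K ⊓ centralizer ({f} : Set G) ≤ H) : K ≤ H := by
  have : IsMulCommutative F := IsMulCommutative.of_setLike_mul_comm hFc
  have hncyc : ¬ IsCyclic F := by
    intro hcyc
    obtain ⟨g, hg⟩ := IsCyclic.exists_generator (α := F)
    have h3 : orderOf g = Nat.card F := orderOf_eq_card_of_forall_mem_zpowers hg
    have h4 : g ^ 2 = 1 := by
      ext
      simpa [pow_two] using hF2 g g.2
    have h5 : orderOf g ≤ 2 := orderOf_le_of_pow_eq_one (by norm_num) h4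
    omega
  have hp : IsPGroup 2 F := by
    rintro ⟨x, hx⟩
    exact ⟨1, Subtype.ext (by show x ^ 2 ^ 1 = 1; rw [pow_one, pow_two]; exact hF2 x hx)⟩
  have hcop : (Nat.card F).Coprime (Nat.card K) := by
    have h2 : Fact (Nat.Prime 2) := ⟨Nat.prime_two⟩
    obtain ⟨n, hn⟩ := (IsPGroup.iff_card (p := 2)).1 hp
    rw [hn]
    exact Nat.Coprime.pow_left n (Nat.coprime_two_left.2 hK)
  have h7 := S0058.result F K hncyc hFK hcop
  rw [← h7]
  refine iSup₂_le ?_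
  rintro a ⟨ha, ha1⟩
  exact h a ha ha1

/-- `O(C_G(a)) ∩ C_G(A) ≤ O(C_G(A))` for `a ∈ A`. -/
theorem th_inf_le {A : Subgroup G} {a : G} (ha : a ∈ A) :
    th a ⊓ centralizer (A : Set G) ≤ relCore 2 (centralizer (A : Set G)) := by
  apply le_relCore inf_le_right
  · refine ⟨fun x hx c => ?_⟩
    rw [mem_subgroupOf] at hx ⊢
    refine ⟨?_, (c * x * c⁻¹).2⟩
    refine conj_mem_th ?_ hx.1
    exact (mem_centralizer_iff.mp c.2 a ha).symm
  · exact Odd.of_dvd_nat (th_odd a) (Subgroup.card_dvd_of_le inf_le_left)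

/-- one factor of Goldschmidt's functor -/
theorem factor_eq {A : Subgroup G} {a : G} (hA : IsPGroup 2 A) (hc : ∀ b ∈ A, b * a = a * b)
    (h : th a ⊓ centralizer (A : Set G) ≤ relCore 2 (centralizer (A : Set G))) :
    ⁅th a, A⁆ ⊔ (th a ⊓ relCore 2 (centralizer (A : Set G))) = th a := by
  haveI : Fact (Nat.Prime 2) := ⟨Nat.prime_two⟩
  have hn : A ≤ normalizer (th a : Set G) := by
    intro b hb
    exact normalizer_le_normalizer_relCore 2 _
      (le_normalizer (mem_centralizer_singleton_iff.mpr (hc b hb)))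
  apply le_antisymm
  · refine sup_le ?_ inf_le_left
    rw [Subgroup.commutator_le]
    intro x hx b hb
    have h1 : b * x⁻¹ * b⁻¹ ∈ th a := conj_mem_th (hc b hb) (inv_mem hx)
    have h2 : ⁅x, b⁆ = x * (b * x⁻¹ * b⁻¹) := by
      rw [commutatorElement_def]; group
    rw [h2]
    exact mul_mem hx h1
  · intro x hx
    obtain ⟨m, hm, c, hc', rfl⟩ := Lib.CoprimeCommutator.exists_commutator_mul_fixed_of_isPGroup 2 A (th a) hA hn
      (not_two_dvd_th a) x hx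
    exact mul_mem (mem_sup_left hm) (mem_sup_right ⟨hc'.1, h hc'⟩)

theorem card_sup_le {A₁ A₂ : Subgroup G} (h : A₁ ⊓ A₂ = ⊥) :
    Nat.card A₁ * Nat.card A₂ ≤ Nat.card ↥(A₁ ⊔ A₂) := by
  rw [← Nat.card_prod]
  let f : A₁ × A₂ → ↥(A₁ ⊔ A₂) := fun p => ⟨(p.1 : G) * p.2,
    mul_mem (mem_sup_left p.1.2) (mem_sup_right p.2.2)⟩
  apply Nat.card_le_card_of_injective f
  rintro ⟨⟨a, ha⟩, ⟨b, hb⟩⟩ ⟨⟨c, hc⟩, ⟨d, hd⟩⟩ e
  have e1 : a * b = c * d := congrArg Subtype.val e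
  have e2 : c⁻¹ * a = d * b⁻¹ := by
    calc c⁻¹ * a = c⁻¹ * (a * b) * b⁻¹ := by group
      _ = c⁻¹ * (c * d) * b⁻¹ := by rw [e1]
      _ = d * b⁻¹ := by group
  have e3 : c⁻¹ * a ∈ A₁ ⊓ A₂ := ⟨A₁.mul_mem (A₁.inv_mem hc) ha, by
    rw [e2]; exact A₂.mul_mem hd (A₂.inv_mem hb)⟩
  rw [h, mem_bot] at e3
  have e4 : a = c := by
    calc a = c * (c⁻¹ * a) := by group
      _ = c := by rw [e3, mul_one]
  subst e4
  have e5 : b = d := mul_left_cancel e1
  subst e5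
  rfl

omit [Finite G] in
theorem comm_sup {A₁ A₂ : Subgroup G} (h1 : ∀ a ∈ A₁, ∀ b ∈ A₁, a * b = b * a)
    (h2 : ∀ a ∈ A₂, ∀ b ∈ A₂, a * b = b * a) (h : ∀ a ∈ A₁, ∀ b ∈ A₂, a * b = b * a) :
    ∀ a ∈ A₁ ⊔ A₂, ∀ b ∈ A₁ ⊔ A₂, a * b = b * a := by
  have k1 : A₁ ⊔ A₂ ≤ centralizer (A₁ : Set G) := sup_le
    (fun a ha => mem_centralizer_iff.mpr fun b hb => h1 b hb a ha)
    (fun a ha => mem_centralizer_iff.mpr fun b hb => h b hb a ha)
  have k2 : A₁ ⊔ A₂ ≤ centralizer (A₂ : Set G) := sup_le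
    (fun a ha => mem_centralizer_iff.mpr fun b hb => (h a ha b hb).symm)
    (fun a ha => mem_centralizer_iff.mpr fun b hb => h2 b hb a ha)
  have k3 : A₁ ⊔ A₂ ≤ centralizer ((A₁ ⊔ A₂ : Subgroup G) : Set G) := by
    rw [le_centralizer_iff]
    exact sup_le (le_centralizer_iff.mp k1) (le_centralizer_iff.mp k2)
  intro a ha b hb
  exact (mem_centralizer_iff.mp (k3 ha) b hb).symm

omit [Finite G] in
theorem sq_sup {A₁ A₂ : Subgroup G} (hc : ∀ a ∈ A₁ ⊔ A₂, ∀ b ∈ A₁ ⊔ A₂, a * b = b * a)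
    (h1 : ∀ a ∈ A₁, a ^ 2 = 1) (h2 : ∀ a ∈ A₂, a ^ 2 = 1) : ∀ a ∈ A₁ ⊔ A₂, a ^ 2 = 1 := by
  intro a ha
  have ha' : a ∈ Subgroup.closure ((A₁ : Set G) ∪ A₂) := by
    rwa [← Subgroup.sup_eq_closure]
  have key : a ∈ A₁ ⊔ A₂ ∧ a ^ 2 = 1 := by
    induction ha' using Subgroup.closure_induction with
    | mem x hx =>
      rcases hx with hx | hx
      · exact ⟨mem_sup_left hx, h1 x hx⟩
      · exact ⟨mem_sup_right hx, h2 x hx⟩
    | one => exact ⟨one_mem _, one_pow 2⟩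
    | mul x y hx hy ihx ihy =>
      have ex : x ∈ A₁ ⊔ A₂ := by rw [Subgroup.sup_eq_closure]; exact hx
      have ey : y ∈ A₁ ⊔ A₂ := by rw [Subgroup.sup_eq_closure]; exact hy
      have e := hc x ex y ey
      refine ⟨mul_mem ex ey, ?_⟩
      have := (show Commute x y from e).mul_pow 2
      rw [this, (ihx ex).2, (ihy ey).2, one_mul]
    | inv x hx ih =>
      have ex : x ∈ A₁ ⊔ A₂ := by rw [Subgroup.sup_eq_closure]; exact hx
      exact ⟨inv_mem ex, by rw [inv_pow, (ih ex).2, inv_one]⟩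
  exact key.2

/-- Goldschmidt's functor (S1330) -/
theorem isFunctor (FT : OddSol G) {A₁ A₂ : Subgroup G} (hcs : IsCoreSeparated A₁ A₂) :
    IsSignalizerFunctor 2 (A₁ ⊔ A₂) (gf A₁ A₂) := by
  refine GoldschmidtFunctor.isSignalizerFunctor hcs ?_
  intro A Y hA2 hAc hY hAY hYA
  refine (GoldschmidtGen.inf_centralizer_eq (p := 2) hA2 ?_ le_rfl (FT Y hY) ?_ hAY hYA).le
  · intro a ha b hb
    exact congrArg Subtype.val (hAc.is_comm.comm (⟨a, ha⟩ : A) ⟨b, hb⟩)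
  · rw [← even_iff_two_dvd, Nat.not_even_iff_odd]
    exact hY

/-- the functor is complete -/
theorem complete (FT : OddSol G) {A₁ A₂ : Subgroup G} (hcs : IsCoreSeparated A₁ A₂) :
    Odd (Nat.card ↥(⨆ a : {a : G // a ∈ A₁ ⊔ A₂ ∧ a ≠ 1}, gf A₁ A₂ (a : G))) ∧
    (∀ a ∈ A₁ ⊔ A₂, a ≠ 1 → (⨆ a : {a : G // a ∈ A₁ ⊔ A₂ ∧ a ≠ 1}, gf A₁ A₂ (a : G)) ⊓
      centralizer ({a} : Set G) = gf A₁ A₂ a) ∧
    A₁ ⊔ A₂ ≤ normalizer
      ((⨆ a : {a : G // a ∈ A₁ ⊔ A₂ ∧ a ≠ 1}, gf A₁ A₂ (a : G) : Subgroup G) : Set G) := by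
  have h2 : Fact (Nat.Prime 2) := ⟨Nat.prime_two⟩
  obtain ⟨e1, e2, c1, c2, -, hbot, hcomm, -⟩ := id hcs
  obtain ⟨f1, f2, f3, f4⟩ := isFunctor FT hcs
  have hAc := comm_sup (CoprimeGen.comm_of_isElementaryAbelian e1)
    (CoprimeGen.comm_of_isElementaryAbelian e2) hcomm
  have hA2 := sq_sup hAc e1.2 e2.2
  have hcard : 2 ^ 3 ≤ Nat.card ↥(A₁ ⊔ A₂) := by
    refine le_trans ?_ (card_sup_le hbot)
    rw [c1, c2]; norm_num
  have hmain := SolFunctorTwo.solvable_signalizer_functor_two (A₁ ⊔ A₂) hAc hA2 hcard (gf A₁ A₂) f1 f2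
    f3 (fun a ha ha1 => FT _ (Nat.odd_iff.2 (by have := f2 a ha ha1; omega))) f4
  refine ⟨?_, hmain.2.1, ?_⟩
  · have h := hmain.1
    rw [Nat.odd_iff]
    omega
  · apply FunctorTools.iSup_le_normalizer
    rintro ⟨a, ha, ha1⟩
    apply GoldschmidtGen.le_normalizer_of_conj_mem
    exact f3 a ha ha1

variable {A₁ A₂ : Subgroup G}

theorem gf_eq_left (hcs : IsCoreSeparated A₁ A₂) {a : G} (ha : a ∈ A₁)
    (hbal : th a ⊓ centralizer (A₂ : Set G) ≤ relCore 2 (centralizer (A₂ : Set G))) :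
    gf A₁ A₂ a = th a := by
  obtain ⟨e1, e2, c1, c2, -, hbot, hcomm, -⟩ := id hcs
  have h1 := factor_eq (a := a) (isPGroup_of_sq e1.2)
    (fun b hb => CoprimeGen.comm_of_isElementaryAbelian e1 b hb a ha) (th_inf_le ha)
  have h2 := factor_eq (a := a) (isPGroup_of_sq e2.2) (fun b hb => (hcomm a ha b hb).symm) hbal
  unfold gf
  rw [h1, h2, inf_idem]

theorem gf_eq_right (hcs : IsCoreSeparated A₁ A₂) {a : G} (ha : a ∈ A₂)
    (hbal : th a ⊓ centralizer (A₁ : Set G) ≤ relCore 2 (centralizer (A₁ : Set G))) :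
    gf A₁ A₂ a = th a := by
  obtain ⟨e1, e2, c1, c2, -, hbot, hcomm, -⟩ := id hcs
  have h1 := factor_eq (a := a) (isPGroup_of_sq e2.2)
    (fun b hb => CoprimeGen.comm_of_isElementaryAbelian e2 b hb a ha) (th_inf_le ha)
  have h2 := factor_eq (a := a) (isPGroup_of_sq e1.2) (fun b hb => hcomm b hb a ha) hbal
  unfold gf
  rw [h1, h2, inf_idem]

/-- the closure of the functor is generated on the left (one-sided balance) -/
theorem W_eq_left (FT : OddSol G) (hcs : IsCoreSeparated A₁ A₂)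
    (hbal : ∀ a ∈ A₁, a ≠ 1 →
      th a ⊓ centralizer (A₂ : Set G) ≤ relCore 2 (centralizer (A₂ : Set G))) :
    W A₁ = ⨆ a : {a : G // a ∈ A₁ ⊔ A₂ ∧ a ≠ 1}, gf A₁ A₂ (a : G) := by
  obtain ⟨e1, e2, c1, c2, -, hbot, hcomm, -⟩ := id hcs
  obtain ⟨hodd, hC, hn⟩ := complete FT hcs
  apply le_antisymm
  · apply W_le
    intro a ha ha1
    rw [← gf_eq_left hcs ha (hbal a ha ha1)]
    exact le_iSup (fun a : {a : G // a ∈ A₁ ⊔ A₂ ∧ a ≠ 1} => gf A₁ A₂ (a : G))
      ⟨a, mem_sup_left ha, ha1⟩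
  · apply gen_le (F := A₁) (CoprimeGen.comm_of_isElementaryAbelian e1)
      (fun a ha => by rw [← pow_two]; exact e1.2 a ha) (by rw [c1]) hodd (le_sup_left.trans hn)
    intro a ha ha1
    rw [hC a (mem_sup_left ha) ha1, gf_eq_left hcs ha (hbal a ha ha1)]
    exact le_W ha ha1

theorem W_eq_right (FT : OddSol G) (hcs : IsCoreSeparated A₁ A₂)
    (hbal : ∀ a ∈ A₂, a ≠ 1 →
      th a ⊓ centralizer (A₁ : Set G) ≤ relCore 2 (centralizer (A₁ : Set G))) :
    W A₂ = ⨆ a : {a : G // a ∈ A₁ ⊔ A₂ ∧ a ≠ 1}, gf A₁ A₂ (a : G) := by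
  obtain ⟨e1, e2, c1, c2, -, hbot, hcomm, -⟩ := id hcs
  obtain ⟨hodd, hC, hn⟩ := complete FT hcs
  apply le_antisymm
  · apply W_le
    intro a ha ha1
    rw [← gf_eq_right hcs ha (hbal a ha ha1)]
    exact le_iSup (fun a : {a : G // a ∈ A₁ ⊔ A₂ ∧ a ≠ 1} => gf A₁ A₂ (a : G))
      ⟨a, mem_sup_right ha, ha1⟩
  · apply gen_le (F := A₂) (CoprimeGen.comm_of_isElementaryAbelian e2)
      (fun a ha => by rw [← pow_two]; exact e2.2 a ha) (by rw [c2]) hodd (le_sup_right.trans hn)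
    intro a ha ha1
    rw [hC a (mem_sup_right ha) ha1, gf_eq_right hcs ha (hbal a ha ha1)]
    exact le_W ha ha1

/-- **One-sided balance for a core-separated pair.** -/
theorem closure_of_separated (FT : OddSol G) (hcs : IsCoreSeparated A₁ A₂)
    (hbal : ∀ a ∈ A₁, a ≠ 1 →
      th a ⊓ centralizer (A₂ : Set G) ≤ relCore 2 (centralizer (A₂ : Set G))) :
    Odd (Nat.card (W A₁)) ∧ (∀ a ∈ A₁, a ≠ 1 → W A₁ ⊓ centralizer ({a} : Set G) = th a) ∧
      A₁ ⊔ A₂ ≤ normalizer (W A₁ : Set G) := by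
  obtain ⟨hodd, hC, hn⟩ := complete FT hcs
  have hW := W_eq_left FT hcs hbal
  rw [← hW] at hodd hC hn
  refine ⟨hodd, ?_, hn⟩
  intro a ha ha1
  rw [hC a (mem_sup_left ha) ha1, gf_eq_left hcs ha (hbal a ha ha1)]

/-- **Two-sided balance for a core-separated pair.** -/
theorem eq_of_separated (FT : OddSol G) (hcs : IsCoreSeparated A₁ A₂)
    (hbal : ∀ a ∈ A₁, a ≠ 1 →
      th a ⊓ centralizer (A₂ : Set G) ≤ relCore 2 (centralizer (A₂ : Set G)))
    (hbal' : ∀ a ∈ A₂, a ≠ 1 →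
      th a ⊓ centralizer (A₁ : Set G) ≤ relCore 2 (centralizer (A₁ : Set G))) :
    W A₁ = W A₂ := by
  rw [W_eq_left FT hcs hbal, W_eq_right FT hcs hbal']

/-- The balance condition from one element. -/
theorem bal_of {A : Subgroup G} {a b : G} (hb : b ∈ A)
    (h : th a ⊓ centralizer (A : Set G) ≤ th b) :
    th a ⊓ centralizer (A : Set G) ≤ relCore 2 (centralizer (A : Set G)) :=
  (le_inf h inf_le_right).trans (th_inf_le hb)

theorem bal_of' {A : Subgroup G} {a b : G} (hb : b ∈ A)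
    (h : th a ⊓ centralizer ({b} : Set G) ≤ th b) :
    th a ⊓ centralizer (A : Set G) ≤ relCore 2 (centralizer (A : Set G)) := by
  refine bal_of hb ((inf_le_inf_left _ (centralizer_le ?_)).trans h)
  intro x hx
  rw [Set.mem_singleton_iff.mp hx]
  exact hb

/-- **Balance on an elementary abelian group of order at least 8.** -/
theorem closure_of_rank (FT : OddSol G) {A : Subgroup G} (hAc : ∀ a ∈ A, ∀ b ∈ A, a * b = b * a)
    (hA2 : ∀ a ∈ A, a ^ 2 = 1) (hA8 : 8 ≤ Nat.card A)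
    (hbal : ∀ a ∈ A, a ≠ 1 → ∀ b ∈ A, b ≠ 1 → th a ⊓ centralizer ({b} : Set G) ≤ th b) :
    Odd (Nat.card (W A)) ∧ ∀ a ∈ A, a ≠ 1 → W A ⊓ centralizer ({a} : Set G) = th a := by
  have h2 : Fact (Nat.Prime 2) := ⟨Nat.prime_two⟩
  have hmain := SolFunctorTwo.solvable_signalizer_functor_two A hAc hA2 (by norm_num; exact hA8)
    (fun a => th a)
    (fun a _ _ => relCore_le 2 _)
    (fun a _ _ => not_two_dvd_th a)
    (fun a ha _ b hb x hx => conj_mem_th (hAc b hb a ha) hx)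
    (fun a _ _ => FT _ (th_odd a)) hbal
  refine ⟨?_, hmain.2.1⟩
  have h := hmain.1
  rw [Nat.odd_iff]
  change ¬ 2 ∣ Nat.card (W A) at h
  omega

end Cfsg.Agent.Intrinsic.Functor
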