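import Cfsg.Agent.Intrinsic.WZero
import Cfsg.Agent.ClassificationK.PCompTransport

/-!
# World `W0` (S1738, 4.3): control of `A O(C(x))` and balance
-/

set_option autoImplicit false

open Cfsg Subgroup
open Cfsg.Agent.SignalizersComponents
open Cfsg.Agent.SignalizersComponents.IntrinsicBasic
open Cfsg.Agent.Intrinsic.Basic Cfsg.Agent.Intrinsic.Cen
open scoped commutatorElement

namespace Cfsg.Agent.Intrinsic.WZero

variable {G : Type*} [Group G]

theorem mem_of_sq_mem {D : Subgroup G} {e : G} (ho : Odd (orderOf e)) (h : e * e ∈ D) : e ∈ D := by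
  obtain ⟨m, hm⟩ := ho
  have h1 : (e * e) ^ (m + 1) = e := by
    rw [← pow_two, ← pow_mul, show 2 * (m + 1) = (2 * m + 1) + 1 by ring, pow_succ, ← hm,
      pow_orderOf_eq_one, one_mul]
  rw [← h1]
  exact pow_mem h _

theorem odd_orderOf {D : Subgroup G} [Finite G] (hD : Odd (Nat.card D)) {e : G} (he : e ∈ D) :
    Odd (orderOf e) := Odd.of_dvd_nat hD (Subgroup.orderOf_dvd_natCard D he)

theorem odd_sup [Finite G] {D E : Subgroup G} (hD : Odd (Nat.card D)) (hE : Odd (Nat.card E))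
    (hn : E ≤ normalizer (D : Set G)) : Odd (Nat.card ↥(D ⊔ E)) := by
  have : Fact (Nat.Prime 2) := ⟨Nat.prime_two⟩
  by_contra hodd
  rw [Nat.not_odd_iff_even, even_iff_two_dvd] at hodd
  obtain ⟨⟨t, ht⟩, ht2⟩ := exists_prime_orderOf_dvd_card' 2 hodd
  rw [Subgroup.orderOf_mk] at ht2
  obtain ⟨d, hd, e, he, rfl⟩ := (CoprimeBasic.mem_sup_iff hn t).mp ht
  have h1 : (d * e) * (d * e) = 1 := by rw [← pow_two, ← ht2, pow_orderOf_eq_one]
  have h2 : e * e = (e * d * e⁻¹)⁻¹ * d⁻¹ * 1 := by rw [← h1]; group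
  have h3 : e * e ∈ D := by
    rw [h2]
    exact mul_mem (mul_mem (inv_mem ((mem_normalizer_iff.mp (hn he) d).mp hd)) (inv_mem hd))
      (one_mem _)
  have h4 : e ∈ D := mem_of_sq_mem (odd_orderOf hE he) h3
  have h5 : Odd (orderOf (d * e)) := odd_orderOf hD (mul_mem hd h4)
  rw [ht2] at h5
  exact absurd h5 (by decide)

theorem isPGroup_zpowers {y : G} (hy : y * y = 1) : IsPGroup 2 ↥(zpowers y) := by
  rintro ⟨_, n, rfl⟩
  refine ⟨1, ?_⟩
  apply Subtype.ext
  have h2 : y ^ 2 = 1 := by rw [pow_two, hy]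
  change (y ^ n) ^ (2 ^ 1) = 1
  rw [pow_one, ← zpow_natCast, ← zpow_mul, mul_comm, zpow_mul, zpow_natCast, h2, one_zpow]

theorem isPGroup_sup_zpowers {A : Subgroup G} (hA : IsPGroup 2 ↥A) {y : G} (hy : y * y = 1)
    (hc : ∀ a ∈ A, a * y = y * a) : IsPGroup 2 ↥(A ⊔ zpowers y) := by
  refine hA.to_sup_of_normal_left' (isPGroup_zpowers hy) ?_
  rw [zpowers_le, mem_normalizer_iff]
  intro a
  constructor
  · intro ha
    rw [← hc a ha, mul_inv_cancel_right]; exact ha
  · intro ha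
    have h1 := hc _ ha
    have h2 : y * a * y⁻¹ = a := by
      have : y * (y * a * y⁻¹) = y * a := by rw [← h1]; group
      exact mul_left_cancel this
    rw [h2] at ha; exact ha

variable [Finite G]

theorem L2_comm {H : Subgroup G} {a : G} (ha : a ∈ H) (hfix : ∀ E, IsComp H E → Fixes a E) :
    ∀ y ∈ L2 H, ⁅a, y⁆ ∈ core H := by
  have haN : a ∈ normalizer (core H : Set G) := le_normalizer_core H ha
  let S : Subgroup ↥H :=
    { carrier := {y | ⁅a, (y : G)⁆ ∈ core H}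
      one_mem' := by simp
      mul_mem' := by
        intro x y hx hy
        have h1 : ⁅a, (x : G) * y⁆ = ⁅a, (x : G)⁆ * (x * ⁅a, (y : G)⁆ * (x : G)⁻¹) := by
          simp only [commutatorElement_def]; group
        change ⁅a, (x : G) * y⁆ ∈ core H
        rw [h1]
        exact mul_mem hx (conj_mem_core (le_normalizer x.2) hy)
      inv_mem' := by
        intro x hx
        have h1 : ⁅a, (x : G)⁻¹⁆ = (x : G)⁻¹ * ⁅a, (x : G)⁆⁻¹ * (x : G)⁻¹⁻¹ := by
          simp only [commutatorElement_def]; group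
        change ⁅a, (x : G)⁻¹⁆ ∈ core H
        rw [h1]
        exact conj_mem_core (le_normalizer (inv_mem x.2)) (inv_mem hx) }
  have hS : pLayer 2 ↥H ≤ S := by
    refine sSup_le fun K hK k hk => ?_
    have hc := isComp_of_subtype hK
    exact hc.core_le_core ((hfix _ hc).2 k ⟨k, hk, rfl⟩)
  rintro _ ⟨y, hy, rfl⟩
  exact hS hy

theorem conj_mem_L2 {H : Subgroup G} {h y : G} (hh : h ∈ H) (hy : y ∈ L2 H) :
    h * y * h⁻¹ ∈ L2 H := by
  obtain ⟨y, hy, rfl⟩ := hy
  have hn : (pLayer 2 ↥H).Normal := ClassificationK.PCompTransport.pLayer_normal 2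
  exact ⟨⟨h, hh⟩ * y * ⟨h, hh⟩⁻¹, hn.conj_mem y hy ⟨h, hh⟩, rfl⟩

theorem Good.conj_comm {A : Subgroup G} {x : G} (hA : Good A x) {h w a : G}
    (hh : h ∈ centralizer ({x} : Set G)) (hw : w ∈ A) (ha : a ∈ A) :
    ⁅a, h * w * h⁻¹⁆ ∈ core (centralizer ({x} : Set G)) :=
  L2_comm (mem_cent.mpr (hA.comm a ha)) (hA.fix a ha) _ (conj_mem_L2 hh (hA.le hw))

omit [Finite G] in
theorem Good.le_centralizer {A : Subgroup G} {x : G} (hA : Good A x) :
    A ≤ centralizer ({x} : Set G) := le_centralizer_singleton hA.comm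

theorem Good.le_normalizer {A : Subgroup G} {x : G} (hA : Good A x) :
    A ≤ normalizer (core (centralizer ({x} : Set G)) : Set G) :=
  hA.le_centralizer.trans (le_normalizer_core _)

namespace World

variable {z : G} {L : Subgroup G} (W : World z L)
include W

/-- for `w ∈ D ∩ T`, `h ∈ C(x)`: `h w h⁻¹` is conjugate under `O(C(x))` to an element of
`D ∩ T`. -/
theorem conj_into (T : Sylow 2 G) {x : G} (hx : Good (AA z (T : Subgroup G)) x) {h w : G}
    (hh : h ∈ centralizer ({x} : Set G)) (hw : InD z w) (hwT : w ∈ (T : Subgroup G)) :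
    ∃ o ∈ core (centralizer ({x} : Set G)), o * (h * w * h⁻¹) * o⁻¹ ∈ (T : Subgroup G) := by
  have hAp : IsPGroup 2 ↥(AA z (T : Subgroup G)) := T.isPGroup'.to_le (AA_le _ _)
  obtain ⟨m, hm⟩ : ∃ m, m = h * w * h⁻¹ := ⟨_, rfl⟩
  have hmD : InD z m := hm ▸ hw.conj h
  have hmm := W.sq hmD
  have hwA : w ∈ AA z (T : Subgroup G) := mem_AA hw hwT
  have hAC := hx.le_centralizer
  have hmC : m ∈ centralizer ({x} : Set G) := by
    rw [hm]; exact mul_mem (mul_mem hh (hAC hwA)) (inv_mem hh)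
  have hN := le_normalizer_core (centralizer ({x} : Set G))
  have hodd := odd_card_core (centralizer ({x} : Set G))
  have hcomm : ∀ a ∈ AA z (T : Subgroup G),
      m⁻¹ * (a * m * a⁻¹) ∈ core (centralizer ({x} : Set G)) := by
    intro a ha
    have h1 := hx.conj_comm hh hwA ha
    rw [← hm] at h1
    have h2 : m⁻¹ * (a * m * a⁻¹) = m⁻¹ * ⁅a, m⁆ * m⁻¹⁻¹ := by
      rw [commutatorElement_def]; group
    rw [h2]
    exact conj_mem_core (le_normalizer (inv_mem hmC)) h1
  obtain ⟨o₁, ho₁, hc₁⟩ := Lifting.exists_commute_group hodd hAp (hAC.trans hN) hcomm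
  have h3 : (m * o₁) ^ 2 ^ 1 ∈ core (centralizer ({x} : Set G)) := by
    rw [pow_one, pow_two]
    have h4 : m * o₁ * (m * o₁) = (m * o₁ * m⁻¹) * (m * m) * o₁ := by group
    rw [h4, hmm, mul_one]
    exact mul_mem (conj_mem_core (le_normalizer hmC) ho₁) ho₁
  obtain ⟨k, hk1, hk2⟩ := Lifting.exists_two_part hodd h3
  obtain ⟨y, hy⟩ : ∃ y, y = (m * o₁) ^ k := ⟨_, rfl⟩
  rw [← hy] at hk1 hk2
  have hyA : ∀ a ∈ AA z (T : Subgroup G), a * y = y * a := by
    intro a ha
    rw [hy]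
    exact ((show Commute a (m * o₁) from hc₁ a ha).pow_right k).eq
  have hmy : m⁻¹ * y ∈ core (centralizer ({x} : Set G)) := by
    have h4 : m⁻¹ * y = o₁ * ((m * o₁)⁻¹ * y) := by group
    rw [h4]
    exact mul_mem ho₁ hk2
  obtain ⟨o, ho, hoy⟩ := Lifting.exists_conj_eq hodd (n := 1) (m := 1) (v := m) (v' := y)
    (by rw [pow_one, pow_two, hmm]) hk1 (hN hmC) hmy
  refine ⟨o, ho, ?_⟩
  rw [← hm, hoy]
  have hyD : InD z y := hoy ▸ hmD.conj o
  obtain ⟨T₂, hT₂⟩ := (isPGroup_sup_zpowers hAp (W.sq hyD) hyA).exists_le_sylow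
  exact inter_eq (T := T) (T' := T₂) (fun w hw hwT => hT₂ (mem_sup_left (mem_AA hw hwT))) y hyD
    (hT₂ (mem_sup_right (mem_zpowers y)))

/-- `C(x)` normalizes `A O(C(x))` -/
theorem conj_mem_sup (T : Sylow 2 G) {x : G} (hx : Good (AA z (T : Subgroup G)) x) {h a : G}
    (hh : h ∈ centralizer ({x} : Set G)) (ha : a ∈ AA z (T : Subgroup G)) :
    h * a * h⁻¹ ∈ AA z (T : Subgroup G) ⊔ core (centralizer ({x} : Set G)) := by
  have h1 : AA z (T : Subgroup G) ≤
      cj h⁻¹ (AA z (T : Subgroup G) ⊔ core (centralizer ({x} : Set G))) := by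
    refine AA_le_of fun v hv hvT => ?_
    rw [mem_cj, inv_inv]
    obtain ⟨o, ho, hoT⟩ := W.conj_into T hx hh hv hvT
    have h2 : o * (h * v * h⁻¹) * o⁻¹ ∈ AA z (T : Subgroup G) := mem_AA ((hv.conj h).conj o) hoT
    have h3 : h * v * h⁻¹ = o⁻¹ * (o * (h * v * h⁻¹) * o⁻¹) * o := by group
    rw [h3]
    exact mul_mem (mul_mem (mem_sup_right (inv_mem ho)) (mem_sup_left h2)) (mem_sup_right ho)
  have h2 := h1 ha
  rwa [mem_cj, inv_inv] at h2

/-- **BAL** -/
theorem bal (T : Sylow 2 G) {a x : G} (ha : a ∈ AA z (T : Subgroup G))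
    (hx : Good (AA z (T : Subgroup G)) x) :
    core (centralizer ({a} : Set G)) ⊓ centralizer ({x} : Set G) ≤
      core (centralizer ({x} : Set G)) := by
  obtain ⟨A, hA⟩ : ∃ A, A = AA z (T : Subgroup G) := ⟨_, rfl⟩
  obtain ⟨O, hO⟩ : ∃ O, O = core (centralizer ({x} : Set G)) := ⟨_, rfl⟩
  have hAp : IsPGroup 2 ↥A := hA ▸ T.isPGroup'.to_le (AA_le _ _)
  have hsq : ∀ b ∈ A, b * b = 1 := hA ▸ W.AA_sq T.isPGroup'
  have hcm : ∀ b ∈ A, ∀ c ∈ A, b * c = c * b := hA ▸ W.AA_comm T.isPGroup'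
  have hconj : ∀ h ∈ centralizer ({x} : Set G), ∀ b ∈ A, h * b * h⁻¹ ∈ A ⊔ O := by
    intro h hh b hb
    rw [hA, hO]
    exact W.conj_mem_sup T hx hh (hA ▸ hb)
  have hAC : A ≤ centralizer ({x} : Set G) := hA ▸ hx.le_centralizer
  have hOC : O ≤ centralizer ({x} : Set G) := hO ▸ core_le _
  have hN : centralizer ({x} : Set G) ≤ normalizer (O : Set G) := hO ▸ le_normalizer_core _
  have hodd : Odd (Nat.card O) := hO ▸ odd_card_core _
  rw [← hA] at ha
  rw [← hO]
  have hNc : ∀ h ∈ centralizer ({x} : Set G), ∀ o ∈ O, h * o * h⁻¹ ∈ O :=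
    fun h hh o ho => (mem_normalizer_iff.mp (hN hh) o).mp ho
  have hAa : A ≤ centralizer ({a} : Set G) := fun b hb => mem_cent.mpr (hcm b hb a ha)
  -- the group `Y` of elements of `C(x)` centralizing `A O / O`
  let Y : Subgroup G :=
    { carrier := {y | y ∈ centralizer ({x} : Set G) ∧ ∀ s ∈ A ⊔ O, ⁅y, s⁆ ∈ O}
      one_mem' := ⟨one_mem _, fun s _ => by simp⟩
      mul_mem' := by
        rintro y y' ⟨hy, hy'⟩ ⟨hw, hw'⟩
        refine ⟨mul_mem hy hw, fun s hs => ?_⟩
        have h1 : ⁅y * y', s⁆ = (y * ⁅y', s⁆ * y⁻¹) * ⁅y, s⁆ := by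
          simp only [commutatorElement_def]; group
        rw [h1]
        exact mul_mem (hNc y hy _ (hw' s hs)) (hy' s hs)
      inv_mem' := by
        rintro y ⟨hy, hy'⟩
        refine ⟨inv_mem hy, fun s hs => ?_⟩
        have h1 : ⁅y⁻¹, s⁆ = y⁻¹ * ⁅y, s⁆⁻¹ * y⁻¹⁻¹ := by
          simp only [commutatorElement_def]; group
        rw [h1]
        exact hNc _ (inv_mem hy) _ (inv_mem (hy' s hs)) }
  have hYC : Y ≤ centralizer ({x} : Set G) := fun y hy => hy.1
  have hconj' : ∀ h ∈ centralizer ({x} : Set G), ∀ s ∈ A ⊔ O, h * s * h⁻¹ ∈ A ⊔ O := by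
    intro h hh s hs
    have h1 : A ⊔ O ≤ cj h⁻¹ (A ⊔ O) := by
      refine sup_le (fun b hb => ?_) (fun o ho => ?_)
      · rw [mem_cj, inv_inv]; exact hconj h hh b hb
      · rw [mem_cj, inv_inv]; exact mem_sup_right (hNc h hh o ho)
    have h2 := h1 hs
    rwa [mem_cj, inv_inv] at h2
  have hYn : centralizer ({x} : Set G) ≤ normalizer (Y : Set G) := by
    have key : ∀ h ∈ centralizer ({x} : Set G), ∀ y ∈ Y, h * y * h⁻¹ ∈ Y := by
      rintro h hh y ⟨hy, hy'⟩
      refine ⟨mul_mem (mul_mem hh hy) (inv_mem hh), fun s hs => ?_⟩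
      have h1 : ⁅h * y * h⁻¹, s⁆ = h * ⁅y, h⁻¹ * s * h⁻¹⁻¹⁆ * h⁻¹ := by
        simp only [commutatorElement_def]; group
      rw [h1]
      exact hNc h hh _ (hy' _ (hconj' _ (inv_mem hh) s hs))
    intro h hh
    rw [mem_normalizer_iff]
    intro y
    refine ⟨key h hh y, fun hy => ?_⟩
    have := key _ (inv_mem hh) _ hy
    convert this using 1
    group
  have hYcore : core Y ≤ O := by
    have : (Y.subgroupOf (centralizer ({x} : Set G))).Normal :=
      normal_subgroupOf_of_le_normalizer hYn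
    rw [core_eq_inf_of_subnormal hYC this.isSubnormal, hO]
    exact inf_le_right
  have hDodd : Odd (Nat.card ↥(core (centralizer ({a} : Set G)) ⊓ centralizer ({x} : Set G) :
      Subgroup G)) := Odd.of_dvd_nat (odd_card_core _) (card_dvd_of_le inf_le_left)
  have hOY : O ≤ Y := by
    intro o ho
    refine ⟨hOC ho, fun s hs => ?_⟩
    have hsC : s ∈ centralizer ({x} : Set G) := (sup_le hAC hOC) hs
    have h1 : ⁅o, s⁆ = o * (s * o⁻¹ * s⁻¹) := by rw [commutatorElement_def]; group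
    rw [h1]
    exact mul_mem ho (hNc s hsC _ (inv_mem ho))
  -- `D0 ≤ Y`
  have hDY : core (centralizer ({a} : Set G)) ⊓ centralizer ({x} : Set G) ≤ Y := by
    rintro d ⟨hd, hdx⟩
    refine ⟨hdx, fun s hs => ?_⟩
    obtain ⟨b, hb, o, ho, rfl⟩ : ∃ b ∈ A, ∃ o ∈ O, b * o = s := by
      rw [sup_comm] at hs
      obtain ⟨o, ho, b, hb, rfl⟩ := (CoprimeBasic.mem_sup_iff (hAC.trans hN) s).mp hs
      have h1 : b⁻¹ * o * b⁻¹⁻¹ ∈ O := hNc _ (hAC (inv_mem hb)) o ho
      exact ⟨b, hb, b⁻¹ * o * b⁻¹⁻¹, h1, by group⟩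
    have h1 : ⁅d, b * o⁆ = ⁅d, b⁆ * (b * ⁅d, o⁆ * b⁻¹) := by
      simp only [commutatorElement_def]; group
    rw [h1]
    have hdo : ⁅d, o⁆ ∈ O := by
      have h2 : ⁅d, o⁆ = (d * o * d⁻¹) * o⁻¹ := rfl
      rw [h2]
      exact mul_mem (hNc d hdx o ho) (inv_mem ho)
    refine mul_mem ?_ (hNc b (hAC hb) _ hdo)
    have h2 : ⁅d, b⁆ ∈ core (centralizer ({a} : Set G)) := by
      have h3 : ⁅d, b⁆ = d * (b * d⁻¹ * b⁻¹) := by rw [commutatorElement_def]; group
      rw [h3]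
      exact mul_mem hd (conj_mem_core (Subgroup.le_normalizer (hAa hb)) (inv_mem hd))
    have h3 : ⁅d, b⁆ ∈ A ⊔ O := by
      have h4 : ⁅d, b⁆ = (d * b * d⁻¹) * b⁻¹ := rfl
      rw [h4]
      exact mul_mem (hconj d hdx b hb) (mem_sup_left (inv_mem hb))
    apply mem_of_sq_mem (odd_orderOf (odd_card_core _) h2)
    rw [sup_comm] at h3
    obtain ⟨o', ho', b', hb', h4⟩ := (CoprimeBasic.mem_sup_iff (hAC.trans hN) _).mp h3
    rw [← h4]
    have h5 : o' * b' * (o' * b') = o' * (b' * o' * b'⁻¹) * (b' * b') := by group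
    rw [h5, hsq b' hb', mul_one]
    exact mul_mem ho' (hNc b' (hAC hb') o' ho')
  -- `D0 O` is normal in `Y`
  have hsup : core (centralizer ({a} : Set G)) ⊓ centralizer ({x} : Set G) ⊔ O ≤ core Y := by
    refine le_core (sup_le hDY hOY) ?_ ?_
    · have key : ∀ y ∈ Y, ∀ s ∈ core (centralizer ({a} : Set G)) ⊓ centralizer ({x} : Set G) ⊔ O,
          y * s * y⁻¹ ∈ core (centralizer ({a} : Set G)) ⊓ centralizer ({x} : Set G) ⊔ O := by
        rintro y ⟨hy, hy'⟩ s hs
        have h1 : core (centralizer ({a} : Set G)) ⊓ centralizer ({x} : Set G) ⊔ O ≤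
            cj y⁻¹ (core (centralizer ({a} : Set G)) ⊓ centralizer ({x} : Set G) ⊔ O) := by
          refine sup_le ?_ ?_
          · rintro d ⟨hd, hdx⟩
            rw [mem_cj, inv_inv]
            obtain ⟨o, ho, hc⟩ := Lifting.exists_commute_group hodd hAp (hAC.trans hN) (m := y) (by
              intro b hb
              have h2 := hy' b (mem_sup_left hb)
              have h3 : y⁻¹ * (b * y * b⁻¹) = y⁻¹ * ⁅y, b⁆⁻¹ * y⁻¹⁻¹ := by
                rw [commutatorElement_def]; group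
              rw [h3]
              exact hNc y⁻¹ (inv_mem hy) _ (inv_mem h2))
            have hya : y * o ∈ centralizer ({a} : Set G) := mem_cent.mpr (hc a ha).symm
            have hyx : y * o ∈ centralizer ({x} : Set G) := mul_mem hy (hOC ho)
            have h2 : y * d * y⁻¹ = ((y * o) * d * (y * o)⁻¹) *
                (y * ((o * d⁻¹ * o⁻¹) * d) * y⁻¹) := by group
            rw [h2]
            refine mul_mem (mem_sup_left (mem_inf.mpr ⟨conj_mem_core
              (Subgroup.le_normalizer hya) hd, mul_mem (mul_mem hyx hdx) (inv_mem hyx)⟩))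
              (mem_sup_right (hNc y hy _ ?_))
            have h3 : o * d⁻¹ * o⁻¹ * d = o * (d⁻¹ * o⁻¹ * d⁻¹⁻¹) := by group
            rw [h3]
            exact mul_mem ho (hNc _ (inv_mem hdx) _ (inv_mem ho))
          · intro o ho
            rw [mem_cj, inv_inv]
            exact mem_sup_right (hNc y hy o ho)
        have h2 := h1 hs
        rwa [mem_cj, inv_inv] at h2
      intro y hy
      rw [mem_normalizer_iff]
      intro s
      refine ⟨key y hy s, fun hs => ?_⟩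
      have := key _ (inv_mem hy) _ hs
      convert this using 1
      group
    · rw [sup_comm]
      exact odd_sup hodd hDodd (inf_le_right.trans hN)
  exact le_sup_left.trans (hsup.trans hYcore)

end World

end Cfsg.Agent.Intrinsic.WZero
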