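import Cfsg.Agent.Intrinsic.AnTypes
import Cfsg.Agent.Intrinsic.Basic

/-!
# (A3): a noncentral involution of `2.A_n` lies in no 2-component of its centralizer
-/

set_option autoImplicit false

open Cfsg Subgroup Equiv
open Cfsg.Agent.SporRec.TwoAn
open Cfsg.Agent.Intrinsic.Basic Cfsg.Agent.Intrinsic.AnLift
open Cfsg.Agent.SignalizersComponents
open scoped commutatorElement

namespace Cfsg.Agent.Intrinsic.AnThree

/-- A 2-component commutes with the normal 2-subgroups. -/
theorem comm_of_normal_two {G : Type*} [Group G] [Finite G] {H E R : Subgroup G} (hE : IsComp H E)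
    (hR : R ≤ H) (hn : H ≤ normalizer (R : Set G)) (h2 : IsPGroup 2 ↥R) {e r : G} (he : e ∈ E)
    (hr : r ∈ R) : e * r = r * e := by
  have hRn : (R.subgroupOf H).Normal := normal_subgroupOf_of_le_normalizer hn
  rcases hE.le_or_comm hR hRn.isSubnormal with h | h
  · exfalso
    have h3 : IsPGroup 2 ↥E := h2.to_le h
    have : Fact (Nat.Prime 2) := ⟨Nat.prime_two⟩
    have h4 : Group.IsNilpotent ↥E := h3.isNilpotent
    have h5 : Group.IsSolvable ↥E := inferInstance
    have h6 : Nontrivial ↥E := (Subgroup.nontrivial_iff_ne_bot E).mpr hE.ne_bot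
    have h7 := Group.IsSolvable.commutator_lt_top_of_nontrivial ↥E
    apply h7.ne
    have h8 := hE.perfect
    have h9 : (_root_.commutator ↥E).map E.subtype = (⊤ : Subgroup ↥E).map E.subtype := by
      rw [_root_.commutator_def, Subgroup.map_commutator, ← MonoidHom.range_eq_map, Subgroup.range_subtype]
      exact h8
    exact Subgroup.map_injective E.subtype_injective h9
  · have h3 : ⁅e, r⁆ ∈ core H := h (commutator_mem_commutator he hr)
    have h4 : ⁅e, r⁆ ∈ R := by
      have h5 : e * r * e⁻¹ ∈ R := (mem_normalizer_iff.mp (hn (hE.le he)) r).mp hr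
      exact mul_mem h5 (inv_mem hr)
    obtain ⟨k, hk⟩ := h2 ⟨_, h4⟩
    have h5 : ⁅e, r⁆ ^ 2 ^ k = 1 := congrArg Subtype.val hk
    have h6 := eq_one_of_mem_core h3 h5
    rwa [commutatorElement_eq_one_iff_mul_comm] at h6

section

variable {α : Type*} [Fintype α] [DecidableEq α] {C : Type*} [Group C] (K : Cover α C) {x : C}

/-- the elements of `C(x)` acting on every orbit of `x` as `1` or `x` -/
def R (x : C) (hσ : ∀ i, K.π x (K.π x i) = i) : Subgroup C where
  carrier := {y | (∀ i, K.π y i = i ∨ K.π y i = K.π x i) ∧ y * x = x * y}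
  mul_mem' {a b} ha hb := by
    refine ⟨fun i => ?_, ?_⟩
    · rw [map_mul, Perm.mul_apply]
      rcases hb.1 i with h1 | h1
      · rw [h1]; exact ha.1 i
      · rw [h1]
        rcases ha.1 (K.π x i) with h2 | h2
        · exact Or.inr h2
        · left; rw [h2, hσ]
    · rw [mul_assoc, hb.2, ← mul_assoc, ha.2, mul_assoc]
  one_mem' := ⟨fun i => Or.inl (by rw [map_one]; rfl), by rw [one_mul, mul_one]⟩
  inv_mem' {a} ha := by
    refine ⟨fun i => ?_, ?_⟩
    · rw [map_inv]
      rcases ha.1 i with h1 | h1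
      · left; rw [Perm.inv_eq_iff_eq]; exact h1.symm
      · right
        rw [Perm.inv_eq_iff_eq]
        rcases ha.1 (K.π x i) with h2 | h2
        · have h3 := (K.π a).injective (h1.trans h2.symm)
          rw [h2, ← h3]
        · rw [h2, hσ]
    · rw [inv_mul_eq_iff_eq_mul, ← mul_assoc, ha.2, mul_inv_cancel_right]

theorem mem_R {hσ : ∀ i, K.π x (K.π x i) = i} {y : C} :
    y ∈ R K x hσ ↔ (∀ i, K.π y i = i ∨ K.π y i = K.π x i) ∧ y * x = x * y := Iff.rfl

theorem isPGroup_R (hσ : ∀ i, K.π x (K.π x i) = i) : IsPGroup 2 ↥(R K x hσ) := by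
  rintro ⟨y, hy1, -⟩
  have h1 : ∀ i, K.π y (K.π y i) = i := by
    intro i
    rcases hy1 i with h | h
    · rw [h, h]
    · rcases hy1 (K.π x i) with h2 | h2
      · have h3 := (K.π y).injective (h.trans h2.symm)
        rw [h, h2, ← h3]
      · rw [h, h2, hσ]
  have h2 : K.π (y * y) = 1 := by
    ext i
    rw [map_mul, Perm.mul_apply, h1, Perm.one_apply]
  refine ⟨2, ?_⟩
  apply Subtype.ext
  change y ^ 2 ^ 2 = 1
  have h3 : y ^ 2 ^ 2 = (y * y) * (y * y) := by
    show y ^ 4 = _
    simp only [pow_succ, pow_zero, one_mul, mul_assoc]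
  rw [h3]
  rcases (K.ker _).1 h2 with h | h
  · rw [h, one_mul]
  · rw [h, K.z_mul_z]

theorem R_le (hσ : ∀ i, K.π x (K.π x i) = i) : R K x hσ ≤ centralizer ({x} : Set C) :=
  fun _ hy => mem_centralizer_singleton_iff.mpr hy.2

theorem R_normal (hσ : ∀ i, K.π x (K.π x i) = i) :
    centralizer ({x} : Set C) ≤ normalizer (R K x hσ : Set C) := by
  have key : ∀ c ∈ centralizer ({x} : Set C), ∀ y ∈ R K x hσ, c * y * c⁻¹ ∈ R K x hσ := by
    intro c hc y hy
    rw [mem_centralizer_singleton_iff] at hc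
    refine ⟨fun i => ?_, ?_⟩
    · have h1 : K.π (c * y * c⁻¹) i = K.π c (K.π y (K.π c⁻¹ i)) := by
        rw [map_mul, map_mul, Perm.mul_apply, Perm.mul_apply]
      have h2 : K.π c (K.π c⁻¹ i) = i := by
        rw [← Perm.mul_apply, ← map_mul, mul_inv_cancel, map_one, Perm.one_apply]
      rw [h1]
      rcases hy.1 (K.π c⁻¹ i) with h | h
      · left; rw [h, h2]
      · right
        rw [h, ← Perm.mul_apply, ← map_mul, hc, map_mul, Perm.mul_apply, h2]
    · have h3 : c⁻¹ * x = x * c⁻¹ := by
        rw [inv_mul_eq_iff_eq_mul, ← mul_assoc, hc, mul_inv_cancel_right]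
      calc c * y * c⁻¹ * x = c * y * (c⁻¹ * x) := by group
        _ = c * (y * x) * c⁻¹ := by rw [h3]; group
        _ = c * x * y * c⁻¹ := by rw [hy.2]; group
        _ = x * (c * y * c⁻¹) := by rw [hc]; group
  intro c hc
  rw [mem_normalizer_iff]
  intro y
  refine ⟨key c hc y, fun h => ?_⟩
  have := key c⁻¹ (inv_mem hc) _ h
  convert this using 1
  group

theorem D_mem_R (hxx : x * x = 1) (hσ : ∀ i, K.π x (K.π x i) = i) {a c : α} (ha : K.π x a ≠ a)
    (hc : K.π x c ≠ c) (hca : c ≠ a) (hcb : c ≠ K.π x a) :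
    D K a (K.π x a) c (K.π x c) ∈ R K x hσ := by
  have hxi : x⁻¹ = x := inv_eq_of_mul_eq_one_left hxx
  have h1 : a ≠ K.π x c := fun h => hcb (by rw [h, hσ])
  have h3 : K.π x a ≠ K.π x c := fun h => hca ((K.π x).injective h).symm
  refine ⟨?_, ?_⟩
  · intro i
    rw [π_D K ha.symm hca.symm h1 hcb.symm hc.symm h3]
    by_cases i1 : i = a
    · right
      rw [i1, Perm.mul_apply, swap_apply_of_ne_of_ne hca.symm h1, swap_apply_left]
    by_cases i2 : i = K.π x a
    · right
      rw [i2, hσ, Perm.mul_apply, swap_apply_of_ne_of_ne hcb.symm h3, swap_apply_right]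
    by_cases i3 : i = c
    · right
      rw [i3, Perm.mul_apply, swap_apply_left, swap_apply_of_ne_of_ne h1.symm h3.symm]
    by_cases i4 : i = K.π x c
    · right
      rw [i4, hσ, Perm.mul_apply, swap_apply_right, swap_apply_of_ne_of_ne hca hcb]
    · left
      rw [Perm.mul_apply, swap_apply_of_ne_of_ne i3 i4, swap_apply_of_ne_of_ne i1 i2]
  · have h := AnTypes.fix_block K (f := (MulAut.conj x).toMonoidHom) (σ := K.π x)
      (fun g => by show K.π (x * g * x⁻¹) = _; rw [map_mul, map_mul, map_inv])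
      (by rw [← map_mul, hxx, map_one]) ha hc hca hcb
    have h' : x * D K a (K.π x a) c (K.π x c) * x⁻¹ = D K a (K.π x a) c (K.π x c) := h
    rw [mul_inv_eq_iff_eq_mul] at h'
    exact h'.symm

/-- **(A3)** -/
theorem not_mem [Finite C] (hxx : x * x = 1) (hx1 : x ≠ 1) (hxz : x ≠ K.z) {E : Subgroup C}
    (hE : IsComp (centralizer ({x} : Set C)) E) : x ∉ E := by
  intro hxE
  have hππ : K.π x * K.π x = 1 := by rw [← map_mul, hxx, map_one]
  have hσ : ∀ i, K.π x (K.π x i) = i := fun i => by rw [← Perm.mul_apply, hππ, Perm.one_apply]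
  have hne : K.π x ≠ 1 := by
    intro h
    rcases (K.ker x).1 h with h | h
    · exact hx1 h
    · exact hxz h
  have h8 : 8 ≤ (K.π x).support.card := by
    have h1 := (K.sq_eq_one_iff.1 hxx).2
    have h2 : 0 < (K.π x).support.card := by
      rw [Nat.pos_iff_ne_zero, Ne, Finset.card_eq_zero, Perm.support_eq_empty_iff]
      exact hne
    exact Nat.le_of_dvd h2 h1
  -- `E` commutes with the elements `D`
  have hcomm : ∀ e ∈ E, ∀ a c : α, K.π x a ≠ a → K.π x c ≠ c → c ≠ a → c ≠ K.π x a →
      K.π e a = a ∨ K.π e a = K.π x a ∨ K.π e a = c ∨ K.π e a = K.π x c := by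
    intro e he a c ha hc hca hcb
    have h1 := comm_of_normal_two hE (R_le K hσ) (R_normal K hσ) (isPGroup_R K hσ) he
      (D_mem_R K hxx hσ ha hc hca hcb)
    have h1' : a ≠ K.π x c := fun h => hcb (by rw [h, hσ])
    have h3 : K.π x a ≠ K.π x c := fun h => hca ((K.π x).injective h).symm
    have h2 := congrArg K.π h1
    rw [map_mul, map_mul, π_D K ha.symm hca.symm h1' hcb.symm hc.symm h3] at h2
    by_contra hcon
    push Not at hcon
    obtain ⟨n1, n2, n3, n4⟩ := hcon
    have h4 := congrArg (fun τ => τ a) h2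
    simp only [Perm.mul_apply] at h4
    rw [swap_apply_of_ne_of_ne hca.symm h1', swap_apply_left, swap_apply_of_ne_of_ne n3 n4,
      swap_apply_of_ne_of_ne n1 n2] at h4
    exact ha ((K.π e).injective h4)
  -- hence preserves every orbit of `x`
  have hblk : ∀ e ∈ E, ∀ a : α, K.π x a ≠ a → K.π e a = a ∨ K.π e a = K.π x a := by
    intro e he a ha
    obtain ⟨c, hc, hc'⟩ := AnTypes.exists_moved (K.π x) {a, K.π x a} (by
      have h2 : ({a, K.π x a} : Finset α).card ≤ 2 := Finset.card_le_two
      omega)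
    simp only [Finset.mem_insert, Finset.mem_singleton, not_or] at hc'
    obtain ⟨d, hd, hd'⟩ := AnTypes.exists_moved (K.π x) {a, K.π x a, c, K.π x c} (by
      have h2 : ({a, K.π x a, c, K.π x c} : Finset α).card ≤ 4 := Finset.card_le_four
      omega)
    simp only [Finset.mem_insert, Finset.mem_singleton, not_or] at hd'
    rcases hcomm e he a c ha hc hc'.1 hc'.2 with h | h | h | h
    · exact Or.inl h
    · exact Or.inr h
    · rcases hcomm e he a d ha hd hd'.1 hd'.2.1 with h' | h' | h' | h'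
      · exact Or.inl h'
      · exact Or.inr h'
      · exact absurd (h'.symm.trans h) hd'.2.2.1
      · exfalso
        have h5 : K.π x d = c := h'.symm.trans h
        exact hd'.2.2.2 (by rw [← h5, hσ])
    · rcases hcomm e he a d ha hd hd'.1 hd'.2.1 with h' | h' | h' | h'
      · exact Or.inl h'
      · exact Or.inr h'
      · exact absurd (h'.symm.trans h) hd'.2.2.2
      · exfalso
        have h5 : K.π x d = K.π x c := h'.symm.trans h
        exact hd'.2.2.1 ((K.π x).injective h5)
  -- `E` perfect fixes the points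
  have hfix : ∀ a : α, K.π x a ≠ a → ∀ e ∈ E, K.π e a = a := by
    intro a ha e he
    have h1 : E ≤ (MulAction.stabilizer (Perm α) a).comap K.π := by
      rw [← hE.perfect, Subgroup.commutator_le]
      intro e1 he1 e2 he2
      rw [mem_comap, MulAction.mem_stabilizer_iff, Perm.smul_def]
      have hfg : ∀ f ∈ E, ∀ g ∈ E, K.π f (K.π g a) = K.π g (K.π f a) := by
        intro f hf g hg
        have hxf : ∀ i, K.π f (K.π x i) = K.π x (K.π f i) := by
          intro i
          rw [← Perm.mul_apply, ← Perm.mul_apply, ← map_mul, ← map_mul,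
            mem_centralizer_singleton_iff.mp (hE.le hf)]
        have hxg : ∀ i, K.π g (K.π x i) = K.π x (K.π g i) := by
          intro i
          rw [← Perm.mul_apply, ← Perm.mul_apply, ← map_mul, ← map_mul,
            mem_centralizer_singleton_iff.mp (hE.le hg)]
        rcases hblk f hf a ha with h | h <;> rcases hblk g hg a ha with h' | h'
        · rw [h', h, h']
        · rw [h', hxf, h, h']
        · rw [h', h, hxg, h']
        · rw [h', hxf, h, hσ, hxg, h', hσ]
      have h2 := hfg e1 he1 e2 he2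
      have h3 : K.π ⁅e1, e2⁆ a = a := by
        have h4 : K.π ⁅e1, e2⁆ = K.π e1 * K.π e2 * (K.π e1)⁻¹ * (K.π e2)⁻¹ := by
          rw [commutatorElement_def, map_mul, map_mul, map_mul, map_inv, map_inv]
        have h5 := hfg e1⁻¹ (inv_mem he1) e2⁻¹ (inv_mem he2)
        rw [map_inv, map_inv] at h5
        rw [h4, Perm.mul_apply, Perm.mul_apply, Perm.mul_apply, h5, ← Perm.mul_apply (K.π e2),
          mul_inv_cancel, Perm.one_apply, ← Perm.mul_apply, mul_inv_cancel, Perm.one_apply]
      exact h3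
    exact h1 he
  obtain ⟨a, ha, -⟩ := AnTypes.exists_moved (K.π x) ∅ (by rw [Finset.card_empty]; omega)
  exact ha (hfix a ha x hxE)

end

end Cfsg.Agent.Intrinsic.AnThree
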