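import Cfsg.Agent.Intrinsic.Basic
import Cfsg.Agent.Intrinsic.Lifting
import Cfsg.Agent.SignalizersComponents.IntrinsicTools
import Cfsg.Agent.SignalizersComponents.IntrinsicDiag
import Cfsg.Agent.SignalizersComponents.QuasisimpleQuotient

/-!
# The diagonal 2-component

`K` a 2-component of `X`, `v ∈ X` with `v * v = 1` moving `K`.  The group
`diag X K v = C_{K K^v}(v)^∞` is a 2-component of `C_X(v)`; its quotient by its core is the image of
`K / O(K)` under `k ↦ k k^v`.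
-/

set_option autoImplicit false

open Cfsg Subgroup
open Cfsg.Agent.SignalizersComponents Cfsg.Agent.Lib
open Cfsg.Agent.SignalizersComponents.IntrinsicBasic
open Cfsg.Agent.SignalizersComponents.IntrinsicIntr
open Cfsg.Agent.SignalizersComponents.PLayerAut
open Cfsg.Agent.Intrinsic.Basic
open scoped commutatorElement

namespace Cfsg.Agent.Intrinsic.Diag

/-! ### central quotients of quasisimple groups -/

section quot

variable {A B : Type*} [Group A] [Finite A] [Group B] [Finite B]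

/-- The centre of a perfect group with trivial odd core has no elements of odd order. -/
theorem center_two {A : Type*} [Group A] [Finite A] (hO : oddCore A = ⊥) {x : A} (hx : x ∈ center A)
    (hodd : Odd (orderOf x)) : x = 1 := by
  have hn : (zpowers x).Normal := by
    constructor
    rintro _ ⟨n, rfl⟩ g
    have h1 : g * x ^ n = x ^ n * g := by
      have : x ^ n ∈ center A := zpow_mem hx n
      exact (mem_center_iff.mp this g)
    change g * x ^ n * g⁻¹ ∈ zpowers x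
    rw [h1, mul_inv_cancel_right]
    exact ⟨n, rfl⟩
  have h1 : zpowers x ≤ oddCore A := by
    refine Cores.le_pPrimeCore hn ?_
    rw [Nat.card_zpowers]
    exact Nat.coprime_two_right.mpr hodd
  rw [hO, le_bot_iff, zpowers_eq_bot] at h1
  exact h1

omit [Finite B] in
theorem even_of_quot {φ : A →* B} (hperf : Group.IsPerfect A) (h2 : 2 ∣ Nat.card A)
    (hφ : Function.Surjective φ) (hker : φ.ker ≤ center A) : 2 ∣ Nat.card B := by
  have hp2 : Fact (Nat.Prime 2) := ⟨Nat.prime_two⟩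
  by_contra hB
  obtain ⟨T⟩ : Nonempty (Sylow 2 A) := inferInstance
  apply CompBasic.sylow_not_le_center_of_perfect hperf 2 h2 T
  intro t ht
  apply hker
  rw [MonoidHom.mem_ker]
  obtain ⟨n, hn⟩ := T.isPGroup' ⟨t, ht⟩
  have hn' : t ^ 2 ^ n = 1 := congrArg Subtype.val hn
  have h3 : (φ t) ^ 2 ^ n = 1 := by rw [← map_pow, hn', map_one]
  have h4 : orderOf (φ t) ∣ 2 ^ n := orderOf_dvd_of_pow_eq_one h3
  have h5 : orderOf (φ t) ∣ Nat.card B := orderOf_dvd_natCard _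
  have h6 : Nat.Coprime (2 ^ n) (Nat.card B) :=
    Nat.Coprime.pow_left n ((Nat.Prime.coprime_iff_not_dvd Nat.prime_two).mpr hB)
  exact orderOf_eq_one_iff.mp (Nat.eq_one_of_dvd_coprimes h6 h4 h5)

theorem core_quot {φ : A →* B} (hq : IsQuasisimple A) (h2 : 2 ∣ Nat.card A) (hO : oddCore A = ⊥)
    (hφ : Function.Surjective φ) (hker : φ.ker ≤ center A) :
    IsQuasisimple B ∧ oddCore B = ⊥ ∧ 2 ∣ Nat.card B := by
  have hB2 := even_of_quot hq.1 h2 hφ hker
  have hnt : Nontrivial B := by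
    rw [← Finite.one_lt_card_iff_nontrivial]
    exact lt_of_lt_of_le (by norm_num) (Nat.le_of_dvd Nat.card_pos hB2)
  have hqB := QuasisimpleQuotient.isQuasisimple_of_surjective φ hφ hq
  refine ⟨hqB, ?_, hB2⟩
  -- the preimage of the odd core
  set N := (oddCore B).comap φ with hN
  have hNn : N.Normal := by rw [hN]; infer_instance
  have hcop : (Nat.card (oddCore B)).Coprime 2 := Cores.pPrimeCore_coprime 2
  have hcenter : N ≤ center A := by
    by_contra hnot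
    -- then `N = A` and `B` has odd order
    have hs := hq.2
    have h1 : (N.map (QuotientGroup.mk' (center A))).Normal :=
      Normal.map hNn _ (QuotientGroup.mk'_surjective _)
    rcases hs.eq_bot_or_eq_top_of_normal _ h1 with h | h
    · apply hnot
      rw [Subgroup.map_eq_bot_iff, QuotientGroup.ker_mk'] at h
      exact h
    · have h3 : N ⊔ center A = ⊤ := by
        have := congrArg (Subgroup.comap (QuotientGroup.mk' (center A))) h
        rw [Subgroup.comap_map_eq, QuotientGroup.ker_mk', Subgroup.comap_top] at this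
        exact this
      have h4 : N = ⊤ := by
        have hp : Group.IsPerfect A := hq.1
        have h5 : commutator A ≤ N := by
          rw [_root_.commutator_def, ← h3, Cores.sup_commutator_le_iff, Cores.commutator_sup_le_iff,
            Cores.commutator_sup_le_iff]
          refine ⟨⟨commutator_le_self _, ?_⟩, ?_, ?_⟩
          · exact (commutator_le_left _ _)
          · exact (commutator_le_right _ _)
          · rw [commutator_le]
            intro a ha b hb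
            rw [commutatorElement_eq_one_iff_mul_comm.mpr (mem_center_iff.mp hb a)]
            exact one_mem _
        rw [Group.isPerfect_def] at hp
        rw [eq_top_iff, ← hp]
        exact h5
      have h5 : oddCore B = ⊤ := by
        rw [eq_top_iff]
        intro b _
        obtain ⟨a, rfl⟩ := hφ b
        have : a ∈ N := by rw [h4]; trivial
        exact this
      rw [h5, card_top, Nat.coprime_comm, Nat.Prime.coprime_iff_not_dvd Nat.prime_two] at hcop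
      exact hcop hB2
  rw [eq_bot_iff]
  intro b hb
  obtain ⟨a, rfl⟩ := hφ b
  have haN : a ∈ N := hb
  have hac := hcenter haN
  -- `a ^ m ∈ ker φ` with `m` odd
  set m := Nat.card (oddCore B) with hm
  have h1 : φ (a ^ m) = 1 := by
    rw [map_pow]
    have := pow_card_eq_one' (x := (⟨φ a, hb⟩ : oddCore B))
    exact congrArg Subtype.val this
  -- `a ^ (2 ^ k)` has odd order for a suitable `k`
  obtain ⟨k, r, hr, hkr⟩ := Nat.exists_eq_two_pow_mul_odd (orderOf_pos a).ne'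
  have h3 : a ^ 2 ^ k = 1 := by
    refine center_two hO (pow_mem hac _) ?_
    rw [orderOf_pow, hkr, Nat.gcd_eq_right (dvd_mul_right _ _),
      Nat.mul_div_cancel_left _ (by positivity)]
    exact hr
  have h4 : (φ a) ^ 2 ^ k = 1 := by rw [← map_pow, h3, map_one]
  have h5 : (φ a) ^ m = 1 := by rw [← map_pow]; exact h1
  have h6 : orderOf (φ a) ∣ 2 ^ k := orderOf_dvd_of_pow_eq_one h4
  have h7 : orderOf (φ a) ∣ m := orderOf_dvd_of_pow_eq_one h5
  have h8 : Nat.Coprime (2 ^ k) m := Nat.Coprime.pow_left k (Nat.coprime_comm.mp hcop)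
  rw [mem_bot]
  exact orderOf_eq_one_iff.mp (Nat.eq_one_of_dvd_coprimes h8 h6 h7)

end quot

variable {G : Type*} [Group G]

/-- `C_{K K^v}(v)^∞`: the group generated by the 2-elements of `C_X(v)` which are congruent to some
`k k^v`, `k ∈ K`, modulo `O(X)`. -/
def diag (X K : Subgroup G) (v : G) : Subgroup G :=
  closure {m | m ∈ X ∧ m * v = v * m ∧ (∃ k ∈ K, m⁻¹ * (k * (v * k * v⁻¹)) ∈ core X) ∧
    ∃ n : ℕ, m ^ 2 ^ n = 1}

theorem mem_diag {X K : Subgroup G} {v m : G} (hm : m ∈ X) (hmv : m * v = v * m) {k : G}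
    (hk : k ∈ K) (hmk : m⁻¹ * (k * (v * k * v⁻¹)) ∈ core X) {n : ℕ} (hn : m ^ 2 ^ n = 1) :
    m ∈ diag X K v := subset_closure ⟨hm, hmv, ⟨k, hk, hmk⟩, n, hn⟩

theorem cj_diag (g : G) (X K : Subgroup G) (v : G) :
    cj g (diag X K v) = diag (cj g X) (cj g K) (g * v * g⁻¹) := by
  have key : ∀ (g : G) (X K : Subgroup G) (v : G),
      cj g (diag X K v) ≤ diag (cj g X) (cj g K) (g * v * g⁻¹) := by
    intro g X K v
    rw [cj_def, diag, MonoidHom.map_closure]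
    refine (closure_le _).mpr ?_
    rintro _ ⟨m, ⟨h1, h2, ⟨k, hk, hmk⟩, n, hn⟩, rfl⟩
    refine mem_diag (k := g * k * g⁻¹) (n := n) (conj_mem_cj h1) ?_ (conj_mem_cj hk) ?_ ?_
    · change g * m * g⁻¹ * (g * v * g⁻¹) = g * v * g⁻¹ * (g * m * g⁻¹)
      calc g * m * g⁻¹ * (g * v * g⁻¹) = g * (m * v) * g⁻¹ := by group
        _ = g * (v * m) * g⁻¹ := by rw [h2]
        _ = _ := by group
    · have h3 : g * (m⁻¹ * (k * (v * k * v⁻¹))) * g⁻¹ ∈ cj g (core X) := conj_mem_cj hmk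
      rw [core_cj]
      convert h3 using 1
      change (g * m * g⁻¹)⁻¹ * _ = _
      group
    · change (g * m * g⁻¹) ^ 2 ^ n = 1
      rw [conj_pow, hn]; group
  apply le_antisymm (key g X K v)
  have h1 := cj_mono (g := g) (key g⁻¹ (cj g X) (cj g K) (g * v * g⁻¹))
  rw [cj_cj_inv, cj_inv_cj, cj_inv_cj] at h1
  convert h1 using 3
  group

variable [Finite G]

theorem exists_diag {X K : Subgroup G} {v : G} (hK : IsComp X K) (hvX : v ∈ X) (hv : v * v = 1)
    (hne : cj v K ≠ K) :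
    IsComp (X ⊓ centralizer ({v} : Set G)) (diag X K v) ∧
    (∀ m ∈ diag X K v, ∃ k ∈ K, m⁻¹ * (k * (v * k * v⁻¹)) ∈ core X) ∧
    (∀ k ∈ K, ∃ m ∈ diag X K v, m⁻¹ * (k * (v * k * v⁻¹)) ∈ core X) ∧
    core (diag X K v) = diag X K v ⊓ core X ∧
    (∃ f : (↥K ⧸ oddCore ↥K) →* (↥(diag X K v) ⧸ oddCore ↥(diag X K v)),
      Function.Surjective f ∧ f.ker ≤ center (↥K ⧸ oddCore ↥K) ∧
      (∀ (k : ↥K) (m : ↥(diag X K v)), (m : G)⁻¹ * ((k : G) * (v * (k : G) * v⁻¹)) ∈ core X →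
        f (QuotientGroup.mk' (oddCore ↥K) k) = QuotientGroup.mk' (oddCore ↥(diag X K v)) m) ∧
      (∀ k : ↥K, f (QuotientGroup.mk' (oddCore ↥K) k) = 1 ↔
        (k : G) * (v * (k : G) * v⁻¹) ∈ core X)) := by
  have hp2 : Fact (Nat.Prime 2) := ⟨Nat.prime_two⟩
  have hKt := hK.tc
  -- the quotient `Q = X / O(X)`
  set π := QuotientGroup.mk' (oddCore ↥X) with hπ
  set Kb : Subgroup (↥X ⧸ oddCore ↥X) := (K.subgroupOf X).map π with hKb
  set vb : ↥X ⧸ oddCore ↥X := π ⟨v, hvX⟩ with hvb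
  have hvi : v⁻¹ = v := inv_eq_of_mul_eq_one_left hv
  have hcompK : IsComponent Kb := hK.2.2.1
  have hv1 : v ≠ 1 := fun h => hne (by rw [h, cj_one])
  have hvb2 : vb * vb = 1 := by
    rw [hvb, ← map_mul, ← map_one π]
    congr 1
    exact Subtype.ext hv
  have hvb1 : vb ≠ 1 := by
    intro h
    apply hv1
    exact IntrinsicBasic.eq_one_of_sq (X := X) ((mem_relCore_iff hvX).mpr h) hv
  have hovb : orderOf vb = 2 := orderOf_eq_prime (by rw [pow_two]; exact hvb2) hvb1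
  have hperf : ⁅Kb, Kb⁆ = Kb := isPerfect_iff.mp hcompK.2.1
  -- the conjugate component
  have hK' : TC X (IntrinsicBasic.cj v K) := hKt.cj_of_mem (le_normalizer hvX)
  have hKb' : Kb.map (MulAut.conj vb).toMonoidHom = ((IntrinsicBasic.cj v K).subgroupOf X).map π := by
    ext q
    constructor
    · rintro ⟨_, ⟨k, hk, rfl⟩, rfl⟩
      have hk' : (k : G) ∈ K := hk
      exact ⟨⟨v, hvX⟩ * k * ⟨v, hvX⟩⁻¹, (conj_mem_cj hk' : v * (k : G) * v⁻¹ ∈ _), rfl⟩
    · rintro ⟨k, hk, rfl⟩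
      have h1 : v⁻¹ * (k : G) * v ∈ K := IntrinsicBasic.mem_cj.mp hk
      refine ⟨π (⟨v, hvX⟩⁻¹ * k * ⟨v, hvX⟩), ⟨⟨v, hvX⟩⁻¹ * k * ⟨v, hvX⟩, h1, rfl⟩, ?_⟩
      change vb * π (⟨v, hvX⟩⁻¹ * k * ⟨v, hvX⟩) * vb⁻¹ = π k
      rw [map_mul, map_mul, map_inv, ← hvb]
      group
  have hne' : K.subgroupOf X ≠ (IntrinsicBasic.cj v K).subgroupOf X := by
    intro h
    apply hne
    have := congrArg (Subgroup.map X.subtype) h
    rw [subgroupOf_map_subtype, subgroupOf_map_subtype, inf_of_le_left hK.le,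
      inf_of_le_left hK'.le] at this
    exact this.symm
  have hcomm : ⁅Kb, Kb.map (MulAut.conj vb).toMonoidHom⁆ = ⊥ := by
    rw [commutator_eq_bot_iff_le_centralizer, hKb']
    exact PCompCore.map_le_centralizer_of_ne hK.2 hK'.comp hne'
  obtain ⟨φ, hφ, hker, hran, hder⟩ := S1314.result vb hovb Kb hperf hcomm
  have hcompK' : IsComponent (Kb.map (MulAut.conj vb).toMonoidHom) := by
    rw [hKb']; exact hK'.comp.2.1
  -- the image is subnormal in `C(vb)`
  set C := centralizer ({vb} : Set (↥X ⧸ oddCore ↥X)) with hC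
  have hEsub : (Kb ⊔ Kb.map (MulAut.conj vb).toMonoidHom).IsSubnormal :=
    Lib.SubnormalJoin.isSubnormal_sup hcompK.1 hcompK'.1
  have hECsub : (((Kb ⊔ Kb.map (MulAut.conj vb).toMonoidHom) ⊓ C).subgroupOf C).IsSubnormal := by
    rw [inf_subgroupOf_right]
    exact hEsub.subgroupOf
  have hRsub : (φ.range.subgroupOf C).IsSubnormal := by
    rw [← hder]
    have h1 : ⁅(Kb ⊔ Kb.map (MulAut.conj vb).toMonoidHom) ⊓ C,
        (Kb ⊔ Kb.map (MulAut.conj vb).toMonoidHom) ⊓ C⁆.subgroupOf C =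
        ⁅((Kb ⊔ Kb.map (MulAut.conj vb).toMonoidHom) ⊓ C).subgroupOf C,
          ((Kb ⊔ Kb.map (MulAut.conj vb).toMonoidHom) ⊓ C).subgroupOf C⁆ := by
      apply Subgroup.map_injective C.subtype_injective
      rw [Subgroup.map_commutator, subgroupOf_map_subtype, subgroupOf_map_subtype,
        inf_of_le_left (inf_le_right), inf_of_le_left]
      exact (commutator_le_self _).trans inf_le_right
    rw [h1]
    refine IsSubnormal.trans (commutator_le_self _) ?_ hECsub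
    apply Normal.isSubnormal
    rw [normal_subgroupOf_iff_le_normalizer (commutator_le_self _),
      le_normalizer_iff_commutator_le_left]
    exact commutator_mono (commutator_le_self _) le_rfl
  -- `φ.range` is quasisimple with trivial odd core
  have hKb2 : 2 ∣ Nat.card Kb := PComponents.prime_dvd_card_component
    (PComponents.pPrimeCore_quotient_eq_bot 2) hcompK
  have hKbO : oddCore ↥Kb = ⊥ := by
    have h1 := PCompQuot.map_subtype_pPrimeCore_subnormal 2 hcompK.1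
    have h2 : pPrimeCore 2 (↥X ⧸ oddCore ↥X) = ⊥ := Cores.pPrimeCore_quotient_pPrimeCore 2
    rw [h2, inf_bot_eq, Subgroup.map_eq_bot_iff] at h1
    rw [eq_bot_iff]
    refine h1.trans ?_
    rw [Subgroup.ker_subtype]
  obtain ⟨hqR, hOR, h2R⟩ := core_quot (φ := φ.rangeRestrict) hcompK.2 hKb2 hKbO
    φ.rangeRestrict_surjective (by rw [MonoidHom.ker_rangeRestrict]; exact hker)
  have hcompR : IsComponent (φ.range.subgroupOf C) :=
    ⟨hRsub, PCompQuot.quasisimple_congr (subgroupOfEquivOfLe hran).symm hqR⟩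
  have h2R' : 2 ∣ Nat.card ↥(φ.range.subgroupOf C) := by
    rw [Nat.card_congr (subgroupOfEquivOfLe hran).toEquiv]; exact h2R
  -- the group `M`
  set M := X ⊓ centralizer ({v} : Set G) with hM
  set f := centMap X v hvX with hf
  have hfsurj : Function.Surjective f := centMap_surjective X v hvX hv
  have hfker : ∀ m : ↥M, m ∈ f.ker ↔ (m : G) ∈ relCore 2 X := by
    intro m
    rw [MonoidHom.mem_ker, Subtype.ext_iff]
    rw [mem_relCore_iff m.2.1]
    exact Iff.rfl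
  have hkodd : Odd (Nat.card f.ker) := by
    have h1 : f.ker.map M.subtype ≤ relCore 2 X := by
      rintro _ ⟨m, hm, rfl⟩
      exact (hfker m).mp hm
    have h2 : Nat.card (f.ker.map M.subtype) ∣ Nat.card (relCore 2 X) :=
      Subgroup.card_dvd_of_le h1
    have h3 : Nat.card (f.ker.map M.subtype) = Nat.card f.ker :=
      Nat.card_congr (f.ker.equivMapOfInjective M.subtype M.subtype_injective).symm.toEquiv
    rw [h3] at h2
    exact Odd.of_dvd_nat (odd_card_relCore X) h2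
  obtain ⟨h1, h2⟩ := IntrinsicLift.lift_component f hfsurj hkodd hcompR h2R'
  set P0 := PComponents.pElem 2 ((φ.range.subgroupOf C).comap f) with hP0
  have hmemR : ∀ m : ↥M, m ∈ (φ.range.subgroupOf C).comap f ↔
      ∃ k ∈ K, (m : G)⁻¹ * (k * (v * k * v⁻¹)) ∈ relCore 2 X := by
    intro m
    change π ⟨m, m.2.1⟩ ∈ φ.range ↔ _
    constructor
    · rintro ⟨⟨_, ⟨k, hk, rfl⟩⟩, hk'⟩
      refine ⟨k, hk, ?_⟩
      rw [hφ] at hk'
      change π k * (vb * π k * vb⁻¹) = π ⟨m, m.2.1⟩ at hk'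
      rw [hvb, ← map_inv, ← map_mul, ← map_mul, ← map_mul] at hk'
      exact mk_eq_mk_iff.mp hk'.symm
    · rintro ⟨k, hk, hk'⟩
      refine ⟨⟨π ⟨k, hK.le hk⟩, ⟨⟨k, hK.le hk⟩, hk, rfl⟩⟩, ?_⟩
      rw [hφ]
      change π ⟨k, hK.le hk⟩ * (vb * π ⟨k, hK.le hk⟩ * vb⁻¹) = π ⟨m, m.2.1⟩
      rw [hvb, ← map_inv, ← map_mul, ← map_mul, ← map_mul]
      exact (mk_eq_mk_iff.mpr hk').symm
  have hdiag : diag X K v = P0.map M.subtype := by
    rw [hP0, PComponents.pElem, MonoidHom.map_closure, diag]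
    congr 1
    ext m
    constructor
    · rintro ⟨a1, a2, a3, n, a4⟩
      refine ⟨⟨m, a1, mem_centralizer_singleton_iff.mpr a2⟩, ⟨(hmemR _).mpr a3, n, ?_⟩, rfl⟩
      exact Subtype.ext (by simpa using a4)
    · rintro ⟨m, ⟨a1, n, a2⟩, rfl⟩
      refine ⟨m.2.1, mem_centralizer_singleton_iff.mp m.2.2, (hmemR m).mp a1, n, ?_⟩
      have := congrArg Subtype.val a2
      simpa using this
  have hcompD : IsComp M (diag X K v) := by
    rw [hdiag]; exact isComp_of_subtype h1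
  have hmemD : ∀ m ∈ diag X K v, ∃ k ∈ K, m⁻¹ * (k * (v * k * v⁻¹)) ∈ core X := by
    intro m hm
    rw [hdiag] at hm
    obtain ⟨m, hm, rfl⟩ := hm
    exact (hmemR m).mp (PComponents.pElem_le _ hm)
  have hcov : ∀ k ∈ K, ∃ m ∈ diag X K v, m⁻¹ * (k * (v * k * v⁻¹)) ∈ core X := by
    intro k hk
    have h3 : (⟨φ ⟨π ⟨k, hK.le hk⟩, ⟨⟨k, hK.le hk⟩, hk, rfl⟩⟩, hran ⟨_, rfl⟩⟩ : ↥C) ∈
        φ.range.subgroupOf C := ⟨_, rfl⟩
    rw [← h2] at h3
    obtain ⟨m, hm, hmk⟩ := h3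
    refine ⟨m, by rw [hdiag]; exact ⟨m, hm, rfl⟩, ?_⟩
    have h4 : π ⟨m, m.2.1⟩ = φ ⟨π ⟨k, hK.le hk⟩, ⟨⟨k, hK.le hk⟩, hk, rfl⟩⟩ :=
      congrArg Subtype.val hmk
    rw [hφ] at h4
    change π ⟨m, m.2.1⟩ = π ⟨k, hK.le hk⟩ * (vb * π ⟨k, hK.le hk⟩ * vb⁻¹) at h4
    rw [hvb, ← map_inv, ← map_mul, ← map_mul, ← map_mul] at h4
    exact mk_eq_mk_iff.mp h4
  -- the map `D → φ.range`
  have hDX : ∀ m : ↥(diag X K v), (m : G) ∈ X := fun m => (hcompD.le m.2).1
  have hran' : ∀ m : ↥(diag X K v), π ⟨m, hDX m⟩ ∈ φ.range := by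
    intro m
    exact (hmemR ⟨m, hcompD.le m.2⟩).mpr (hmemD m m.2)
  let g : ↥(diag X K v) →* ↥φ.range :=
    { toFun := fun m => ⟨π ⟨m, hDX m⟩, hran' m⟩
      map_one' := rfl
      map_mul' := fun _ _ => rfl }
  have hg : ∀ m : ↥(diag X K v), ((g m : ↥φ.range) : ↥X ⧸ oddCore ↥X) = π ⟨m, hDX m⟩ :=
    fun _ => rfl
  have hgeq : ∀ (k : ↥K) (m : ↥(diag X K v)), (m : G)⁻¹ * ((k : G) * (v * (k : G) * v⁻¹)) ∈ core X →
      g m = φ.rangeRestrict ⟨π ⟨k, hK.le k.2⟩, ⟨⟨k, hK.le k.2⟩, k.2, rfl⟩⟩ := by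
    intro k m hkm
    apply Subtype.ext
    rw [hg, MonoidHom.coe_rangeRestrict, hφ]
    change π ⟨m, _⟩ = π ⟨k, hK.le k.2⟩ * (vb * π ⟨k, hK.le k.2⟩ * vb⁻¹)
    rw [hvb, ← map_inv, ← map_mul, ← map_mul, ← map_mul]
    exact mk_eq_mk_iff.mpr hkm
  have hgsurj : Function.Surjective g := by
    intro q
    obtain ⟨⟨_, ⟨k, hk, rfl⟩⟩, rfl⟩ := φ.rangeRestrict_surjective q
    obtain ⟨m, hm, hmk⟩ := hcov k hk
    exact ⟨⟨m, hm⟩, hgeq ⟨k, hk⟩ ⟨m, hm⟩ hmk⟩
  have hgker : g.ker = (relCore 2 X).subgroupOf (diag X K v) := by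
    ext m
    rw [MonoidHom.mem_ker, Subtype.ext_iff, hg, mem_subgroupOf]
    exact (mem_relCore_iff (hDX m)).symm
  have hgodd : (Nat.card g.ker).Coprime 2 := by
    rw [hgker]
    have h3 := odd_card_relCore X
    have h4 : Nat.card ((relCore 2 X).subgroupOf (diag X K v)) ∣ Nat.card (relCore 2 X) := by
      rw [← Subgroup.card_map_of_injective (diag X K v).subtype_injective, subgroupOf_map_subtype]
      exact Subgroup.card_dvd_of_le inf_le_left
    exact Nat.Coprime.coprime_dvd_left h4 (Nat.coprime_two_right.mpr h3)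
  have hcoreD : oddCore ↥(diag X K v) = g.ker := by
    apply le_antisymm
    · intro x hx
      rw [MonoidHom.mem_ker]
      have h3 : g x ∈ (oddCore ↥(diag X K v)).map g := ⟨x, hx, rfl⟩
      have h4 : (oddCore ↥(diag X K v)).map g ≤ oddCore ↥φ.range := by
        refine Cores.le_pPrimeCore (Normal.map inferInstance g hgsurj) ?_
        exact Nat.Coprime.coprime_dvd_left (Subgroup.card_map_dvd _ g)
          (Cores.pPrimeCore_coprime 2)
      have h5 := h4 h3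
      rw [hOR, mem_bot] at h5
      exact h5
    · exact Cores.le_pPrimeCore inferInstance hgodd
  let eD : (↥(diag X K v) ⧸ oddCore ↥(diag X K v)) ≃* ↥φ.range :=
    (QuotientGroup.quotientMulEquivOfEq hcoreD).trans
      (QuotientGroup.quotientKerEquivOfSurjective g hgsurj)
  have heD : ∀ m, eD (QuotientGroup.mk' _ m) = g m := fun m => rfl
  -- the identification of `K / O(K)` with `Kb`
  let eK0 : ↥K →* ↥Kb :=
    { toFun := fun k => ⟨π ⟨k, hK.le k.2⟩, ⟨⟨k, hK.le k.2⟩, k.2, rfl⟩⟩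
      map_one' := rfl
      map_mul' := fun _ _ => rfl }
  have heK0 : ∀ k, eK0 k = ⟨π ⟨k, hK.le k.2⟩, ⟨⟨k, hK.le k.2⟩, k.2, rfl⟩⟩ := fun _ => rfl
  have heK0s : Function.Surjective eK0 := by
    rintro ⟨_, ⟨k, hk, rfl⟩⟩
    exact ⟨⟨k, hk⟩, rfl⟩
  have hK0ker : eK0.ker = oddCore ↥K := by
    ext k
    rw [MonoidHom.mem_ker, heK0, Subtype.ext_iff]
    change π ⟨k, _⟩ = 1 ↔ _
    rw [← mem_relCore_iff (hK.le k.2)]
    constructor
    · intro h
      have : (k : G) ∈ core K := by rw [hK.core_eq]; exact ⟨k.2, h⟩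
      obtain ⟨_, h⟩ := mem_relCore.mp this
      exact h
    · intro h
      exact hK.core_le_core (mem_relCore.mpr ⟨k.2, h⟩)
  let eK : (↥K ⧸ oddCore ↥K) ≃* ↥Kb :=
    (QuotientGroup.quotientMulEquivOfEq hK0ker.symm).trans
      (QuotientGroup.quotientKerEquivOfSurjective eK0 heK0s)
  have heK : ∀ k, eK (QuotientGroup.mk' _ k) = eK0 k := fun k => rfl
  refine ⟨hcompD, hmemD, hcov, ?_, (eD.symm.toMonoidHom.comp φ.rangeRestrict).comp eK.toMonoidHom,
    ?_, ?_, ?_, ?_⟩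
  · rw [core, hcoreD, hgker, subgroupOf_map_subtype, inf_comm]
    rfl
  · intro x
    obtain ⟨y, hy⟩ := φ.rangeRestrict_surjective (eD x)
    refine ⟨eK.symm y, ?_⟩
    change eD.symm (φ.rangeRestrict (eK (eK.symm y))) = x
    rw [eK.apply_symm_apply, hy, eD.symm_apply_apply]
  · intro x hx
    rw [MonoidHom.mem_ker] at hx
    change eD.symm (φ.rangeRestrict (eK x)) = 1 at hx
    rw [map_eq_one_iff _ eD.symm.injective] at hx
    have h3 : eK x ∈ center ↥Kb := hker (by rw [← MonoidHom.ker_rangeRestrict]; exact hx)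
    rw [mem_center_iff] at h3 ⊢
    intro y
    apply eK.injective
    rw [map_mul, map_mul]
    exact h3 (eK y)
  · intro k m hkm
    change eD.symm (φ.rangeRestrict (eK (QuotientGroup.mk' _ k))) = _
    rw [heK, MulEquiv.symm_apply_eq, heD, hgeq k m hkm]
    rfl
  · intro k
    change eD.symm (φ.rangeRestrict (eK (QuotientGroup.mk' _ k))) = 1 ↔ _
    rw [heK, map_eq_one_iff _ eD.symm.injective, Subtype.ext_iff, MonoidHom.coe_rangeRestrict, heK0,
      hφ]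
    change π ⟨k, hK.le k.2⟩ * (vb * π ⟨k, hK.le k.2⟩ * vb⁻¹) = 1 ↔ _
    rw [hvb, ← map_inv, ← map_mul, ← map_mul, ← map_mul]
    exact (mem_relCore_iff _).symm

/-! ### working modulo `O(X)` -/

/-- distinct 2-components commute modulo `O(X)` -/
theorem mk_comm {X K L : Subgroup G} (hK : IsComp X K) (hL : IsComp X L) (hne : K ≠ L) {k l : G}
    (hk : k ∈ K) (hl : l ∈ L) :
    (QuotientGroup.mk' (oddCore ↥X)) ⟨k, hK.le hk⟩ * (QuotientGroup.mk' (oddCore ↥X)) ⟨l, hL.le hl⟩ =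
      (QuotientGroup.mk' (oddCore ↥X)) ⟨l, hL.le hl⟩ *
        (QuotientGroup.mk' (oddCore ↥X)) ⟨k, hK.le hk⟩ := by
  have h := ((mem_cenMod hK.le).mp (hK.tc.le_cenMod hL.tc hne hl)).2 k hk
  have h4 : (QuotientGroup.mk' (oddCore ↥X)) ⟨k, hK.le hk⟩ =
      (QuotientGroup.mk' (oddCore ↥X)) (⟨l, hL.le hl⟩ * ⟨k, hK.le hk⟩ * ⟨l, hL.le hl⟩⁻¹) :=
    mk_eq_mk_iff.mpr h
  rw [map_mul, map_mul, map_inv] at h4
  nth_rewrite 1 [h4]
  group

omit [Finite G] in
theorem commutator_mem_core_iff {X : Subgroup G} {a b : G} (ha : a ∈ X) (hb : b ∈ X) :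
    ⁅a, b⁆ ∈ core X ↔
      (QuotientGroup.mk' (oddCore ↥X)) ⟨a, ha⟩ * (QuotientGroup.mk' (oddCore ↥X)) ⟨b, hb⟩ =
      (QuotientGroup.mk' (oddCore ↥X)) ⟨b, hb⟩ * (QuotientGroup.mk' (oddCore ↥X)) ⟨a, ha⟩ := by
  have h1 : ⁅a, b⁆ ∈ X := by
    rw [commutatorElement_def]
    exact X.mul_mem (X.mul_mem (X.mul_mem ha hb) (X.inv_mem ha)) (X.inv_mem hb)
  have h2 : ⁅a, b⁆ ∈ core X ↔ (QuotientGroup.mk' (oddCore ↥X)) ⟨⁅a, b⁆, h1⟩ = 1 :=
    mem_relCore_iff h1
  have h3 : (⟨⁅a, b⁆, h1⟩ : ↥X) = ⁅(⟨a, ha⟩ : ↥X), (⟨b, hb⟩ : ↥X)⁆ := rfl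
  rw [h2, h3, map_commutatorElement, commutatorElement_eq_one_iff_mul_comm]

omit [Finite G] in
theorem mk_of_diag {X K : Subgroup G} {v m k : G} (hK : IsComp X K) (hvX : v ∈ X) (hmX : m ∈ X)
    (hk : k ∈ K) (h : m⁻¹ * (k * (v * k * v⁻¹)) ∈ core X) :
    (QuotientGroup.mk' (oddCore ↥X)) ⟨m, hmX⟩ = (QuotientGroup.mk' (oddCore ↥X)) ⟨k, hK.le hk⟩ *
      (QuotientGroup.mk' (oddCore ↥X)) ⟨v * k * v⁻¹,
        X.mul_mem (X.mul_mem hvX (hK.le hk)) (X.inv_mem hvX)⟩ := by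
  rw [← map_mul]
  exact mk_eq_mk_iff.mpr h

omit [Finite G] in
theorem isComp_cj_of_mem {X K : Subgroup G} (hK : IsComp X K) {v : G} (hvX : v ∈ X) :
    IsComp X (cj v K) := by
  have h := hK.cj v
  rwa [cj_eq_self_of_mem hvX] at h

/-- `m ∈ diag X K v` commutes modulo `O(X)` with the 2-components different from `K` and `K^v`. -/
theorem comm_diag_of_ne {X K L : Subgroup G} {v : G} (hK : IsComp X K) (hvX : v ∈ X)
    (hv : v * v = 1) (hne : cj v K ≠ K) (hL : IsComp X L) (hLK : L ≠ K) (hLK' : L ≠ cj v K)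
    {m l : G} (hm : m ∈ diag X K v) (hl : l ∈ L) : ⁅m, l⁆ ∈ core X := by
  obtain ⟨h1, h2, -, -⟩ := exists_diag hK hvX hv hne
  have hmX : m ∈ X := (h1.le hm).1
  obtain ⟨k, hk, hmk⟩ := h2 m hm
  have hK' := isComp_cj_of_mem hK hvX
  have hk' : v * k * v⁻¹ ∈ cj v K := conj_mem_cj hk
  rw [commutator_mem_core_iff hmX (hL.le hl), mk_of_diag hK hvX hmX hk hmk]
  have e1 := mk_comm hK hL (Ne.symm hLK) hk hl
  have e2 := mk_comm hK' hL (Ne.symm hLK') hk' hl
  rw [mul_assoc, e2, ← mul_assoc, e1, mul_assoc]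

/-- the diagonals of different pairs are different -/
theorem diag_ne {X K L : Subgroup G} {v : G} (hK : IsComp X K) (hvX : v ∈ X)
    (hv : v * v = 1) (hne : cj v K ≠ K) (hL : IsComp X L) (hLv : cj v L ≠ L) (hLK : L ≠ K)
    (hLK' : L ≠ cj v K) : diag X L v ≠ diag X K v := by
  intro heq
  obtain ⟨h1, h2, -, -⟩ := exists_diag hK hvX hv hne
  obtain ⟨h3, h4, -, -⟩ := exists_diag hL hvX hv hLv
  have hvi : v⁻¹ = v := inv_eq_of_mul_eq_one_left hv
  have hL' := isComp_cj_of_mem hL hvX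
  have hL'K : cj v L ≠ K := by
    intro h
    apply hLK'
    rw [← h, ← cj_mul, hv, cj_one]
  have hL'K' : cj v L ≠ cj v K := fun h => hLK (cj_injective v h)
  have hcomm : ⁅diag X K v, diag X K v⁆ ≤ core X := by
    rw [commutator_le]
    intro m hm m' hm'
    rw [← heq] at hm'
    have hmX : m ∈ X := (h1.le hm).1
    have hmX' : m' ∈ X := (h3.le hm').1
    obtain ⟨l, hl, hml⟩ := h4 m' hm'
    have hl' : v * l * v⁻¹ ∈ cj v L := conj_mem_cj hl
    have e1 := comm_diag_of_ne hK hvX hv hne hL hLK hLK' hm hl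
    have e2 := comm_diag_of_ne hK hvX hv hne hL' hL'K hL'K' hm hl'
    rw [commutator_mem_core_iff hmX (hL.le hl)] at e1
    rw [commutator_mem_core_iff hmX (hL'.le hl')] at e2
    rw [commutator_mem_core_iff hmX hmX', mk_of_diag hL hvX hmX' hl hml, ← mul_assoc, e1,
      mul_assoc, e2]
    exact (mul_assoc _ _ _).symm
  rw [h1.perfect] at hcomm
  exact h1.not_odd (odd_card_core X) hcomm

/-- An element normalizing `K` and `K^v` and commuting with the diagonal modulo `O(X)` fixes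
`K`. -/
theorem fixes_of_comm_diag {X K : Subgroup G} {v : G} (hK : IsComp X K) (hvX : v ∈ X)
    (hv : v * v = 1) (hne : cj v K ≠ K) {g : G} (hgX : g ∈ X) (hgK : g ∈ normalizer (K : Set G))
    (hgK' : g ∈ normalizer (cj v K : Set G)) (h : ∀ m ∈ diag X K v, ⁅g, m⁆ ∈ core X) :
    Fixes g K := by
  obtain ⟨h1, -, h3, -⟩ := exists_diag hK hvX hv hne
  have hK' := isComp_cj_of_mem hK hvX
  rw [hK.fixes_iff hgX]
  apply IntrinsicTools.mem_cenMod_of_commutator hK.tc hgX (mem_normalizer_iff_cj.mp hgK)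
  intro k hk
  obtain ⟨m, hm, hmk⟩ := h3 k hk
  have hmX : m ∈ X := (h1.le hm).1
  have hk' : v * k * v⁻¹ ∈ cj v K := conj_mem_cj hk
  have hgm := h m hm
  rw [commutator_mem_core_iff hgX hmX, mk_of_diag hK hvX hmX hk hmk] at hgm
  obtain ⟨k', hkk'⟩ : ∃ k', k' = v * k * v⁻¹ := ⟨_, rfl⟩
  rw [← hkk'] at hk'
  have hkX := hK.le hk
  have hkX' : k' ∈ X := hK'.le hk'
  have hgk' : g * k' * g⁻¹ ∈ cj v K := (mem_normalizer_iff.mp hgK' k').mp hk'
  have hd : k' * (g * k' * g⁻¹)⁻¹ ∈ cj v K := mul_mem hk' (inv_mem hgk')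
  have hdX := hK'.le hd
  have hdc : k' * (g * k' * g⁻¹)⁻¹ ∈ cenMod X K :=
    hK.tc.le_cenMod hK'.tc (Ne.symm hne) hd
  have hcX : g * k * g⁻¹ * k⁻¹ ∈ X :=
    X.mul_mem (X.mul_mem (X.mul_mem hgX hkX) (X.inv_mem hgX)) (X.inv_mem hkX)
  have e1 := mk_comm hK hK' (Ne.symm hne) hk hd
  have key : (QuotientGroup.mk' (oddCore ↥X)) ⟨k' * (g * k' * g⁻¹)⁻¹, hdX⟩ =
      (QuotientGroup.mk' (oddCore ↥X)) ⟨g * k * g⁻¹ * k⁻¹, hcX⟩ := by
    set γ := (QuotientGroup.mk' (oddCore ↥X)) ⟨g, hgX⟩ with hγ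
    set κ := (QuotientGroup.mk' (oddCore ↥X)) ⟨k, hkX⟩ with hκ
    set κ' := (QuotientGroup.mk' (oddCore ↥X)) ⟨k', hkX'⟩ with hκ'
    have a1 : (QuotientGroup.mk' (oddCore ↥X)) ⟨k' * (g * k' * g⁻¹)⁻¹, hdX⟩ =
        κ' * (γ * κ' * γ⁻¹)⁻¹ := rfl
    have a2 : (QuotientGroup.mk' (oddCore ↥X)) ⟨g * k * g⁻¹ * k⁻¹, hcX⟩ = γ * κ * γ⁻¹ * κ⁻¹ := rfl
    have a3 : γ * (κ * κ') = (κ * κ') * γ := by
      have : (⟨v * k * v⁻¹, X.mul_mem (X.mul_mem hvX (hK.le hk)) (X.inv_mem hvX)⟩ : ↥X) =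
          ⟨k', hkX'⟩ := Subtype.ext hkk'.symm
      rw [this] at hgm
      exact hgm
    rw [a1] at e1
    rw [a1, a2]
    -- `γ κ γ⁻¹ · γ κ' γ⁻¹ = κ κ'`
    have a4 : γ * κ * γ⁻¹ = κ * (κ' * (γ * κ' * γ⁻¹)⁻¹) := by
      calc γ * κ * γ⁻¹ = (γ * (κ * κ')) * γ⁻¹ * (γ * κ' * γ⁻¹)⁻¹ := by group
        _ = ((κ * κ') * γ) * γ⁻¹ * (γ * κ' * γ⁻¹)⁻¹ := by rw [a3]
        _ = _ := by group
    rw [a4, e1]
    group
  have h5 := mk_eq_mk_iff.mp key
  have h6 : g * k * g⁻¹ * k⁻¹ = (k' * (g * k' * g⁻¹)⁻¹) *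
      ((k' * (g * k' * g⁻¹)⁻¹)⁻¹ * (g * k * g⁻¹ * k⁻¹)) := by group
  rw [h6]
  exact mul_mem hdc (relCore_le_cenMod X K h5)

/-- `m ≡ k k^v` acts on `K / O(K)` as `k`. -/
theorem fixes_inv_mul {X K : Subgroup G} {v m k : G} (hK : IsComp X K) (hvX : v ∈ X)
    (hne : cj v K ≠ K) (hk : k ∈ K) (hmX : m ∈ X)
    (h : m⁻¹ * (k * (v * k * v⁻¹)) ∈ core X) : Fixes (k⁻¹ * m) K := by
  have hK' := isComp_cj_of_mem hK hvX
  have hk' : v * k * v⁻¹ ∈ cj v K := conj_mem_cj hk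
  rw [hK.fixes_iff (X.mul_mem (X.inv_mem (hK.le hk)) hmX)]
  have h1 : k⁻¹ * m = (v * k * v⁻¹) * (m⁻¹ * (k * (v * k * v⁻¹)))⁻¹ := by group
  rw [h1]
  exact mul_mem (hK.tc.le_cenMod hK'.tc (Ne.symm hne) hk') (inv_mem (relCore_le_cenMod X K h))

/-- an involution of `K` can be changed modulo `O(X)` such that it commutes with its
`v`-conjugate -/
theorem exists_comm_swap {X K : Subgroup G} {v x₀ : G} (hK : IsComp X K) (hvX : v ∈ X)
    (hv : v * v = 1) (hne : cj v K ≠ K) (hx₀ : x₀ ∈ K) (hx2 : x₀ * x₀ = 1) :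
    ∃ x ∈ K, x * x = 1 ∧ x₀⁻¹ * x ∈ core X ∧ x * (v * x * v⁻¹) = (v * x * v⁻¹) * x := by
  have hvi : v⁻¹ = v := inv_eq_of_mul_eq_one_left hv
  have hxi : x₀⁻¹ = x₀ := inv_eq_of_mul_eq_one_left hx2
  have hK' := isComp_cj_of_mem hK hvX
  have h4 : (v * x₀) ^ 2 ^ 2 ∈ core X := by
    have h1 : ⁅v * x₀ * v⁻¹, x₀⁆ ∈ core X := by
      rw [commutator_mem_core_iff (hK'.le (conj_mem_cj hx₀)) (hK.le hx₀)]
      exact mk_comm hK' hK hne (conj_mem_cj hx₀) hx₀
    have h0 : ⁅v * x₀ * v⁻¹, x₀⁆ = (v * x₀) ^ 2 ^ 2 := by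
      rw [commutatorElement_def, hvi, mul_inv_rev, mul_inv_rev, hvi, hxi,
        show (2 : ℕ) ^ 2 = 4 by norm_num]
      simp only [pow_succ, pow_zero, one_mul, mul_assoc]
    rw [← h0]
    exact h1
  obtain ⟨k, hk1, hk2⟩ := Lifting.exists_two_part (odd_card_core X) h4
  have h6 : v * (v * x₀) ^ k * v = ((v * x₀) ^ k)⁻¹ := by
    have e1 : v * (v * x₀) * v⁻¹ = (v * x₀)⁻¹ := by
      rw [mul_inv_rev, hxi, hvi, ← mul_assoc, hv, one_mul]
    have e2 : v * (v * x₀) ^ k * v⁻¹ = ((v * x₀)⁻¹) ^ k := by rw [← e1, conj_pow]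
    rw [hvi, inv_pow] at e2
    exact e2
  set t := (v * x₀) ^ k with ht
  have hx2' : (v * t) * (v * t) = 1 := by
    calc (v * t) * (v * t) = (v * t * v) * t := by group
      _ = 1 := by rw [h6, inv_mul_cancel]
  have hcore : x₀⁻¹ * (v * t) ∈ core X := by
    have : x₀⁻¹ * (v * t) = (v * x₀)⁻¹ * t := by
      rw [mul_inv_rev, hvi, mul_assoc]
    rw [this]; exact hk2
  have hxK : v * t ∈ K := hK.mem_of_two (n := 1) hx₀ hcore (by rw [pow_one, pow_two]; exact hx2')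
  refine ⟨v * t, hxK, hx2', hcore, ?_⟩
  have h7 : t * t * (t * t) = 1 := by
    have : t ^ 2 ^ 2 = t * t * (t * t) := by
      rw [show (2 : ℕ) ^ 2 = 4 by norm_num]
      simp only [pow_succ, pow_zero, one_mul, mul_assoc]
    rw [← this]; exact hk1
  have h8 : v * (v * t) * v⁻¹ = t * v := by
    rw [hvi, ← mul_assoc, hv, one_mul]
  have h9 : v * t = t⁻¹ * v := by
    calc v * t = (v * t * v) * v⁻¹ := by group
      _ = t⁻¹ * v := by rw [h6, hvi]
  have h10 : t * v = v * t⁻¹ := by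
    rw [← h6]
    calc t * v = (v * v) * t * v := by rw [hv, one_mul]
      _ = v * (v * t * v) := by group
  rw [h8]
  calc v * t * (t * v) = t⁻¹ * v * (v * t⁻¹) := by rw [← h9, ← h10]
    _ = t⁻¹ * (v * v) * t⁻¹ := by group
    _ = t⁻¹ * t⁻¹ := by rw [hv, mul_one]
    _ = t * t := by
      rw [← mul_inv_rev]
      exact inv_eq_of_mul_eq_one_left h7
    _ = t * (v * v) * t := by rw [hv, mul_one]
    _ = t * v * (v * t) := by group

end Cfsg.Agent.Intrinsic.Diag
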