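import Cfsg.Agent.SporRec.TwoAn
import Cfsg.Agent.StandardComponent.CoverExtra

/-!
# Lifts of 3-cycles and double transpositions to a double cover of an alternating group

For `K : Cover α C` we define the lift `t K a b c` of order 3 of the 3-cycle `swap a b * swap b c` and the lift
`D K a b c d = t a c b * t a c d` of `(a b)(c d)`, and compute the action of any endomorphism of `C` which induces
conjugation by a permutation `τ` on the alternating group.
-/

set_option autoImplicit false

namespace Cfsg.Agent.Intrinsic.AnLift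

open Equiv Cfsg.Agent.SporRec.TwoAn

variable {α : Type*} [Fintype α] [DecidableEq α] {C : Type*} [Group C] (K : Cover α C)

theorem swap_three_mem {a b c : α} (hab : a ≠ b) (hbc : b ≠ c) : swap a b * swap b c ∈ alternatingGroup α := by
  rw [Perm.mem_alternatingGroup, map_mul, Perm.sign_swap hab, Perm.sign_swap hbc]
  decide

theorem swap_three_cube {a b c : α} (hab : a ≠ b) (hac : a ≠ c) (hbc : b ≠ c) : (swap a b * swap b c) ^ 3 = 1 := by
  have h := Perm.isThreeCycle_swap_mul_swap_same hab.symm hbc hac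
  rw [swap_comm b a] at h
  rw [← h.orderOf, pow_orderOf_eq_one]

theorem exists_three {a b c : α} (hab : a ≠ b) (hac : a ≠ c) (hbc : b ≠ c) :
    ∃ x : C, K.π x = swap a b * swap b c ∧ x ^ 3 = 1 :=
  K.exists_odd_lift (swap_three_mem hab hbc) (n := 3) (by decide) (swap_three_cube hab hac hbc)

open Classical in
/-- The lift of order 3 of the 3-cycle `a → b → c → a`. -/
noncomputable def t (a b c : α) : C :=
  if h : a ≠ b ∧ a ≠ c ∧ b ≠ c then (exists_three K h.1 h.2.1 h.2.2).choose else 1

theorem t_spec {a b c : α} (hab : a ≠ b) (hac : a ≠ c) (hbc : b ≠ c) :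
    K.π (t K a b c) = swap a b * swap b c ∧ t K a b c ^ 3 = 1 := by
  have h : a ≠ b ∧ a ≠ c ∧ b ≠ c := ⟨hab, hac, hbc⟩
  unfold t
  rw [dif_pos h]
  exact (exists_three K h.1 h.2.1 h.2.2).choose_spec

theorem π_t {a b c : α} (hab : a ≠ b) (hac : a ≠ c) (hbc : b ≠ c) : K.π (t K a b c) = swap a b * swap b c :=
  (t_spec K hab hac hbc).1

theorem t_cube (a b c : α) : t K a b c ^ 3 = 1 := by
  by_cases h : a ≠ b ∧ a ≠ c ∧ b ≠ c
  · exact (t_spec K h.1 h.2.1 h.2.2).2
  · unfold t
    rw [dif_neg h, one_pow]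

theorem eq_t {a b c : α} (hab : a ≠ b) (hac : a ≠ c) (hbc : b ≠ c) {x : C} (h1 : K.π x = swap a b * swap b c)
    (h3 : x ^ 3 = 1) : x = t K a b c :=
  K.odd_lift_unique (n := 3) (by decide) h3 (t_cube K a b c) (by rw [h1, π_t K hab hac hbc])

/-- A lift of the double transposition `(a b)(c d)`. -/
noncomputable def D (a b c d : α) : C := t K a c b * t K a c d

theorem π_D {a b c d : α} (hab : a ≠ b) (hac : a ≠ c) (had : a ≠ d) (hbc : b ≠ c) (hcd : c ≠ d) (hbd : b ≠ d) :
    K.π (D K a b c d) = swap a b * swap c d := by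
  unfold D
  rw [map_mul, π_t K hac hab hbc.symm, π_t K hac had hcd]
  ext x
  simp only [Perm.mul_apply, swap_apply_def]
  split_ifs <;> simp_all

theorem D_sq {a b c d : α} (hab : a ≠ b) (hac : a ≠ c) (had : a ≠ d) (hbc : b ≠ c) (hcd : c ≠ d) (hbd : b ≠ d) :
    D K a b c d * D K a b c d = K.z :=
  K.dbl a b c d hab hac had hbc hbd hcd _ (π_D K hab hac had hbc hcd hbd)

section Equivariance

variable {f : C →* C} {τ : Perm α}

/-- An endomorphism inducing a conjugation on the alternating group fixes the central involution. -/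
theorem map_z (hf : ∀ g, K.π (f g) = τ * K.π g * τ⁻¹) (hinj : Function.Injective f) : f K.z = K.z := by
  rcases (K.ker (f K.z)).1 (by rw [hf, K.π_z, mul_one, mul_inv_cancel]) with h | h
  · exact absurd (hinj (h.trans (map_one f).symm)) K.z_ne
  · exact h

theorem map_t (hf : ∀ g, K.π (f g) = τ * K.π g * τ⁻¹) {a b c : α} (hab : a ≠ b) (hac : a ≠ c) (hbc : b ≠ c) :
    f (t K a b c) = t K (τ a) (τ b) (τ c) := by
  refine eq_t K (τ.injective.ne hab) (τ.injective.ne hac) (τ.injective.ne hbc) ?_ ?_
  · rw [hf, π_t K hab hac hbc, swap_apply_apply, swap_apply_apply]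
    group
  · rw [← map_pow, t_cube, map_one]

theorem map_D (hf : ∀ g, K.π (f g) = τ * K.π g * τ⁻¹) {a b c d : α} (hab : a ≠ b) (hac : a ≠ c) (had : a ≠ d)
    (hbc : b ≠ c) (hcd : c ≠ d) : f (D K a b c d) = D K (τ a) (τ b) (τ c) (τ d) := by
  unfold D
  rw [map_mul, map_t K hf hac hab hbc.symm, map_t K hf hac had hcd]

end Equivariance

theorem conj_t (y : C) {a b c : α} (hab : a ≠ b) (hac : a ≠ c) (hbc : b ≠ c) :
    y * t K a b c * y⁻¹ = t K (K.π y a) (K.π y b) (K.π y c) := by
  have := map_t K (f := (MulAut.conj y).toMonoidHom) (τ := K.π y)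
    (fun g => by show K.π (y * g * y⁻¹) = _; rw [map_mul, map_mul, map_inv]) hab hac hbc
  exact this

theorem conj_D (y : C) {a b c d : α} (hab : a ≠ b) (hac : a ≠ c) (had : a ≠ d) (hbc : b ≠ c) (hcd : c ≠ d) :
    y * D K a b c d * y⁻¹ = D K (K.π y a) (K.π y b) (K.π y c) (K.π y d) := by
  have := map_D K (f := (MulAut.conj y).toMonoidHom) (τ := K.π y)
    (fun g => by show K.π (y * g * y⁻¹) = _; rw [map_mul, map_mul, map_inv]) hab hac had hbc hcd
  exact this

/-- Flipping both transpositions does not change the lift. -/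
theorem D_flip {a b c d : α} (hab : a ≠ b) (hac : a ≠ c) (had : a ≠ d) (hbc : b ≠ c) (hcd : c ≠ d)
    (hbd : b ≠ d) : D K b a d c = D K a b c d := by
  have h1 := conj_D K (D K a b c d) hab hac had hbc hcd
  rw [mul_inv_cancel_right, π_D K hab hac had hbc hcd hbd] at h1
  have e1 : (swap a b * swap c d) a = b := by
    rw [Perm.mul_apply, swap_apply_of_ne_of_ne hac had, swap_apply_left]
  have e2 : (swap a b * swap c d) b = a := by
    rw [Perm.mul_apply, swap_apply_of_ne_of_ne hbc hbd, swap_apply_right]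
  have e3 : (swap a b * swap c d) c = d := by
    rw [Perm.mul_apply, swap_apply_left, swap_apply_of_ne_of_ne had.symm hbd.symm]
  have e4 : (swap a b * swap c d) d = c := by
    rw [Perm.mul_apply, swap_apply_right, swap_apply_of_ne_of_ne hac.symm hbc.symm]
  rw [e1, e2, e3, e4] at h1
  exact h1.symm

/-- Exchanging the two transpositions multiplies the lift by `z`. -/
theorem D_swap {a b c d : α} (hab : a ≠ b) (hac : a ≠ c) (had : a ≠ d) (hbc : b ≠ c) (hcd : c ≠ d)
    (hbd : b ≠ d) : D K c d a b = D K a b c d * K.z := by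
  have h1 := conj_D K (D K a c b d) hab hac had hbc hcd
  have h2 := π_D K hac hab had hbc.symm hbd hcd
  rw [h2] at h1
  have e1 : (swap a c * swap b d) a = c := by
    rw [Perm.mul_apply, swap_apply_of_ne_of_ne hab had, swap_apply_left]
  have e2 : (swap a c * swap b d) b = d := by
    rw [Perm.mul_apply, swap_apply_left, swap_apply_of_ne_of_ne had.symm hcd.symm]
  have e3 : (swap a c * swap b d) c = a := by
    rw [Perm.mul_apply, swap_apply_of_ne_of_ne hbc.symm hcd, swap_apply_right]
  have e4 : (swap a c * swap b d) d = b := by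
    rw [Perm.mul_apply, swap_apply_right, swap_apply_of_ne_of_ne hab.symm hbc]
  rw [e1, e2, e3, e4] at h1
  have h4 := K.anticomm hab hac had hbc hbd hcd (π_D K hab hac had hbc hcd hbd) h2
  rw [← h1, h4, mul_assoc (D K a b c d), K.z_comm, ← mul_assoc, mul_assoc, mul_assoc, mul_inv_cancel, mul_one]

/-- Elements with disjoint supports commute. -/
theorem comm_of_disjoint {x y : C} (h : (K.π x).Disjoint (K.π y)) : x * y = y * x := K.commute_of_disjoint h

end Cfsg.Agent.Intrinsic.AnLift
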