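import Cfsg.Agent.Intrinsic.ANFactInv
import Cfsg.Agent.Intrinsic.AnLift
import Cfsg.Agent.StandardComponent.AltAut
import Cfsg.Agent.StandardComponent.AltTransfer
import Cfsg.Agent.StandardComponent.NoSE
import Cfsg.Agent.Intrinsic.Bridge
import Cfsg.Agent.Intrinsic.Quot
import Cfsg.Prelude.Def_Involutions

/-!
# (A10) The centralizer of `C_X(z)` in the automorphism group of a big component

`X` is simple with one class of involutions, `C_X(z) = 2.A_n`, `n ∈ {8, 11}` and `X` has no strongly embedded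
subgroup. Then `X = ⟨C(z), C(l)⟩` for every involution `l ≠ z` of `C(z)`, and every automorphism centralizing `C_X(z)`
is `1` or the conjugation by `z`.
-/

set_option autoImplicit false

namespace Cfsg.Agent.Intrinsic.ANFactBigCent

open Equiv Cfsg.Agent.SporRec.TwoAn

section perm

variable {α : Type*} [Fintype α] [DecidableEq α] {C : Type*} [Group C] (K : Cover α C)

include K

/-- An element over a part of the cycles of `π l` commutes with `l`. -/
theorem comm_of_part {x l : C} (h : ∀ p, K.π x p = p ∨ K.π x p = K.π l p) : x * l = l * x := by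
  have h1 : x * (x⁻¹ * l) = x⁻¹ * l * x := by
    apply K.commute_of_disjoint
    intro p
    rcases h p with h2 | h2
    · exact Or.inl h2
    · right
      rw [map_mul, map_inv, Perm.mul_apply, ← h2, Perm.inv_eq_iff_eq]
  rw [mul_inv_cancel_left] at h1
  have h2 : x * l = x * (x⁻¹ * l * x) := by rw [← h1]
  rw [h2]; group

variable {l : C} (h2 : K.π l * K.π l = 1)

include h2

theorem apply_apply (p : α) : K.π l (K.π l p) = p := by
  rw [← Perm.mul_apply, h2]; rfl

/-- elements over the product of two cycles -/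
theorem exists_kindA {b c : α} (hb : K.π l b ≠ b) (hc : K.π l c ≠ c) (hcb : c ≠ b) (hcb' : c ≠ K.π l b) :
    ∃ x, x * l = l * x ∧ K.π x = swap b (K.π l b) * swap c (K.π l c) := by
  have hss := apply_apply K h2
  have h1 : K.π l c ≠ b := fun h => hcb' (by rw [← h, hss])
  have h3 : K.π l c ≠ K.π l b := fun h => hcb ((K.π l).injective h)
  obtain ⟨x, hx⟩ := K.exists_lift (Cover.swap_mul_swap_mem b (K.π l b) c (K.π l c) hb.symm hc.symm)
  refine ⟨x, comm_of_part K fun p => ?_, hx⟩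
  rw [hx, Perm.mul_apply]
  by_cases p1 : p = b
  · right; subst p1
    rw [swap_apply_of_ne_of_ne hcb.symm h1.symm, swap_apply_left]
  by_cases p2 : p = K.π l b
  · right; subst p2
    rw [swap_apply_of_ne_of_ne hcb'.symm h3.symm, swap_apply_right, hss]
  by_cases p3 : p = c
  · right; subst p3
    rw [swap_apply_left, swap_apply_of_ne_of_ne h1 h3]
  by_cases p4 : p = K.π l c
  · right; subst p4
    rw [swap_apply_right, swap_apply_of_ne_of_ne hcb hcb', hss]
  · left
    rw [swap_apply_of_ne_of_ne p3 p4, swap_apply_of_ne_of_ne p1 p2]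

/-- elements over a 3-cycle of cycles -/
theorem exists_kindB {a b c : α} (hab : a ≠ b) (hac : a ≠ c) (hbc : b ≠ c) (ha : K.π l a ≠ a) (hb : K.π l b ≠ b)
    (hc : K.π l c ≠ c) (hab' : a ≠ K.π l b) (hac' : a ≠ K.π l c) (hbc' : b ≠ K.π l c) :
    ∃ x, x * l = l * x ∧ K.π x a = b := by
  have hss := apply_apply K h2
  have ba' : b ≠ K.π l a := fun h => hab' (by rw [h, hss])
  have ca' : c ≠ K.π l a := fun h => hac' (by rw [h, hss])
  have cb' : c ≠ K.π l b := fun h => hbc' (by rw [h, hss])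
  have n1 : K.π l a ≠ K.π l b := fun h => hab ((K.π l).injective h)
  have n2 : K.π l a ≠ K.π l c := fun h => hac ((K.π l).injective h)
  have n3 : K.π l b ≠ K.π l c := fun h => hbc ((K.π l).injective h)
  set t := AnLift.t K a b c with ht
  have hπt : K.π t = swap a b * swap b c := AnLift.π_t K hab hac hbc
  have hu : l * t * l⁻¹ = AnLift.t K (K.π l a) (K.π l b) (K.π l c) := AnLift.conj_t K l hab hac hbc
  have hπu : K.π (l * t * l⁻¹) = swap (K.π l a) (K.π l b) * swap (K.π l b) (K.π l c) := by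
    rw [hu]; exact AnLift.π_t K n1 n2 n3
  have hcom : t * (l * t * l⁻¹) = l * t * l⁻¹ * t := by
    apply K.commute_of_disjoint
    intro p
    rw [hπt, hπu, Perm.mul_apply, Perm.mul_apply]
    by_cases p1 : p = a
    · right; subst p1
      rw [swap_apply_of_ne_of_ne hab' hac', swap_apply_of_ne_of_ne ha.symm hab']
    by_cases p2 : p = b
    · right; subst p2
      rw [swap_apply_of_ne_of_ne hb.symm hbc', swap_apply_of_ne_of_ne ba' hb.symm]
    by_cases p3 : p = c
    · right; subst p3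
      rw [swap_apply_of_ne_of_ne cb' hc.symm, swap_apply_of_ne_of_ne ca' cb']
    · left
      rw [swap_apply_of_ne_of_ne p2 p3, swap_apply_of_ne_of_ne p1 p2]
  have hll : ∀ y : C, l * l * y = y * (l * l) := by
    intro y
    rcases K.sq_eq_z_or h2 with h | h
    · rw [h, one_mul, mul_one]
    · rw [h, K.z_comm]
  refine ⟨t * (l * t * l⁻¹), ?_, ?_⟩
  · calc t * (l * t * l⁻¹) * l = (l * t * l⁻¹ * t) * l := by rw [hcom]
      _ = l * t * l⁻¹ * l⁻¹ * (l * t) * l := by group
      _ = l * t * (l * l)⁻¹ * (l * t) * l := by group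
      _ = l * (t * (l * t * l⁻¹)) * (l * (l * l)⁻¹ * l) := by
        have h5 : (l * l)⁻¹ * (l * t) = l * t * (l * l)⁻¹ := by
          rw [inv_mul_eq_iff_eq_mul, ← mul_assoc, hll, mul_assoc (l * t) (l * l), mul_inv_cancel, mul_one]
        calc l * t * (l * l)⁻¹ * (l * t) * l = l * t * ((l * l)⁻¹ * (l * t)) * l := by group
          _ = l * t * (l * t * (l * l)⁻¹) * l := by rw [h5]
          _ = _ := by group
      _ = l * (t * (l * t * l⁻¹)) := by group
  · rw [map_mul, hπt, hπu, Perm.mul_apply, Perm.mul_apply, Perm.mul_apply]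
    rw [swap_apply_of_ne_of_ne hab' hac', swap_apply_of_ne_of_ne ha.symm hab', swap_apply_of_ne_of_ne hab hac,
      swap_apply_left]

/-- elements exchanging two fixed points -/
theorem exists_kindC {p q r b c : α} (hp : K.π l p ≠ p) (hq : K.π l q ≠ q) (hr : K.π l r ≠ r) (hb : K.π l b = b)
    (hc : K.π l c = c) (hbc : b ≠ c) (hpq : p ≠ q) (hpr : p ≠ r) (hqr : q ≠ r) (hpq' : p ≠ K.π l q)
    (hpr' : p ≠ K.π l r) (hqr' : q ≠ K.π l r) :
    ∃ x, x * l = l * x ∧ K.π x b = c ∧ ∀ a, K.π l a = a → a ≠ b → a ≠ c → K.π x a = a := by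
  have hss := apply_apply K h2
  have qp' : q ≠ K.π l p := fun h => hpq' (by rw [h, hss])
  have rp' : r ≠ K.π l p := fun h => hpr' (by rw [h, hss])
  have rq' : r ≠ K.π l q := fun h => hqr' (by rw [h, hss])
  have n1 : K.π l p ≠ K.π l q := fun h => hpq ((K.π l).injective h)
  have n2 : K.π l p ≠ K.π l r := fun h => hpr ((K.π l).injective h)
  have n3 : K.π l q ≠ K.π l r := fun h => hqr ((K.π l).injective h)
  -- fixed points are different from moved ones
  have hfm : ∀ a d, K.π l a = a → K.π l d ≠ d → a ≠ d ∧ a ≠ K.π l d := by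
    intro a d h3 h4
    refine ⟨fun h => h4 (h ▸ h3), fun h => h4 ?_⟩
    apply (K.π l).injective
    rw [h] at h3
    exact h3
  -- `w` over `(p q)(p' q')`, `D₁` over `(p p')(q q')`
  obtain ⟨w, hw⟩ := K.exists_lift (Cover.swap_mul_swap_mem p q (K.π l p) (K.π l q) hpq n1)
  obtain ⟨D, hDl, hD⟩ := exists_kindA K h2 hp hq hpq.symm qp'
  have hwD : D * w = w * D * K.z := K.anticomm hpq hp.symm hpq' qp' hq.symm n1 hw hD
  have hDl' : ∀ x, K.π (D⁻¹ * l) x = if x = p ∨ x = K.π l p ∨ x = q ∨ x = K.π l q then x else K.π l x := by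
    intro x
    rw [map_mul, map_inv, hD]
    exact Cover.split_apply h2 hp hq hpq.symm qp' x
  have hwl : w * (D⁻¹ * l) = D⁻¹ * l * w := by
    apply K.commute_of_disjoint
    intro x
    rw [hDl']
    by_cases hx : x = p ∨ x = K.π l p ∨ x = q ∨ x = K.π l q
    · right; rw [if_pos hx]
    · left
      push Not at hx
      obtain ⟨x1, x2, x3, x4⟩ := hx
      rw [hw, Perm.mul_apply, swap_apply_of_ne_of_ne x2 x4, swap_apply_of_ne_of_ne x1 x3]
  have hwl2 : l * w = w * l * K.z := by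
    calc l * w = D * (D⁻¹ * l * w) := by group
      _ = D * (w * (D⁻¹ * l)) := by rw [hwl]
      _ = (D * w) * (D⁻¹ * l) := by group
      _ = w * D * (K.z * (D⁻¹ * l)) := by rw [hwD]; group
      _ = w * D * ((D⁻¹ * l) * K.z) := by rw [K.z_comm (D⁻¹ * l)]
      _ = w * l * K.z := by group
  -- `v` over `(r r')(b c)`, `D₂` over `(p p')(r r')`
  obtain ⟨v, hv⟩ := K.exists_lift (Cover.swap_mul_swap_mem r (K.π l r) b c hr.symm hbc)
  obtain ⟨E, hEl, hE⟩ := exists_kindA K h2 hp hr hpr.symm rp'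
  have hEl' : ∀ x, K.π (E⁻¹ * l) x = if x = p ∨ x = K.π l p ∨ x = r ∨ x = K.π l r then x else K.π l x := by
    intro x
    rw [map_mul, map_inv, hE]
    exact Cover.split_apply h2 hp hr hpr.symm rp' x
  have hvE : v * (E⁻¹ * l) = E⁻¹ * l * v := by
    apply K.commute_of_disjoint
    intro x
    rw [hEl']
    by_cases hx : x = p ∨ x = K.π l p ∨ x = r ∨ x = K.π l r
    · right; rw [if_pos hx]
    rw [if_neg hx]
    push Not at hx
    obtain ⟨x1, x2, x3, x4⟩ := hx
    by_cases hxb : x = b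
    · right; rw [hxb, hb]
    by_cases hxc : x = c
    · right; rw [hxc, hc]
    left
    rw [hv, Perm.mul_apply, swap_apply_of_ne_of_ne hxb hxc, swap_apply_of_ne_of_ne x3 x4]
  have hEE : E * E = K.z := K.dbl _ _ _ _ hp.symm hpr hpr' rp'.symm n2 hr.symm E hE
  have hvv : v * v = K.z := K.dbl _ _ _ _ hr.symm (hfm b r hb hr).1.symm (hfm c r hc hr).1.symm
    (hfm b r hb hr).2.symm (hfm c r hc hr).2.symm hbc v hv
  have hvEvE : v * E * (v * E) = K.z := by
    refine K.dbl b c p (K.π l p) hbc (hfm b p hb hp).1 (hfm b p hb hp).2 (hfm c p hc hp).1 (hfm c p hc hp).2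
      hp.symm (v * E) ?_
    rw [map_mul, hv, hE]
    have hd : (swap p (K.π l p)).Disjoint (swap r (K.π l r)) := by
      intro x
      by_cases x1 : x = p
      · right; rw [x1, swap_apply_of_ne_of_ne hpr hpr']
      by_cases x2 : x = K.π l p
      · right; rw [x2, swap_apply_of_ne_of_ne rp'.symm n2]
      · left; rw [swap_apply_of_ne_of_ne x1 x2]
    have hd2 : (swap b c).Disjoint (swap r (K.π l r)) := by
      intro x
      by_cases x1 : x = b
      · right; rw [x1, swap_apply_of_ne_of_ne (hfm b r hb hr).1 (hfm b r hb hr).2]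
      by_cases x2 : x = c
      · right; rw [x2, swap_apply_of_ne_of_ne (hfm c r hc hr).1 (hfm c r hc hr).2]
      · left; rw [swap_apply_of_ne_of_ne x1 x2]
    calc swap r (K.π l r) * swap b c * (swap p (K.π l p) * swap r (K.π l r))
        = swap r (K.π l r) * swap b c * (swap r (K.π l r) * swap p (K.π l p)) := by rw [hd.commute.eq]
      _ = (swap b c * swap r (K.π l r)) * (swap r (K.π l r) * swap p (K.π l p)) := by rw [hd2.commute.eq]
      _ = swap b c * (swap r (K.π l r) * swap r (K.π l r)) * swap p (K.π l p) := by group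
      _ = swap b c * swap p (K.π l p) := by rw [swap_mul_self, mul_one]
  have hEv : E * v = v * E * K.z := by
    have e1 : v⁻¹ = v * K.z := by rw [inv_eq_iff_mul_eq_one, ← mul_assoc, hvv, K.z_mul_z]
    have e2 : E⁻¹ = E * K.z := by rw [inv_eq_iff_mul_eq_one, ← mul_assoc, hEE, K.z_mul_z]
    calc E * v = v⁻¹ * (v * E * (v * E)) * E⁻¹ := by group
      _ = v⁻¹ * K.z * E⁻¹ := by rw [hvEvE]
      _ = v * K.z * K.z * (E * K.z) := by rw [e1, e2]
      _ = v * E * K.z := by rw [mul_assoc v, K.z_mul_z, mul_one, mul_assoc]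
  have hvl : l * v = v * l * K.z := by
    calc l * v = E * (E⁻¹ * l * v) := by group
      _ = E * (v * (E⁻¹ * l)) := by rw [hvE]
      _ = (E * v) * (E⁻¹ * l) := by group
      _ = v * E * (K.z * (E⁻¹ * l)) := by rw [hEv]; group
      _ = v * E * ((E⁻¹ * l) * K.z) := by rw [K.z_comm (E⁻¹ * l)]
      _ = v * l * K.z := by group
  refine ⟨w * v, ?_, ?_, ?_⟩
  · symm
    calc l * (w * v) = (l * w) * v := by group
      _ = w * l * (K.z * v) := by rw [hwl2]; group
      _ = w * l * (v * K.z) := by rw [K.z_comm v]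
      _ = w * (l * v) * K.z := by group
      _ = w * (v * l * K.z) * K.z := by rw [hvl]
      _ = w * v * l * (K.z * K.z) := by group
      _ = w * v * l := by rw [K.z_mul_z, mul_one]
  · rw [map_mul, Perm.mul_apply, hv, Perm.mul_apply, swap_apply_left,
      swap_apply_of_ne_of_ne (hfm c r hc hr).1 (hfm c r hc hr).2, hw, Perm.mul_apply,
      swap_apply_of_ne_of_ne (hfm c p hc hp).2 (hfm c q hc hq).2,
      swap_apply_of_ne_of_ne (hfm c p hc hp).1 (hfm c q hc hq).1]
  · intro a ha hab hac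
    rw [map_mul, Perm.mul_apply, hv, Perm.mul_apply, swap_apply_of_ne_of_ne hab hac,
      swap_apply_of_ne_of_ne (hfm a r ha hr).1 (hfm a r ha hr).2, hw, Perm.mul_apply,
      swap_apply_of_ne_of_ne (hfm a p ha hp).2 (hfm a q ha hq).2,
      swap_apply_of_ne_of_ne (hfm a p ha hp).1 (hfm a q ha hq).1]

/-- **(A10), the permutations.** A permutation centralizing the image of `C(l)` is `1` or the image of `l`. -/
theorem eq_one_or_of_commutes (h8 : (K.π l).support.card = 8) (hα : Fintype.card α ≠ 10) {τ : Perm α}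
    (hτ : ∀ x : C, x * l = l * x → τ * K.π x = K.π x * τ) : τ = 1 ∨ τ = K.π l := by
  have hss := apply_apply K h2
  have hτ' : ∀ x : C, x * l = l * x → ∀ a, τ (K.π x a) = K.π x (τ a) := by
    intro x hx a
    have := congrArg (fun f : Perm α => f a) (hτ x hx)
    exact this
  have hl := hτ' l rfl
  have hpick : ∀ s : Finset α, s.card < 8 → ∃ c, K.π l c ≠ c ∧ c ∉ s := by
    intro s hs
    obtain ⟨c, hc, hcs⟩ := Finset.exists_mem_notMem_of_card_lt_card (s := s) (t := (K.π l).support) (by rwa [h8])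
    exact ⟨c, Perm.mem_support.1 hc, hcs⟩
  -- (1)
  have h1 : ∀ a b, K.π l b ≠ b → b ≠ a → b ≠ K.π l a → τ a ≠ b := by
    intro a b hb hba hba' hab
    obtain ⟨c, hc, hcs⟩ := hpick {a, K.π l a, b, K.π l b} (lt_of_le_of_lt Finset.card_le_four (by norm_num))
    simp only [Finset.mem_insert, Finset.mem_singleton, not_or] at hcs
    obtain ⟨c1, c2, c3, c4⟩ := hcs
    obtain ⟨x, hx, hπx⟩ := exists_kindA K h2 hb hc c3 c4
    have ab' : a ≠ K.π l b := fun h => hba' (by rw [h, hss])
    have ac' : a ≠ K.π l c := fun h => c2 (by rw [h, hss])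
    have bc' : b ≠ K.π l c := fun h => c4 (by rw [h, hss])
    have e1 : K.π x a = a := by
      rw [hπx, Perm.mul_apply, swap_apply_of_ne_of_ne (Ne.symm c1) ac', swap_apply_of_ne_of_ne hba.symm ab']
    have e2 : K.π x b = K.π l b := by
      rw [hπx, Perm.mul_apply, swap_apply_of_ne_of_ne (Ne.symm c3) bc', swap_apply_left]
    have e3 := hτ' x hx a
    rw [e1, hab, e2] at e3
    exact hb e3.symm
  -- (2)
  have h3 : ∀ a, K.π l a ≠ a → τ a = a ∨ τ a = K.π l a := by
    intro a ha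
    by_contra h
    push Not at h
    refine h1 a (τ a) ?_ h.1 h.2 rfl
    intro h4
    apply ha
    apply τ.injective
    rw [hl, h4]
  -- (3)
  have h4 : ∀ a, K.π l a = a → τ a = a := by
    intro b hb
    by_contra hne
    set c := τ b with hcd
    have hc : K.π l c = c := by rw [hcd, ← hl, hb]
    -- a third fixed point
    have hcard : (K.π l).supportᶜ.card = Fintype.card α - 8 := by rw [Finset.card_compl, h8]
    have h5 : ({b, c} : Finset α) ⊆ (K.π l).supportᶜ := by
      intro x hx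
      rw [Finset.mem_insert, Finset.mem_singleton] at hx
      rw [Finset.mem_compl, Perm.notMem_support]
      rcases hx with rfl | rfl
      · exact hb
      · exact hc
    have h6 := Finset.card_le_card h5
    rw [Finset.card_pair (Ne.symm hne), hcard] at h6
    have h7 : ({b, c} : Finset α).card < (K.π l).supportᶜ.card := by
      rw [Finset.card_pair (Ne.symm hne), hcard]; omega
    obtain ⟨a, ha, has⟩ := Finset.exists_mem_notMem_of_card_lt_card h7
    rw [Finset.mem_compl, Perm.notMem_support] at ha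
    rw [Finset.mem_insert, Finset.mem_singleton, not_or] at has
    obtain ⟨p, hp, -⟩ := hpick ∅ (by simp)
    obtain ⟨q, hq, hqs⟩ := hpick {p, K.π l p} (lt_of_le_of_lt Finset.card_le_two (by norm_num))
    obtain ⟨r, hr, hrs⟩ := hpick {p, K.π l p, q, K.π l q} (lt_of_le_of_lt Finset.card_le_four (by norm_num))
    simp only [Finset.mem_insert, Finset.mem_singleton, not_or] at hqs hrs
    obtain ⟨x, hx, hx1, hx2⟩ := exists_kindC K h2 hp hq hr (b := c) (c := a) hc ha (Ne.symm has.2)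
      (Ne.symm hqs.1) (Ne.symm hrs.1) (Ne.symm hrs.2.2.1)
      (fun h => hqs.2 (by rw [h, hss])) (fun h => hrs.2.1 (by rw [h, hss])) (fun h => hrs.2.2.2 (by rw [h, hss]))
    have e1 := hτ' x hx b
    rw [hx2 b hb (Ne.symm hne) (Ne.symm has.1), ← hcd, hx1] at e1
    exact has.2 e1.symm
  by_cases hA : ∃ a, K.π l a ≠ a ∧ τ a = a
  · left
    obtain ⟨a, ha, hτa⟩ := hA
    have key : ∀ b, b ≠ a → b ≠ K.π l a → K.π l b ≠ b → τ b = b := by
      intro b hba hba' hb
      obtain ⟨c, hc, hcs⟩ := hpick {a, K.π l a, b, K.π l b} (lt_of_le_of_lt Finset.card_le_four (by norm_num))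
      simp only [Finset.mem_insert, Finset.mem_singleton, not_or] at hcs
      obtain ⟨c1, c2, c3, c4⟩ := hcs
      obtain ⟨x, hx, hπx⟩ := exists_kindB K h2 (Ne.symm hba) (Ne.symm c1) (Ne.symm c3) ha hb hc
        (fun h => hba' (by rw [h, hss])) (fun h => c2 (by rw [h, hss])) (fun h => c4 (by rw [h, hss]))
      have e1 := hτ' x hx a
      rw [hτa, hπx] at e1
      exact e1
    ext b
    rw [Perm.one_apply]
    by_cases hb : K.π l b = b
    · exact h4 b hb
    by_cases hba : b = a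
    · rw [hba, hτa]
    by_cases hba' : b = K.π l a
    · rw [hba', hl, hτa]
    exact key b hba hba' hb
  · right
    push Not at hA
    ext a
    by_cases ha : K.π l a = a
    · rw [h4 a ha, ha]
    · exact (h3 a ha).resolve_left (hA a ha)

end perm

section cover

variable {α : Type*} [Fintype α] [DecidableEq α] {C : Type*} [Group C] (K : Cover α C)

include K in
/-- An endomorphism of the cover which is the identity on the alternating group is the identity. -/
theorem eq_self_of_π {f : C →* C} (hf : ∀ x, K.π (f x) = K.π x) (hz : f K.z = K.z) (x : C) : f x = x := by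
  let F : Subgroup C := MonoidHom.eqLocus f (MonoidHom.id C)
  have hF : ∀ y, y ∈ F ↔ f y = y := fun y => Iff.rfl
  have h1 : alternatingGroup α ≤ F.map K.π := by
    rw [← Equiv.Perm.closure_three_cycles_eq_alternating, Subgroup.closure_le]
    intro σ hσ
    have h3 : σ ^ 3 = 1 := by
      rw [← (show Perm.IsThreeCycle σ from hσ).orderOf, pow_orderOf_eq_one]
    obtain ⟨y, hy, hy3⟩ := K.exists_odd_lift (Perm.IsThreeCycle.mem_alternatingGroup hσ) (n := 3) (by decide) h3
    refine ⟨y, ?_, hy⟩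
    show f y = y
    exact K.odd_lift_unique (n := 3) (by decide) (by rw [← map_pow, hy3, map_one]) hy3 (hf y)
  obtain ⟨y, hy, hyx⟩ := h1 (K.mem_alternating x)
  have hy' : f y = y := hy
  rcases K.lift_eq hyx.symm with h | h
  · rw [h, hy']
  · rw [h, map_mul, hy', hz]

/-- there are permutations of type `2^4` -/
theorem exists_perm_eight {n : ℕ} (hn : 8 ≤ n) :
    ∃ σ ∈ alternatingGroup (Fin n), σ * σ = 1 ∧ σ.support.card = 8 := by
  let e : Fin 8 ↪ Fin n := ⟨fun i => ⟨i, by omega⟩, fun i j h => by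
    have := congrArg Fin.val h
    exact Fin.ext this⟩
  let τ : Perm (Fin 8) := swap 0 1 * swap 2 3 * (swap 4 5 * swap 6 7)
  have hτ2 : τ * τ = 1 := by decide
  have hτc : τ.support.card = 8 := by decide
  let σ : Perm (Fin n) := τ.viaFintypeEmbedding e
  have hσs : σ.sign = 1 := by
    rw [Perm.viaFintypeEmbedding_sign]
    decide
  refine ⟨σ, Perm.mem_alternatingGroup.2 hσs, ?_, ?_⟩
  · ext a
    by_cases ha : a ∈ Set.range e
    · obtain ⟨i, rfl⟩ := ha
      rw [Perm.mul_apply, Perm.viaFintypeEmbedding_apply_image, Perm.viaFintypeEmbedding_apply_image,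
        ← Perm.mul_apply, hτ2]
      rfl
    · rw [Perm.mul_apply, Perm.viaFintypeEmbedding_apply_notMem_range _ _ ha,
        Perm.viaFintypeEmbedding_apply_notMem_range _ _ ha]
      rfl
  · have h1 : σ.support = τ.support.map e := by
      ext a
      rw [Perm.mem_support, Finset.mem_map]
      constructor
      · intro h
        by_cases ha : a ∈ Set.range e
        · obtain ⟨i, rfl⟩ := ha
          refine ⟨i, ?_, rfl⟩
          rw [Perm.mem_support]
          intro h'
          apply h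
          rw [Perm.viaFintypeEmbedding_apply_image, h']
        · exact absurd (Perm.viaFintypeEmbedding_apply_notMem_range _ _ ha) h
      · rintro ⟨i, hi, rfl⟩
        rw [Perm.viaFintypeEmbedding_apply_image]
        rw [Perm.mem_support] at hi
        exact fun h' => hi (e.injective h')
    rw [h1, Finset.card_map, hτc]

/-- An automorphism preserving the kernel of a surjection induces an automorphism of the image. -/
theorem exists_induced {L A : Type*} [Group L] [Group A] (π : L →* A) (hπ : Function.Surjective π)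
    (β : MulAut L) (h : ∀ x, π x = 1 ↔ π (β x) = 1) : ∃ γ : MulAut A, ∀ x, γ (π x) = π (β x) := by
  have hk : π.ker.map (β : L ≃* L).toMonoidHom = π.ker := by
    ext y
    constructor
    · rintro ⟨x, hx, rfl⟩
      exact (h x).1 hx
    · intro hy
      refine ⟨β.symm y, ?_, β.apply_symm_apply y⟩
      have h1 := (h (β.symm y)).2 (by rw [MulEquiv.apply_symm_apply]; exact hy)
      exact h1
  let e : (L ⧸ π.ker) ≃* A := QuotientGroup.quotientKerEquivOfSurjective π hπ
  refine ⟨(e.symm.trans (QuotientGroup.congr _ _ β hk)).trans e, fun x => ?_⟩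
  have h1 : e (QuotientGroup.mk x) = π x := rfl
  have h2 : e.symm (π x) = QuotientGroup.mk x := by rw [← h1, MulEquiv.symm_apply_apply]
  rw [MulEquiv.trans_apply, MulEquiv.trans_apply, h2]
  rfl

/-- Automorphisms of the cover induce permutations. -/
theorem exists_perm_of_aut {n : ℕ} (hn : 7 ≤ n) {C : Type*} [Group C] (K : Cover (Fin n) C) (β : MulAut C) :
    ∃ τ : Perm (Fin n), ∀ x, K.π (β x) = τ * K.π x * τ⁻¹ := by
  have hinj : ∀ y, β y = 1 ↔ y = 1 := fun y => by
    constructor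
    · intro h; exact β.injective (h.trans (map_one β).symm)
    · rintro rfl; exact map_one β
  -- `β z = z`
  have hz : β K.z = K.z := by
    have h1 : β K.z ∈ Subgroup.center C := by
      rw [Subgroup.mem_center_iff]
      intro g
      obtain ⟨g, rfl⟩ := β.surjective g
      rw [← map_mul, ← map_mul, K.z_comm]
    rcases (K.mem_center_iff (by rw [Fintype.card_fin]; omega)).1 h1 with h | h
    · exact absurd ((hinj _).1 h) K.z_ne
    · exact h
  let π : C →* alternatingGroup (Fin n) := K.π.codRestrict (alternatingGroup (Fin n)) K.mem_alternating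
  have hπ : Function.Surjective π := by
    rintro ⟨σ, hσ⟩
    obtain ⟨g, rfl⟩ := K.exists_lift hσ
    exact ⟨g, rfl⟩
  have hker : ∀ x, π x = 1 ↔ x = 1 ∨ x = K.z := by
    intro x
    rw [← K.ker]
    exact ⟨fun h => congrArg Subtype.val h, fun h => Subtype.ext h⟩
  obtain ⟨γ, hγ⟩ := exists_induced π hπ β (by
    intro x
    rw [hker, hker, hinj]
    constructor
    · rintro (h | h)
      · exact Or.inl h
      · exact Or.inr (by rw [h, hz])
    · rintro (h | h)
      · exact Or.inl h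
      · exact Or.inr (β.injective (h.trans hz.symm)))
  obtain ⟨ψ, hψ⟩ := StandardComponent.AltAut.exists_autHom n hn
  refine ⟨ψ γ, fun x => ?_⟩
  have h1 := hψ γ (π x)
  rw [hγ] at h1
  exact h1

end cover

section group

variable {X : Type*} [Group X] {n : ℕ} {z : X}

theorem mem_cent {x : X} : x ∈ Subgroup.centralizer ({z} : Set X) ↔ x * z = z * x :=
  Subgroup.mem_centralizer_singleton_iff

/-- In a group with one class of involutions their centralizers have odd index. -/
theorem odd_index [Finite X] (hz : orderOf z = 2) (hconj : ∀ x : X, orderOf x = 2 → ∃ g, g * z * g⁻¹ = x) :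
    Odd (Subgroup.centralizer ({z} : Set X)).index := by
  have : Fact (Nat.Prime 2) := ⟨Nat.prime_two⟩
  obtain ⟨P⟩ := (inferInstance : Nonempty (Sylow 2 X))
  have h2 : 2 ∣ Nat.card X := by rw [← hz]; exact orderOf_dvd_natCard z
  have hP : Nontrivial P := by
    have h3 := P.dvd_card_of_dvd_card h2
    rw [← Finite.one_lt_card_iff_nontrivial]
    exact lt_of_lt_of_le one_lt_two (Nat.le_of_dvd Nat.card_pos h3)
  have hc := P.2.center_nontrivial
  have hcp : 2 ∣ Nat.card (Subgroup.center P) := by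
    obtain ⟨k, hk⟩ := (P.2.to_subgroup (Subgroup.center P)).exists_card_eq
    have h4 : Nat.card (Subgroup.center P) ≠ 1 := by
      intro h
      exact absurd ((Nat.card_eq_one_iff_unique.1 h).1) (not_subsingleton _)
    rcases Nat.eq_zero_or_pos k with rfl | hk0
    · exact absurd hk (by simpa using h4)
    · rw [hk]; exact dvd_pow_self 2 (by omega)
  obtain ⟨⟨⟨s, hsP⟩, hs⟩, hso⟩ := exists_prime_orderOf_dvd_card' 2 hcp
  have hs2 : orderOf s = 2 := by
    rw [← hso, Subgroup.orderOf_mk, Subgroup.orderOf_mk]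
  obtain ⟨g, rfl⟩ := hconj s hs2
  have hPC : (P : Subgroup X).map (MulAut.conj g⁻¹).toMonoidHom ≤ Subgroup.centralizer ({z} : Set X) := by
    rintro _ ⟨x, hx, rfl⟩
    rw [mem_cent]
    have h5 := congrArg (fun y : P => (y : X)) ((Subgroup.mem_center_iff.1 hs) ⟨x, hx⟩)
    have h6 : x * (g * z * g⁻¹) = g * z * g⁻¹ * x := h5
    show g⁻¹ * x * (g⁻¹)⁻¹ * z = z * (g⁻¹ * x * (g⁻¹)⁻¹)
    calc g⁻¹ * x * (g⁻¹)⁻¹ * z = g⁻¹ * (x * (g * z * g⁻¹)) * g := by group
      _ = g⁻¹ * (g * z * g⁻¹ * x) * g := by rw [h6]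
      _ = z * (g⁻¹ * x * (g⁻¹)⁻¹) := by group
  have hidx : ((P : Subgroup X).map (MulAut.conj g⁻¹).toMonoidHom).index = (P : Subgroup X).index :=
    Subgroup.index_map_equiv _ (MulAut.conj g⁻¹)
  have hodd : Odd (P : Subgroup X).index := by
    rw [← Nat.not_even_iff_odd, even_iff_two_dvd]
    exact P.not_dvd_index
  rw [← hidx] at hodd
  exact Odd.of_dvd_nat hodd (Subgroup.index_dvd_of_le hPC)

variable [Finite X] (K : Cover (Fin n) ↥(Subgroup.centralizer ({z} : Set X))) (hKz : (K.z : X) = z)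
  (hconj : ∀ x : X, orderOf x = 2 → ∃ g, g * z * g⁻¹ = x)

include K hKz hconj

/-- **GEN.** `X` is generated by `C(z)` and `C(l)`. -/
theorem gen (hn : n < 16) (hSE : ∀ H : Subgroup X, ¬ Cfsg.IsStronglyEmbedded H) {l : X} (hl : l * l = 1) (hl1 : l ≠ 1)
    (hlz : l ≠ z) (hc : l * z = z * l) {F : Subgroup X} (hzF : Subgroup.centralizer ({z} : Set X) ≤ F)
    (hlF : Subgroup.centralizer ({l} : Set X) ≤ F) : F = ⊤ := by
  have hz : orderOf z = 2 := by
    have := K.orderOf_z
    rwa [← Subgroup.orderOf_coe, hKz] at this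
  have hzz : z * z = 1 := by rw [← pow_two, ← hz, pow_orderOf_eq_one]
  have hor : ∀ x : X, x * x = 1 → x ≠ 1 → orderOf x = 2 := fun x h h' => orderOf_eq_prime (by rw [pow_two, h]) h'
  have hπne : ∀ x (h : x * z = z * x), x ≠ 1 → x ≠ z → K.π ⟨x, mem_cent.2 h⟩ ≠ 1 := by
    intro x h h1 h2 h3
    rcases (K.ker _).1 h3 with h4 | h4
    · exact h1 (congrArg Subtype.val h4)
    · exact h2 ((congrArg Subtype.val h4).trans hKz)
  have hzF' : z ∈ F := hzF (mem_cent.2 rfl)
  -- the class of `l` in `C(z)`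
  have K2 : ∀ t, t * t = 1 → t ≠ 1 → t ≠ z → t * z = z * t → ∃ f ∈ F, f * l * f⁻¹ = t := by
    intro t ht ht1 htz htc
    obtain ⟨w, hw⟩ := StandardComponent.CoverExtra.exists_conj_of_card_lt K (by rwa [Fintype.card_fin])
      (g := ⟨l, mem_cent.2 hc⟩) (h := ⟨t, mem_cent.2 htc⟩) (Subtype.ext hl) (Subtype.ext ht) (hπne l hc hl1 hlz)
      (hπne t htc ht1 htz)
    exact ⟨w, hzF w.2, congrArg Subtype.val hw⟩
  have hmz : ∀ t, t * t = 1 → t ≠ 1 → t ≠ z → (htc : t * z = z * t) → ∃ w, w * z = z * w ∧ w * t * w⁻¹ = t * z := by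
    intro t ht ht1 htz htc
    obtain ⟨w, hw⟩ := K.exists_conj_mul_z (g := ⟨t, mem_cent.2 htc⟩) (by
      rw [← map_mul]
      have : (⟨t, mem_cent.2 htc⟩ * ⟨t, mem_cent.2 htc⟩ : ↥(Subgroup.centralizer ({z} : Set X))) = 1 :=
        Subtype.ext ht
      rw [this, map_one]) (hπne t htc ht1 htz)
    refine ⟨w, mem_cent.1 w.2, ?_⟩
    have h5 : (w : X) * t * (w : X)⁻¹ = t * (K.z : X) := congrArg Subtype.val hw
    rwa [hKz] at h5
  -- `z` and `l` are conjugate in `F`
  have K1 : ∃ f ∈ F, f * z * f⁻¹ = l := by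
    obtain ⟨g, hg⟩ := hconj l (hor l hl hl1)
    obtain ⟨w, hw, hwl⟩ := hmz l hl hl1 hlz hc
    have e1 : g⁻¹ * z * g * (g⁻¹ * z * g) = 1 := by
      calc g⁻¹ * z * g * (g⁻¹ * z * g) = g⁻¹ * (z * z) * g := by group
        _ = 1 := by rw [hzz]; group
    have e2 : g⁻¹ * z * g ≠ 1 := by
      intro h
      have : z = g * (g⁻¹ * z * g) * g⁻¹ := by group
      rw [h] at this
      rw [this] at hz
      simp at hz
    have e3 : g⁻¹ * z * g ≠ z := by
      intro h
      apply hlz
      rw [← hg]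
      calc g * z * g⁻¹ = g * (g⁻¹ * z * g) * g⁻¹ := by rw [h]
        _ = z := by group
    have e4 : g⁻¹ * z * g * z = z * (g⁻¹ * z * g) := by
      calc g⁻¹ * z * g * z = g⁻¹ * (z * (g * z * g⁻¹)) * g := by group
        _ = g⁻¹ * ((g * z * g⁻¹) * z) * g := by rw [hg, hc]
        _ = z * (g⁻¹ * z * g) := by group
    obtain ⟨v, hv, hvl⟩ := hmz (g⁻¹ * z * g) e1 e2 e3 e4
    refine ⟨w⁻¹ * (g * v * g⁻¹), F.mul_mem (F.inv_mem (hzF (mem_cent.2 hw))) (hlF (mem_cent.2 ?_)), ?_⟩
    · rw [← hg]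
      calc g * v * g⁻¹ * (g * z * g⁻¹) = g * (v * z) * g⁻¹ := by group
        _ = g * (z * v) * g⁻¹ := by rw [hv]
        _ = g * z * g⁻¹ * (g * v * g⁻¹) := by group
    · calc w⁻¹ * (g * v * g⁻¹) * z * (w⁻¹ * (g * v * g⁻¹))⁻¹
          = w⁻¹ * (g * (v * (g⁻¹ * z * g) * v⁻¹) * g⁻¹) * w := by group
        _ = w⁻¹ * (z * (g * z * g⁻¹)) * w := by rw [hvl]; group
        _ = w⁻¹ * (l * z) * w := by rw [hg, hc]
        _ = w⁻¹ * (w * l * w⁻¹) * w := by rw [hwl]
        _ = l := by group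
  have K3 : ∀ t ∈ F, t * t = 1 → t ≠ 1 → ∃ f ∈ F, f * z * f⁻¹ = t := by
    intro t htF ht ht1
    obtain ⟨h, hh, hht⟩ := StandardComponent.AltTransfer.exists_conj_mem_of_odd hzF (odd_index hz hconj) htF ht
    rw [mem_cent] at hht
    have ht' : h⁻¹ * t * h * (h⁻¹ * t * h) = 1 := by
      calc h⁻¹ * t * h * (h⁻¹ * t * h) = h⁻¹ * (t * t) * h := by group
        _ = 1 := by rw [ht]; group
    have ht1' : h⁻¹ * t * h ≠ 1 := by
      intro h1
      apply ht1
      calc t = h * (h⁻¹ * t * h) * h⁻¹ := by group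
        _ = 1 := by rw [h1]; group
    by_cases hcase : h⁻¹ * t * h = z
    · refine ⟨h, hh, ?_⟩
      rw [← hcase]; group
    · obtain ⟨f, hf, hft⟩ := K2 _ ht' ht1' hcase hht
      obtain ⟨k, hk, hkl⟩ := K1
      refine ⟨h * (f * k), F.mul_mem hh (F.mul_mem hf hk), ?_⟩
      calc h * (f * k) * z * (h * (f * k))⁻¹ = h * (f * (k * z * k⁻¹) * f⁻¹) * h⁻¹ := by group
        _ = t := by rw [hkl, hft]; group
  by_contra hF
  refine hSE F ⟨hF, ?_, ?_⟩
  · have h1 := orderOf_dvd_natCard (⟨z, hzF'⟩ : F)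
    rw [Subgroup.orderOf_mk, hz] at h1
    exact even_iff_two_dvd.2 h1
  · intro g hgF
    rw [← Nat.not_even_iff_odd, even_iff_two_dvd]
    intro h2
    apply hgF
    have : Fact (Nat.Prime 2) := ⟨Nat.prime_two⟩
    obtain ⟨⟨t, ht⟩, hto⟩ := exists_prime_orderOf_dvd_card' 2 h2
    rw [Subgroup.orderOf_mk] at hto
    obtain ⟨ht1, ht2⟩ := Subgroup.mem_inf.1 ht
    obtain ⟨s, hs, hst⟩ := ht2
    have hst' : g * s * g⁻¹ = t := hst
    have htt : t * t = 1 := by rw [← pow_two, ← hto, pow_orderOf_eq_one]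
    have ht1' : t ≠ 1 := by rintro rfl; simp at hto
    have hse : s = g⁻¹ * t * g := by rw [← hst']; group
    have hss : s * s = 1 := by
      rw [hse]
      calc g⁻¹ * t * g * (g⁻¹ * t * g) = g⁻¹ * (t * t) * g := by group
        _ = 1 := by rw [htt]; group
    have hs1 : s ≠ 1 := by
      intro h
      apply ht1'
      rw [← hst', h]; group
    obtain ⟨f, hf, hft⟩ := K3 t ht1 htt ht1'
    obtain ⟨k, hk, hks⟩ := K3 s hs hss hs1
    have h5 : f⁻¹ * g * k ∈ F := by
      apply hzF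
      rw [mem_cent]
      have e1 : f⁻¹ * g * k * z * (f⁻¹ * g * k)⁻¹ = z := by
        calc f⁻¹ * g * k * z * (f⁻¹ * g * k)⁻¹ = f⁻¹ * (g * (k * z * k⁻¹) * g⁻¹) * f := by group
          _ = f⁻¹ * t * f := by rw [hks, hst']
          _ = f⁻¹ * (f * z * f⁻¹) * f := by rw [hft]
          _ = z := by group
      rwa [mul_inv_eq_iff_eq_mul] at e1
    have h6 : g = f * (f⁻¹ * g * k) * k⁻¹ := by group
    rw [h6]
    exact F.mul_mem (F.mul_mem hf h5) (F.inv_mem hk)

/-- **(A10)** An automorphism centralizing `C_X(z)` is `1` or the conjugation by `z`. -/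
theorem aut (hn : n = 8 ∨ n = 11) (hSE : ∀ H : Subgroup X, ¬ Cfsg.IsStronglyEmbedded H) (β : MulAut X)
    (hβ : ∀ x, x * z = z * x → β x = x) : (∀ x, β x = x) ∨ ∀ x, β x = z * x * z⁻¹ := by
  have hn8 : 8 ≤ n := by omega
  have hz : orderOf z = 2 := by
    have := K.orderOf_z
    rwa [← Subgroup.orderOf_coe, hKz] at this
  have hzz : z * z = 1 := by rw [← pow_two, ← hz, pow_orderOf_eq_one]
  obtain ⟨σ, hσ, hσ2, hσ8⟩ := exists_perm_eight hn8
  obtain ⟨⟨l, hlC⟩, hlσ⟩ := K.exists_lift hσ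
  have hlz : l * z = z * l := mem_cent.1 hlC
  have hll' : (⟨l, hlC⟩ : ↥(Subgroup.centralizer ({z} : Set X))) * ⟨l, hlC⟩ = 1 :=
    K.sq_eq_one_iff.2 ⟨by rw [hlσ, hσ2], by rw [hlσ, hσ8]⟩
  have hll : l * l = 1 := congrArg Subtype.val hll'
  have hσ1 : σ ≠ 1 := by
    rintro rfl
    rw [Perm.support_one, Finset.card_empty] at hσ8
    exact absurd hσ8 (by norm_num)
  have hl1 : l ≠ 1 := by
    intro h
    apply hσ1
    rw [← hlσ, (K.ker _).2 (Or.inl (Subtype.ext h))]
  have hlnz : l ≠ z := by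
    intro h
    apply hσ1
    rw [← hlσ, (K.ker _).2 (Or.inr (Subtype.ext (h.trans hKz.symm)))]
  obtain ⟨g, hg⟩ := hconj l (orderOf_eq_prime (by rw [pow_two, hll]) hl1)
  -- `l' = g⁻¹ z g`
  have e1 : g⁻¹ * z * g * (g⁻¹ * z * g) = 1 := by
    calc g⁻¹ * z * g * (g⁻¹ * z * g) = g⁻¹ * (z * z) * g := by group
      _ = 1 := by rw [hzz]; group
  have e2 : g⁻¹ * z * g ≠ 1 := by
    intro h
    have : z = g * (g⁻¹ * z * g) * g⁻¹ := by group
    rw [h] at this
    rw [this] at hz
    simp at hz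
  have e3 : g⁻¹ * z * g ≠ z := by
    intro h
    apply hlnz
    rw [← hg]
    calc g * z * g⁻¹ = g * (g⁻¹ * z * g) * g⁻¹ := by rw [h]
      _ = z := by group
  have e4 : g⁻¹ * z * g * z = z * (g⁻¹ * z * g) := by
    calc g⁻¹ * z * g * z = g⁻¹ * (z * (g * z * g⁻¹)) * g := by group
      _ = g⁻¹ * ((g * z * g⁻¹) * z) * g := by rw [hg, hlz]
      _ = z * (g⁻¹ * z * g) := by group
  set l' : ↥(Subgroup.centralizer ({z} : Set X)) := ⟨g⁻¹ * z * g, mem_cent.2 e4⟩ with hl'
  have hl'2 : l' * l' = 1 := Subtype.ext e1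
  have hπl'2 : K.π l' * K.π l' = 1 := by rw [← map_mul, hl'2, map_one]
  have hπl'1 : K.π l' ≠ 1 := by
    intro h
    rcases (K.ker _).1 h with h4 | h4
    · exact e2 (congrArg Subtype.val h4)
    · exact e3 ((congrArg Subtype.val h4).trans hKz)
  have hπl'8 : (K.π l').support.card = 8 := by
    obtain ⟨-, k, hk⟩ := K.sq_eq_one_iff.1 hl'2
    have h2 : (K.π l').support.card ≤ Fintype.card (Fin n) := Finset.card_le_univ _
    rw [Fintype.card_fin] at h2
    have h3 : (K.π l').support.card ≠ 0 := by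
      rw [Ne, Finset.card_eq_zero, Perm.support_eq_empty_iff]
      exact hπl'1
    omega
  -- the automorphism of `C(z)`
  have hβz : β l = l := hβ l hlz
  have hmem : ∀ x, x * z = z * x → g⁻¹ * β (g * x * g⁻¹) * g * z = z * (g⁻¹ * β (g * x * g⁻¹) * g) := by
    intro x hx
    have h1 : g * x * g⁻¹ * l = l * (g * x * g⁻¹) := by
      rw [← hg]
      calc g * x * g⁻¹ * (g * z * g⁻¹) = g * (x * z) * g⁻¹ := by group
        _ = g * (z * x) * g⁻¹ := by rw [hx]
        _ = _ := by group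
    have h2 : β (g * x * g⁻¹) * l = l * β (g * x * g⁻¹) := by
      have h3 : β (g * x * g⁻¹ * l) = β (l * (g * x * g⁻¹)) := congrArg β h1
      rwa [map_mul β (g * x * g⁻¹) l, map_mul β l, hβz] at h3
    have h3 : z = g⁻¹ * l * g := by rw [← hg]; group
    calc g⁻¹ * β (g * x * g⁻¹) * g * z = g⁻¹ * (β (g * x * g⁻¹) * l) * g := by rw [h3]; group
      _ = g⁻¹ * (l * β (g * x * g⁻¹)) * g := by rw [h2]
      _ = z * (g⁻¹ * β (g * x * g⁻¹) * g) := by rw [h3]; group
  let f : ↥(Subgroup.centralizer ({z} : Set X)) →* ↥(Subgroup.centralizer ({z} : Set X)) :=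
    { toFun := fun x => ⟨g⁻¹ * β (g * x * g⁻¹) * g, mem_cent.2 (hmem x (mem_cent.1 x.2))⟩
      map_one' := Subtype.ext (by
        show g⁻¹ * β (g * 1 * g⁻¹) * g = 1
        rw [mul_one, mul_inv_cancel, map_one]; group)
      map_mul' := fun x y => Subtype.ext (by
        show g⁻¹ * β (g * (x * y) * g⁻¹) * g = g⁻¹ * β (g * x * g⁻¹) * g * (g⁻¹ * β (g * y * g⁻¹) * g)
        rw [show g * ((x : X) * y) * g⁻¹ = g * x * g⁻¹ * (g * y * g⁻¹) by group, map_mul]; group) }
  have hf : ∀ x, (f x : X) = g⁻¹ * β (g * x * g⁻¹) * g := fun x => rfl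
  have hfinj : Function.Injective f := by
    intro x y hxy
    have h1 : g⁻¹ * β (g * x * g⁻¹) * g = g⁻¹ * β (g * y * g⁻¹) * g := congrArg Subtype.val hxy
    have h2 : β (g * x * g⁻¹) = β (g * y * g⁻¹) := mul_left_cancel (mul_right_cancel h1)
    have h3 := β.injective h2
    exact Subtype.ext (mul_left_cancel (mul_right_cancel h3))
  let φ : MulAut ↥(Subgroup.centralizer ({z} : Set X)) :=
    MulEquiv.ofBijective f ⟨hfinj, Finite.surjective_of_injective hfinj⟩
  have hφ : ∀ x, φ x = f x := fun x => rfl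
  obtain ⟨τ, hτ⟩ := exists_perm_of_aut (by omega : 7 ≤ n) K φ
  have hτc : ∀ x, x * l' = l' * x → τ * K.π x = K.π x * τ := by
    intro x hx
    have h1 : φ x = x := by
      apply Subtype.ext
      rw [hφ, hf]
      have h2 : (x : X) * (g⁻¹ * z * g) = g⁻¹ * z * g * x := congrArg Subtype.val hx
      have h3 : g * x * g⁻¹ * z = z * (g * x * g⁻¹) := by
        calc g * x * g⁻¹ * z = g * (x * (g⁻¹ * z * g)) * g⁻¹ := by group
          _ = g * (g⁻¹ * z * g * x) * g⁻¹ := by rw [h2]
          _ = z * (g * x * g⁻¹) := by group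
      rw [hβ _ h3]; group
    have h4 := hτ x
    rw [h1, eq_mul_inv_iff_mul_eq] at h4
    exact h4.symm
  have hfz : f K.z = K.z := by
    rcases (K.ker (f K.z)).1 (by rw [← hφ, hτ, K.π_z, mul_one, mul_inv_cancel]) with h | h
    · exact absurd (hfinj (h.trans (map_one f).symm)) K.z_ne
    · exact h
  -- both cases end with GEN
  have key : ∀ w : X, (∀ x, x * z = z * x → w * x * w⁻¹ = x) →
      (∀ x, x * z = z * x → β (g * x * g⁻¹) = w * (g * x * g⁻¹) * w⁻¹) → ∀ x, β x = w * x * w⁻¹ := by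
    intro w hw1 hw2
    let F : Subgroup X := MonoidHom.eqLocus (β : X ≃* X).toMonoidHom (MulAut.conj w).toMonoidHom
    have hF : ∀ x, x ∈ F ↔ β x = w * x * w⁻¹ := fun x => Iff.rfl
    have h1 : F = ⊤ := by
      refine gen K hKz hconj (by omega) hSE hll hl1 hlnz hlz ?_ ?_
      · intro x hx
        rw [mem_cent] at hx
        rw [hF, hβ x hx, hw1 x hx]
      · intro x hx
        have hx' : x * l = l * x := Subgroup.mem_centralizer_singleton_iff.1 hx
        rw [hF]
        have h3 : g⁻¹ * x * g * z = z * (g⁻¹ * x * g) := by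
          calc g⁻¹ * x * g * z = g⁻¹ * (x * (g * z * g⁻¹)) * g := by group
            _ = g⁻¹ * ((g * z * g⁻¹) * x) * g := by rw [hg, hx']
            _ = z * (g⁻¹ * x * g) := by group
        have h4 := hw2 _ h3
        rwa [show g * (g⁻¹ * x * g) * g⁻¹ = x by group] at h4
    intro x
    rw [← hF, h1]; trivial
  rcases eq_one_or_of_commutes K hπl'2 hπl'8 (by rw [Fintype.card_fin]; omega) hτc with h | h
  · left
    have h1 : ∀ x, f x = x := eq_self_of_π K (fun x => by rw [← hφ, hτ, h, one_mul, inv_one, mul_one]) hfz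
    have h2 := key 1 (fun x _ => by group) (fun x hx => by
      have h3 : g⁻¹ * β (g * x * g⁻¹) * g = x := congrArg Subtype.val (h1 ⟨x, mem_cent.2 hx⟩)
      calc β (g * x * g⁻¹) = g * (g⁻¹ * β (g * x * g⁻¹) * g) * g⁻¹ := by group
        _ = g * x * g⁻¹ := by rw [h3]
        _ = _ := by group)
    intro x
    rw [h2 x]; group
  · right
    have h1 : ∀ x, ((MulAut.conj l'⁻¹).toMonoidHom.comp f) x = x := by
      refine eq_self_of_π K (fun x => ?_) ?_
      · show K.π (l'⁻¹ * f x * (l'⁻¹)⁻¹) = K.π x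
        rw [map_mul, map_mul, map_inv, map_inv, map_inv, ← hφ, hτ, h]; group
      · show l'⁻¹ * f K.z * (l'⁻¹)⁻¹ = K.z
        rw [hfz, K.z_comm]; group
    refine key z (fun x hx => by rw [← hx]; group) (fun x hx => ?_)
    have h3 : l'⁻¹ * f ⟨x, mem_cent.2 hx⟩ * (l'⁻¹)⁻¹ = ⟨x, mem_cent.2 hx⟩ := h1 ⟨x, mem_cent.2 hx⟩
    have h4 : (g⁻¹ * z * g)⁻¹ * (g⁻¹ * β (g * x * g⁻¹) * g) * ((g⁻¹ * z * g)⁻¹)⁻¹ = x := congrArg Subtype.val h3
    calc β (g * x * g⁻¹) = z * g * ((g⁻¹ * z * g)⁻¹ * (g⁻¹ * β (g * x * g⁻¹) * g) * ((g⁻¹ * z * g)⁻¹)⁻¹) *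
          g⁻¹ * z⁻¹ := by group
      _ = z * g * x * g⁻¹ * z⁻¹ := by rw [h4]
      _ = z * (g * x * g⁻¹) * z⁻¹ := by group

omit K hKz hconj [Finite X] in
open Cfsg in
/-- The list of groups in Bender's theorem. -/
def BenderList (G : Type*) [Group G] : Prop :=
  (∃ (F : Type) (_ : Field F) (_ : Fintype F), CharP F 2 ∧ 4 ≤ Fintype.card F ∧
        Nonempty (G ≃* Matrix.ProjectiveSpecialLinearGroup (Fin 2) F)) ∨ Cfsg.IsSuzuki G ∨
      (∃ (F : Type) (_ : Field F) (_ : Fintype F) (q : ℕ), Fintype.card F = q ^ 2 ∧ Even q ∧ 4 ≤ q ∧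
        Nonempty (G ≃* Cfsg.PSU 3 F q))

omit hKz in
/-- Bender's theorem gives: `X` has no strongly embedded subgroup. -/
theorem no_se (hn : n = 8 ∨ n = 11) (hz : orderOf z = 2) : ¬ BenderList X := by
  intro hB
  have h1 : Nat.card ↥(Subgroup.centralizer ({z} : Set X)) = n.factorial := by
    rw [StandardComponent.CoverExtra.card_eq K (by rw [Fintype.card_fin]; omega), Fintype.card_fin]
  have h2 := (Subgroup.centralizer ({z} : Set X)).card_mul_index
  have h3 := odd_index hz hconj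
  rw [h1] at h2
  have hdvd : n.factorial ∣ Nat.card X := ⟨_, h2.symm⟩
  rcases hn with rfl | rfl
  · refine StandardComponent.NoSE.false_of_list hB (k := 7) (m := 315 * (Subgroup.centralizer ({z} : Set X)).index)
      ?_ (Odd.mul (by decide) h3) (Or.inl rfl) ?_ ?_ ?_
    · rw [← h2, ← mul_assoc]; rfl
    · exact (by decide : 3 ∣ Nat.factorial 8).trans hdvd
    · exact (by decide : 5 ∣ Nat.factorial 8).trans hdvd
    · exact (by decide : 7 ∣ Nat.factorial 8).trans hdvd
  · refine StandardComponent.NoSE.false_of_list hB (k := 8) (m := 155925 * (Subgroup.centralizer ({z} : Set X)).index)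
      ?_ (Odd.mul (by decide) h3) (Or.inr rfl) ?_ ?_ ?_
    · rw [← h2, ← mul_assoc]; rfl
    · exact (by decide : 3 ∣ Nat.factorial 11).trans hdvd
    · exact (by decide : 5 ∣ Nat.factorial 11).trans hdvd
    · exact (by decide : 7 ∣ Nat.factorial 11).trans hdvd

end group

/-! ### Target groups and big components -/

section target

open Cfsg Cfsg.Agent.Intrinsic.Basic Cfsg.Agent.SporadicRecognition.AltCover

variable {X : Type*} [Group X] [Finite X] {n : ℕ} {z : X} {L : Subgroup X}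

omit [Finite X] in
/-- The cover in the target situation. -/
theorem Target.exists_cover (h : Target n X z L) (hp : IsPair n z L) :
    ∃ K : Cover (Fin n) ↥(Subgroup.centralizer ({z} : Set X)), (K.z : X) = z := by
  obtain ⟨hn, -, hC, hO, -⟩ := h
  have e1 : ↥L ≃* (↥L ⧸ oddCore ↥L) :=
    ((QuotientGroup.quotientMulEquivOfEq hO).trans QuotientGroup.quotientBot).symm
  have hcov : IsNonsplitDoubleCover ↥L ↥(alternatingGroup (Fin n)) := cover_congr e1.symm hp.cover
  rw [← hC] at hcov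
  obtain ⟨π, z0, hc, hcen⟩ := exists_isCover hcov
  refine ⟨ofIsCover (by omega) hc, ?_⟩
  show (z0 : X) = z
  have h1 : (⟨z, mem_cent.2 rfl⟩ : ↥(Subgroup.centralizer ({z} : Set X))) ∈
      Subgroup.center ↥(Subgroup.centralizer ({z} : Set X)) := by
    rw [Subgroup.mem_center_iff]
    intro x
    exact Subtype.ext (mem_cent.1 x.2)
  rcases (hcen _).1 h1 with h | h
  · exact absurd (congrArg Subtype.val h) hp.ne_one
  · exact (congrArg Subtype.val h).symm

/-- Bender's theorem excludes strongly embedded subgroups. -/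
theorem Target.no_se (h : Target n X z L) (hp : IsPair n z L)
    (hB : ∀ H : Subgroup X, IsStronglyEmbedded H → BenderList X) (H : Subgroup X) : ¬ IsStronglyEmbedded H := by
  obtain ⟨K, -⟩ := Target.exists_cover h hp
  exact fun hH => ANFactBigCent.no_se K h.2.2.2.2 h.1 hp.inv (hB H hH)

/-- **GEN** in the target situation. -/
theorem Target.gen (h : Target n X z L) (hp : IsPair n z L) (hSE : ∀ H : Subgroup X, ¬ IsStronglyEmbedded H) {l : X}
    (hl : l * l = 1) (hl1 : l ≠ 1) (hlz : l ≠ z) (hc : l * z = z * l) {F : Subgroup X}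
    (hzF : Subgroup.centralizer ({z} : Set X) ≤ F) (hlF : Subgroup.centralizer ({l} : Set X) ≤ F) : F = ⊤ := by
  obtain ⟨K, hK⟩ := Target.exists_cover h hp
  exact ANFactBigCent.gen K hK h.2.2.2.2 (by have := h.1; omega) hSE hl hl1 hlz hc hzF hlF

/-- **(A10)** in the target situation. -/
theorem Target.aut (h : Target n X z L) (hp : IsPair n z L) (hSE : ∀ H : Subgroup X, ¬ IsStronglyEmbedded H)
    (β : MulAut X) (hβ : ∀ x, x * z = z * x → β x = x) : (∀ x, β x = x) ∨ ∀ x, β x = z * x * z⁻¹ := by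
  obtain ⟨K, hK⟩ := Target.exists_cover h hp
  exact ANFactBigCent.aut K hK h.2.2.2.2 h.1 hSE β hβ

end target

section big

open Cfsg Cfsg.Agent.Intrinsic.Basic Cfsg.Agent.Intrinsic.Quot
open Cfsg.Agent.SignalizersComponents.IntrinsicBasic Cfsg.Agent.SignalizersComponents.PLayerAut

variable {G : Type*} [Group G] [Finite G] {m : ℕ} {u : G} {J M : Subgroup G}

/-- **(A10)** for a big component `M`: an element normalizing `M` and centralizing `J` modulo `O(M)` fixes `M`, or its
product with `u` does. -/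
theorem Big.fixes_or (hB : Big m u J M) (hu : orderOf u = 2) (huJ : u ∈ J)
    (hJ : IsComp (M ⊓ Subgroup.centralizer ({u} : Set G)) J)
    (hcov : IsNonsplitDoubleCover (↥J ⧸ oddCore ↥J) ↥(alternatingGroup (Fin m)))
    (hSE : ∀ S : Subgroup (↥M ⧸ oddCore ↥M), ¬ IsStronglyEmbedded S) {y : G}
    (hy : y ∈ Subgroup.normalizer (M : Set G)) (hyJ : ∀ j ∈ J, j⁻¹ * (y * j * y⁻¹) ∈ core M) :
    Fixes y M ∨ Fixes (u * y) M := by
  have huM := hB.mem
  have huu : u * u = 1 := by rw [← pow_two, ← hu, pow_orderOf_eq_one]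
  have hu1 : u ≠ 1 := by rintro rfl; simp at hu
  have hp := isPair_quot huu hu1 huJ huM hJ hcov
  obtain ⟨huM', hT⟩ := id hB
  -- the automorphism of `M / O(M)`
  have hym : ∀ x ∈ M, y * x * y⁻¹ ∈ M := fun x hx => (Subgroup.mem_normalizer_iff.mp hy x).mp hx
  have hym' : ∀ x ∈ M, y⁻¹ * x * y ∈ M := fun x hx => by
    have := (Subgroup.mem_normalizer_iff.mp (Subgroup.inv_mem _ hy) x).mp hx
    rwa [inv_inv] at this
  let α : ↥M ≃* ↥M :=
    { toFun := fun x => ⟨y * x * y⁻¹, hym x x.2⟩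
      invFun := fun x => ⟨y⁻¹ * x * y, hym' x x.2⟩
      left_inv := fun x => Subtype.ext (by show y⁻¹ * (y * (x : G) * y⁻¹) * y = x; group)
      right_inv := fun x => Subtype.ext (by show y * (y⁻¹ * (x : G) * y) * y⁻¹ = x; group)
      map_mul' := fun a b => Subtype.ext (by
        show y * ((a : G) * b) * y⁻¹ = y * a * y⁻¹ * (y * b * y⁻¹); group) }
  have hα : (oddCore ↥M).map (α : ↥M ≃* ↥M).toMonoidHom = oddCore ↥M := Lib.Cores.map_equiv_pPrimeCore α 2
  let β : MulAut (↥M ⧸ oddCore ↥M) := QuotientGroup.congr (oddCore ↥M) (oddCore ↥M) α hα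
  have hβ : ∀ (x : G) (hx : x ∈ M), β (QuotientGroup.mk ⟨x, hx⟩) = QuotientGroup.mk ⟨y * x * y⁻¹, hym x hx⟩ :=
    fun x hx => rfl
  rcases Target.aut hT hp hSE β (by
    intro x hx
    obtain ⟨⟨a, ha⟩, rfl⟩ := QuotientGroup.mk_surjective x
    rw [mk_comm_iff ha huM] at hx
    obtain ⟨j, ⟨hj, hjM⟩, hc⟩ := hB.cent' ha hx
    have h1 : (QuotientGroup.mk ⟨a, ha⟩ : ↥M ⧸ oddCore ↥M) = QuotientGroup.mk ⟨j, hjM⟩ :=
      ((mk_eq_mk_iff' hjM ha).2 hc).symm
    rw [h1, hβ j hjM]
    exact ((mk_eq_mk_iff' hjM (hym j hjM)).2 (hyJ j hj)).symm) with h | h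
  · left
    rw [fixes_iff_conj]
    refine ⟨hy, fun x hx => ?_⟩
    have h1 := h (QuotientGroup.mk ⟨x, hx⟩)
    rw [hβ x hx] at h1
    exact (mk_eq_mk_iff' hx (hym x hx)).1 h1.symm
  · right
    rw [fixes_iff_conj]
    have huN : u ∈ Subgroup.normalizer (M : Set G) := Subgroup.le_normalizer huM
    refine ⟨Subgroup.mul_mem _ huN hy, fun x hx => ?_⟩
    have h1 := h (QuotientGroup.mk ⟨x, hx⟩)
    rw [hβ x hx] at h1
    have h2 : (QuotientGroup.mk ⟨y * x * y⁻¹, hym x hx⟩ : ↥M ⧸ oddCore ↥M) =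
        QuotientGroup.mk ⟨u * x * u⁻¹, M.mul_mem (M.mul_mem huM hx) (M.inv_mem huM)⟩ := h1
    rw [mk_eq_mk_iff'] at h2
    have hui : u⁻¹ = u := inv_eq_of_mul_eq_one_left huu
    -- `(y x y⁻¹)⁻¹ (u x u⁻¹) ∈ O(M)`, conjugate by `u`
    have h3 := conj_mem_core huN ((core M).inv_mem h2)
    have h4 : u * ((y * x * y⁻¹)⁻¹ * (u * x * u⁻¹))⁻¹ * u⁻¹ = x⁻¹ * (u * y * x * (u * y)⁻¹) := by
      calc u * ((y * x * y⁻¹)⁻¹ * (u * x * u⁻¹))⁻¹ * u⁻¹
          = (u * u) * x⁻¹ * (u⁻¹ * (y * x * y⁻¹) * u⁻¹) := by group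
        _ = 1 * x⁻¹ * (u * (y * x * y⁻¹) * u⁻¹) := by rw [huu, hui]
        _ = _ := by group
    rwa [h4] at h3

end big

end Cfsg.Agent.Intrinsic.ANFactBigCent
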