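import Cfsg.Agent.Intrinsic.QAct
import Cfsg.Agent.SporRec.TwoAnEleven

/-!
# (A6) The involutions of `2.A_n`, `n < 16`

They are `z` and one class of involutions over the permutations of type `2^4`; `l` is conjugate to `l z`.
-/

set_option autoImplicit false

namespace Cfsg.Agent.Intrinsic

open Equiv Cfsg.Agent.SporRec.TwoAn

namespace QAct

variable {H : Type*} [Group H] {n : ℕ} {z : H} (S : QAct H n z)

include S

/-- An element of the component acts trivially iff it is `1` or `z`. -/
theorem φ_eq_one_iff {x : H} (hx : x ∈ S.L) : S.φ x = 1 ↔ x = 1 ∨ x = z := by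
  refine ⟨S.eq_of_mem_of_φ hx, ?_⟩
  rintro (rfl | rfl)
  · exact map_one _
  · exact S.φ_z

theorem φ_ne_one {x : H} (hx : x ∈ S.L) (h1 : x ≠ 1) (hz : x ≠ z) : S.φ x ≠ 1 := fun h =>
  (S.eq_of_mem_of_φ hx h).elim h1 hz

/-- squares of elements of the component lying over involutions -/
theorem sq_eq_one_iff {x : H} (hx : x ∈ S.L) :
    x * x = 1 ↔ S.φ x * S.φ x = 1 ∧ 8 ∣ (S.φ x).support.card := by
  have h1 := S.cov.sq_eq_one_iff (g := ⟨x, hx⟩)
  rw [← S.φ_L] at h1
  rw [← h1]
  exact ⟨fun h => Subtype.ext h, fun h => congrArg Subtype.val h⟩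

/-- (A6) the non-central involutions of the component move 8 points -/
theorem card_support (hn : n < 16) {x : H} (hx : x ∈ S.L) (hxx : x * x = 1) (h1 : S.φ x ≠ 1) :
    (S.φ x).support.card = 8 := by
  obtain ⟨-, k, hk⟩ := (S.sq_eq_one_iff hx).1 hxx
  have h2 : (S.φ x).support.card ≤ Fintype.card (Fin n) := Finset.card_le_univ _
  rw [Fintype.card_fin] at h2
  have h3 : (S.φ x).support.card ≠ 0 := by
    rw [Ne, Finset.card_eq_zero, Perm.support_eq_empty_iff]
    exact h1
  omega

/-- (A6) the non-central involutions of the component are of type `2^4` -/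
theorem cycleType_eq (hn : n < 16) {x : H} (hx : x ∈ S.L) (hxx : x * x = 1) (h1 : S.φ x ≠ 1) :
    (S.φ x).cycleType = Multiset.replicate 4 2 :=
  Cfsg.Agent.SporRec.TwoAnEleven.cycleType_of_involution (by rw [← map_mul, hxx, map_one]) (k := 4) (S.card_support hn hx hxx h1)

/-- lifts of permutations of type `2^4` are involutions -/
theorem sq_of_card_support {x : H} (hx : x ∈ S.L) (h2 : S.φ x * S.φ x = 1) (h : (S.φ x).support.card = 8) :
    x * x = 1 := (S.sq_eq_one_iff hx).2 ⟨h2, by rw [h]⟩

/-- (A6) the non-central involutions of the component form one class -/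
theorem exists_conj (hn : n < 16) {x y : H} (hx : x ∈ S.L) (hy : y ∈ S.L) (hxx : x * x = 1) (hyy : y * y = 1)
    (hx1 : S.φ x ≠ 1) (hy1 : S.φ y ≠ 1) : ∃ g ∈ S.L, g * x * g⁻¹ = y := by
  obtain ⟨w, hw⟩ := StandardComponent.CoverExtra.exists_conj_of_card_lt S.cov (by rwa [Fintype.card_fin])
    (g := ⟨x, hx⟩) (h := ⟨y, hy⟩) (Subtype.ext hxx) (Subtype.ext hyy) (by rw [← S.φ_L]; exact hx1)
    (by rw [← S.φ_L]; exact hy1)
  exact ⟨w, w.2, congrArg Subtype.val hw⟩

/-- (A6) `x` is conjugate to `x z` in the component, for every `x` over an involution -/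
theorem exists_conj_mul_z {x : H} (hx : x ∈ S.L) (h2 : S.φ x * S.φ x = 1) (h1 : S.φ x ≠ 1) :
    ∃ w ∈ S.L, w * x * w⁻¹ = x * z := by
  obtain ⟨w, hw⟩ := S.cov.exists_conj_mul_z (g := ⟨x, hx⟩) (by rw [← S.φ_L]; exact h2) (by rw [← S.φ_L]; exact h1)
  refine ⟨w, w.2, ?_⟩
  have h3 : (w : H) * x * (w : H)⁻¹ = x * (S.cov.z : H) := congrArg Subtype.val hw
  rwa [S.cov_z] at h3

/-- (A6) the three cases for an element of square `1` in the component -/
theorem trichotomy (hn : n < 16) {x : H} (hx : x ∈ S.L) (hxx : x * x = 1) :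
    x = 1 ∨ x = z ∨ (S.φ x).support.card = 8 := by
  by_cases h1 : S.φ x = 1
  · rcases S.eq_of_mem_of_φ hx h1 with h | h
    · exact Or.inl h
    · exact Or.inr (Or.inl h)
  · exact Or.inr (Or.inr (S.card_support hn hx hxx h1))

/-- there are non-central involutions -/
theorem exists_involution (hn : 8 ≤ n) : ∃ x ∈ S.L, x * x = 1 ∧ (S.φ x).support.card = 8 ∧ S.φ x ≠ 1 := by
  let e : Fin 8 ↪ Fin n := ⟨fun i => ⟨i, by omega⟩, fun i j h => by
    have := congrArg Fin.val h
    exact Fin.ext this⟩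
  have hne : ∀ i j : Fin 8, i ≠ j → e i ≠ e j := fun i j h h' => h (e.injective h')
  let τ : Perm (Fin 8) := swap 0 1 * swap 2 3 * (swap 4 5 * swap 6 7)
  have hτ2 : τ * τ = 1 := by decide
  have hτc : τ.support.card = 8 := by decide
  let σ : Perm (Fin n) := τ.viaFintypeEmbedding e
  have hσs : σ.sign = 1 := by
    rw [Perm.viaFintypeEmbedding_sign]
    decide
  have hσ2 : σ * σ = 1 := by
    ext a
    by_cases ha : a ∈ Set.range e
    · obtain ⟨i, rfl⟩ := ha
      rw [Perm.mul_apply, Perm.viaFintypeEmbedding_apply_image, Perm.viaFintypeEmbedding_apply_image,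
        ← Perm.mul_apply, hτ2]
      rfl
    · rw [Perm.mul_apply, Perm.viaFintypeEmbedding_apply_notMem_range _ _ ha,
        Perm.viaFintypeEmbedding_apply_notMem_range _ _ ha]
      rfl
  have hσc : σ.support.card = 8 := by
    have h1 : σ.support = τ.support.map e := by
      ext a
      rw [Perm.mem_support, Finset.mem_map]
      constructor
      · intro h
        by_cases ha : a ∈ Set.range e
        · obtain ⟨i, rfl⟩ := ha
          refine ⟨i, ?_, rfl⟩
          rw [Perm.mem_support]
          intro h'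
          apply h
          rw [Perm.viaFintypeEmbedding_apply_image, h']
        · exact absurd (Perm.viaFintypeEmbedding_apply_notMem_range _ _ ha) h
      · rintro ⟨i, hi, rfl⟩
        rw [Perm.viaFintypeEmbedding_apply_image]
        rw [Perm.mem_support] at hi
        exact fun h' => hi (e.injective h')
    rw [h1, Finset.card_map, hτc]
  obtain ⟨x, hx, hxσ⟩ := S.lift (Perm.mem_alternatingGroup.2 hσs)
  refine ⟨x, hx, S.sq_of_card_support hx (by rw [hxσ, hσ2]) (by rw [hxσ, hσc]), by rw [hxσ, hσc], ?_⟩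
  rw [hxσ]
  intro h
  rw [h, Perm.support_one, Finset.card_empty] at hσc
  exact absurd hσc (by norm_num)

end QAct

end Cfsg.Agent.Intrinsic
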