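import Cfsg.Agent.Intrinsic.AnTypes
import Cfsg.Agent.Intrinsic.Basic

/-!
# Components of the centralizer of a noncentral involution of a double cover of `A_n` (fact (A3) of S1738)
-/

set_option autoImplicit false
set_option linter.unusedSectionVars false

namespace Cfsg.Agent.Intrinsic.AnComp

open Equiv Subgroup Cfsg.Agent.SporRec.TwoAn Cfsg.Agent.Intrinsic.AnLift Cfsg.Agent.Intrinsic.AnTypes
open Cfsg.Agent.Intrinsic.Basic
open scoped commutatorElement

variable {α : Type*} [Fintype α] [DecidableEq α] {C : Type*} [Group C] (K : Cover α C)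

/-- The elements of the centralizer of `x` acting on each block of `x` as `1` or `x`. -/
def blk (x : C) (hx : x * x = 1) : Subgroup C where
  carrier := {y | y * x = x * y ∧ ∀ a, K.π y a = a ∨ K.π y a = K.π x a}
  one_mem' := ⟨by rw [one_mul, mul_one], fun a => Or.inl (by rw [map_one, Perm.one_apply])⟩
  mul_mem' := by
    have h2 : ∀ a, K.π x (K.π x a) = a := fun a => by rw [← Perm.mul_apply, ← map_mul, hx, map_one, Perm.one_apply]
    rintro y1 y2 ⟨c1, h1⟩ ⟨c2, h2'⟩
    refine ⟨by rw [mul_assoc, c2, ← mul_assoc, c1, mul_assoc], fun a => ?_⟩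
    rw [map_mul, Perm.mul_apply]
    rcases h2' a with h | h <;> rw [h]
    · exact h1 a
    · rcases h1 (K.π x a) with h' | h'
      · right; exact h'
      · left; rw [h', h2]
  inv_mem' := by
    have h2 : ∀ a, K.π x (K.π x a) = a := fun a => by rw [← Perm.mul_apply, ← map_mul, hx, map_one, Perm.one_apply]
    rintro y ⟨c, h⟩
    refine ⟨by rw [inv_mul_eq_iff_eq_mul, ← mul_assoc, c, mul_inv_cancel_right], fun a => ?_⟩
    have h3 : K.π y (K.π y⁻¹ a) = a := by rw [← Perm.mul_apply, ← map_mul, mul_inv_cancel, map_one, Perm.one_apply]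
    rcases h (K.π y⁻¹ a) with h' | h'
    · left; rw [← h', h3]
    · right
      rw [h3] at h'
      have h4 := congrArg (K.π x) h'
      rw [h2] at h4
      exact h4.symm

variable {K} in
theorem mem_blk {x : C} {hx : x * x = 1} {y : C} :
    y ∈ blk K x hx ↔ y * x = x * y ∧ ∀ a, K.π y a = a ∨ K.π y a = K.π x a := Iff.rfl

theorem blk_le {x : C} (hx : x * x = 1) : blk K x hx ≤ centralizer {x} := fun _ hy =>
  mem_centralizer_singleton_iff.2 hy.1

theorem conj_mem_blk {x : C} (hx : x * x = 1) {c y : C} (hc : c * x = x * c) (hy : y ∈ blk K x hx) :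
    c * y * c⁻¹ ∈ blk K x hx := by
  obtain ⟨h1, h2⟩ := hy
  have hci : c⁻¹ * x = x * c⁻¹ := by rw [inv_mul_eq_iff_eq_mul, ← mul_assoc, hc, mul_inv_cancel_right]
  refine ⟨by rw [mul_assoc, mul_assoc, hci, ← mul_assoc y, h1, mul_assoc x, ← mul_assoc c, hc]; group, fun a => ?_⟩
  have h3 : K.π c (K.π c⁻¹ a) = a := by rw [← Perm.mul_apply, ← map_mul, mul_inv_cancel, map_one, Perm.one_apply]
  rw [map_mul, map_mul, Perm.mul_apply, Perm.mul_apply]
  rcases h2 (K.π c⁻¹ a) with h | h
  · left; rw [h, h3]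
  · right
    rw [h, ← Perm.mul_apply, ← map_mul, hc, map_mul, Perm.mul_apply, h3]

theorem blk_pow {x : C} (hx : x * x = 1) {y : C} (hy : y ∈ blk K x hx) : y ^ 2 ^ 2 = 1 := by
  obtain ⟨h1, h2⟩ := hy
  have hxx : ∀ a, K.π x (K.π x a) = a := fun a => by rw [← Perm.mul_apply, ← map_mul, hx, map_one, Perm.one_apply]
  have h3 : K.π (y * y) = 1 := by
    ext a
    rw [map_mul, Perm.mul_apply, Perm.one_apply]
    rcases h2 a with h | h
    · rw [h, h]
    · rw [h]
      rcases h2 (K.π x a) with h' | h'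
      · have : K.π x a = a := (K.π y).injective (by rw [h', h])
        rw [h', this]
      · rw [h', hxx]
  rcases (K.ker _).1 h3 with h | h
  · calc y ^ 2 ^ 2 = (y * y) * (y * y) := by
          show y ^ 4 = _
          simp only [pow_succ, pow_zero, one_mul, mul_assoc]
      _ = 1 := by rw [h, mul_one]
  · calc y ^ 2 ^ 2 = (y * y) * (y * y) := by
          show y ^ 4 = _
          simp only [pow_succ, pow_zero, one_mul, mul_assoc]
      _ = 1 := by rw [h, K.z_mul_z]

theorem isPGroup_blk {x : C} (hx : x * x = 1) : IsPGroup 2 (blk K x hx) := fun y =>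
  ⟨2, Subtype.ext (by simpa using blk_pow K hx y.2)⟩

/-- The lift of a product of two blocks is in `blk`. -/
theorem D_mem_blk {x : C} (hx : x * x = 1) {a c : α} (ha : K.π x a ≠ a) (hc : K.π x c ≠ c) (hca : c ≠ a)
    (hcb : c ≠ K.π x a) : D K a (K.π x a) c (K.π x c) ∈ blk K x hx := by
  have hf : ∀ g, K.π ((MulAut.conj x).toMonoidHom g) = K.π x * K.π g * (K.π x)⁻¹ := fun g => by
    show K.π (x * g * x⁻¹) = _
    rw [map_mul, map_mul, map_inv]
  have h2 : K.π x * K.π x = 1 := by rw [← map_mul, hx, map_one]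
  have hσ : ∀ a, K.π x (K.π x a) = a := fun a => by rw [← Perm.mul_apply, h2, Perm.one_apply]
  have h1 : a ≠ K.π x c := fun h => hcb (by rw [h, hσ])
  have h3 : K.π x a ≠ K.π x c := fun h => hca ((K.π x).injective h).symm
  have h4 := fix_block K hf h2 ha hc hca hcb
  refine ⟨?_, fun y => ?_⟩
  · have h5 : x * D K a (K.π x a) c (K.π x c) * x⁻¹ = D K a (K.π x a) c (K.π x c) := h4
    rw [mul_inv_eq_iff_eq_mul] at h5
    exact h5.symm
  · rw [π_D K ha.symm hca.symm h1 hcb.symm hc.symm h3, Perm.mul_apply]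
    by_cases y1 : y = a
    · right
      rw [y1, swap_apply_of_ne_of_ne hca.symm h1, swap_apply_left]
    by_cases y2 : y = K.π x a
    · right
      rw [y2, swap_apply_of_ne_of_ne hcb.symm h3, swap_apply_right, hσ]
    by_cases y3 : y = c
    · right
      rw [y3, swap_apply_left, swap_apply_of_ne_of_ne h1.symm h3.symm]
    by_cases y4 : y = K.π x c
    · right
      rw [y4, swap_apply_right, swap_apply_of_ne_of_ne hca hcb, hσ]
    · left
      rw [swap_apply_of_ne_of_ne y3 y4, swap_apply_of_ne_of_ne y1 y2]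

/-- An element commuting with `blk` preserves the blocks, if there are at least three. -/
theorem block_of_comm {x : C} (hx : x * x = 1) (h6 : 4 < (K.π x).support.card) {e : C}
    (he : ∀ y ∈ blk K x hx, e * y = y * e) {a : α} (ha : K.π x a ≠ a) : K.π e a = a ∨ K.π e a = K.π x a := by
  have h2 : K.π x * K.π x = 1 := by rw [← map_mul, hx, map_one]
  have hσ : ∀ a, K.π x (K.π x a) = a := fun a => by rw [← Perm.mul_apply, h2, Perm.one_apply]
  obtain ⟨c, hc, hc'⟩ := exists_moved (K.π x) {a, K.π x a} (by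
    have := Finset.card_le_two (a := a) (b := K.π x a); omega)
  obtain ⟨d, hd, hd'⟩ := exists_moved (K.π x) {a, K.π x a, c, K.π x c} (by
    have := Finset.card_le_four (a := a) (b := K.π x a) (c := c) (d := K.π x c); omega)
  simp only [Finset.mem_insert, Finset.mem_singleton, not_or] at hc' hd'
  -- moved points of the two lifts
  have key : ∀ {c : α}, K.π x c ≠ c → c ≠ a → c ≠ K.π x a →
      K.π e a = a ∨ K.π e a = K.π x a ∨ K.π e a = c ∨ K.π e a = K.π x c := by
    intro c hc hca hcb
    have h1 : a ≠ K.π x c := fun h => hcb (by rw [h, hσ])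
    have h3 : K.π x a ≠ K.π x c := fun h => hca ((K.π x).injective h).symm
    have hm := D_mem_blk K hx ha hc hca hcb
    have h4 := he _ hm
    have h5 := congrArg (fun g => K.π g a) h4
    simp only [map_mul, Perm.mul_apply] at h5
    have hπ := π_D K ha.symm hca.symm h1 hcb.symm hc.symm h3
    by_contra hcon
    push Not at hcon
    obtain ⟨n1, n2, n3, n4⟩ := hcon
    rw [hπ, Perm.mul_apply, Perm.mul_apply, swap_apply_of_ne_of_ne hca.symm h1, swap_apply_left,
      swap_apply_of_ne_of_ne n3 n4, swap_apply_of_ne_of_ne n1 n2] at h5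
    exact ha ((K.π e).injective h5)
  rcases key hc hc'.1 hc'.2 with h | h | h | h
  · exact Or.inl h
  · exact Or.inr h
  · rcases key hd hd'.1 hd'.2.1 with h' | h' | h' | h'
    · exact Or.inl h'
    · exact Or.inr h'
    · exact absurd (h'.symm.trans h) hd'.2.2.1
    · exact absurd (h.symm.trans h') (fun h'' => hd'.2.2.2 (by rw [h'', hσ]))
  · rcases key hd hd'.1 hd'.2.1 with h' | h' | h' | h'
    · exact Or.inl h'
    · exact Or.inr h'
    · exact absurd (h'.symm.trans h) hd'.2.2.2
    · exact absurd ((K.π x).injective (h'.symm.trans h)) hd'.2.2.1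

/-- A perfect subgroup commuting with `blk` does not contain `x`. -/
theorem not_mem_of_perfect {x : C} (hx : x * x = 1) (h6 : 4 < (K.π x).support.card) {E : Subgroup C}
    (hp : ⁅E, E⁆ = E) (he : ∀ e ∈ E, ∀ y ∈ blk K x hx, e * y = y * e) : x ∉ E := by
  intro hxE
  obtain ⟨a, ha, -⟩ := exists_moved (K.π x) ∅ (by rw [Finset.card_empty]; omega)
  have h2 : K.π x * K.π x = 1 := by rw [← map_mul, hx, map_one]
  have hσ : ∀ a, K.π x (K.π x a) = a := fun a => by rw [← Perm.mul_apply, h2, Perm.one_apply]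
  have hb : K.π x (K.π x a) ≠ K.π x a := by rw [hσ]; exact ha.symm
  have hA : ∀ e ∈ E, K.π e a = a ∨ K.π e a = K.π x a := fun e h => block_of_comm K hx h6 (he e h) ha
  have hB : ∀ e ∈ E, (K.π e a = a ∧ K.π e (K.π x a) = K.π x a) ∨ (K.π e a = K.π x a ∧ K.π e (K.π x a) = a) := by
    intro e h
    have h1 := hA e h
    have h2 := block_of_comm K hx h6 (he e h) hb
    rw [hσ] at h2
    rcases h1 with h1 | h1 <;> rcases h2 with h2 | h2
    · exact Or.inl ⟨h1, h2⟩
    · exact absurd ((K.π e).injective (h1.trans h2.symm)) ha.symm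
    · exact absurd ((K.π e).injective (h1.trans h2.symm)) ha.symm
    · exact Or.inr ⟨h1, h2⟩
  have hle : ⁅E, E⁆ ≤ (MulAction.stabilizer (Perm α) a).comap K.π := by
    rw [commutator_le]
    intro e1 he1 e2 he2
    rw [Subgroup.mem_comap, MulAction.mem_stabilizer_iff, Perm.smul_def]
    have hcomm : ∀ b, (b = a ∨ b = K.π x a) → K.π (e1 * e2) b = K.π (e2 * e1) b := by
      intro b hb
      rw [map_mul, map_mul, Perm.mul_apply, Perm.mul_apply]
      rcases hB e1 he1 with ⟨p1, p2⟩ | ⟨p1, p2⟩ <;> rcases hB e2 he2 with ⟨q1, q2⟩ | ⟨q1, q2⟩ <;>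
        rcases hb with rfl | rfl <;> simp only [p1, p2, q1, q2]
    have hb := hA _ (inv_mem (mul_mem he2 he1))
    have h3 : ⁅e1, e2⁆ = e1 * e2 * (e2 * e1)⁻¹ := by rw [commutatorElement_def]; group
    have h4 := hcomm _ hb
    rw [h3, map_mul, Perm.mul_apply, h4, ← Perm.mul_apply, ← map_mul, mul_inv_cancel, map_one, Perm.one_apply]
  rw [hp] at hle
  exact ha (hle hxE)

/-- **(A3)** The centralizer of a noncentral involution `x` has no 2-component containing `x`. -/
theorem not_mem_of_isComp [Finite C] {x : C} (hx : x * x = 1) (hx1 : K.π x ≠ 1) {E : Subgroup C}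
    (hE : IsComp (centralizer {x}) E) : x ∉ E := by
  have h8 : 8 ∣ (K.π x).support.card := (K.sq_eq_one_iff.1 hx).2
  have h6 : 4 < (K.π x).support.card := by
    obtain ⟨m, hm⟩ := h8
    have : (K.π x).support.card ≠ 0 := by
      rw [Ne, Finset.card_eq_zero, Perm.support_eq_empty_iff]
      exact hx1
    omega
  refine not_mem_of_perfect K hx h6 hE.perfect ?_
  have hnorm : ∀ c ∈ centralizer ({x} : Set C), ∀ y ∈ blk K x hx, c * y * c⁻¹ ∈ blk K x hx :=
    fun c hc y hy => conj_mem_blk K hx (mem_centralizer_singleton_iff.1 hc) hy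
  have hN : ((blk K x hx).subgroupOf (centralizer {x})).Normal := by
    constructor
    intro y hy c
    exact hnorm c c.2 y hy
  have hodd := odd_card_core (centralizer ({x} : Set C))
  rcases hE.le_or_comm (blk_le K hx) hN.isSubnormal with h | h
  · exfalso
    -- a perfect 2-group
    have h1 : IsPGroup 2 E := (isPGroup_blk K hx).to_le h
    have : Fact (Nat.Prime 2) := ⟨Nat.prime_two⟩
    have h2 : Group.IsNilpotent E := h1.isNilpotent
    have : Nontrivial E := (Subgroup.nontrivial_iff_ne_bot E).2 hE.ne_bot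
    have h3 := Group.IsSolvable.commutator_lt_top_of_nontrivial E
    refine h3.ne ?_
    have h4 := congrArg (Subgroup.comap E.subtype) hE.perfect
    apply Subgroup.map_injective E.subtype_injective
    rw [_root_.commutator_def, Subgroup.map_commutator, ← MonoidHom.range_eq_map, Subgroup.range_subtype, hE.perfect]
  · intro e he y hy
    have h1 : ⁅e, y⁆ ∈ core (centralizer ({x} : Set C)) := h (commutator_mem_commutator he hy)
    have h2 : ⁅e, y⁆ ∈ blk K x hx := by
      rw [commutatorElement_def]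
      exact mul_mem (hnorm e (hE.le he) y hy) (inv_mem hy)
    have h3 : ⁅e, y⁆ = 1 := eq_one_of_mem_core h1 (blk_pow K hx h2)
    rwa [commutatorElement_eq_one_iff_mul_comm] at h3

end Cfsg.Agent.Intrinsic.AnComp
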