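import Cfsg.Agent.Intrinsic.AnFive

/-!
# (A8): odd order subgroups of `2.A_n`

`odd_normal_fix`: an odd order normal subgroup of the centraliser of a non-central involution `l` of `2.A_n` fixes the
points moved by `l`; `odd_normal_eq_bot`: it is trivial for `n ≤ 10`.
-/

set_option autoImplicit false

namespace Cfsg.Agent.Intrinsic.AnEight

open Subgroup Equiv Cfsg.Agent.SporRec.TwoAn

/-- A permutation of odd order with `σ (σ i) = i` fixes `i`. -/
theorem fix_of_odd {α : Type*} {σ : Perm α} {m : ℕ} (hm : Odd m) (h : σ ^ m = 1) {i : α} (hi : σ (σ i) = i) :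
    σ i = i := by
  obtain ⟨k, rfl⟩ := hm
  have h1 : ∀ j : ℕ, (σ ^ (2 * j)) i = i := by
    intro j
    induction j with
    | zero => simp
    | succ j ih =>
      rw [show 2 * (j + 1) = 2 * j + 2 from by ring, pow_add, Perm.mul_apply, pow_two, Perm.mul_apply, hi, ih]
  have h2 := congrArg (fun τ : Perm α => τ i) h
  simp only [Perm.one_apply] at h2
  rw [pow_succ', Perm.mul_apply, h1] at h2
  exact h2

variable {α : Type*} [Fintype α] [DecidableEq α] {C : Type*} [Group C] (K : Cover α C)

omit [Fintype α] in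
/-- The transpositions of an involution commute. -/
theorem block_comm {lam : Perm α} (hll : ∀ j, lam (lam j) = j) (i j : α) :
    swap i (lam i) * swap j (lam j) = swap j (lam j) * swap i (lam i) := by
  by_cases h1 : j = i
  · rw [h1]
  by_cases h2 : j = lam i
  · rw [h2, hll, swap_comm (lam i) i]
  have h3 : lam j ≠ i := fun h => h2 (by rw [← h, hll])
  have h4 : lam j ≠ lam i := fun h => h1 (lam.injective h)
  have h5 : (swap i (lam i)).Disjoint (swap j (lam j)) := by
    intro m
    by_cases h : m = i ∨ m = lam i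
    · right
      rcases h with rfl | rfl
      · exact swap_apply_of_ne_of_ne (Ne.symm h1) h3.symm
      · exact swap_apply_of_ne_of_ne (Ne.symm h2) h4.symm
    · left
      push Not at h
      exact swap_apply_of_ne_of_ne h.1 h.2
  exact h5.commute.eq

omit [Fintype α] in
/-- A permutation commuting with `(i i')(k k')` permutes these four points. -/
theorem mem_of_comm {σ : Perm α} {i i' k k' : α} (hii : i ≠ i') (hik : i ≠ k) (hik' : i ≠ k')
    (h : σ * (swap i i' * swap k k') = swap i i' * swap k k' * σ) :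
    σ i = i ∨ σ i = i' ∨ σ i = k ∨ σ i = k' := by
  by_contra hne
  push Not at hne
  obtain ⟨h1, h2, h3, h4⟩ := hne
  have h5 := congrArg (fun τ : Perm α => τ i) h
  simp only [Perm.mul_apply] at h5
  rw [swap_apply_of_ne_of_ne hik hik', swap_apply_left, swap_apply_of_ne_of_ne h3 h4,
    swap_apply_of_ne_of_ne h1 h2] at h5
  exact hii (σ.injective h5).symm

/-- (A8), first part. -/
theorem odd_normal_fix {l : C} (hl : K.π l * K.π l = 1) (h8 : (K.π l).support.card = 8)
    (N : Subgroup C) (hodd : Odd (Nat.card N)) (hN : ∀ x ∈ N, x * l = l * x)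
    (hnorm : ∀ c, c * l = l * c → ∀ x ∈ N, c * x * c⁻¹ ∈ N) : ∀ x ∈ N, ∀ i, K.π l i ≠ i → K.π x i = i := by
  intro x hx i hi
  set σ := K.π x with hσ
  set lam := K.π l with hlam
  have hll : ∀ j, lam (lam j) = j := fun j => by rw [← Perm.mul_apply, hl, Perm.one_apply]
  have hσlam : ∀ j, σ (lam j) = lam (σ j) := by
    intro j
    have := congrArg K.π (hN x hx)
    rw [map_mul, map_mul] at this
    exact congrArg (fun τ : Perm α => τ j) this
  have hσm : σ ^ Nat.card N = 1 := by
    rw [hσ, ← map_pow]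
    have h1 : (⟨x, hx⟩ : N) ^ Nat.card N = 1 := pow_card_eq_one'
    have h2 : x ^ Nat.card N = 1 := congrArg Subtype.val h1
    rw [h2, map_one]
  have hinv : ∀ j, lam j ≠ j → lam (σ j) ≠ σ j := by
    intro j hj h
    rw [← hσlam] at h
    exact hj (σ.injective h)
  -- it suffices that `σ i ∈ {i, lam i}`
  suffices hs : σ i = i ∨ σ i = lam i by
    rcases hs with h | h
    · exact h
    · exact fix_of_odd hodd hσm (by rw [h, hσlam, h, hll])
  by_contra hne
  push Not at hne
  set j := σ i with hj
  -- a third block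
  obtain ⟨k, hk1, hk2, hk3, hk4, hk5⟩ : ∃ k, lam k ≠ k ∧ k ≠ i ∧ k ≠ lam i ∧ k ≠ j ∧ k ≠ lam j := by
    by_contra hno
    push Not at hno
    have h1 : lam.support ⊆ {i, lam i, j, lam j} := by
      intro k hk
      rw [Perm.mem_support] at hk
      simp only [Finset.mem_insert, Finset.mem_singleton]
      by_contra h
      push Not at h
      exact h.2.2.2 (hno k hk h.1 h.2.1 h.2.2.1)
    have h2 := Finset.card_le_card h1
    have h3 : ({i, lam i, j, lam j} : Finset α).card ≤ 4 := Finset.card_le_four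
    omega
  have hki : lam k ≠ i := fun h => hk3 (by rw [← h, hll])
  have hkli : lam k ≠ lam i := fun h => hk2 (lam.injective h)
  have hkj : lam k ≠ j := fun h => hk5 (by rw [← h, hll])
  have hklj : lam k ≠ lam j := fun h => hk4 (lam.injective h)
  obtain ⟨g, hg⟩ := K.exists_lift (Cover.swap_mul_swap_mem i (lam i) k (lam k) hi.symm hk1.symm)
  have hgg : g * g = K.z := K.dbl i (lam i) k (lam k) hi.symm hk2.symm hki.symm hk3.symm hkli.symm hk1.symm g hg
  -- `g` commutes with `l`
  have hgl : g * l = l * g := by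
    have h1 : g * (g⁻¹ * l) = g⁻¹ * l * g := K.commute_of_disjoint (by
      rw [map_mul, map_inv, hg, ← hlam]
      intro m
      by_cases h : m = i ∨ m = lam i ∨ m = k ∨ m = lam k
      · right
        rw [Perm.mul_apply, Perm.inv_eq_iff_eq, Perm.mul_apply]
        rcases h with rfl | rfl | rfl | rfl
        · rw [swap_apply_of_ne_of_ne hk2.symm hki.symm, swap_apply_left]
        · rw [hll, swap_apply_of_ne_of_ne hk3.symm hkli.symm, swap_apply_right]
        · rw [swap_apply_left, swap_apply_of_ne_of_ne hki hkli]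
        · rw [hll, swap_apply_right, swap_apply_of_ne_of_ne hk2 hk3]
      · left
        push Not at h
        rw [Perm.mul_apply, swap_apply_of_ne_of_ne h.2.2.1 h.2.2.2, swap_apply_of_ne_of_ne h.1 h.2.1])
    calc g * l = g * (g * (g⁻¹ * l)) := by group
      _ = g * (g⁻¹ * l * g) := by rw [h1]
      _ = l * g := by group
  -- the commutator of `x` and `g`
  set w := x * g * x⁻¹ * g⁻¹ with hw
  have hwN : w ∈ N := by
    have h1 : w = x * (g * x⁻¹ * g⁻¹) := by rw [hw]; group
    rw [h1]
    exact N.mul_mem hx (hnorm g hgl _ (N.inv_mem hx))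
  have hπa : K.π (x * g * x⁻¹) = swap j (lam j) * swap (σ k) (lam (σ k)) := by
    rw [map_mul, map_mul, map_inv, hg, ← hσ, hj, ← hσlam, ← hσlam, swap_apply_apply, swap_apply_apply]
    group
  have hcom : K.π (x * g * x⁻¹) * K.π g = K.π g * K.π (x * g * x⁻¹) := by
    rw [hπa, hg]
    have c1 : Commute (swap j (lam j)) (swap i (lam i)) := block_comm hll j i
    have c2 : Commute (swap j (lam j)) (swap k (lam k)) := block_comm hll j k
    have c3 : Commute (swap (σ k) (lam (σ k))) (swap i (lam i)) := block_comm hll (σ k) i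
    have c4 : Commute (swap (σ k) (lam (σ k))) (swap k (lam k)) := block_comm hll (σ k) k
    exact ((c1.mul_right c2).mul_left (c3.mul_right c4)).eq
  have hgg' : K.π g * K.π g = 1 := by rw [← map_mul, hgg, K.π_z]
  have haa : K.π (x * g * x⁻¹) * K.π (x * g * x⁻¹) = 1 := by
    rw [← map_mul]
    have : x * g * x⁻¹ * (x * g * x⁻¹) = x * (g * g) * x⁻¹ := by group
    rw [this, map_mul, map_mul, map_mul, hgg', mul_one, ← map_mul, mul_inv_cancel, map_one]
  have hπw : K.π w * K.π w = 1 := by
    have h1 : K.π w = K.π (x * g * x⁻¹) * K.π g := by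
      rw [hw, map_mul _ (x * g * x⁻¹), map_inv, inv_eq_of_mul_eq_one_left hgg']
    rw [h1]
    calc K.π (x * g * x⁻¹) * K.π g * (K.π (x * g * x⁻¹) * K.π g)
        = K.π (x * g * x⁻¹) * (K.π g * K.π (x * g * x⁻¹)) * K.π g := by group
      _ = (K.π (x * g * x⁻¹) * K.π (x * g * x⁻¹)) * (K.π g * K.π g) := by rw [← hcom]; group
      _ = 1 := by rw [haa, hgg', one_mul]
  have hw4 : w ^ 4 = 1 := by
    have h1 : w ^ 4 = (w * w) * (w * w) := by rw [show (4 : ℕ) = 2 + 2 from rfl, pow_add, pow_two]
    rw [h1]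
    rcases K.sq_eq_z_or hπw with h | h
    · rw [h, one_mul]
    · rw [h, K.z_mul_z]
  have hw1 : w = 1 := by
    have h1 : orderOf w ∣ Nat.card N := N.orderOf_dvd_natCard hwN
    have h2 : orderOf w ∣ 2 ^ 2 := orderOf_dvd_of_pow_eq_one hw4
    have h3 : Nat.Coprime (2 ^ 2) (Nat.card N) := Nat.Coprime.pow_left 2 (Nat.coprime_two_left.2 hodd)
    have h4 : orderOf w ∣ Nat.gcd (2 ^ 2) (Nat.card N) := Nat.dvd_gcd h2 h1
    rw [h3] at h4
    exact orderOf_eq_one_iff.1 (Nat.dvd_one.1 h4)
  have hxg : x * g = g * x := by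
    rw [hw, mul_inv_eq_one, mul_inv_eq_iff_eq_mul] at hw1
    exact hw1
  have hσg : σ * (swap i (lam i) * swap k (lam k)) = swap i (lam i) * swap k (lam k) * σ := by
    rw [← hg, hσ, ← map_mul, hxg, map_mul]
  rcases mem_of_comm hi.symm hk2.symm hki.symm hσg with h | h | h | h
  · exact hne.1 h
  · exact hne.2 h
  · exact hk4 h.symm
  · exact hkj h.symm

/-- (A8), second part: on at most ten points the odd core of the centraliser of a non-central involution is trivial. -/
theorem odd_normal_eq_bot (hα : Fintype.card α ≤ 10) {l : C} (hl : K.π l * K.π l = 1)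
    (h8 : (K.π l).support.card = 8) (N : Subgroup C) (hodd : Odd (Nat.card N)) (hN : ∀ x ∈ N, x * l = l * x)
    (hnorm : ∀ c, c * l = l * c → ∀ x ∈ N, c * x * c⁻¹ ∈ N) : N = ⊥ := by
  rw [eq_bot_iff]
  intro x hx
  rw [mem_bot]
  have hfix := odd_normal_fix K hl h8 N hodd hN hnorm x hx
  have hxm : x ^ Nat.card N = 1 := by
    have h1 : (⟨x, hx⟩ : N) ^ Nat.card N = 1 := pow_card_eq_one'
    exact congrArg Subtype.val h1
  have hσm : K.π x ^ Nat.card N = 1 := by rw [← map_pow, hxm, map_one]
  have hsub : (K.π x).support ⊆ (K.π l).supportᶜ := by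
    intro i hi
    rw [Finset.mem_compl, Perm.mem_support]
    intro h
    exact (Perm.mem_support.1 hi) (hfix i h)
  have hcard : (K.π x).support.card ≤ 2 := by
    have h1 := Finset.card_le_card hsub
    rw [Finset.card_compl, h8] at h1
    omega
  have hπx : K.π x = 1 := by
    ext i
    rw [Perm.one_apply]
    by_contra hi
    have h1 : K.π x (K.π x i) ≠ i := by
      intro h
      exact hi (fix_of_odd hodd hσm h)
    have h2 : ({i, K.π x i, K.π x (K.π x i)} : Finset α) ⊆ (K.π x).support := by
      intro j hj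
      simp only [Finset.mem_insert, Finset.mem_singleton] at hj
      rw [Perm.mem_support]
      rcases hj with rfl | rfl | rfl
      · exact hi
      · exact fun h => hi ((K.π x).injective h)
      · exact fun h => hi ((K.π x).injective ((K.π x).injective h))
    have h3 : ({i, K.π x i, K.π x (K.π x i)} : Finset α).card = 3 := by
      rw [Finset.card_eq_three]
      exact ⟨i, K.π x i, K.π x (K.π x i), Ne.symm hi, Ne.symm h1, fun h => hi ((K.π x).injective h.symm), rfl⟩
    have h4 := Finset.card_le_card h2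
    omega
  rcases (K.ker x).1 hπx with h | h
  · exact h
  · exfalso
    rw [h] at hxm
    rw [K.z_pow, if_neg (Nat.not_even_iff_odd.2 hodd)] at hxm
    exact K.z_ne hxm

/-- On fewer than sixteen points a non-central involution moves eight points. -/
theorem card_support_eq (hα : Fintype.card α < 16) {l : C} (hl : l * l = 1) (h1 : K.π l ≠ 1) :
    (K.π l).support.card = 8 := by
  obtain ⟨-, k, hk⟩ := K.sq_eq_one_iff.1 hl
  have h2 : 0 < (K.π l).support.card := by
    rw [Finset.card_pos, Finset.nonempty_iff_ne_empty, Ne, Perm.support_eq_empty_iff]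
    exact h1
  have h3 : (K.π l).support.card ≤ Fintype.card α := Finset.card_le_univ _
  omega

theorem odd_normal_fix' {n : ℕ} {C : Type*} [Group C] (K : Cover (Fin n) C) (hn : n < 16) {l : C} (hl : l * l = 1)
    (h1 : K.π l ≠ 1) (N : Subgroup C) (hodd : Odd (Nat.card N)) (hN : ∀ x ∈ N, x * l = l * x)
    (hnorm : ∀ c, c * l = l * c → ∀ x ∈ N, c * x * c⁻¹ ∈ N) : ∀ x ∈ N, ∀ i, K.π l i ≠ i → K.π x i = i :=
  odd_normal_fix K (K.sq_eq_one_iff.1 hl).1 (card_support_eq K (by rw [Fintype.card_fin]; exact hn) hl h1) N hodd hN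
    hnorm

theorem odd_normal_eq_bot' {n : ℕ} {C : Type*} [Group C] (K : Cover (Fin n) C) (hn : n ≤ 10) {l : C} (hl : l * l = 1)
    (h1 : K.π l ≠ 1) (N : Subgroup C) (hodd : Odd (Nat.card N)) (hN : ∀ x ∈ N, x * l = l * x)
    (hnorm : ∀ c, c * l = l * c → ∀ x ∈ N, c * x * c⁻¹ ∈ N) : N = ⊥ :=
  odd_normal_eq_bot K (by rw [Fintype.card_fin]; exact hn) (K.sq_eq_one_iff.1 hl).1
    (card_support_eq K (by rw [Fintype.card_fin]; omega) hl h1) N hodd hN hnorm

end Cfsg.Agent.Intrinsic.AnEight
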