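import Cfsg.Agent.Intrinsic.AnEight
import Cfsg.Agent.Lib.CoprimeHyperplane

/-!
# (A8): odd order subgroups of `2.A_n` normalised by the `E_16` over a regular elementary abelian group of order eight

`odd_fix`: they fix the eight points.
-/

set_option autoImplicit false

namespace Cfsg.Agent.Intrinsic.AnEightE

open Subgroup Equiv Cfsg.Agent.SporRec.TwoAn

/-- A normal subgroup of odd order fixes the points of an orbit of 2-power length. -/
theorem fix_of_orbit {H : Type*} [Group H] [Finite H] {β : Type*} [MulAction H β] (N : Subgroup H) [hN : N.Normal]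
    (hodd : Odd (Nat.card N)) {i : β} {k : ℕ} (hk : (MulAction.orbit H i).ncard = 2 ^ k) : ∀ x ∈ N, x • i = i := by
  set S := MulAction.stabilizer H i with hS
  have h0 : S.index = 2 ^ k := by rw [← hk, MulAction.index_stabilizer]
  have h1 : S.relIndex (S ⊔ N) * (S ⊔ N).index = S.index := relIndex_mul_index le_sup_left
  have h2 : Nat.card S * S.relIndex (S ⊔ N) = Nat.card (S ⊔ N : Subgroup H) := by
    have := relIndex_mul_relIndex (⊥ : Subgroup H) S (S ⊔ N) bot_le le_sup_left
    rwa [relIndex_bot_left, relIndex_bot_left] at this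
  have h3 : Nat.card N * N.relIndex S = Nat.card (S ⊔ N : Subgroup H) := by
    have := relIndex_mul_relIndex (⊥ : Subgroup H) N (S ⊔ N) bot_le le_sup_right
    rwa [relIndex_bot_left, relIndex_bot_left, relIndex_sup_right] at this
  have h4 : Nat.card (N ⊓ S : Subgroup H) * N.relIndex S = Nat.card S := by
    have := relIndex_mul_relIndex (⊥ : Subgroup H) (N ⊓ S) S bot_le inf_le_right
    rwa [relIndex_bot_left, relIndex_bot_left, inf_relIndex_right] at this
  have hr : 0 < N.relIndex S := Nat.pos_of_ne_zero (by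
    intro h
    rw [h, mul_zero] at h4
    exact (Nat.card_pos (α := S)).ne h4)
  have h5 : S.relIndex (S ⊔ N) ∣ Nat.card N := by
    refine ⟨Nat.card (N ⊓ S : Subgroup H), ?_⟩
    apply Nat.eq_of_mul_eq_mul_right hr
    rw [h3, ← h2, ← h4]
    ring
  have h6 : S.relIndex (S ⊔ N) ∣ 2 ^ k := by rw [← h0, ← h1]; exact Dvd.intro _ rfl
  have h7 : S.relIndex (S ⊔ N) = 1 := by
    have h8 : Nat.Coprime (2 ^ k) (Nat.card N) := Nat.Coprime.pow_left k (Nat.coprime_two_left.2 hodd)
    have h9 := Nat.dvd_gcd h6 h5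
    rw [h8] at h9
    exact Nat.dvd_one.1 h9
  rw [relIndex_eq_one] at h7
  intro x hx
  exact MulAction.mem_stabilizer_iff.1 (h7 ((le_sup_right : N ≤ S ⊔ N) hx))

variable {α : Type*} [Fintype α] [DecidableEq α] {C : Type*} [Group C] (K : Cover α C)

/-- (A8): an odd order subgroup normalised by `E`, where `E` is abelian of exponent two and is transitive on the set `Δ`
of eight points and fixes the other points, fixes the points of `Δ`. -/
theorem odd_fix [Finite C] {E N : Subgroup C} (hE : Cfsg.IsElementaryAbelian 2 E) {Δ : Finset α} (h8 : Δ.card = 8)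
    (hfix : ∀ e ∈ E, ∀ i, i ∉ Δ → K.π e i = i) (htr : ∀ i ∈ Δ, ∀ j ∈ Δ, ∃ e ∈ E, K.π e i = j)
    (hodd : Odd (Nat.card N)) (hEN : E ≤ normalizer (N : Set C)) : ∀ x ∈ N, ∀ i ∈ Δ, K.π x i = i := by
  classical
  obtain ⟨hEc, hE2⟩ := hE
  have hcomm : ∀ a ∈ E, ∀ b ∈ E, a * b = b * a := by
    intro a ha b hb
    have := hEc.is_comm.comm ⟨a, ha⟩ ⟨b, hb⟩
    exact congrArg Subtype.val this
  have hne : Δ.Nonempty := by rw [← Finset.card_pos, h8]; norm_num
  obtain ⟨i0, hi0⟩ := hne
  -- `E` stabilises `Δ`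
  have hEΔ : ∀ e ∈ E, ∀ j ∈ Δ, K.π e j ∈ Δ := by
    intro e he j hj
    by_contra h
    have h1 := hfix e he _ h
    exact h (by rw [(K.π e).injective h1]; exact hj)
  -- the order of `E`
  have hcard : 8 ≤ Nat.card E := by
    have hsurj : Function.Surjective (fun e : E => (⟨K.π e i0, hEΔ e e.2 i0 hi0⟩ : Δ)) := by
      rintro ⟨j, hj⟩
      obtain ⟨e, he, h⟩ := htr i0 hi0 j hj
      exact ⟨⟨e, he⟩, Subtype.ext h⟩
    have h1 := Nat.card_le_card_of_surjective _ hsurj
    rwa [Nat.card_eq_fintype_card, Fintype.card_coe, h8] at h1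
  have hE1 : E ≠ ⊥ := by
    intro h
    rw [h, Subgroup.card_bot] at hcard
    omega
  have : Fact (Nat.Prime 2) := ⟨Nat.prime_two⟩
  have hgen := Cfsg.Agent.Lib.CoprimeHyperplane.le_iSup_hyperplane (p := 2) E N ⟨hEc, hE2⟩ hE1
    (Nat.coprime_two_right.2 hodd) hEN
  -- the pointwise fixer of `Δ`
  let F : Subgroup C :=
    { carrier := {x | ∀ i ∈ Δ, K.π x i = i}
      one_mem' := fun i _ => by rw [map_one, Perm.one_apply]
      mul_mem' := fun {a b} ha hb i hi => by rw [map_mul, Perm.mul_apply, hb i hi, ha i hi]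
      inv_mem' := fun {a} ha i hi => by rw [map_inv, Perm.inv_eq_iff_eq, ha i hi] }
  suffices hNF : N ≤ F from fun x hx => hNF hx
  rw [hgen]
  refine iSup_le ?_
  rintro ⟨B, hBE, hB2⟩
  -- an element of `B` acting non-trivially
  obtain ⟨e, heB, he1, hez⟩ : ∃ e ∈ B, e ≠ 1 ∧ e ≠ K.z := by
    by_contra hno
    push Not at hno
    have h1 : Nat.card B ≤ 2 := by
      have h2 : (B : Set C) ⊆ {1, K.z} := by
        intro b hb
        by_cases h : b = 1
        · exact Or.inl h
        · exact Or.inr (hno b hb h)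
      have h3 := Set.ncard_le_ncard h2 (Set.toFinite _)
      have h4 : ({1, K.z} : Set C).ncard ≤ 2 := Set.ncard_insert_le _ _ |>.trans (by rw [Set.ncard_singleton])
      rw [← Nat.card_coe_set_eq] at h3
      exact h3.trans h4
    have h2 := relIndex_mul_relIndex (⊥ : Subgroup C) B E bot_le hBE
    rw [relIndex_bot_left, relIndex_bot_left, hB2] at h2
    omega
  have heE : e ∈ E := hBE heB
  have hπe : ∀ j ∈ Δ, K.π e j ≠ j := by
    intro j hj h
    have h1 : K.π e = 1 := by
      ext i
      rw [Perm.one_apply]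
      by_cases hi : i ∈ Δ
      · obtain ⟨g, hg, hgi⟩ := htr j hj i hi
        have h2 := congrArg (fun c => K.π c j) (hcomm e heE g hg)
        simp only [map_mul, Perm.mul_apply] at h2
        rw [hgi, h, hgi] at h2
        exact h2
      · exact hfix e heE i hi
    rcases (K.ker e).1 h1 with h2 | h2
    · exact he1 h2
    · exact hez h2
  -- the centraliser of `e` in `N`
  set Ne : Subgroup C := N ⊓ centralizer {e} with hNe
  have hle : N ⊓ centralizer (B : Set C) ≤ Ne :=
    inf_le_inf_left _ (centralizer_le (Set.singleton_subset_iff.2 heB))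
  refine hle.trans ?_
  have hNeΔ : ∀ x ∈ Ne, ∀ j ∈ Δ, K.π x j ∈ Δ := by
    rintro x ⟨-, hx⟩ j hj
    replace hx := mem_centralizer_singleton_iff.1 hx
    by_contra h
    have h1 := hfix e heE _ h
    have h2 := congrArg (fun c => K.π c j) hx
    simp only [map_mul, Perm.mul_apply] at h2
    rw [h1] at h2
    exact hπe j hj ((K.π x).injective h2)
  have hinv : ∀ x : C, (∀ j ∈ Δ, K.π x j ∈ Δ) → ∀ j ∈ Δ, K.π x⁻¹ j ∈ Δ := by
    intro x hx j hj
    have h1 : Δ.image (K.π x) = Δ := by
      apply Finset.eq_of_subset_of_card_le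
      · intro k hk
        obtain ⟨m, hm, rfl⟩ := Finset.mem_image.1 hk
        exact hx m hm
      · rw [Finset.card_image_of_injective _ (K.π x).injective]
    rw [← h1] at hj
    obtain ⟨m, hm, rfl⟩ := Finset.mem_image.1 hj
    rw [map_inv]
    show (K.π x).symm (K.π x m) ∈ Δ
    rw [Equiv.symm_apply_apply]
    exact hm
  let D : Subgroup C :=
    { carrier := {x | ∀ j ∈ Δ, K.π x j ∈ Δ}
      one_mem' := fun j hj => by rw [map_one, Perm.one_apply]; exact hj
      mul_mem' := fun {a b} ha hb j hj => by rw [map_mul, Perm.mul_apply]; exact ha _ (hb j hj)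
      inv_mem' := fun {a} ha j hj => hinv a ha j hj }
  have hED : E ≤ D := fun e' he' => hEΔ e' he'
  have hND : Ne ≤ D := fun x hx => hNeΔ x hx
  set H : Subgroup C := Ne ⊔ E with hH
  have hHD : H ≤ D := sup_le hND hED
  intro x hx i hi
  let act : MulAction H α := MulAction.compHom α (K.π.comp H.subtype)
  have hsm : ∀ (h : H) (j : α), h • j = K.π h j := fun h j => rfl
  have horb : MulAction.orbit H i = (Δ : Set α) := by
    ext j
    constructor
    · rintro ⟨h, rfl⟩
      exact hHD h.2 i hi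
    · intro hj
      obtain ⟨g, hg, h⟩ := htr i hi j hj
      exact ⟨⟨g, (le_sup_right : E ≤ H) hg⟩, h⟩
  have hnorm : (Ne.subgroupOf H).Normal := by
    rw [normal_subgroupOf_iff_le_normalizer le_sup_left]
    refine sup_le le_normalizer ?_
    intro g hg
    have key : ∀ g ∈ E, ∀ y ∈ Ne, g * y * g⁻¹ ∈ Ne := by
      rintro g hg y ⟨hy, hye⟩
      refine ⟨(mem_normalizer_iff.1 (hEN hg) y).1 hy, mem_centralizer_singleton_iff.2 ?_⟩
      have c1 : Commute g e := hcomm g hg e heE
      have c2 : Commute y e := mem_centralizer_singleton_iff.1 hye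
      exact ((c1.mul_left c2).mul_left c1.inv_left).eq
    rw [mem_normalizer_iff]
    intro y
    refine ⟨key g hg y, fun h => ?_⟩
    have h1 := key g⁻¹ (E.inv_mem hg) _ h
    have h2 : g⁻¹ * (g * y * g⁻¹) * g⁻¹⁻¹ = y := by group
    rwa [h2] at h1
  have hoddNe : Odd (Nat.card (Ne.subgroupOf H)) := by
    rw [Nat.card_congr (subgroupOfEquivOfLe (le_sup_left : Ne ≤ H)).toEquiv]
    exact Odd.of_dvd_nat hodd (card_dvd_of_le inf_le_left)
  have hfin := fix_of_orbit (H := H) (Ne.subgroupOf H) hoddNe (i := i) (k := 3) (by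
    rw [horb, Set.ncard_coe_finset, h8]; norm_num) ⟨x, (le_sup_left : Ne ≤ H) hx⟩ (mem_subgroupOf.2 hx)
  exact hfin

end Cfsg.Agent.Intrinsic.AnEightE
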