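import Cfsg.Agent.Intrinsic.AnLift
import Cfsg.Agent.StandardComponent.CoverExtra

/-!
# (A5): the centraliser of a noncentral involution of `2.A_n` acting on eight points

`perm_central`: permutations `A, B` generating a quaternion group with a central involution `Z` moving eight points and
`C, D` commuting with `A, B` with `[C, D] = Z`: the centraliser of `A, B, C, D` is `⟨Z⟩` on the support of `Z`.
-/

set_option autoImplicit false
set_option linter.unusedSimpArgs false

namespace Cfsg.Agent.Intrinsic.AnFive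

open Subgroup Equiv Cfsg.Agent.SporRec.TwoAn Cfsg.Agent.Intrinsic.AnLift

section quaternion

variable {G : Type*} [Group G] {a b t : G}

/-- The quaternion group generated by `a` and `b`. -/
theorem exists_eight (ha : a * a = t) (hb : b * b = t) (ht : t * t = 1) (ht1 : t ≠ 1) (hab : a * b = b * a * t) :
    ∃ Q : Subgroup G, Nat.card Q = 8 ∧ a ∈ Q ∧ b ∈ Q ∧
      (∀ N : Subgroup G, a ∈ N → b ∈ N → Q ≤ N) ∧
      (∀ x ∈ Q, x ≠ 1 → x = t ∨ x * x = t) ∧
      (∀ x ∈ Q, x * a = a * x → x * b = b * x → x = 1 ∨ x = t) := by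
  have hat : t ∈ zpowers a := ⟨2, by show a ^ (2 : ℤ) = t; rw [zpow_two, ha]⟩
  have hti : t⁻¹ = t := inv_eq_of_mul_eq_one_left ht
  have hta : a * t = t * a := by rw [← ha, mul_assoc]
  have htb : b * t = t * b := by rw [← hb, mul_assoc]
  have hinv : a * t = a⁻¹ := by
    rw [eq_inv_iff_mul_eq_one, hta, mul_assoc, ha, ht]
  have hc : b⁻¹ * a * b = a⁻¹ := by
    rw [mul_assoc, hab, ← hinv]; group
  have hconj' : ∀ i : ℤ, b⁻¹ * a ^ i * b = a ^ (-i) := by
    intro i
    have h1 : b⁻¹ * a ^ i * b = (b⁻¹ * a * b) ^ i := by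
      have := conj_zpow (i := i) (a := b⁻¹) (b := a)
      rw [inv_inv] at this
      exact this.symm
    rw [h1, hc, inv_zpow, zpow_neg]
  have hconj : ∀ x ∈ zpowers a, b⁻¹ * x * b ∈ zpowers a := by
    rintro _ ⟨i, rfl⟩
    exact ⟨-i, (hconj' i).symm⟩
  have hbb : b⁻¹ = t * b := by
    rw [inv_eq_iff_mul_eq_one, ← mul_assoc, htb, mul_assoc, hb, ht]
  let Q : Subgroup G :=
    { carrier := {x | x ∈ zpowers a ∨ b⁻¹ * x ∈ zpowers a}
      one_mem' := Or.inl (one_mem _)
      mul_mem' := by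
        rintro x y (hx | hx) (hy | hy)
        · exact Or.inl (mul_mem hx hy)
        · right
          have : b⁻¹ * (x * y) = (b⁻¹ * x * b) * (b⁻¹ * y) := by group
          rw [this]
          exact mul_mem (hconj x hx) hy
        · right
          rw [← mul_assoc]
          exact mul_mem hx hy
        · left
          have : x * y = t * ((b⁻¹ * (b⁻¹ * x) * b) * (b⁻¹ * y)) := by
            have h1 : b⁻¹ * b⁻¹ = t := by rw [← mul_inv_rev, hb, hti]
            calc x * y = (t * t) * (x * y) := by rw [ht, one_mul]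
              _ = t * ((b⁻¹ * b⁻¹) * (x * y)) := by rw [h1, mul_assoc]
              _ = t * ((b⁻¹ * (b⁻¹ * x) * b) * (b⁻¹ * y)) := by group
          rw [this]
          exact mul_mem hat (mul_mem (hconj _ hx) hy)
      inv_mem' := by
        rintro x (hx | hx)
        · exact Or.inl (inv_mem hx)
        · right
          have : b⁻¹ * x⁻¹ = (b⁻¹ * (b⁻¹ * x)⁻¹ * b) * (b⁻¹ * b⁻¹) := by group
          rw [this]
          have h1 : b⁻¹ * b⁻¹ = t := by rw [← mul_inv_rev, hb, hti]
          rw [h1]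
          exact mul_mem (hconj _ (inv_mem hx)) hat }
  have hbn : b ∉ zpowers a := by
    rintro ⟨i, hi⟩
    have hi' : a ^ i = b := hi
    have h1 : a * b = b * a := by rw [← hi']; exact ((Commute.refl a).zpow_right i).eq
    rw [h1] at hab
    exact ht1 (mul_eq_left.1 hab.symm)
  have haQ : zpowers a ≤ Q := fun x hx => Or.inl hx
  have horder' : orderOf a = 4 := by
    have h4 : a ^ 2 ^ 1 ≠ 1 := by rw [pow_one, pow_two, ha]; exact ht1
    have h5 : a ^ 2 ^ (1 + 1) = 1 := by
      have : a ^ 2 ^ (1 + 1) = (a * a) * (a * a) := by norm_num [pow_succ, mul_assoc]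
      rw [this, ha, ht]
    exact orderOf_eq_prime_pow (p := 2) (n := 1) h4 h5
  have horder : Nat.card (zpowers a) = 4 := by
    rw [Nat.card_zpowers, horder']
  have hti1 : ∀ i : ℤ, t ^ i = 1 ∨ t ^ i = t := by
    intro i
    rcases Int.even_or_odd' i with ⟨k, rfl | rfl⟩
    · left; rw [zpow_mul, zpow_two, ht, one_zpow]
    · right; rw [zpow_add, zpow_mul, zpow_two, ht, one_zpow, one_mul, zpow_one]
  have hta2 : ∀ i : ℤ, a ^ (2 * i) = t ^ i := by
    intro i; rw [zpow_mul, zpow_two, ha]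
  refine ⟨Q, ?_, haQ (mem_zpowers a), Or.inr (by rw [inv_mul_cancel]; exact one_mem _), ?_, ?_, ?_⟩
  · have h1 : (zpowers a).relIndex Q = 2 := by
      rw [relIndex, index_eq_two_iff]
      refine ⟨⟨b, Or.inr (by rw [inv_mul_cancel]; exact one_mem _)⟩, ?_⟩
      rintro ⟨x, hx⟩
      rw [mem_subgroupOf, mem_subgroupOf]
      show Xor (x * b ∈ zpowers a) (x ∈ zpowers a)
      rcases hx with hx | hx
      · right
        refine ⟨hx, fun h => hbn ?_⟩
        have : b = x⁻¹ * (x * b) := by group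
        rw [this]
        exact mul_mem (inv_mem hx) h
      · left
        constructor
        · have : x * b = b * b * (b⁻¹ * (b⁻¹ * x) * b) := by group
          rw [this, hb]
          exact mul_mem hat (hconj _ hx)
        · intro h
          apply hbn
          have : b = x * (b⁻¹ * x)⁻¹ := by group
          rw [this]
          exact mul_mem h (inv_mem hx)
    have h2 := Subgroup.card_mul_index ((zpowers a).subgroupOf Q)
    rw [Nat.card_congr (subgroupOfEquivOfLe haQ).toEquiv, horder] at h2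
    rw [← h2]
    show 4 * (zpowers a).relIndex Q = 8
    rw [h1]
  · intro N haN hbN x hx
    rcases hx with hx | hx
    · exact (zpowers_le.2 haN) hx
    · have : x = b * (b⁻¹ * x) := by group
      rw [this]
      exact N.mul_mem hbN ((zpowers_le.2 haN) hx)
  · rintro x (⟨i, hi⟩ | ⟨i, hi⟩) hx1
    · have hi' : a ^ i = x := hi
      rw [← hi'] at hx1 ⊢
      rcases Int.even_or_odd' i with ⟨k, rfl | rfl⟩
      · rw [hta2] at hx1 ⊢
        rcases hti1 k with h | h
        · exact absurd h hx1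
        · exact Or.inl h
      · right
        rw [← zpow_add]
        have : (2 * k + 1 + (2 * k + 1) : ℤ) = 2 * (2 * k + 1) := by ring
        rw [this, hta2, zpow_add, zpow_mul, zpow_two, ht, one_zpow, one_mul, zpow_one]
    · right
      have hi' : a ^ i = b⁻¹ * x := hi
      have hx : x = b * a ^ i := by rw [hi']; group
      rw [hx]
      have h1 : b * a ^ i * (b * a ^ i) = (b * b) * (b⁻¹ * a ^ i * b) * a ^ i := by group
      rw [h1, hconj', hb, mul_assoc, ← zpow_add, neg_add_cancel, zpow_zero, mul_one]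
  · rintro x (⟨i, hi⟩ | ⟨i, hi⟩) hxa hxb
    · have hi' : a ^ i = x := hi
      have h1 : b⁻¹ * x * b = x := by rw [mul_assoc, hxb, inv_mul_cancel_left]
      rw [← hi', hconj'] at h1
      have h2 : a ^ (2 * i) = 1 := by
        have h3 : a ^ i * a ^ (-i) = 1 := by rw [← zpow_add, add_neg_cancel, zpow_zero]
        rw [two_mul, zpow_add]
        rw [h1] at h3
        exact h3
      have h3 : (4 : ℤ) ∣ 2 * i := by
        have := orderOf_dvd_iff_zpow_eq_one.2 h2
        rwa [horder'] at this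
      obtain ⟨k, hk⟩ := h3
      have h4 : i = 2 * k := by omega
      rw [← hi', h4, hta2]
      exact hti1 k
    · exfalso
      have hi' : a ^ i = b⁻¹ * x := hi
      have hx : x = b * a ^ i := by rw [hi']; group
      rw [hx] at hxa
      have h1 : b * a = a * b := by
        have h2 : a ^ i * a = a * a ^ i := ((Commute.refl a).zpow_left i).eq
        have h3 : b * a * a ^ i = a * b * a ^ i := by rw [mul_assoc b a, ← h2, ← mul_assoc, hxa, mul_assoc]
        exact mul_right_cancel h3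
      rw [← h1] at hab
      exact ht1 (mul_eq_left.1 hab.symm)

end quaternion

section perm

variable {α : Type*} [Fintype α] [DecidableEq α]

/-- (A5), permutation part. -/
theorem perm_central {Z A B C D σ : Perm α} (hZ : Z * Z = 1) (hs : Z.support.card = 8) (hA : A * A = Z)
    (hB : B * B = Z) (hAB : A * B = B * A * Z) (hCA : C * A = A * C) (hCB : C * B = B * C) (hDA : D * A = A * D)
    (hDB : D * B = B * D) (hCD : C * D = D * C * Z) (hσA : σ * A = A * σ) (hσB : σ * B = B * σ)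
    (hσC : σ * C = C * σ) (hσD : σ * D = D * σ) :
    (∀ x ∈ Z.support, σ x = x) ∨ (∀ x ∈ Z.support, σ x = Z x) := by
  have hZ1 : Z ≠ 1 := by
    intro h
    rw [h, Perm.support_one, Finset.card_empty] at hs
    exact absurd hs (by norm_num)
  obtain ⟨Q, hQ8, hAQ, hBQ, hQmin, hQ1, hQ2⟩ := exists_eight hA hB hZ hZ1 hAB
  have hAZ : A * Z = Z * A := by rw [← hA, mul_assoc]
  have hBZ : B * Z = Z * B := by rw [← hB, mul_assoc]
  -- everything commuting with `A` commutes with `Z`
  have hZc : ∀ τ : Perm α, τ * A = A * τ → τ * Z = Z * τ := by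
    intro τ h
    rw [← hA, ← mul_assoc, h, mul_assoc, h, mul_assoc]
  have hZQ : ∀ g ∈ Q, g * Z = Z * g := by
    intro g hg
    by_cases h1 : g = 1
    · rw [h1, one_mul, mul_one]
    · rcases hQ1 g hg h1 with h | h
      · rw [h]
      · rw [← h, mul_assoc]
  have hsuppZ : ∀ τ : Perm α, τ * Z = Z * τ → ∀ x, x ∈ Z.support → τ x ∈ Z.support := by
    intro τ h x hx
    rw [Perm.mem_support] at hx ⊢
    intro h1
    apply hx
    have h2 : Z (τ x) = τ (Z x) := by
      rw [← Perm.mul_apply, ← h, Perm.mul_apply]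
    rw [h2] at h1
    exact τ.injective h1
  -- semiregularity
  have hsemi : ∀ g ∈ Q, ∀ x ∈ Z.support, g x = x → g = 1 := by
    intro g hg x hx h
    by_contra h1
    rw [Perm.mem_support] at hx
    rcases hQ1 g hg h1 with h2 | h2
    · rw [h2] at h; exact hx h
    · apply hx
      rw [← h2, Perm.mul_apply, h, h]
  have hne : Z.support.Nonempty := by
    rw [← Finset.card_pos, hs]; norm_num
  obtain ⟨p, hp⟩ := hne
  -- transitivity
  have htrans : ∀ x ∈ Z.support, ∃ g ∈ Q, g p = x := by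
    have hfin : Fintype Q := Fintype.ofFinite Q
    let F : Q → Z.support := fun g => ⟨(g : Perm α) p, hsuppZ _ (hZQ g g.2) p hp⟩
    have hinj : Function.Injective F := by
      intro g g' h
      have h1 : (g : Perm α) p = (g' : Perm α) p := congrArg Subtype.val h
      have h2 : ((g' : Perm α)⁻¹ * g) p = p := by
        rw [Perm.mul_apply, h1]; exact (g' : Perm α).symm_apply_apply p
      have h3 := hsemi _ (Q.mul_mem (Q.inv_mem g'.2) g.2) p hp h2
      apply Subtype.ext
      rw [inv_mul_eq_one] at h3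
      exact h3.symm
    have hcard : Fintype.card Q = Fintype.card Z.support := by
      rw [← Nat.card_eq_fintype_card, hQ8, Fintype.card_coe, hs]
    have hbij := (Fintype.bijective_iff_injective_and_card F).2 ⟨hinj, hcard⟩
    intro x hx
    obtain ⟨g, hg⟩ := hbij.2 ⟨x, hx⟩
    exact ⟨g, g.2, congrArg Subtype.val hg⟩
  -- elements commuting with `A` and `B` commute with `Q`
  have hQc : ∀ τ : Perm α, τ * A = A * τ → τ * B = B * τ → ∀ g ∈ Q, τ * g = g * τ := by
    intro τ h1 h2 g hg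
    exact (mem_centralizer_singleton_iff.1 (hQmin (centralizer {τ}) (mem_centralizer_singleton_iff.2 h1.symm)
      (mem_centralizer_singleton_iff.2 h2.symm) hg)).symm
  have hex : ∀ τ : Perm α, τ * A = A * τ → ∃ g ∈ Q, g p = τ p := fun τ h =>
    htrans _ (hsuppZ τ (hZc τ h) p hp)
  obtain ⟨g, hgQ, hg⟩ := hex σ hσA
  obtain ⟨c, hcQ, hc⟩ := hex C hCA
  obtain ⟨d, hdQ, hd⟩ := hex D hDA
  -- the composition of two such permutations
  have hcomp : ∀ τ τ' : Perm α, τ * A = A * τ → τ * B = B * τ → ∀ u ∈ Q, ∀ u' ∈ Q, u p = τ p → u' p = τ' p →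
      (u' * u) p = (τ * τ') p := by
    intro τ τ' h1 h2 u hu u' hu' h3 h4
    rw [Perm.mul_apply, h3, Perm.mul_apply, ← h4, ← Perm.mul_apply, ← hQc τ h1 h2 u' hu', Perm.mul_apply]
  have heq : ∀ u ∈ Q, ∀ u' ∈ Q, u p = u' p → u = u' := by
    intro u hu u' hu' h
    have h2 : (u'⁻¹ * u) p = p := by rw [Perm.mul_apply, h]; exact u'.symm_apply_apply p
    have h3 := hsemi _ (Q.mul_mem (Q.inv_mem hu') hu) p hp h2
    rw [inv_mul_eq_one] at h3
    exact h3.symm
  have hcg : c * g = g * c := by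
    refine heq _ (Q.mul_mem hcQ hgQ) _ (Q.mul_mem hgQ hcQ) ?_
    rw [hcomp σ C hσA hσB g hgQ c hcQ hg hc, hcomp C σ hCA hCB c hcQ g hgQ hc hg, hσC]
  have hdg : d * g = g * d := by
    refine heq _ (Q.mul_mem hdQ hgQ) _ (Q.mul_mem hgQ hdQ) ?_
    rw [hcomp σ D hσA hσB g hgQ d hdQ hg hd, hcomp D σ hDA hDB d hdQ g hgQ hd hg, hσD]
  have hcd : d * c ≠ c * d := by
    intro h
    have h1 := hcomp C D hCA hCB c hcQ d hdQ hc hd
    have h2 := hcomp D C hDA hDB d hdQ c hcQ hd hc
    rw [h, h2, hCD] at h1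
    have h3 : p = Z p := (D * C).injective h1
    rw [Perm.mem_support] at hp
    exact hp h3.symm
  -- `g` is central in `Q`
  have hQg : Q ≤ centralizer {g} := by
    set R : Subgroup (Perm α) := Q ⊓ centralizer {g} with hR
    have hcR : c ∈ R := ⟨hcQ, mem_centralizer_singleton_iff.2 hcg⟩
    have hdR : d ∈ R := ⟨hdQ, mem_centralizer_singleton_iff.2 hdg⟩
    have h1 : Nat.card R ∣ 8 := by rw [← hQ8]; exact card_dvd_of_le inf_le_left
    have hnc : ¬ ∀ x y : R, x * y = y * x := fun h =>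
      hcd (congrArg Subtype.val (h ⟨d, hdR⟩ ⟨c, hcR⟩))
    have h2 : Nat.card R = 8 := by
      have h3 := Nat.le_of_dvd (by norm_num) h1
      have h4 : Nat.card R ≠ 1 := by
        intro h
        apply hnc
        have := (Nat.card_eq_one_iff_unique.1 h).1
        exact fun x y => Subsingleton.elim _ _
      have h5 : Nat.card R ≠ 2 := by
        intro h
        apply hnc
        have : Fact (Nat.Prime 2) := ⟨Nat.prime_two⟩
        have : IsCyclic R := isCyclic_of_prime_card h
        exact fun x y => IsCyclic.commGroup.mul_comm x y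
      have h6 : Nat.card R ≠ 4 := by
        intro h
        apply hnc
        have : Fact (Nat.Prime 2) := ⟨Nat.prime_two⟩
        have := IsPGroup.isMulCommutative_of_card_eq_prime_sq (p := 2) h
        exact fun x y => mul_comm' x y
      interval_cases hk : Nat.card R <;> omega
    have h3 : R = Q := eq_of_le_of_card_ge inf_le_left (by rw [h2, hQ8])
    rw [← h3]
    exact inf_le_right
  have hgA : g * A = A * g := (mem_centralizer_singleton_iff.1 (hQg hAQ)).symm
  have hgB : g * B = B * g := (mem_centralizer_singleton_iff.1 (hQg hBQ)).symm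
  -- conclusion
  have hfin : ∀ x ∈ Z.support, σ x = g x := by
    intro x hx
    obtain ⟨u, hu, rfl⟩ := htrans x hx
    have hug : u * g = g * u := mem_centralizer_singleton_iff.1 (hQg hu)
    rw [← Perm.mul_apply, hQc σ hσA hσB u hu, Perm.mul_apply, ← hg, ← Perm.mul_apply, hug, Perm.mul_apply]
  rcases hQ2 g hgQ hgA hgB with h | h
  · left
    intro x hx
    rw [hfin x hx, h, Perm.one_apply]
  · right
    intro x hx
    rw [hfin x hx, h]

end perm

section group

variable {C : Type*} [Group C]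

/-- The relations of `2^{1+4}` modulo `t`. -/
structure FiveRel (z t u f c d : C) : Prop where
  tu : u * t = t * u
  tf : f * t = t * f
  tc : c * t = t * c
  td : d * t = t * d
  uu : u * u = z
  ff : f * f = z
  uf : u * f = f * u * z
  cu : c * u = u * c ∨ c * u = u * c * t
  cf : c * f = f * c ∨ c * f = f * c * t
  du : d * u = u * d ∨ d * u = u * d * t
  df : d * f = f * d ∨ d * f = f * d * t
  cd : c * d = d * c * z ∨ c * d = d * c * z * t

theorem FiveRel.map {D : Type*} [Group D] (φ : C →* D) {z t u f c d : C} (h : FiveRel z t u f c d) :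
    FiveRel (φ z) (φ t) (φ u) (φ f) (φ c) (φ d) where
  tu := by rw [← map_mul, h.tu, map_mul]
  tf := by rw [← map_mul, h.tf, map_mul]
  tc := by rw [← map_mul, h.tc, map_mul]
  td := by rw [← map_mul, h.td, map_mul]
  uu := by rw [← map_mul, h.uu]
  ff := by rw [← map_mul, h.ff]
  uf := by rw [← map_mul, h.uf, map_mul, map_mul]
  cu := h.cu.imp (fun h => by rw [← map_mul, h, map_mul]) (fun h => by rw [← map_mul, h, map_mul, map_mul])
  cf := h.cf.imp (fun h => by rw [← map_mul, h, map_mul]) (fun h => by rw [← map_mul, h, map_mul, map_mul])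
  du := h.du.imp (fun h => by rw [← map_mul, h, map_mul]) (fun h => by rw [← map_mul, h, map_mul, map_mul])
  df := h.df.imp (fun h => by rw [← map_mul, h, map_mul]) (fun h => by rw [← map_mul, h, map_mul, map_mul])
  cd := h.cd.imp (fun h => by rw [← map_mul, h, map_mul, map_mul])
    (fun h => by rw [← map_mul, h, map_mul, map_mul, map_mul])

theorem isPGroup_sup {A : Subgroup C} (hA : IsPGroup 2 A) {x : C} (hx : x ^ 4 = 1) (hn : ∀ a ∈ A, x * a * x⁻¹ ∈ A) :
    IsPGroup 2 (A ⊔ zpowers x : Subgroup C) := by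
  have h1 : x ∈ normalizer (A : Set C) := by
    rw [mem_normalizer_iff]
    intro a
    refine ⟨hn a, fun h => ?_⟩
    have h2 := hn _ (hn _ (hn _ h))
    have h3 : x * (x * (x * (x * a * x⁻¹) * x⁻¹) * x⁻¹) * x⁻¹ = x ^ 4 * a * (x ^ 4)⁻¹ := by
      rw [show (4 : ℕ) = 1 + 1 + 1 + 1 from rfl, pow_succ, pow_succ, pow_succ, pow_one]
      group
    rw [h3, hx, one_mul, inv_one, mul_one] at h2
    exact h2
  refine IsPGroup.to_sup_of_normal_left' hA ?_ (zpowers_le.2 h1)
  intro y
  obtain ⟨y, i, hi⟩ := y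
  refine ⟨2, Subtype.ext ?_⟩
  have hi' : x ^ i = y := hi
  show y ^ 2 ^ 2 = 1
  rw [← hi', ← zpow_natCast, ← zpow_mul, mul_comm, zpow_mul, zpow_natCast, show (2 ^ 2 : ℕ) = 4 from rfl, hx, one_zpow]

theorem conj_mem_sup {A B : Subgroup C} {x : C} {N : Subgroup C} (hA : ∀ a ∈ A, x * a * x⁻¹ ∈ N)
    (hB : ∀ a ∈ B, x * a * x⁻¹ ∈ N) : ∀ a ∈ A ⊔ B, x * a * x⁻¹ ∈ N := by
  have h1 : A ⊔ B ≤ N.comap (MulAut.conj x).toMonoidHom := sup_le hA hB
  exact fun a ha => h1 ha

theorem conj_mem_zpowers {y x : C} {N : Subgroup C} (h : x * y * x⁻¹ ∈ N) : ∀ a ∈ zpowers y, x * a * x⁻¹ ∈ N := by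
  have h1 : zpowers y ≤ N.comap (MulAut.conj x).toMonoidHom := zpowers_le.2 h
  exact fun a ha => h1 ha

end group

section std

variable {C : Type*} [Group C] (K : Cover (Fin 8) C)

local notation "DD" => D K

theorem anticomm_share {u v : C} (hu : u * u = K.z) (hv : v * v = K.z) (huv : u * v * (u * v) = K.z) :
    u * v = v * u * K.z := by
  have h1 : u * v = K.z * (u * v)⁻¹ := by rw [eq_mul_inv_iff_mul_eq, huv]
  have hui : u⁻¹ = u * K.z := by
    rw [inv_eq_iff_mul_eq_one, ← mul_assoc, hu, K.z_mul_z]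
  have hvi : v⁻¹ = v * K.z := by
    rw [inv_eq_iff_mul_eq_one, ← mul_assoc, hv, K.z_mul_z]
  rw [h1, mul_inv_rev, hui, hvi]
  calc K.z * (v * K.z * (u * K.z)) = (K.z * v) * (K.z * u) * K.z := by group
    _ = (v * K.z) * (u * K.z) * K.z := by rw [K.z_comm v, K.z_comm u]
    _ = v * (K.z * u) * (K.z * K.z) := by group
    _ = v * u * K.z := by rw [K.z_mul_z, mul_one, ← K.z_comm u, mul_assoc]

/-- The relations between the generators of the normal 2-subgroup of the centraliser of a noncentral involution. -/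
structure Gens (z u v f h k : C) : Prop where
  zz : z * z = 1
  zu : z * u = u * z
  zv : z * v = v * z
  zf : z * f = f * z
  zh : z * h = h * z
  zk : z * k = k * z
  uu : u * u = z
  vv : v * v = z
  ff : f * f = z
  vu : v * u = u * v
  fu : f * u = u * f * z
  vf : v * f = f * v * z
  hh : h * h = 1
  kk : k * k = 1
  kh : k * h = h * k
  uh : u * h = h * u * z
  vh : v * h = h * v * z
  fh : f * h = h * (u * f * v)
  uk : u * k = k * v
  vk : v * k = k * u
  fk : f * k = k * (u * f * v * z)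

theorem Gens.rel {z u v f h k t : C} (H : Gens z u v f h k) (ht : t = u * v ∨ t = u * v * z) :
    ∃ c d : C, FiveRel z t u f c d ∧ (c = h * u * f ∨ c = h * f) ∧ (d = k * f ∨ d = k * u) := by
  obtain ⟨zz, zu, zv, zf, zh, zk, uu, vv, ff, vu, fu, vf, hh, kk, kh, uh, vh, fh, uk, vk, fk⟩ := H
  have e : ∀ {a b c : C}, a * b = c → ∀ w, a * (b * w) = c * w := fun h w => by rw [← mul_assoc, h]
  have zz' := e zz
  have zu' := e zu
  have zv' := e zv
  have zf' := e zf
  have zh' := e zh
  have zk' := e zk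
  have uu' := e uu
  have vv' := e vv
  have ff' := e ff
  have vu' := e vu
  have fu' := e fu
  have vf' := e vf
  have hh' := e hh
  have kk' := e kk
  have kh' := e kh
  have uh' := e uh
  have vh' := e vh
  have fh' := e fh
  have uk' := e uk
  have vk' := e vk
  have fk' := e fk
  rcases ht with rfl | rfl
  · refine ⟨h * u * f, k * f, ?_, Or.inl rfl, Or.inl rfl⟩
    constructor
    all_goals try
      simp only [mul_assoc, zz, zu, zv, zf, zh, zk, uu, vv, ff, vu, fu, vf, hh, kk, kh, uh, vh, fh, uk, vk, fk,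
        zz', zu', zv', zf', zh', zk', uu', vv', ff', vu', fu', vf', hh', kk', kh', uh', vh', fh', uk', vk', fk',
        mul_one, one_mul, true_or, or_true]
  · refine ⟨h * f, k * u, ?_, Or.inr rfl, Or.inr rfl⟩
    constructor
    all_goals try
      simp only [mul_assoc, zz, zu, zv, zf, zh, zk, uu, vv, ff, vu, fu, vf, hh, kk, kh, uh, vh, fh, uk, vk, fk,
        zz', zu', zv', zf', zh', zk', uu', vv', ff', vu', fu', vf', hh', kk', kh', uh', vh', fh', uk', vk', fk',
        mul_one, one_mul, true_or, or_true]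

theorem pow_four_one {x : C} (h : x * x = 1) : x ^ 4 = 1 := by
  have : x ^ 4 = (x * x) * (x * x) := by rw [show (4 : ℕ) = 2 + 2 from rfl, pow_add, pow_two]
  rw [this, h, one_mul]

theorem pow_four_one' {x z : C} (h : x * x = z) (hz : z * z = 1) : x ^ 4 = 1 := by
  have : x ^ 4 = (x * x) * (x * x) := by rw [show (4 : ℕ) = 2 + 2 from rfl, pow_add, pow_two]
  rw [this, h, hz]

theorem mul_eq_of_conj {h a b : C} (hh : h * h = 1) (hab : h * a * h⁻¹ = b) : a * h = h * b := by
  rw [← hab, inv_eq_of_mul_eq_one_left hh, ← mul_assoc, ← mul_assoc, hh, one_mul]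

/-- A 2-group containing the generators. -/
theorem Gens.exists_subgroup {z u v f h k : C} (H : Gens z u v f h k) :
    ∃ S : Subgroup C, IsPGroup 2 S ∧ z ∈ S ∧ u ∈ S ∧ v ∈ S ∧ f ∈ S ∧ h ∈ S ∧ k ∈ S ∧
      ∀ N : Subgroup C, z ∈ N → u ∈ N → v ∈ N → f ∈ N → h ∈ N → k ∈ N → S ≤ N := by
  obtain ⟨zz, zu, zv, zf, zh, zk, uu, vv, ff, vu, fu, vf, hh, kk, kh, uh, vh, fh, uk, vk, fk⟩ := H
  have z4 : z ^ 4 = 1 := pow_four_one zz
  have u4 : u ^ 4 = 1 := pow_four_one' uu zz
  have v4 : v ^ 4 = 1 := pow_four_one' vv zz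
  have f4 : f ^ 4 = 1 := pow_four_one' ff zz
  have h4 : h ^ 4 = 1 := pow_four_one hh
  have k4 : k ^ 4 = 1 := pow_four_one kk
  set A0 : Subgroup C := ⊥ ⊔ zpowers z with hA0
  have p0 : IsPGroup 2 A0 := isPGroup_sup IsPGroup.of_bot z4 (by
    intro a ha
    rw [mem_bot] at ha ⊢
    rw [ha, mul_one, mul_inv_cancel])
  have z0 : z ∈ A0 := (le_sup_right : _ ≤ A0) (mem_zpowers z)
  set A1 : Subgroup C := A0 ⊔ zpowers u with hA1
  have l1 : A0 ≤ A1 := le_sup_left
  have p1 : IsPGroup 2 A1 := isPGroup_sup p0 u4 (conj_mem_sup (by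
    intro a ha
    rw [mem_bot] at ha
    rw [ha, mul_one, mul_inv_cancel]; exact one_mem _) (conj_mem_zpowers (by
      rw [← zu, mul_inv_cancel_right]; exact z0)))
  have u1 : u ∈ A1 := (le_sup_right : _ ≤ A1) (mem_zpowers u)
  have bot : ∀ (x : C) (N : Subgroup C), ∀ a ∈ (⊥ : Subgroup C), x * a * x⁻¹ ∈ N := by
    intro x N a ha
    rw [mem_bot] at ha
    rw [ha, mul_one, mul_inv_cancel]; exact one_mem _
  set A2 : Subgroup C := A1 ⊔ zpowers v with hA2
  have l2 : A1 ≤ A2 := le_sup_left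
  have p2 : IsPGroup 2 A2 := isPGroup_sup p1 v4 (conj_mem_sup (conj_mem_sup (bot _ _) (conj_mem_zpowers (by
      rw [← zv, mul_inv_cancel_right]; exact l1 z0))) (conj_mem_zpowers (by
      rw [vu, mul_inv_cancel_right]; exact u1)))
  have v2 : v ∈ A2 := (le_sup_right : _ ≤ A2) (mem_zpowers v)
  set A3 : Subgroup C := A2 ⊔ zpowers f with hA3
  have l3 : A2 ≤ A3 := le_sup_left
  have p3 : IsPGroup 2 A3 := isPGroup_sup p2 f4 (conj_mem_sup (conj_mem_sup (conj_mem_sup (bot _ _) (conj_mem_zpowers (by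
      rw [← zf, mul_inv_cancel_right]; exact l2 (l1 z0)))) (conj_mem_zpowers (by
      rw [fu, mul_assoc u, ← zf, ← mul_assoc, mul_inv_cancel_right]; exact A2.mul_mem (l2 u1) (l2 (l1 z0)))))
      (conj_mem_zpowers (by
        have : f * v * f⁻¹ = v * z := by
          rw [mul_inv_eq_iff_eq_mul, mul_assoc, zf, ← mul_assoc, vf, mul_assoc, zz, mul_one]
        rw [this]; exact A2.mul_mem v2 (l2 (l1 z0)))))
  have f3 : f ∈ A3 := (le_sup_right : _ ≤ A3) (mem_zpowers f)
  have hz3 : z ∈ A3 := l3 (l2 (l1 z0))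
  have hu3 : u ∈ A3 := l3 (l2 u1)
  have hv3 : v ∈ A3 := l3 v2
  have hinv : h⁻¹ = h := inv_eq_of_mul_eq_one_left hh
  have kinv : k⁻¹ = k := inv_eq_of_mul_eq_one_left kk
  set A4 : Subgroup C := A3 ⊔ zpowers h with hA4
  have l4 : A3 ≤ A4 := le_sup_left
  have p4 : IsPGroup 2 A4 := isPGroup_sup p3 h4 (conj_mem_sup (conj_mem_sup (conj_mem_sup (conj_mem_sup (bot _ _)
      (conj_mem_zpowers (by rw [← zh, mul_inv_cancel_right]; exact hz3)))
      (conj_mem_zpowers (by
        rw [hinv, mul_assoc, uh, ← mul_assoc, ← mul_assoc, hh, one_mul]; exact A3.mul_mem hu3 hz3)))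
      (conj_mem_zpowers (by
        rw [hinv, mul_assoc, vh, ← mul_assoc, ← mul_assoc, hh, one_mul]; exact A3.mul_mem hv3 hz3)))
      (conj_mem_zpowers (by
        rw [hinv, mul_assoc, fh, ← mul_assoc, hh, one_mul]; exact A3.mul_mem (A3.mul_mem hu3 f3) hv3)))
  have h4' : h ∈ A4 := (le_sup_right : _ ≤ A4) (mem_zpowers h)
  set A5 : Subgroup C := A4 ⊔ zpowers k with hA5
  have l5 : A4 ≤ A5 := le_sup_left
  have p5 : IsPGroup 2 A5 := isPGroup_sup p4 k4 (conj_mem_sup (conj_mem_sup (conj_mem_sup (conj_mem_sup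
      (conj_mem_sup (bot _ _)
      (conj_mem_zpowers (by rw [← zk, mul_inv_cancel_right]; exact l4 hz3)))
      (conj_mem_zpowers (by
        rw [kinv, mul_assoc, uk, ← mul_assoc, kk, one_mul]; exact l4 hv3)))
      (conj_mem_zpowers (by
        rw [kinv, mul_assoc, vk, ← mul_assoc, kk, one_mul]; exact l4 hu3)))
      (conj_mem_zpowers (by
        rw [kinv, mul_assoc, fk, ← mul_assoc, kk, one_mul]
        exact l4 (A3.mul_mem (A3.mul_mem (A3.mul_mem hu3 f3) hv3) hz3))))
      (conj_mem_zpowers (by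
        rw [kinv, kh, mul_assoc, kk, mul_one]; exact h4')))
  have k5 : k ∈ A5 := (le_sup_right : _ ≤ A5) (mem_zpowers k)
  refine ⟨A5, p5, l5 (l4 hz3), l5 (l4 hu3), l5 (l4 hv3), l5 (l4 f3), l5 h4', k5, ?_⟩
  intro N hz hu hv hf hh hk
  exact sup_le (sup_le (sup_le (sup_le (sup_le (sup_le bot_le (zpowers_le.2 hz)) (zpowers_le.2 hu))
    (zpowers_le.2 hv)) (zpowers_le.2 hf)) (zpowers_le.2 hh)) (zpowers_le.2 hk)

/-- The generators for a lift `t` of `(0 1)(2 3)(4 5)(6 7)`. -/
theorem exists_gens {t : C} (ht : K.π t = swap 0 1 * swap 2 3 * (swap 4 5 * swap 6 7)) :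
    ∃ u v f h k : C, Gens K.z u v f h k ∧ (t = u * v ∨ t = u * v * K.z) := by
  have hzz := K.z_mul_z
  have hzc := K.z_comm
  have πD : ∀ a b c d : Fin 8, a ≠ b → a ≠ c → a ≠ d → b ≠ c → c ≠ d → b ≠ d → K.π (DD a b c d) = swap a b * swap c d :=
    fun a b c d h1 h2 h3 h4 h5 h6 => π_D K h1 h2 h3 h4 h5 h6
  have DDsq : ∀ a b c d : Fin 8, a ≠ b → a ≠ c → a ≠ d → b ≠ c → c ≠ d → b ≠ d → DD a b c d * DD a b c d = K.z :=
    fun a b c d h1 h2 h3 h4 h5 h6 => D_sq K h1 h2 h3 h4 h5 h6
  have cD : ∀ (y : C) (a b c d : Fin 8), a ≠ b → a ≠ c → a ≠ d → b ≠ c → c ≠ d →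
      y * DD a b c d * y⁻¹ = DD (K.π y a) (K.π y b) (K.π y c) (K.π y d) :=
    fun y a b c d h1 h2 h3 h4 h5 => conj_D K y h1 h2 h3 h4 h5
  set u := DD 0 1 2 3 with hu
  set v := DD 4 5 6 7 with hv
  set f := DD 2 3 4 5 with hf
  have πu : K.π u = swap 0 1 * swap 2 3 := πD _ _ _ _ (by decide) (by decide) (by decide) (by decide) (by decide) (by decide)
  have πv : K.π v = swap 4 5 * swap 6 7 := πD _ _ _ _ (by decide) (by decide) (by decide) (by decide) (by decide) (by decide)
  have πf : K.π f = swap 2 3 * swap 4 5 := πD _ _ _ _ (by decide) (by decide) (by decide) (by decide) (by decide) (by decide)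
  have uu : u * u = K.z := DDsq _ _ _ _ (by decide) (by decide) (by decide) (by decide) (by decide) (by decide)
  have vv : v * v = K.z := DDsq _ _ _ _ (by decide) (by decide) (by decide) (by decide) (by decide) (by decide)
  have ff : f * f = K.z := DDsq _ _ _ _ (by decide) (by decide) (by decide) (by decide) (by decide) (by decide)
  have uv : u * v = v * u := K.commute_of_disjoint (by rw [πu, πv]; intro x; revert x; decide)
  have uf : u * f = f * u * K.z := anticomm_share K uu ff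
    (K.dbl 0 1 4 5 (by decide) (by decide) (by decide) (by decide) (by decide) (by decide) (u * f) (by
      rw [map_mul, πu, πf]; decide))
  have vf : v * f = f * v * K.z := anticomm_share K vv ff
    (K.dbl 2 3 6 7 (by decide) (by decide) (by decide) (by decide) (by decide) (by decide) (v * f) (by
      rw [map_mul, πv, πf]; decide))
  obtain ⟨w1, hw1⟩ := K.exists_lift (Cover.swap_mul_swap_mem 0 2 1 3 (by decide) (by decide))
  obtain ⟨w2, hw2⟩ := K.exists_lift (Cover.swap_mul_swap_mem 4 6 5 7 (by decide) (by decide))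
  obtain ⟨w3, hw3⟩ := K.exists_lift (Cover.swap_mul_swap_mem 0 4 1 5 (by decide) (by decide))
  obtain ⟨w4, hw4⟩ := K.exists_lift (Cover.swap_mul_swap_mem 2 6 3 7 (by decide) (by decide))
  obtain ⟨w5, hw5⟩ := K.exists_lift (Cover.swap_mul_swap_mem 0 6 1 7 (by decide) (by decide))
  obtain ⟨w6, hw6⟩ := K.exists_lift (Cover.swap_mul_swap_mem 2 4 3 5 (by decide) (by decide))
  have s1 : w1 * w1 = K.z := K.dbl 0 2 1 3 (by decide) (by decide) (by decide) (by decide) (by decide) (by decide) _ hw1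
  have s2 : w2 * w2 = K.z := K.dbl 4 6 5 7 (by decide) (by decide) (by decide) (by decide) (by decide) (by decide) _ hw2
  have s3 : w3 * w3 = K.z := K.dbl 0 4 1 5 (by decide) (by decide) (by decide) (by decide) (by decide) (by decide) _ hw3
  have s4 : w4 * w4 = K.z := K.dbl 2 6 3 7 (by decide) (by decide) (by decide) (by decide) (by decide) (by decide) _ hw4
  have s5 : w5 * w5 = K.z := K.dbl 0 6 1 7 (by decide) (by decide) (by decide) (by decide) (by decide) (by decide) _ hw5
  have s6 : w6 * w6 = K.z := K.dbl 2 4 3 5 (by decide) (by decide) (by decide) (by decide) (by decide) (by decide) _ hw6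
  have c12 : w1 * w2 = w2 * w1 := K.commute_of_disjoint (by rw [hw1, hw2]; intro x; revert x; decide)
  have c34 : w3 * w4 = w4 * w3 := K.commute_of_disjoint (by rw [hw3, hw4]; intro x; revert x; decide)
  have c56 : w5 * w6 = w6 * w5 := K.commute_of_disjoint (by rw [hw5, hw6]; intro x; revert x; decide)
  have sq : ∀ {x y : C}, x * x = K.z → y * y = K.z → x * y = y * x → x * y * (x * y) = 1 := by
    intro x y hx hy hxy
    calc x * y * (x * y) = x * (y * x) * y := by group
      _ = (x * x) * (y * y) := by rw [← hxy]; group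
      _ = 1 := by rw [hx, hy, hzz]
  set h := w1 * w2 with hh
  set k := w3 * w4 with hk
  have hhh : h * h = 1 := sq s1 s2 c12
  have hkk : k * k = 1 := sq s3 s4 c34
  have πh : K.π h = swap 0 2 * swap 1 3 * (swap 4 6 * swap 5 7) := by rw [hh, map_mul, hw1, hw2]
  have πk : K.π k = swap 0 4 * swap 1 5 * (swap 2 6 * swap 3 7) := by rw [hk, map_mul, hw3, hw4]
  have hkh : k * h * (k * h) = 1 := by
    have h1 : k * h = w5 * w6 ∨ k * h = w5 * w6 * K.z := K.lift_eq (by
      rw [map_mul, πh, πk, map_mul, hw5, hw6]; decide)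
    rcases h1 with h1 | h1
    · rw [h1]; exact sq s5 s6 c56
    · rw [h1]
      calc w5 * w6 * K.z * (w5 * w6 * K.z) = w5 * w6 * (K.z * (w5 * w6)) * K.z := by group
        _ = w5 * w6 * (w5 * w6) * (K.z * K.z) := by rw [← hzc (w5 * w6)]; group
        _ = 1 := by rw [sq s5 s6 c56, hzz, one_mul]
  have hinv : h⁻¹ = h := inv_eq_of_mul_eq_one_left hhh
  have kinv : k⁻¹ = k := inv_eq_of_mul_eq_one_left hkk
  have kh : k * h = h * k := by
    have : k * h = (k * h)⁻¹ := eq_inv_of_mul_eq_one_left hkh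
    rw [this, mul_inv_rev, hinv, kinv]
  -- conjugation formulas
  have ev : ∀ {y : C} {a b c d : Fin 8} (a' b' c' d' : Fin 8), K.π y a = a' → K.π y b = b' → K.π y c = c' →
      K.π y d = d' → a ≠ b → a ≠ c → a ≠ d → b ≠ c → c ≠ d → y * DD a b c d * y⁻¹ = DD a' b' c' d' := by
    intro y a b c d a' b' c' d' h1 h2 h3 h4 h5 h6 h7 h8 h9
    rw [cD y a b c d h5 h6 h7 h8 h9, h1, h2, h3, h4]
  have sw : ∀ a b c d : Fin 8, a ≠ b → a ≠ c → a ≠ d → b ≠ c → c ≠ d → b ≠ d → DD c d a b = DD a b c d * K.z :=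
    fun a b c d h1 h2 h3 h4 h5 h6 => D_swap K h1 h2 h3 h4 h5 h6
  set g := DD 0 1 6 7 with hg
  have hu1 : h * u * h⁻¹ = u * K.z := by
    rw [ev (y := h) 2 3 0 1 (by rw [πh]; decide) (by rw [πh]; decide) (by rw [πh]; decide) (by rw [πh]; decide)
      (by decide) (by decide) (by decide) (by decide) (by decide)]
    exact sw 0 1 2 3 (by decide) (by decide) (by decide) (by decide) (by decide) (by decide)
  have hv1 : h * v * h⁻¹ = v * K.z := by
    rw [ev (y := h) 6 7 4 5 (by rw [πh]; decide) (by rw [πh]; decide) (by rw [πh]; decide) (by rw [πh]; decide)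
      (by decide) (by decide) (by decide) (by decide) (by decide)]
    exact sw 4 5 6 7 (by decide) (by decide) (by decide) (by decide) (by decide) (by decide)
  have hf1 : h * f * h⁻¹ = g :=
    ev (y := h) 0 1 6 7 (by rw [πh]; decide) (by rw [πh]; decide) (by rw [πh]; decide) (by rw [πh]; decide)
      (by decide) (by decide) (by decide) (by decide) (by decide)
  have ku1 : k * u * k⁻¹ = v :=
    ev (y := k) 4 5 6 7 (by rw [πk]; decide) (by rw [πk]; decide) (by rw [πk]; decide) (by rw [πk]; decide)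
      (by decide) (by decide) (by decide) (by decide) (by decide)
  have kv1 : k * v * k⁻¹ = u :=
    ev (y := k) 0 1 2 3 (by rw [πk]; decide) (by rw [πk]; decide) (by rw [πk]; decide) (by rw [πk]; decide)
      (by decide) (by decide) (by decide) (by decide) (by decide)
  have kf1 : k * f * k⁻¹ = g * K.z := by
    rw [ev (y := k) 6 7 0 1 (by rw [πk]; decide) (by rw [πk]; decide) (by rw [πk]; decide) (by rw [πk]; decide)
      (by decide) (by decide) (by decide) (by decide) (by decide)]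
    exact sw 0 1 6 7 (by decide) (by decide) (by decide) (by decide) (by decide) (by decide)
  -- `g = u f v`
  have hgeq : g = u * f * v := by
    set g1 := DD 0 1 4 5 with hg1
    obtain ⟨y, hy⟩ := K.exists_lift (σ := swap 2 4 * swap 4 6 * (swap 3 5 * swap 5 7)) (by
      rw [Perm.mem_alternatingGroup]; decide)
    have y1 : y * u * y⁻¹ = g1 :=
      ev (y := y) 0 1 4 5 (by rw [hy]; decide) (by rw [hy]; decide) (by rw [hy]; decide) (by rw [hy]; decide)
        (by decide) (by decide) (by decide) (by decide) (by decide)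
    have y2 : y * f * y⁻¹ = v :=
      ev (y := y) 4 5 6 7 (by rw [hy]; decide) (by rw [hy]; decide) (by rw [hy]; decide) (by rw [hy]; decide)
        (by decide) (by decide) (by decide) (by decide) (by decide)
    have y3 : y * g1 * y⁻¹ = g :=
      ev (y := y) 0 1 6 7 (by rw [hy]; decide) (by rw [hy]; decide) (by rw [hy]; decide) (by rw [hy]; decide)
        (by decide) (by decide) (by decide) (by decide) (by decide)
    have h1 : u * f = g1 ∨ u * f = g1 * K.z := K.lift_eq (by
      rw [map_mul, πu, πf, hg1, πD _ _ _ _ (by decide) (by decide) (by decide) (by decide) (by decide) (by decide)]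
      decide)
    rcases h1 with h1 | h1
    · have h2 : g1 * v = g := by
        rw [← y1, ← y2, ← y3, ← h1]; group
      rw [h1, h2]
    · have h2 : g1 * v = g * K.z := by
        have h3 : y * (u * f) * y⁻¹ = g1 * v := by rw [← y1, ← y2]; group
        rw [← h3, h1, ← y3]
        calc y * (g1 * K.z) * y⁻¹ = y * g1 * (K.z * y⁻¹) := by group
          _ = y * g1 * y⁻¹ * K.z := by rw [← hzc y⁻¹]; group
      rw [h1]
      calc g = g * (K.z * K.z) := by rw [hzz, mul_one]
        _ = g1 * v * K.z := by rw [h2, mul_assoc]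
        _ = g1 * (v * K.z) := by group
        _ = g1 * (K.z * v) := by rw [hzc]
        _ = g1 * K.z * v := by group
  have fu : f * u = u * f * K.z := by rw [uf, mul_assoc, hzz, mul_one]
  refine ⟨u, v, f, h, k, ⟨hzz, (hzc u).symm, (hzc v).symm, (hzc f).symm, (hzc h).symm, (hzc k).symm, uu, vv, ff,
    uv.symm, fu, vf, hhh, hkk, kh, ?_, ?_, ?_, mul_eq_of_conj hkk ku1, mul_eq_of_conj hkk kv1, ?_⟩,
    K.lift_eq (by rw [ht, map_mul, πu, πv])⟩
  · exact (mul_eq_of_conj hhh hu1).trans (mul_assoc _ _ _).symm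
  · exact (mul_eq_of_conj hhh hv1).trans (mul_assoc _ _ _).symm
  · rw [mul_eq_of_conj hhh hf1, hgeq]
  · rw [mul_eq_of_conj hkk kf1, hgeq]

theorem exists_std {t : C} (ht : K.π t = swap 0 1 * swap 2 3 * (swap 4 5 * swap 6 7)) :
    ∃ (u f c d : C) (S : Subgroup C), FiveRel K.z t u f c d ∧ IsPGroup 2 S ∧ S ≤ centralizer {t} ∧
      u ∈ S ∧ f ∈ S ∧ c ∈ S ∧ d ∈ S ∧ K.z ∈ S ∧ t ∈ S := by
  obtain ⟨u, v, f, h, k, H, ht'⟩ := exists_gens K ht
  obtain ⟨c, d, hR, hc, hd⟩ := H.rel ht'
  obtain ⟨S, hS, hzS, huS, hvS, hfS, hhS, hkS, hmin⟩ := H.exists_subgroup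
  have htS : t ∈ S := by
    rcases ht' with rfl | rfl
    · exact S.mul_mem huS hvS
    · exact S.mul_mem (S.mul_mem huS hvS) hzS
  have hcS : c ∈ S := by
    rcases hc with rfl | rfl
    · exact S.mul_mem (S.mul_mem hhS huS) hfS
    · exact S.mul_mem hhS hfS
  have hdS : d ∈ S := by
    rcases hd with rfl | rfl
    · exact S.mul_mem hkS hfS
    · exact S.mul_mem hkS huS
  refine ⟨u, f, c, d, S, hR, hS, ?_, huS, hfS, hcS, hdS, hzS, htS⟩
  have cu : u ∈ centralizer {t} := mem_centralizer_singleton_iff.2 hR.tu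
  have cf : f ∈ centralizer {t} := mem_centralizer_singleton_iff.2 hR.tf
  have cc : c ∈ centralizer {t} := mem_centralizer_singleton_iff.2 hR.tc
  have cd : d ∈ centralizer {t} := mem_centralizer_singleton_iff.2 hR.td
  have ct : t ∈ centralizer {t} := mem_centralizer_singleton_iff.2 rfl
  have cz : K.z ∈ centralizer {t} := mem_centralizer_singleton_iff.2 (K.z_comm t).symm
  refine hmin _ cz cu ?_ cf ?_ ?_
  · -- v
    rcases ht' with h1 | h1
    · have : v = u⁻¹ * t := by rw [h1]; group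
      rw [this]
      exact mul_mem (inv_mem cu) ct
    · have : v = u⁻¹ * (t * K.z⁻¹) := by rw [h1]; group
      rw [this]
      exact mul_mem (inv_mem cu) (mul_mem ct (inv_mem cz))
  · -- h
    rcases hc with h1 | h1
    · have : h = c * f⁻¹ * u⁻¹ := by rw [h1]; group
      rw [this]
      exact mul_mem (mul_mem cc (inv_mem cf)) (inv_mem cu)
    · have : h = c * f⁻¹ := by rw [h1]; group
      rw [this]
      exact mul_mem cc (inv_mem cf)
  · rcases hd with h1 | h1
    · have : k = d * f⁻¹ := by rw [h1]; group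
      rw [this]
      exact mul_mem cd (inv_mem cf)
    · have : k = d * u⁻¹ := by rw [h1]; group
      rw [this]
      exact mul_mem cd (inv_mem cu)

end std

section general

variable {α : Type*} [Fintype α] [DecidableEq α] {C : Type*} [Group C] (K : Cover α C)

/-- The support of an involution with eight moved points, labelled in a standard way. -/
theorem exists_label {t : C} (hπ : K.π t * K.π t = 1) (h8 : (K.π t).support.card = 8) :
    ∃ (K8 : Cover (Fin 8) (K.sub (fun x => K.π t x ≠ x))) (ht : t ∈ K.sub (fun x => K.π t x ≠ x))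
      (e : {x // K.π t x ≠ x} ≃ Fin 8), K8 = (K.restrict (fun x => K.π t x ≠ x)).congr e ∧
      (K8.z : C) = K.z ∧ K8.π ⟨t, ht⟩ = swap 0 1 * swap 2 3 * (swap 4 5 * swap 6 7) := by
  set p : α → Prop := fun x => K.π t x ≠ x with hp
  have ht : t ∈ K.sub p := by
    intro x hx
    by_contra h
    exact hx h
  have hcard : Fintype.card {x // p x} = 8 := by
    rw [← h8, Fintype.card_subtype]
    congr 1
  let e0 : {x // p x} ≃ Fin 8 := Fintype.equivFinOfCardEq hcard
  let K0 : Cover (Fin 8) (K.sub p) := (K.restrict p).congr e0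
  have hK0 : ∀ (g : K.sub p) (x : {x // p x}), K0.π g (e0 x) = e0 ((K.restrict p).π g x) := by
    intro g x
    show e0 ((K.restrict p).π g (e0.symm (e0 x))) = _
    rw [Equiv.symm_apply_apply]
  have h1 : K0.π ⟨t, ht⟩ * K0.π ⟨t, ht⟩ = 1 := by
    ext x
    obtain ⟨y, rfl⟩ := e0.surjective x
    rw [Perm.mul_apply, hK0, hK0, Perm.one_apply]
    congr 2
    apply Subtype.ext
    show K.π t (K.π t y) = y
    rw [← Perm.mul_apply, hπ, Perm.one_apply]
  have h2 : (K0.π ⟨t, ht⟩).support.card = 8 := by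
    have : (K0.π ⟨t, ht⟩).support = Finset.univ := by
      ext x
      obtain ⟨y, rfl⟩ := e0.surjective x
      rw [Perm.mem_support, hK0]
      refine ⟨fun _ => Finset.mem_univ _, fun _ h => ?_⟩
      have h3 := e0.injective h
      exact y.2 (congrArg Subtype.val h3)
    rw [this, Finset.card_univ, Fintype.card_fin]
  have h3 : IsConj (K0.π ⟨t, ht⟩) (swap 0 1 * swap 2 3 * (swap 4 5 * swap 6 7)) := by
    have h4 : (swap 0 1 * swap 2 3 * (swap 4 5 * swap 6 7) : Perm (Fin 8)).support.card = 8 := by decide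
    have h5 : (swap 0 1 * swap 2 3 * (swap 4 5 * swap 6 7) : Perm (Fin 8)) *
      (swap 0 1 * swap 2 3 * (swap 4 5 * swap 6 7)) = 1 := by decide
    have h6 : K0.π ⟨t, ht⟩ ≠ 1 := by
      intro h; rw [h, Perm.support_one, Finset.card_empty] at h2; exact absurd h2 (by norm_num)
    obtain ⟨ρ, -, hρ⟩ := Cfsg.Agent.StandardComponent.CoverExtra.exists_even_conj h1 h5 h6 (h2.trans h4.symm)
    exact isConj_iff.2 ⟨ρ, hρ⟩
  obtain ⟨τ, hτ⟩ := isConj_iff.1 h3
  refine ⟨(K.restrict p).congr (e0.trans τ), ht, e0.trans τ, rfl, rfl, ?_⟩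
  rw [← hτ]
  ext x
  rfl

/-- The elements of (A5) in the centraliser of an involution `t` moving eight points. -/
theorem exists_local {t : C} (hπ : K.π t * K.π t = 1) (h8 : (K.π t).support.card = 8) :
    ∃ (u f c d : C) (S : Subgroup C), FiveRel K.z t u f c d ∧ IsPGroup 2 S ∧ S ≤ centralizer {t} ∧
      S ≤ K.sub (fun x => K.π t x ≠ x) ∧ u ∈ S ∧ f ∈ S ∧ c ∈ S ∧ d ∈ S ∧ K.z ∈ S ∧ t ∈ S := by
  obtain ⟨K8, ht, e, -, hz, hπ8⟩ := exists_label K hπ h8
  obtain ⟨u, f, c, d, S, hR, hS, hSt, hu, hf, hc, hd, hzS, htS⟩ := exists_std K8 hπ8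
  have hR' := hR.map (K.sub (fun x => K.π t x ≠ x)).subtype
  refine ⟨u, f, c, d, S.map (K.sub (fun x => K.π t x ≠ x)).subtype, ?_, hS.map _, ?_, ?_,
    mem_map_of_mem _ hu, mem_map_of_mem _ hf, mem_map_of_mem _ hc, mem_map_of_mem _ hd, ?_, ?_⟩
  · have h1 : (K.sub (fun x => K.π t x ≠ x)).subtype K8.z = K.z := hz
    rw [h1] at hR'
    exact hR'
  · rintro _ ⟨x, hx, rfl⟩
    have := mem_centralizer_singleton_iff.1 (hSt hx)
    exact mem_centralizer_singleton_iff.2 (congrArg Subtype.val this)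
  · rintro _ ⟨x, hx, rfl⟩
    exact x.2
  · rw [← hz]
    exact mem_map_of_mem _ hzS
  · exact mem_map_of_mem (K.sub (fun x => K.π t x ≠ x)).subtype htS

/-- (A5), group part: the elements in a given Sylow 2-subgroup of the centraliser. -/
theorem exists_sylow [Finite C] {t : C} (hπ : K.π t * K.π t = 1) (h8 : (K.π t).support.card = 8)
    (P : Sylow 2 (centralizer ({t} : Set C))) :
    ∃ u f c d : C, FiveRel K.z t u f c d ∧ ∃ (hu : u ∈ centralizer {t}) (hf : f ∈ centralizer {t})
      (hc : c ∈ centralizer {t}) (hd : d ∈ centralizer {t}) (hz : K.z ∈ centralizer {t})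
      (ht : t ∈ centralizer {t}), ⟨u, hu⟩ ∈ P ∧ ⟨f, hf⟩ ∈ P ∧ ⟨c, hc⟩ ∈ P ∧ ⟨d, hd⟩ ∈ P ∧ ⟨K.z, hz⟩ ∈ P ∧
        ⟨t, ht⟩ ∈ P := by
  obtain ⟨u, f, c, d, S, hR, hS, hSt, -, hu, hf, hc, hd, hz, ht⟩ := exists_local K hπ h8
  have hS' : IsPGroup 2 (S.subgroupOf (centralizer {t})) := hS.comap_subtype
  obtain ⟨Q, hQ⟩ := hS'.exists_le_sylow
  obtain ⟨g, hg⟩ := MulAction.exists_smul_eq (centralizer ({t} : Set C)) Q P
  have key : ∀ x (hx : x ∈ S), ∃ hx' : (g : C) * x * (g : C)⁻¹ ∈ centralizer ({t} : Set C), ⟨_, hx'⟩ ∈ P := by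
    intro x hx
    have h1 : (⟨x, hSt hx⟩ : centralizer ({t} : Set C)) ∈ Q := hQ (mem_subgroupOf.2 hx)
    have h2 : g * ⟨x, hSt hx⟩ * g⁻¹ ∈ P := by
      rw [← hg]
      exact ⟨⟨x, hSt hx⟩, h1, rfl⟩
    exact ⟨(g * ⟨x, hSt hx⟩ * g⁻¹).2, h2⟩
  have hgt : (g : C) * t * (g : C)⁻¹ = t := by
    rw [mul_inv_eq_iff_eq_mul]
    exact mem_centralizer_singleton_iff.1 g.2
  have hgz : (g : C) * K.z * (g : C)⁻¹ = K.z := by rw [K.z_comm, mul_inv_cancel_right]
  obtain ⟨ku, ku'⟩ := key u hu
  obtain ⟨kf, kf'⟩ := key f hf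
  obtain ⟨kc, kc'⟩ := key c hc
  obtain ⟨kd, kd'⟩ := key d hd
  obtain ⟨kz, kz'⟩ := key K.z hz
  obtain ⟨kt, kt'⟩ := key t ht
  have hR' := hR.map (MulAut.conj (g : C)).toMonoidHom
  have e1 : (MulAut.conj (g : C)).toMonoidHom K.z = K.z := hgz
  have e2 : (MulAut.conj (g : C)).toMonoidHom t = t := hgt
  rw [e1, e2] at hR'
  refine ⟨_, _, _, _, hR', ku, kf, kc, kd, ?_, ?_, ku', kf', kc', kd', ?_, ?_⟩
  · rwa [hgz] at kz
  · rwa [hgt] at kt
  · simp only [hgz] at kz'; exact kz'
  · simp only [hgt] at kt'; exact kt'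

/-- (A5): combination of the group part and the permutation part. -/
theorem FiveRel.central {D : Type*} [Group D] {z t u f c d : D} (hR : FiveRel z t u f c d) (hz : z * z = 1)
    {β : Type*} [Fintype β] [DecidableEq β] (ψ : D →* Perm β) (ht : ψ t = 1) (h8 : (ψ z).support.card = 8)
    {σ : Perm β} (hu : σ * ψ u = ψ u * σ) (hf : σ * ψ f = ψ f * σ) (hc : σ * ψ c = ψ c * σ)
    (hd : σ * ψ d = ψ d * σ) :
    (∀ x ∈ (ψ z).support, σ x = x) ∨ (∀ x ∈ (ψ z).support, σ x = ψ z x) := by
  have hR' := hR.map ψ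
  rw [ht] at hR'
  refine perm_central (Z := ψ z) (A := ψ u) (B := ψ f) (C := ψ c) (D := ψ d) (by rw [← map_mul, hz, map_one]) h8
    hR'.uu hR'.ff hR'.uf ?_ ?_ ?_ ?_ ?_ hu hf hc hd
  · rcases hR'.cu with h | h
    · exact h
    · rw [h, mul_one]
  · rcases hR'.cf with h | h
    · exact h
    · rw [h, mul_one]
  · rcases hR'.du with h | h
    · exact h
    · rw [h, mul_one]
  · rcases hR'.df with h | h
    · exact h
    · rw [h, mul_one]
  · rcases hR'.cd with h | h
    · exact h
    · rw [h, mul_one]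

/-- (A5): a permutation commuting with the image of a Sylow 2-subgroup of the centraliser of a non-central involution
`t` under a homomorphism killing `t` and mapping `z` to a permutation moving eight points. -/
theorem central_of_sylow [Finite C] {t : C} (hπ : K.π t * K.π t = 1) (h8 : (K.π t).support.card = 8)
    (P : Sylow 2 (centralizer ({t} : Set C))) {β : Type*} [Fintype β] [DecidableEq β]
    (ψ : (P : Subgroup (centralizer ({t} : Set C))) →* Perm β)
    (ht : ∀ x : (P : Subgroup (centralizer ({t} : Set C))), ((x : centralizer ({t} : Set C)) : C) = t → ψ x = 1)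
    (hz : ∀ x : (P : Subgroup (centralizer ({t} : Set C))), ((x : centralizer ({t} : Set C)) : C) = K.z →
      (ψ x).support.card = 8)
    {σ : Perm β} (hσ : ∀ x, σ * ψ x = ψ x * σ) :
    ∀ x : (P : Subgroup (centralizer ({t} : Set C))), ((x : centralizer ({t} : Set C)) : C) = K.z →
      (∀ i ∈ (ψ x).support, σ i = i) ∨ (∀ i ∈ (ψ x).support, σ i = ψ x i) := by
  obtain ⟨u, f, c, d, hR, hu, hf, hc, hd, hzm, htm, hu', hf', hc', hd', hz', ht'⟩ := exists_sylow K hπ h8 P
  intro x hx
  have hxe : x = ⟨⟨K.z, hzm⟩, hz'⟩ := Subtype.ext (Subtype.ext hx)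
  subst hxe
  have hR' : FiveRel (⟨⟨K.z, hzm⟩, hz'⟩ : (P : Subgroup (centralizer ({t} : Set C)))) ⟨⟨t, htm⟩, ht'⟩ ⟨⟨u, hu⟩, hu'⟩
      ⟨⟨f, hf⟩, hf'⟩ ⟨⟨c, hc⟩, hc'⟩ ⟨⟨d, hd⟩, hd'⟩ := by
    have e : ∀ {a b : (P : Subgroup (centralizer ({t} : Set C)))},
        ((a : centralizer ({t} : Set C)) : C) = ((b : centralizer ({t} : Set C)) : C) → a = b :=
      fun h => Subtype.ext (Subtype.ext h)
    exact ⟨e hR.tu, e hR.tf, e hR.tc, e hR.td, e hR.uu, e hR.ff, e hR.uf, hR.cu.imp e e, hR.cf.imp e e,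
      hR.du.imp e e, hR.df.imp e e, hR.cd.imp e e⟩
  exact hR'.central (Subtype.ext (Subtype.ext K.z_mul_z)) ψ (ht _ rfl) (hz _ rfl) (hσ _) (hσ _) (hσ _) (hσ _)

end general

end Cfsg.Agent.Intrinsic.AnFive
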