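import Cfsg.Agent.Intrinsic.AnTypes
import Cfsg.Agent.Intrinsic.Basic
import Cfsg.Agent.Intrinsic.Lifting
import Cfsg.Agent.SporRec.TwoAnEleven

/-!
# The centralizer of a noncentral involution of `2.A₁₂` (fact (A4) of S1738)
-/

set_option autoImplicit false
set_option linter.unusedSectionVars false

namespace Cfsg.Agent.Intrinsic.AnTwelve

open Equiv Subgroup Cfsg.Agent.SporRec.TwoAn Cfsg.Agent.Intrinsic.AnLift Cfsg.Agent.Intrinsic.AnTypes

/-! ### Two commuting subgroups of order 3 -/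

theorem nine_dvd_card {Q : Type*} [Group Q] {c d : Q} (hc : c ^ 3 = 1) (hd : d ^ 3 = 1)
    (hcd : c * d = d * c) (hc1 : c ≠ 1) (hdc : d ∉ zpowers c) : 9 ∣ Nat.card Q := by
  have h3 : Fact (Nat.Prime 3) := ⟨Nat.prime_three⟩
  have hd1 : d ≠ 1 := fun h => hdc (by rw [h]; exact one_mem _)
  have oc : orderOf c = 3 := orderOf_eq_prime hc hc1
  have od : orderOf d = 3 := orderOf_eq_prime hd hd1
  have hcomm : ∀ (m : zpowers c) (n : zpowers d), Commute ((zpowers c).subtype m) ((zpowers d).subtype n) := by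
    rintro ⟨_, i, rfl⟩ ⟨_, j, rfl⟩
    exact (show Commute c d from hcd).zpow_zpow i j
  have hinj : Function.Injective (MonoidHom.noncommCoprod (zpowers c).subtype (zpowers d).subtype hcomm) := by
    rw [MonoidHom.noncommCoprod_injective]
    refine ⟨Subtype.val_injective, Subtype.val_injective, ?_⟩
    rw [Subgroup.range_subtype, Subgroup.range_subtype, Subgroup.disjoint_def]
    intro x h1 h2
    by_contra hx
    have : Fact (Nat.Prime (Nat.card (zpowers d))) := ⟨by rw [Nat.card_zpowers, od]; exact Nat.prime_three⟩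
    have h4 := mem_zpowers_of_prime_card (G := zpowers d) rfl (g := ⟨x, h2⟩) (g' := ⟨d, mem_zpowers d⟩)
      (fun h => hx (congrArg Subtype.val h))
    obtain ⟨k, hk⟩ := h4
    have hk' : x ^ k = d := congrArg Subtype.val hk
    exact hdc (by rw [← hk']; exact zpow_mem h1 k)
  have h9 := Subgroup.card_dvd_of_injective _ hinj
  rwa [Nat.card_prod, Nat.card_zpowers, Nat.card_zpowers, oc, od] at h9

variable {α : Type*} [Fintype α] [DecidableEq α] {C : Type*} [Group C] (K : Cover α C)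

/-! ### The four fixed points -/

theorem comm_fixed {p q r s : α} (h1 : p ≠ q) (h2 : p ≠ r) (h3 : p ≠ s) (h4 : q ≠ r) (h5 : r ≠ s) (h6 : q ≠ s) :
    (t K p q r * D K p q r s * (t K p q r)⁻¹ * (D K p q r s)⁻¹) *
      (t K p q r * D K p q r s * (t K p q r)⁻¹ * (D K p q r s)⁻¹) = K.z := by
  refine K.dbl p r q s h2 h1 h3 h4.symm h5 h6 _ ?_
  have e1 : K.π (t K p q r) p = q := by
    rw [π_t K h1 h2 h4, Perm.mul_apply, swap_apply_of_ne_of_ne h1 h2, swap_apply_left]
  have e2 : K.π (t K p q r) q = r := by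
    rw [π_t K h1 h2 h4, Perm.mul_apply, swap_apply_left, swap_apply_of_ne_of_ne h2.symm h4.symm]
  have e3 : K.π (t K p q r) r = p := by
    rw [π_t K h1 h2 h4, Perm.mul_apply, swap_apply_right, swap_apply_right]
  have e4 : K.π (t K p q r) s = s := by
    rw [π_t K h1 h2 h4, Perm.mul_apply, swap_apply_of_ne_of_ne h6.symm h5.symm, swap_apply_of_ne_of_ne h3.symm h6.symm]
  rw [conj_D K (t K p q r) h1 h2 h3 h4 h5, e1, e2, e3, e4, map_mul, map_inv, π_D K h4 h1.symm h6 h2.symm h3 h5,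
    π_D K h1 h2 h3 h4 h5 h6, mul_inv_rev, swap_inv, swap_inv]
  ext x
  rw [Perm.mul_apply, Perm.mul_apply, Perm.mul_apply, Perm.mul_apply]
  by_cases x1 : x = p
  · rw [x1, swap_apply_left, swap_apply_of_ne_of_ne h4 h6, swap_apply_of_ne_of_ne h1.symm h6, swap_apply_left,
      swap_apply_of_ne_of_ne h1 h3, swap_apply_left]
  by_cases x2 : x = q
  · rw [x2, swap_apply_right, swap_apply_of_ne_of_ne h2 h3, swap_apply_left, swap_apply_of_ne_of_ne h6.symm h5.symm,
      swap_apply_left, swap_apply_of_ne_of_ne h3.symm h5.symm]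
  by_cases x3 : x = r
  · rw [x3, swap_apply_of_ne_of_ne h2.symm h4.symm, swap_apply_left, swap_apply_right,
      swap_apply_of_ne_of_ne h1 h2, swap_apply_of_ne_of_ne h4.symm h5, swap_apply_right]
  by_cases x4 : x = s
  · rw [x4, swap_apply_of_ne_of_ne h3.symm h6.symm, swap_apply_right, swap_apply_of_ne_of_ne h2.symm h5,
      swap_apply_right, swap_apply_right, swap_apply_of_ne_of_ne h1.symm h4]
  · rw [swap_apply_of_ne_of_ne x1 x2, swap_apply_of_ne_of_ne x3 x4, swap_apply_of_ne_of_ne x1 x4,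
      swap_apply_of_ne_of_ne x2 x3, swap_apply_of_ne_of_ne x2 x4, swap_apply_of_ne_of_ne x1 x3]

/-! ### The blocks -/

theorem comm_blocks {σ : Perm α} (e : Fin 8 ↪ α) (h01 : σ (e 0) = e 1) (h23 : σ (e 2) = e 3) (h45 : σ (e 4) = e 5) :
    (R K σ (e 0) (e 2) (e 4) * D K (e 0) (e 1) (e 2) (e 3) * (R K σ (e 0) (e 2) (e 4))⁻¹ *
      (D K (e 0) (e 1) (e 2) (e 3))⁻¹) * (R K σ (e 0) (e 2) (e 4) * D K (e 0) (e 1) (e 2) (e 3) *
      (R K σ (e 0) (e 2) (e 4))⁻¹ * (D K (e 0) (e 1) (e 2) (e 3))⁻¹) = K.z := by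
  have hR : K.π (R K σ (e 0) (e 2) (e 4)) = V e (swap 0 2 * swap 2 4 * (swap 1 3 * swap 3 5)) := by
    unfold R
    rw [map_mul, h01, h23, h45, π_t' K e (by decide), π_t' K e (by decide), ← map_mul]
  have e0 : K.π (R K σ (e 0) (e 2) (e 4)) (e 0) = e 2 := by rw [hR, V_apply]; rfl
  have e1 : K.π (R K σ (e 0) (e 2) (e 4)) (e 1) = e 3 := by rw [hR, V_apply]; rfl
  have e2 : K.π (R K σ (e 0) (e 2) (e 4)) (e 2) = e 4 := by rw [hR, V_apply]; rfl
  have e3 : K.π (R K σ (e 0) (e 2) (e 4)) (e 3) = e 5 := by rw [hR, V_apply]; rfl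
  have hc := conj_D K (R K σ (e 0) (e 2) (e 4)) (a := e 0) (b := e 1) (c := e 2) (d := e 3)
    (e.injective.ne (by decide)) (e.injective.ne (by decide)) (e.injective.ne (by decide))
    (e.injective.ne (by decide)) (e.injective.ne (by decide))
  rw [e0, e1, e2, e3] at hc
  rw [hc]
  have h : K.π (D K (e 2) (e 3) (e 4) (e 5) * (D K (e 0) (e 1) (e 2) (e 3))⁻¹) = V e (swap 0 1 * swap 4 5) := by
    rw [map_mul, map_inv, π_D' K e (by decide), π_D' K e (by decide), ← map_inv, ← map_mul]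
    congr 1
    decide
  exact K.dbl (e 0) (e 1) (e 4) (e 5) (e.injective.ne (by decide)) (e.injective.ne (by decide))
    (e.injective.ne (by decide)) (e.injective.ne (by decide)) (e.injective.ne (by decide))
    (e.injective.ne (by decide)) _ (by rw [h, map_mul, V_swap, V_swap])

theorem π_R (e : Fin 8 ↪ α) {σ : Perm α} (h01 : σ (e 0) = e 1) (h23 : σ (e 2) = e 3) (h45 : σ (e 4) = e 5) :
    K.π (R K σ (e 0) (e 2) (e 4)) = V e (swap 0 2 * swap 2 4 * (swap 1 3 * swap 3 5)) := by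
  unfold R
  rw [map_mul, h01, h23, h45, π_t' K e (by decide), π_t' K e (by decide), ← map_mul]

/-- In a quotient of the centralizer of a noncentral involution of `2.A₁₂` in which `z` survives there are two
commuting independent elements of order 3. -/
theorem nine_dvd_index (h12 : Fintype.card α = 12) {x : C} (hx : x * x = 1) (hx1 : K.π x ≠ 1)
    (N : Subgroup ↥(centralizer ({x} : Set C))) [N.Normal] (hz : ∀ n ∈ N, (n : C) ≠ K.z) : 9 ∣ N.index := by
  have h8 : (K.π x).support.card = 8 := by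
    obtain ⟨m, hm⟩ := (K.sq_eq_one_iff.1 hx).2
    have h1 : (K.π x).support.card ≠ 0 := by
      rw [Ne, Finset.card_eq_zero, Perm.support_eq_empty_iff]
      exact hx1
    have h2 : (K.π x).support.card ≤ 12 := h12 ▸ Finset.card_le_univ _
    omega
  set σ := K.π x with hσdef
  have h2 : σ * σ = 1 := by rw [hσdef, ← map_mul, hx, map_one]
  have hσ : ∀ a, σ (σ a) = a := fun a => by rw [← Perm.mul_apply, h2, Perm.one_apply]
  have hf : ∀ g, K.π ((MulAut.conj x).toMonoidHom g) = σ * K.π g * σ⁻¹ := fun g => by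
    show K.π (x * g * x⁻¹) = _
    rw [map_mul, map_mul, map_inv]
  obtain ⟨e, h45, h67, hcase⟩ := exists_letters h2 (by omega) (by omega)
  rcases hcase with ⟨h01, h23⟩ | ⟨h, -⟩ | ⟨h, -⟩
  rotate_left
  · omega
  · omega
  have hmv : ∀ i, σ (e i) ≠ e i := by
    have h10 : σ (e 1) = e 0 := by rw [h01, hσ]
    have h32 : σ (e 3) = e 2 := by rw [h23, hσ]
    have h54 : σ (e 5) = e 4 := by rw [h45, hσ]
    have h76 : σ (e 7) = e 6 := by rw [h67, hσ]
    intro i
    fin_cases i
    · show σ (e 0) ≠ e 0; rw [← h01]; exact e.injective.ne (by decide)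
    · show σ (e 1) ≠ e 1; rw [h10]; exact e.injective.ne (by decide)
    · show σ (e 2) ≠ e 2; rw [← h23]; exact e.injective.ne (by decide)
    · show σ (e 3) ≠ e 3; rw [h32]; exact e.injective.ne (by decide)
    · show σ (e 4) ≠ e 4; rw [← h45]; exact e.injective.ne (by decide)
    · show σ (e 5) ≠ e 5; rw [h54]; exact e.injective.ne (by decide)
    · show σ (e 6) ≠ e 6; rw [← h67]; exact e.injective.ne (by decide)
    · show σ (e 7) ≠ e 7; rw [h76]; exact e.injective.ne (by decide)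
  have hVf : ∀ (s : Perm (Fin 8)) (a : α), σ a = a → V e s a = a := by
    intro s a ha
    apply V_apply_of_notMem
    rintro ⟨i, rfl⟩
    exact hmv i ha
  -- the four fixed points
  obtain ⟨p, hp, -⟩ := exists_fixed σ ∅ (by rw [h8, h12, Finset.card_empty]; omega)
  obtain ⟨q, hq, hq'⟩ := exists_fixed σ {p} (by rw [h8, h12, Finset.card_singleton]; omega)
  obtain ⟨r, hr, hr'⟩ := exists_fixed σ {p, q} (by
    have := Finset.card_le_two (a := p) (b := q); omega)
  obtain ⟨s, hs, hs'⟩ := exists_fixed σ {p, q, r} (by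
    have := Finset.card_le_three (a := p) (b := q) (c := r); omega)
  simp only [Finset.mem_insert, Finset.mem_singleton, not_or] at hq' hr' hs'
  obtain ⟨hrp, hrq⟩ := hr'
  obtain ⟨hsp, hsq, hsr⟩ := hs'
  -- the elements
  have hcent : ∀ {y : C}, (MulAut.conj x).toMonoidHom y = y → y ∈ centralizer ({x} : Set C) := by
    intro y hy
    have h : x * y * x⁻¹ = y := hy
    rw [mul_inv_eq_iff_eq_mul] at h
    exact mem_centralizer_singleton_iff.2 h.symm
  have hc1 : t K p q r ∈ centralizer ({x} : Set C) := hcent (by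
    rw [map_t K hf (Ne.symm hq') (Ne.symm hrp) (Ne.symm hrq), hp, hq, hr])
  have ha1 : D K p q r s ∈ centralizer ({x} : Set C) := hcent (by
    rw [map_D K hf (Ne.symm hq') (Ne.symm hrp) (Ne.symm hsp) (Ne.symm hrq) (Ne.symm hsr), hp, hq, hr, hs])
  have hcc : t K (e 0) (e 2) (e 4) * t K (σ (e 0)) (σ (e 2)) (σ (e 4)) =
      t K (σ (e 0)) (σ (e 2)) (σ (e 4)) * t K (e 0) (e 2) (e 4) := by
    rw [← h01, ← h23, ← h45]
    apply comm_of_disjoint K
    rw [π_t' K e (by decide), π_t' K e (by decide)]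
    exact V_disjoint e (by intro x; revert x; decide)
  have hc2 : R K σ (e 0) (e 2) (e 4) ∈ centralizer ({x} : Set C) := hcent
    (R_fix K hf hσ (e.injective.ne (by decide)) (e.injective.ne (by decide)) (e.injective.ne (by decide)) hcc)
  have ha2 : D K (e 0) (e 1) (e 2) (e 3) ∈ centralizer ({x} : Set C) := hcent (by
    have := fix_block K hf h2 (a := e 0) (c := e 2) (hmv 0) (hmv 2) (e.injective.ne (by decide))
      (by rw [← h01]; exact e.injective.ne (by decide))
    rwa [← h01, ← h23] at this)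
  have hdis : ∀ y : C, ∀ w : Perm (Fin 8), K.π y = V e w → t K p q r * y = y * t K p q r := by
    intro y w hw
    apply comm_of_disjoint K
    intro a
    rw [hw]
    by_cases ha : σ a = a
    · right; exact hVf w a ha
    · left
      rw [π_t K (Ne.symm hq') (Ne.symm hrp) (Ne.symm hrq), Perm.mul_apply]
      have n1 : a ≠ p := fun h => ha (by rw [h, hp])
      have n2 : a ≠ q := fun h => ha (by rw [h, hq])
      have n3 : a ≠ r := fun h => ha (by rw [h, hr])
      rw [swap_apply_of_ne_of_ne n2 n3, swap_apply_of_ne_of_ne n1 n2]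
  have h12' : t K p q r * R K σ (e 0) (e 2) (e 4) = R K σ (e 0) (e 2) (e 4) * t K p q r :=
    hdis _ _ (π_R K e h01.symm h23.symm h45.symm)
  have h1a : t K p q r * D K (e 0) (e 1) (e 2) (e 3) = D K (e 0) (e 1) (e 2) (e 3) * t K p q r :=
    hdis _ _ (π_D' K e (by decide))
  have hk1 := comm_fixed K (Ne.symm hq') (Ne.symm hrp) (Ne.symm hsp) (Ne.symm hrq) (Ne.symm hsr) (Ne.symm hsq)
  have hk2 := comm_blocks K e h01.symm h23.symm h45.symm
  -- pass to the quotient
  set c1 : ↥(centralizer ({x} : Set C)) := ⟨t K p q r, hc1⟩ with hc1d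
  set a1 : ↥(centralizer ({x} : Set C)) := ⟨D K p q r s, ha1⟩ with ha1d
  set c2 : ↥(centralizer ({x} : Set C)) := ⟨R K σ (e 0) (e 2) (e 4), hc2⟩ with hc2d
  set a2 : ↥(centralizer ({x} : Set C)) := ⟨D K (e 0) (e 1) (e 2) (e 3), ha2⟩ with ha2d
  have n1 : c1 * a1 * c1⁻¹ * a1⁻¹ ∉ N := fun h =>
    hz ((c1 * a1 * c1⁻¹ * a1⁻¹) * (c1 * a1 * c1⁻¹ * a1⁻¹)) (mul_mem h h) hk1
  have n2 : c2 * a2 * c2⁻¹ * a2⁻¹ ∉ N := fun h =>
    hz ((c2 * a2 * c2⁻¹ * a2⁻¹) * (c2 * a2 * c2⁻¹ * a2⁻¹)) (mul_mem h h) hk2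
  have e12 : c1 * c2 = c2 * c1 := Subtype.ext h12'
  have e1a : c1 * a2 = a2 * c1 := Subtype.ext h1a
  have c13 : c1 ^ 3 = 1 := Subtype.ext (t_cube K p q r)
  have c23 : c2 ^ 3 = 1 := Subtype.ext (R_cube K hcc)
  have hQ := nine_dvd_card (Q := ↥(centralizer ({x} : Set C)) ⧸ N) (c := QuotientGroup.mk' N c1) (d := QuotientGroup.mk' N c2)
    (by rw [← map_pow, c13, map_one]) (by rw [← map_pow, c23, map_one])
    (by rw [← map_mul, e12, map_mul]) (by
      intro h
      apply n1
      rw [← QuotientGroup.ker_mk' N, MonoidHom.mem_ker, map_mul, map_mul, map_mul, map_inv, map_inv, h, one_mul, inv_one,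
        mul_one, mul_inv_cancel]) (by
      rintro ⟨k, hk⟩
      apply n2
      have hk' : QuotientGroup.mk' N c1 ^ k = QuotientGroup.mk' N c2 := hk
      rw [← map_zpow] at hk'
      rw [← QuotientGroup.ker_mk' N, MonoidHom.mem_ker, map_mul, map_mul, map_mul, map_inv, map_inv, ← hk', ← map_mul,
        ((show Commute c1 a2 from e1a).zpow_left k).eq, map_mul, mul_inv_cancel_right, mul_inv_cancel])
  exact hQ

/-! ### The centralizer of a regular involution on 8 points -/

theorem card_centralizer {γ : Type*} [Fintype γ] [DecidableEq γ] (hγ : Fintype.card γ = 8) {g : Perm γ}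
    (hg : g * g = 1) (h8 : g.support.card = 8) : Nat.card (centralizer ({g} : Set (Perm γ))) = 384 := by
  rw [Perm.nat_card_centralizer, Cfsg.Agent.SporRec.TwoAnEleven.cycleType_of_involution hg (k := 4) h8, hγ]
  decide

section Res

variable {Y : Type*} [Group Y] {β : Type*} [Fintype β] [DecidableEq β] (ψ : Y →* Perm β) {u : Y}

theorem res_aux (huc : ∀ y, y * u = u * y) (y : Y) (b : β) : ψ y b ∈ (ψ u).support ↔ b ∈ (ψ u).support := by
  rw [Perm.mem_support, Perm.mem_support, ← Perm.mul_apply, ← map_mul, ← huc, map_mul, Perm.mul_apply]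
  exact (ψ y).injective.ne_iff

/-- The action of `Y` on the points moved by the central element `u`. -/
def res (huc : ∀ y, y * u = u * y) : Y →* Perm {b // b ∈ (ψ u).support} where
  toFun y := (ψ y).subtypePerm (res_aux ψ huc y)
  map_one' := by
    ext b
    show ψ 1 b = b
    rw [map_one, Perm.one_apply]
  map_mul' y1 y2 := by
    ext b
    show ψ (y1 * y2) b = ψ y1 (ψ y2 b)
    rw [map_mul, Perm.mul_apply]

theorem res_apply (huc : ∀ y, y * u = u * y) (y : Y) (b : {b // b ∈ (ψ u).support}) :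
    (res ψ huc y b : β) = ψ y b := rfl

theorem index_dvd [Finite Y] (huc : ∀ y, y * u = u * y) (hu : u * u = 1) (h8 : (ψ u).support.card = 8) :
    (res ψ huc).ker.index ∣ 384 ∧ u ∉ (res ψ huc).ker := by
  have hg : res ψ huc u * res ψ huc u = 1 := by rw [← map_mul, hu, map_one]
  have hγ : Fintype.card {b // b ∈ (ψ u).support} = 8 := by rw [Fintype.card_coe, h8]
  have hs : (res ψ huc u).support = Finset.univ := by
    ext b
    simp only [Perm.mem_support, Finset.mem_univ, iff_true]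
    intro h
    exact (Perm.mem_support.1 b.2) (congrArg Subtype.val h)
  have hc := card_centralizer hγ hg (by rw [hs, Finset.card_univ, hγ])
  refine ⟨?_, ?_⟩
  · rw [← hc, Subgroup.index_ker]
    apply Subgroup.card_dvd_of_le
    rintro _ ⟨y, rfl⟩
    rw [mem_centralizer_singleton_iff, ← map_mul, huc, map_mul]
  · intro h
    rw [MonoidHom.mem_ker] at h
    have hne : (ψ u).support.Nonempty := by rw [← Finset.card_pos, h8]; omega
    obtain ⟨b, hb⟩ := hne
    have := congrArg (fun g => ((g ⟨b, hb⟩ : {b // b ∈ (ψ u).support}) : β)) h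
    exact (Perm.mem_support.1 hb) this

end Res

/-- **(A4)** Let `Y` map onto the centralizer of a noncentral involution of `2.A₁₂` with odd kernel, `u` a central
involution of `Y` over `z`, and let `Y` act on fewer than 16 points.  If `u` moves exactly 8 points: contradiction. -/
theorem false_of_support [Finite C] (h12 : Fintype.card α = 12) {x : C} (hx : x * x = 1) (hx1 : K.π x ≠ 1)
    {Y : Type*} [Group Y] [Finite Y] (ρ : Y →* C) (hρ : ρ.range = centralizer {x}) (hodd : Odd (Nat.card ρ.ker))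
    {u : Y} (hu : u * u = 1) (huc : ∀ y, y * u = u * y) (hρu : ρ u = K.z)
    {β : Type*} [Fintype β] [DecidableEq β] (ψ : Y →* Perm β) (h8 : (ψ u).support.card = 8) : False := by
  obtain ⟨hd, huN⟩ := index_dvd ψ huc hu h8
  set N := (res ψ huc).ker with hN
  let ρ' : Y →* ↥(centralizer ({x} : Set C)) := ρ.codRestrict _ (fun y => by rw [← hρ]; exact ⟨y, rfl⟩)
  have hsurj : Function.Surjective ρ' := by
    rintro ⟨c, hc⟩
    rw [← hρ] at hc
    obtain ⟨y, hy⟩ := hc
    exact ⟨y, Subtype.ext hy⟩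
  have : (N.map ρ').Normal := Subgroup.Normal.map inferInstance ρ' hsurj
  have h9 := nine_dvd_index K h12 hx hx1 (N.map ρ') (by
    rintro _ ⟨m, hm, rfl⟩ h
    have h1 : ρ m = K.z := h
    have h2 : m⁻¹ * u ∈ ρ.ker := by rw [MonoidHom.mem_ker, map_mul, map_inv, h1, hρu, inv_mul_cancel]
    have h3 : (m⁻¹ * u) ^ Nat.card ρ.ker = 1 := by
      have := pow_card_eq_one' (G := ρ.ker) (x := ⟨_, h2⟩)
      exact congrArg Subtype.val this
    obtain ⟨k, hk⟩ := hodd
    have h4 : Commute m⁻¹ u := huc m⁻¹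
    rw [h4.mul_pow, hk, pow_succ u, pow_mul u, pow_two, hu, one_pow, one_mul, ← hk, inv_pow,
      inv_mul_eq_one] at h3
    exact huN (h3 ▸ pow_mem hm _))
  have h10 : 9 ∣ 384 := h9.trans ((N.index_map_dvd hsurj).trans hd)
  omega

/-! ### Lifting a quaternion group -/

theorem exists_quat_lift {Y C : Type*} [Group Y] [Finite Y] [Group C] (ρ : Y →* C) (hodd : Odd (Nat.card ρ.ker))
    {u : Y} (hu : u * u = 1) (huc : ∀ y, y * u = u * y) (hρu : ρ u ≠ 1) {a b : C} (ha : a ∈ ρ.range)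
    (hb : b ∈ ρ.range) (haa : a * a = ρ u) (hbb : b * b = ρ u) (hba : b * a = a * b * ρ u) :
    ∃ a' b', ρ a' = a ∧ ρ b' = b ∧ a' * a' = u ∧ b' * b' = u ∧ b' * a' = a' * b' * u := by
  have hu1 : u ^ 2 ^ 1 = 1 := by rw [pow_one, pow_two, hu]
  have hzz : ρ u * ρ u = 1 := by rw [← map_mul, hu, map_one]
  have fourth : ∀ {c : C}, c * c = ρ u → c ^ 2 ^ 2 = 1 := by
    intro c hc
    show c ^ 4 = 1
    rw [show (4 : ℕ) = 2 + 2 from rfl, pow_add, pow_two, hc, hzz]
  -- elements of order 4 over `c` with `c * c = z`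
  have key : ∀ {y : Y}, ρ y * ρ y = ρ u → ∃ k : ℕ, (y ^ k) ^ 2 ^ 2 = 1 ∧ ρ (y ^ k) = ρ y ∧ y ^ k * y ^ k = u := by
    intro y hy
    obtain ⟨k, h1, h2⟩ := Lifting.exists_two_part hodd (x := y) (n := 2)
      (by rw [MonoidHom.mem_ker, map_pow]; exact fourth hy)
    have h3 : ρ (y ^ k) = ρ y := by
      rw [MonoidHom.mem_ker, map_mul, map_inv, inv_mul_eq_one] at h2
      exact h2.symm
    refine ⟨k, h1, h3, ?_⟩
    refine Lifting.eq_of_commute hodd (n := 2) (m := 1) ?_ hu1 (huc _) ?_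
    · rw [← pow_two, ← pow_mul, mul_comm, pow_mul, h1, one_pow]
    · rw [MonoidHom.mem_ker, map_mul, map_inv, map_mul, h3, hy, inv_mul_cancel]
  obtain ⟨a0, rfl⟩ := ha
  obtain ⟨b0, rfl⟩ := hb
  obtain ⟨k, a1, a2, a3⟩ := key haa
  set a' := a0 ^ k with ha'
  have hn : ρ.ker.Normal := inferInstance
  obtain ⟨o, ho, hoe⟩ := Lifting.exists_conj_eq hodd (v := b0 * a' * b0⁻¹) (v' := a' * u) (n := 2) (m := 2)
    (by rw [conj_pow, a1, mul_one, mul_inv_cancel]) (by
      rw [(show Commute a' u from huc a').mul_pow, a1, one_mul]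
      show u ^ 4 = 1
      rw [show (4 : ℕ) = 2 + 2 from rfl, pow_add, pow_two, hu, one_mul])
    (by rw [Subgroup.normalizer_eq_top]; exact mem_top _) (by
      rw [MonoidHom.mem_ker, map_mul, map_inv, map_mul, map_mul, map_inv, map_mul, a2, hba, inv_mul_eq_one,
        mul_assoc (ρ a0), ← map_mul ρ b0 u, huc b0, map_mul, ← mul_assoc, mul_inv_cancel_right])
  have h1 : ρ (o * b0) = ρ b0 := by rw [map_mul, (MonoidHom.mem_ker).1 ho, one_mul]
  obtain ⟨l, b1, b2, b3⟩ := key (y := o * b0) (by rw [h1, hbb])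
  have h2 : (o * b0) * a' * (o * b0)⁻¹ = a' * u := by rw [← hoe]; group
  have h3 : ∀ g : Y, g * a' * g⁻¹ = a' * u → ∀ m : ℕ, g ^ m * a' * (g ^ m)⁻¹ = a' * u ^ m := by
    intro g hg m
    induction m with
    | zero => simp
    | succ m ih =>
      calc g ^ (m + 1) * a' * (g ^ (m + 1))⁻¹
          = g * (g ^ m * a' * (g ^ m)⁻¹) * g⁻¹ := by rw [pow_succ']; group
        _ = (g * a' * g⁻¹) * (g * u ^ m * g⁻¹) := by rw [ih]; group
        _ = (a' * u) * u ^ m := by
          rw [hg, ((show Commute g u from huc _).pow_right m).eq, mul_inv_cancel_right]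
        _ = a' * u ^ (m + 1) := by rw [pow_succ', mul_assoc]
  refine ⟨a', (o * b0) ^ l, a2, b2.trans h1, a3, b3, ?_⟩
  have h4 := h3 _ h2 l
  rcases Nat.even_or_odd' l with ⟨m, rfl | rfl⟩
  · exfalso
    rw [pow_mul u, pow_two, hu, one_pow, mul_one, mul_inv_eq_iff_eq_mul] at h4
    have h5 := congrArg ρ h4
    rw [map_mul, map_mul, b2, h1, a2, hba] at h5
    exact hρu (mul_eq_left.1 h5)
  · rw [pow_succ u, pow_mul u, pow_two, hu, one_pow, one_mul, mul_inv_eq_iff_eq_mul] at h4
    rw [h4, mul_assoc, ← huc, ← mul_assoc]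

/-- **(A4)** Let `Y` map onto the centralizer of a noncentral involution of `2.A₁₂` with odd kernel, `u` a central
involution of `Y` over `z`.  Then `u` acts trivially in every action of `Y` on fewer than 16 points. -/
theorem false_of_twelve [Finite C] (h12 : Fintype.card α = 12) {x : C} (hx : x * x = 1) (hx1 : K.π x ≠ 1)
    {Y : Type*} [Group Y] [Finite Y] (ρ : Y →* C) (hρ : ρ.range = centralizer {x}) (hodd : Odd (Nat.card ρ.ker))
    {u : Y} (hu : u * u = 1) (huc : ∀ y, y * u = u * y) (hρu : ρ u = K.z)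
    {β : Type*} [Fintype β] [DecidableEq β] (h16 : Fintype.card β < 16) (ψ : Y →* Perm β) (hψ : ψ u ≠ 1) : False := by
  have h2 : K.π x * K.π x = 1 := by rw [← map_mul, hx, map_one]
  have h8 : (K.π x).support.card = 8 := by
    obtain ⟨m, hm⟩ := (K.sq_eq_one_iff.1 hx).2
    have h1 : (K.π x).support.card ≠ 0 := by
      rw [Ne, Finset.card_eq_zero, Perm.support_eq_empty_iff]
      exact hx1
    have h2 : (K.π x).support.card ≤ 12 := h12 ▸ Finset.card_le_univ _
    omega
  obtain ⟨a, b, fa, fb, haa, hbb, hba⟩ := exists_quat K (f := (MulAut.conj x).toMonoidHom) (σ := K.π x) (fun g => by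
    show K.π (x * g * x⁻¹) = _
    rw [map_mul, map_mul, map_inv]) h2 (by omega) (by omega)
  have hcent : ∀ {y : C}, (MulAut.conj x).toMonoidHom y = y → y ∈ ρ.range := by
    intro y hy
    have h : x * y * x⁻¹ = y := hy
    rw [mul_inv_eq_iff_eq_mul] at h
    rw [hρ]
    exact mem_centralizer_singleton_iff.2 h.symm
  obtain ⟨a', b', -, -, h3, h4, h5⟩ := exists_quat_lift ρ hodd hu huc (by rw [hρu]; exact K.z_ne) (hcent fa) (hcent fb)
    (by rw [haa, hρu]) (by rw [hbb, hρu]) (by rw [hba, hρu])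
  exact false_of_support K h12 hx hx1 ρ hρ hodd hu huc hρu ψ (card_support_of_quat h16 ψ h3 h4 h5 hu hψ)

end Cfsg.Agent.Intrinsic.AnTwelve
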