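import Cfsg.Agent.Intrinsic.AnLift
import Cfsg.Agent.StandardComponent.AltQuat

/-!
# Involutory automorphisms of double covers of alternating groups (facts (A1) and (A2) of S1738)

`K : Cover α C`, `f` an endomorphism of `C` with `f (f g) = g` inducing the conjugation by `σ` on the alternating
group, where `σ` is an involution with at most 4 fixed points and `8 ≤ card α`.
-/

set_option autoImplicit false
set_option linter.unusedSectionVars false

namespace Cfsg.Agent.Intrinsic.AnTypes

open Equiv Cfsg.Agent.SporRec.TwoAn Cfsg.Agent.Intrinsic.AnLift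

variable {α : Type*} [Fintype α] [DecidableEq α]

/-! ### Embedded permutations -/

/-- permutations of eight letters as permutations of `α` -/
noncomputable def V (e : Fin 8 ↪ α) : Perm (Fin 8) →* Perm α := Perm.viaEmbeddingHom e

theorem V_apply (e : Fin 8 ↪ α) (s : Perm (Fin 8)) (i : Fin 8) : V e s (e i) = e (s i) :=
  Perm.viaEmbedding_apply s e i

theorem V_apply_of_notMem (e : Fin 8 ↪ α) (s : Perm (Fin 8)) {x : α} (hx : x ∉ Set.range e) : V e s x = x :=
  Perm.viaEmbedding_apply_of_notMem s e x hx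

theorem eq_V (e : Fin 8 ↪ α) (s : Perm (Fin 8)) {τ : Perm α} (h : ∀ i, τ (e i) = e (s i))
    (h' : ∀ x, x ∉ Set.range e → τ x = x) : τ = V e s := by
  ext x
  by_cases hx : x ∈ Set.range e
  · obtain ⟨i, rfl⟩ := hx
    rw [h, V_apply]
  · rw [h' x hx, V_apply_of_notMem e s hx]

theorem V_swap (e : Fin 8 ↪ α) (i j : Fin 8) : V e (swap i j) = swap (e i) (e j) := by
  symm
  apply eq_V
  · intro k
    by_cases h1 : k = i
    · subst h1; rw [swap_apply_left, swap_apply_left]
    by_cases h2 : k = j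
    · subst h2; rw [swap_apply_right, swap_apply_right]
    rw [swap_apply_of_ne_of_ne (e.injective.ne h1) (e.injective.ne h2), swap_apply_of_ne_of_ne h1 h2]
  · intro x hx
    exact swap_apply_of_ne_of_ne (fun h => hx ⟨i, h.symm⟩) (fun h => hx ⟨j, h.symm⟩)

theorem card_support_emb (e : Fin 8 ↪ α) {τ : Perm α} {s : Perm (Fin 8)} (h : ∀ i, τ (e i) = e (s i)) :
    τ.support.card = s.support.card + (τ.support.filter fun x => x ∉ Set.range e).card := by
  classical
  rw [← Finset.card_filter_add_card_filter_not (s := τ.support) (fun x => x ∈ Set.range e)]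
  congr 1
  rw [← Finset.card_map e]
  congr 1
  ext x
  simp only [Finset.mem_filter, Perm.mem_support, Set.mem_range, Finset.mem_map]
  constructor
  · rintro ⟨h1, i, rfl⟩
    exact ⟨i, fun h2 => h1 (by rw [h, h2]), rfl⟩
  · rintro ⟨i, hi, rfl⟩
    exact ⟨fun h2 => hi (e.injective (by rw [← h, h2])), i, rfl⟩

theorem card_support_V (e : Fin 8 ↪ α) (s : Perm (Fin 8)) : (V e s).support.card = s.support.card := by
  rw [card_support_emb e (V_apply e s)]
  have : ((V e s).support.filter fun x => x ∉ Set.range e) = ∅ := by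
    rw [Finset.filter_eq_empty_iff]
    intro x hx hx'
    exact (Perm.mem_support.1 hx) (V_apply_of_notMem e s hx')
  rw [this, Finset.card_empty, add_zero]

/-- If `σ` acts on the eight letters as `s` and `s * w` moves as many letters as `s`, then `σ * V w` moves as many
points as `σ`. -/
theorem card_support_mul (e : Fin 8 ↪ α) {σ : Perm α} {s w : Perm (Fin 8)} (h : ∀ i, σ (e i) = e (s i))
    (hc : (s * w).support.card = s.support.card) : (σ * V e w).support.card = σ.support.card := by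
  classical
  have h' : ∀ i, (σ * V e w) (e i) = e ((s * w) i) := by
    intro i
    rw [Perm.mul_apply, V_apply, h, Perm.mul_apply]
  rw [card_support_emb e h, card_support_emb e h', hc]
  congr 2
  ext x
  simp only [Finset.mem_filter, Perm.mem_support]
  constructor
  · rintro ⟨h1, h2⟩
    rw [Perm.mul_apply, V_apply_of_notMem e w h2] at h1
    exact ⟨h1, h2⟩
  · rintro ⟨h1, h2⟩
    refine ⟨?_, h2⟩
    rw [Perm.mul_apply, V_apply_of_notMem e w h2]
    exact h1

theorem comm_V (e : Fin 8 ↪ α) {σ : Perm α} {s w : Perm (Fin 8)} (h : ∀ i, σ (e i) = e (s i))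
    (hc : s * w = w * s) : σ * V e w = V e w * σ := by
  ext x
  rw [Perm.mul_apply, Perm.mul_apply]
  by_cases hx : x ∈ Set.range e
  · obtain ⟨i, rfl⟩ := hx
    rw [V_apply, h, h, V_apply, ← Perm.mul_apply, hc, Perm.mul_apply]
  · have hx' : σ x ∉ Set.range e := by
      rintro ⟨i, hi⟩
      apply hx
      refine ⟨s⁻¹ i, σ.injective ?_⟩
      rw [h, ← Perm.mul_apply, mul_inv_cancel, Perm.one_apply, hi]
    rw [V_apply_of_notMem e w hx, V_apply_of_notMem e w hx']

/-! ### The choice of the letters -/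

theorem exists_moved (σ : Perm α) (S : Finset α) (hS : S.card < σ.support.card) : ∃ a, σ a ≠ a ∧ a ∉ S := by
  obtain ⟨a, ha, ha'⟩ := Finset.exists_mem_notMem_of_card_lt_card hS
  exact ⟨a, Perm.mem_support.1 ha, ha'⟩

theorem exists_fixed (σ : Perm α) (S : Finset α) (hS : σ.support.card + S.card < Fintype.card α) :
    ∃ a, σ a = a ∧ a ∉ S := by
  by_contra hcon
  push Not at hcon
  have h1 : (Finset.univ : Finset α) ⊆ σ.support ∪ S := by
    intro x _
    by_cases hx : σ x = x
    · exact Finset.mem_union_right _ (hcon x hx)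
    · exact Finset.mem_union_left _ (Perm.mem_support.2 hx)
  have h2 := Finset.card_le_card h1
  have h3 := Finset.card_union_le σ.support S
  rw [Finset.card_univ] at h2
  omega

theorem step {σ : Perm α} (hσ : ∀ x, σ (σ x) = x) {l : List α} (hl : l.Nodup) (hc : ∀ x ∈ l, σ x ∈ l)
    (hm : ∀ x ∈ l, σ x ≠ x) (hcard : l.length < σ.support.card) :
    ∃ a, (a :: σ a :: l).Nodup ∧ (∀ x ∈ a :: σ a :: l, σ x ∈ a :: σ a :: l) ∧ (∀ x ∈ a :: σ a :: l, σ x ≠ x) := by
  obtain ⟨a, ha, ha'⟩ := exists_moved σ l.toFinset (lt_of_le_of_lt (List.toFinset_card_le l) hcard)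
  rw [List.mem_toFinset] at ha'
  have hb' : σ a ∉ l := fun h => ha' (by have := hc _ h; rwa [hσ] at this)
  refine ⟨a, ?_, ?_, ?_⟩
  · rw [List.nodup_cons, List.nodup_cons]
    refine ⟨?_, hb', hl⟩
    rw [List.mem_cons, not_or]
    exact ⟨ha.symm, ha'⟩
  · intro x hx
    rw [List.mem_cons, List.mem_cons] at hx
    rcases hx with rfl | rfl | hx
    · simp
    · rw [hσ]; simp
    · simp [hc x hx]
  · intro x hx
    rw [List.mem_cons, List.mem_cons] at hx
    rcases hx with rfl | rfl | hx
    · exact ha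
    · rw [hσ]; exact ha.symm
    · exact hm x hx

/-- the letters of a list of length 8 without repetitions -/
def emb (l : List α) (hl : l.Nodup) (h8 : l.length = 8) : Fin 8 ↪ α :=
  ⟨fun i => l.get (i.cast h8.symm), fun i j h => by
    have := (List.nodup_iff_injective_get.1 hl) h
    exact Fin.cast_injective _ this⟩

/-- The letters: four blocks; or two fixed points and three blocks; or four fixed points and two blocks. -/
theorem exists_letters {σ : Perm α} (h2 : σ * σ = 1) (h8 : 8 ≤ Fintype.card α)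
    (h4 : Fintype.card α ≤ σ.support.card + 4) : ∃ e : Fin 8 ↪ α, e 5 = σ (e 4) ∧ e 7 = σ (e 6) ∧
      ((e 1 = σ (e 0) ∧ e 3 = σ (e 2)) ∨
        (σ.support.card < 8 ∧ σ (e 0) = e 0 ∧ σ (e 1) = e 1 ∧ e 3 = σ (e 2)) ∨
        (σ.support.card < 8 ∧ σ (e 0) = e 0 ∧ σ (e 1) = e 1 ∧ σ (e 2) = e 2 ∧ σ (e 3) = e 3)) := by
  have hσ : ∀ x, σ (σ x) = x := fun x => by rw [← Perm.mul_apply, h2]; rfl
  obtain ⟨a, n1, c1, m1⟩ := step hσ (l := []) List.nodup_nil (by simp) (by simp) (by show 0 < _; omega)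
  obtain ⟨b, n2, c2, m2⟩ := step hσ n1 c1 m1 (by show 2 < _; omega)
  by_cases h5 : 4 < σ.support.card
  · obtain ⟨c, n3, c3, m3⟩ := step hσ n2 c2 m2 (by simpa using h5)
    by_cases h7 : 6 < σ.support.card
    · obtain ⟨d, n4, c4, m4⟩ := step hσ n3 c3 m3 (by simpa using h7)
      exact ⟨emb _ n4 rfl, rfl, rfl, Or.inl ⟨rfl, rfl⟩⟩
    · obtain ⟨p, hp, -⟩ := exists_fixed σ ∅ (by simp; omega)
      obtain ⟨q, hq, hqp⟩ := exists_fixed σ {p} (by simp; omega)
      have n4 : (p :: q :: c :: σ c :: b :: σ b :: a :: σ a :: []).Nodup := by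
        rw [List.nodup_cons, List.nodup_cons]
        refine ⟨?_, fun h => m3 _ h hq, n3⟩
        rw [List.mem_cons, not_or]
        refine ⟨fun h => hqp (by rw [h]; simp), fun h => m3 _ h hp⟩
      exact ⟨emb _ n4 rfl, rfl, rfl, Or.inr (Or.inl ⟨by omega, hp, hq, rfl⟩)⟩
  · obtain ⟨p, hp, -⟩ := exists_fixed σ ∅ (by simp; omega)
    obtain ⟨q, hq, hqp⟩ := exists_fixed σ {p} (by simp; omega)
    obtain ⟨r, hr, hr'⟩ := exists_fixed σ {p, q} (by
      have := Finset.card_le_two (a := p) (b := q); omega)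
    obtain ⟨s, hs, hs'⟩ := exists_fixed σ {p, q, r} (by
      have := Finset.card_le_three (a := p) (b := q) (c := r); omega)
    simp only [Finset.mem_insert, Finset.mem_singleton, not_or] at hqp hr' hs'
    have n4 : (p :: q :: r :: s :: b :: σ b :: a :: σ a :: []).Nodup := by
      rw [List.nodup_cons, List.nodup_cons, List.nodup_cons, List.nodup_cons]
      refine ⟨?_, ?_, ?_, fun h => m2 _ h hs, n2⟩
      · simp only [List.mem_cons, not_or]
        refine ⟨fun h => hqp h.symm, fun h => hr'.1 h.symm, fun h => hs'.1 h.symm, ?_⟩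
        have : ¬ (p ∈ [b, σ b, a, σ a]) := fun h => m2 p h hp
        simpa only [List.mem_cons, not_or] using this
      · simp only [List.mem_cons, not_or]
        refine ⟨fun h => hr'.2 h.symm, fun h => hs'.2.1 h.symm, ?_⟩
        have : ¬ (q ∈ [b, σ b, a, σ a]) := fun h => m2 q h hq
        simpa only [List.mem_cons, not_or] using this
      · simp only [List.mem_cons, not_or]
        refine ⟨fun h => hs'.2.2 h.symm, ?_⟩
        have : ¬ (r ∈ [b, σ b, a, σ a]) := fun h => m2 r h hr
        simpa only [List.mem_cons, not_or] using this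
    exact ⟨emb _ n4 rfl, rfl, rfl, Or.inr (Or.inr ⟨by omega, hp, hq, hr, hs⟩)⟩

/-! ### The lifts -/

variable {C : Type*} [Group C] (K : Cover α C)

theorem V_disjoint (e : Fin 8 ↪ α) {s s' : Perm (Fin 8)} (h : s.Disjoint s') : (V e s).Disjoint (V e s') := by
  intro x
  by_cases hx : x ∈ Set.range e
  · obtain ⟨i, rfl⟩ := hx
    rw [V_apply, V_apply]
    exact (h i).imp (fun h => by rw [h]) (fun h => by rw [h])
  · left
    exact V_apply_of_notMem e s hx

theorem π_D' (e : Fin 8 ↪ α) {i j k l : Fin 8} (h : [i, j, k, l].Nodup) :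
    K.π (D K (e i) (e j) (e k) (e l)) = V e (swap i j * swap k l) := by
  simp only [List.nodup_cons, List.mem_cons, List.not_mem_nil, or_false, not_or, not_false_eq_true, List.nodup_nil,
    and_true] at h
  obtain ⟨⟨h1, h2, h3⟩, ⟨h4, h5⟩, h6⟩ := h
  rw [π_D K (e.injective.ne h1) (e.injective.ne h2) (e.injective.ne h3) (e.injective.ne h4) (e.injective.ne h6)
    (e.injective.ne h5), map_mul, V_swap, V_swap]

/-- Two elements whose images contain crossing double transpositions anticommute. -/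
theorem anti (e : Fin 8 ↪ α) {i j k l m n p q : Fin 8} (h1 : [i, j, k, l].Nodup) (h2 : [m, n, p, q].Nodup)
    (hd : (swap i k * swap j l : Perm (Fin 8)).Disjoint (swap m n * swap p q)) {w h : C}
    (hw : K.π w = V e (swap i j * swap k l * (swap m n * swap p q))) (hh : K.π h = V e (swap i k * swap j l)) :
    h * w = w * h * K.z := by
  have e1 := π_D' K e h1
  have e2 := π_D' K e h2
  set W1 := D K (e i) (e j) (e k) (e l) with hW1
  set W2 := D K (e m) (e n) (e p) (e q) with hW2
  have hcomm : h * W2 = W2 * h := K.commute_of_disjoint (by rw [hh, e2]; exact V_disjoint e hd)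
  have hanti : h * W1 = W1 * h * K.z := by
    have h1' := h1
    simp only [List.nodup_cons, List.mem_cons, List.not_mem_nil, or_false, not_or, not_false_eq_true,
      List.nodup_nil, and_true] at h1'
    obtain ⟨⟨a1, a2, a3⟩, ⟨a4, a5⟩, a6⟩ := h1'
    refine K.anticomm (a := e i) (b := e j) (c := e k) (d := e l) (e.injective.ne a1) (e.injective.ne a2)
      (e.injective.ne a3) (e.injective.ne a4) (e.injective.ne a5) (e.injective.ne a6) ?_ ?_
    · rw [e1, map_mul, V_swap, V_swap]
    · rw [hh, map_mul, V_swap, V_swap]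
  have key : h * (W1 * W2) = W1 * W2 * h * K.z := by
    rw [← mul_assoc, hanti, mul_assoc (W1 * h), ← K.z_comm W2, ← mul_assoc, mul_assoc W1, hcomm]
    group
  have h3 : K.π w = K.π (W1 * W2) := by rw [hw, map_mul K.π, e1, e2, ← map_mul]
  rcases K.lift_eq h3 with h4 | h4
  · rw [h4, key]
  · rw [h4, ← mul_assoc h, key, mul_assoc (W1 * W2) K.z h, ← K.z_comm h, ← mul_assoc (W1 * W2)]

section Auto

variable {f : C →* C} {σ : Perm α}

/-- (A1), first part: an element inverted modulo `z`. -/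
theorem exists_anti (hf : ∀ g, K.π (f g) = σ * K.π g * σ⁻¹) (h2 : σ * σ = 1) {a c : α} (ha : σ a ≠ a)
    (hc : σ c ≠ c) (hca : c ≠ a) (hcb : c ≠ σ a) : ∃ h, f h = h * K.z := by
  have hσ : ∀ x, σ (σ x) = x := fun x => by rw [← Perm.mul_apply, h2]; rfl
  have h1 : a ≠ σ c := fun h => hcb (by rw [h, hσ])
  have h3 : σ a ≠ σ c := fun h => hca (σ.injective h).symm
  refine ⟨D K a c (σ a) (σ c), ?_⟩
  rw [map_D K hf hca.symm ha.symm h1 hcb h3, hσ, hσ, D_swap K hca.symm ha.symm h1 hcb h3 hc.symm]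

/-- (A1), second part: a fixed square root of `z`. -/
theorem fix_block (hf : ∀ g, K.π (f g) = σ * K.π g * σ⁻¹) (h2 : σ * σ = 1) {a c : α} (ha : σ a ≠ a)
    (hc : σ c ≠ c) (hca : c ≠ a) (hcb : c ≠ σ a) : f (D K a (σ a) c (σ c)) = D K a (σ a) c (σ c) := by
  have hσ : ∀ x, σ (σ x) = x := fun x => by rw [← Perm.mul_apply, h2]; rfl
  have h1 : a ≠ σ c := fun h => hcb (by rw [h, hσ])
  have h3 : σ a ≠ σ c := fun h => hca (σ.injective h).symm
  rw [map_D K hf ha.symm hca.symm h1 hcb.symm hc.symm, hσ, hσ,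
    D_flip K ha.symm hca.symm h1 hcb.symm hc.symm h3]

theorem exists_root (hf : ∀ g, K.π (f g) = σ * K.π g * σ⁻¹) (h2 : σ * σ = 1) {a c : α} (ha : σ a ≠ a)
    (hc : σ c ≠ c) (hca : c ≠ a) (hcb : c ≠ σ a) : ∃ q, f q = q ∧ q * q = K.z := by
  have hσ : ∀ x, σ (σ x) = x := fun x => by rw [← Perm.mul_apply, h2]; rfl
  have h1 : a ≠ σ c := fun h => hcb (by rw [h, hσ])
  have h3 : σ a ≠ σ c := fun h => hca (σ.injective h).symm
  exact ⟨_, fix_block K hf h2 ha hc hca hcb, D_sq K ha.symm hca.symm h1 hcb.symm hc.symm h3⟩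

/-- The element `w = f r * r⁻¹` over a prescribed involution commuting with `σ`. -/
theorem exists_w (hf : ∀ g, K.π (f g) = σ * K.π g * σ⁻¹) (h2 : σ * σ = 1) (h1 : σ ≠ 1) {τ : Perm α}
    (hτ : τ * τ = 1) (hcomm : σ * τ = τ * σ) (hc : (σ * τ).support.card = σ.support.card) :
    ∃ r, K.π (f r * r⁻¹) = τ := by
  obtain ⟨ρ, hρ, e⟩ := Cfsg.Agent.StandardComponent.CoverExtra.exists_even_conj (σ := σ) (τ := σ * τ) h2
    (by rw [mul_assoc, ← mul_assoc τ, ← hcomm, mul_assoc σ τ τ, hτ, mul_one, h2]) h1 hc.symm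
  obtain ⟨r, rfl⟩ := K.exists_lift hρ
  refine ⟨r, ?_⟩
  have hσi : σ⁻¹ = σ := inv_eq_of_mul_eq_one_left h2
  have hτi : τ⁻¹ = τ := inv_eq_of_mul_eq_one_left hτ
  rw [map_mul, map_inv, hf]
  calc σ * K.π r * σ⁻¹ * (K.π r)⁻¹ = σ * (K.π r * σ * (K.π r)⁻¹)⁻¹ := by group
    _ = σ * (τ⁻¹ * σ⁻¹) := by rw [e]; group
    _ = τ := by rw [hτi, hσi, ← mul_assoc, hcomm, mul_assoc, h2, mul_one]

/-! ### Block rotations -/

/-- the rotation of three blocks of `σ` -/
noncomputable def R (σ : Perm α) (a b c : α) : C := t K a b c * t K (σ a) (σ b) (σ c)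

theorem R_fix (hf : ∀ g, K.π (f g) = σ * K.π g * σ⁻¹) (hσ : ∀ x, σ (σ x) = x) {a b c : α} (hab : a ≠ b)
    (hac : a ≠ c) (hbc : b ≠ c) (hcomm : t K a b c * t K (σ a) (σ b) (σ c) = t K (σ a) (σ b) (σ c) * t K a b c) :
    f (R K σ a b c) = R K σ a b c := by
  unfold R
  rw [map_mul, map_t K hf hab hac hbc,
    map_t K hf (σ.injective.ne hab) (σ.injective.ne hac) (σ.injective.ne hbc), hσ, hσ, hσ, hcomm]

theorem R_cube {a b c : α} (hcomm : t K a b c * t K (σ a) (σ b) (σ c) = t K (σ a) (σ b) (σ c) * t K a b c) :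
    R K σ a b c ^ 3 = 1 := by
  unfold R
  rw [Commute.mul_pow hcomm, t_cube, t_cube, one_mul]

theorem π_t' (e : Fin 8 ↪ α) {i j k : Fin 8} (h : [i, j, k].Nodup) :
    K.π (t K (e i) (e j) (e k)) = V e (swap i j * swap j k) := by
  simp only [List.nodup_cons, List.mem_cons, List.not_mem_nil, or_false, not_or, not_false_eq_true, List.nodup_nil,
    and_true] at h
  obtain ⟨⟨h1, h2⟩, h3⟩ := h
  rw [π_t K (e.injective.ne h1) (e.injective.ne h2) (e.injective.ne h3), map_mul, V_swap, V_swap]

/-- The subgroup generated by the fixed elements of order 3. -/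
def T (f : C →* C) : Subgroup C := Subgroup.closure {x | f x = x ∧ x ^ 3 = 1}

theorem R_mem (hf : ∀ g, K.π (f g) = σ * K.π g * σ⁻¹) (hσ : ∀ x, σ (σ x) = x) (e : Fin 8 ↪ α)
    {i j k i' j' k' : Fin 8} (h : [i, j, k].Nodup) (h' : [i', j', k'].Nodup)
    (hd : (swap i j * swap j k : Perm (Fin 8)).Disjoint (swap i' j' * swap j' k'))
    (hi : σ (e i) = e i') (hj : σ (e j) = e j') (hk : σ (e k) = e k') :
    R K σ (e i) (e j) (e k) ∈ T f ∧
      K.π (R K σ (e i) (e j) (e k)) = V e (swap i j * swap j k * (swap i' j' * swap j' k')) := by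
  have hcomm : t K (e i) (e j) (e k) * t K (σ (e i)) (σ (e j)) (σ (e k)) =
      t K (σ (e i)) (σ (e j)) (σ (e k)) * t K (e i) (e j) (e k) := by
    rw [hi, hj, hk]
    apply K.commute_of_disjoint
    rw [π_t' K e h, π_t' K e h']
    exact V_disjoint e hd
  have h1 := h
  simp only [List.nodup_cons, List.mem_cons, List.not_mem_nil, or_false, not_or, not_false_eq_true, List.nodup_nil,
    and_true] at h1
  obtain ⟨⟨h1, h2⟩, h3⟩ := h1
  refine ⟨Subgroup.subset_closure ⟨R_fix K hf hσ (e.injective.ne h1) (e.injective.ne h2) (e.injective.ne h3) hcomm,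
    R_cube K hcomm⟩, ?_⟩
  unfold R
  rw [map_mul, hi, hj, hk, π_t' K e h, π_t' K e h', ← map_mul]

/-- The central involution is in the subgroup generated by the fixed elements of order 3, if there are three
blocks. -/
theorem z_mem_T (hf : ∀ g, K.π (f g) = σ * K.π g * σ⁻¹) (hσ : ∀ x, σ (σ x) = x) (e : Fin 8 ↪ α)
    (h01 : σ (e 0) = e 1) (h23 : σ (e 2) = e 3) (h45 : σ (e 4) = e 5) : K.z ∈ T f := by
  have h10 : σ (e 1) = e 0 := by rw [← h01, hσ]
  obtain ⟨m1, p1⟩ := R_mem K hf hσ e (i := 0) (j := 2) (k := 4) (i' := 1) (j' := 3) (k' := 5) (by decide)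
    (by decide) (by intro x; revert x; decide) h01 h23 h45
  obtain ⟨m2, p2⟩ := R_mem K hf hσ e (i := 1) (j := 2) (k := 4) (i' := 0) (j' := 3) (k' := 5) (by decide)
    (by decide) (by intro x; revert x; decide) h10 h23 h45
  have h : K.π (R K σ (e 0) (e 2) (e 4) * (R K σ (e 1) (e 2) (e 4))⁻¹) = V e (swap 0 1 * swap 2 3) := by
    rw [map_mul, map_inv, p1, p2, ← map_inv, ← map_mul]
    congr 1
    decide
  have hsq := K.dbl (e 0) (e 1) (e 2) (e 3) (e.injective.ne (by decide)) (e.injective.ne (by decide))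
    (e.injective.ne (by decide)) (e.injective.ne (by decide)) (e.injective.ne (by decide))
    (e.injective.ne (by decide)) _ (by rw [h, map_mul, V_swap, V_swap])
  rw [← hsq]
  have m3 := mul_mem m1 (inv_mem m2)
  exact mul_mem m3 m3

/-- Every element over the standard involution of four blocks is generated by fixed elements of order 3. -/
theorem mem_T (hf : ∀ g, K.π (f g) = σ * K.π g * σ⁻¹) (hσ : ∀ x, σ (σ x) = x) (e : Fin 8 ↪ α)
    (h01 : σ (e 0) = e 1) (h23 : σ (e 2) = e 3) (h45 : σ (e 4) = e 5) (h67 : σ (e 6) = e 7) {w : C}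
    (hw : K.π w = V e (swap 0 3 * swap 1 2 * (swap 4 7 * swap 5 6))) : w ∈ T f := by
  have h32 : σ (e 3) = e 2 := by rw [← h23, hσ]
  have h76 : σ (e 7) = e 6 := by rw [← h67, hσ]
  obtain ⟨m1, p1⟩ := R_mem K hf hσ e (i := 0) (j := 4) (k := 3) (i' := 1) (j' := 5) (k' := 2) (by decide)
    (by decide) (by intro x; revert x; decide) h01 h45 h32
  obtain ⟨m2, p2⟩ := R_mem K hf hσ e (i := 0) (j := 4) (k := 7) (i' := 1) (j' := 5) (k' := 6) (by decide)
    (by decide) (by intro x; revert x; decide) h01 h45 h76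
  have h : K.π w = K.π (R K σ (e 0) (e 4) (e 3) * R K σ (e 0) (e 4) (e 7)) := by
    rw [hw, map_mul K.π, p1, p2, ← map_mul]
    congr 1
    decide
  rcases K.lift_eq h with h | h
  · rw [h]; exact mul_mem m1 m2
  · rw [h]; exact mul_mem (mul_mem m1 m2) (z_mem_T K hf hσ e h01 h23 h45)

/-- (A1) for an involutory automorphism `f` of a double cover of an alternating group. -/
theorem main (hf : ∀ g, K.π (f g) = σ * K.π g * σ⁻¹) (hff : ∀ g, f (f g) = g) (h2 : σ * σ = 1)
    (h8 : 8 ≤ Fintype.card α) (h4 : Fintype.card α ≤ σ.support.card + 4) :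
    (∃ h, f h = h * K.z) ∧ (∃ q, f q = q ∧ q * q = K.z) ∧
      ∃ w r h, w = f r * r⁻¹ ∧ w * w = 1 ∧ (K.π w).support.card = 8 ∧ f w = w ∧ f h = h ∧ h * w = w * h * K.z ∧
        (8 ≤ σ.support.card → w ∈ T f) := by
  have hσ : ∀ x, σ (σ x) = x := fun x => by rw [← Perm.mul_apply, h2]; rfl
  have h1 : σ ≠ 1 := by
    rintro rfl
    rw [Perm.support_one, Finset.card_empty] at h4
    omega
  obtain ⟨e, h45, h67, hcase⟩ := exists_letters h2 h8 h4
  have n4 : σ (e 4) ≠ e 4 := by rw [← h45]; exact e.injective.ne (by decide)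
  have n6 : σ (e 6) ≠ e 6 := by rw [← h67]; exact e.injective.ne (by decide)
  have n64 : e 6 ≠ e 4 := e.injective.ne (by decide)
  have n65 : e 6 ≠ σ (e 4) := by rw [← h45]; exact e.injective.ne (by decide)
  refine ⟨exists_anti K hf h2 n4 n6 n64 n65, exists_root K hf h2 n4 n6 n64 n65, ?_⟩
  -- the common end
  have key : ∀ (s w0 : Perm (Fin 8)), (∀ i, σ (e i) = e (s i)) → s * w0 = w0 * s → w0 * w0 = 1 →
      (s * w0).support.card = s.support.card → w0.support.card = 8 →
      ∃ r, K.π (f r * r⁻¹) = V e w0 ∧ (f r * r⁻¹) * (f r * r⁻¹) = 1 ∧ (K.π (f r * r⁻¹)).support.card = 8 ∧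
        f (f r * r⁻¹) = f r * r⁻¹ := by
    intro s w0 hs hsw hww hsc hwc
    obtain ⟨r, hr⟩ := exists_w K hf h2 h1 (τ := V e w0) (by rw [← map_mul, hww, map_one]) (comm_V e hs hsw)
      (card_support_mul e hs hsc)
    have hsup : (K.π (f r * r⁻¹)).support.card = 8 := by rw [hr, card_support_V, hwc]
    have hsq : (f r * r⁻¹) * (f r * r⁻¹) = 1 := K.sq_eq_one_iff.2
      ⟨by rw [hr, ← map_mul, hww, map_one], by rw [hsup]⟩
    refine ⟨r, hr, hsq, hsup, ?_⟩
    have h5 : f (f r * r⁻¹) = (f r * r⁻¹)⁻¹ := by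
      rw [map_mul, map_inv, hff, mul_inv_rev, inv_inv]
    rw [h5]
    exact inv_eq_of_mul_eq_one_left hsq
  rcases hcase with ⟨h01, h23⟩ | ⟨hlt, h0, h1', h23⟩ | ⟨hlt, h0, h1', h2', h3'⟩
  · -- four blocks
    have hs : ∀ i, σ (e i) = e ((swap 0 1 * swap 2 3 * (swap 4 5 * swap 6 7) : Perm (Fin 8)) i) := by
      intro i
      fin_cases i
      · exact h01.symm
      · show σ (e 1) = e 0; rw [h01, hσ]
      · exact h23.symm
      · show σ (e 3) = e 2; rw [h23, hσ]
      · exact h45.symm
      · show σ (e 5) = e 4; rw [h45, hσ]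
      · exact h67.symm
      · show σ (e 7) = e 6; rw [h67, hσ]
    obtain ⟨r, p1, p2, p3, p4⟩ := key _ (swap 0 3 * swap 1 2 * (swap 4 7 * swap 5 6)) hs (by decide) (by decide)
      (by decide) (by decide)
    refine ⟨_, r, D K (e 0) (e 1) (e 3) (e 2), rfl, p2, p3, p4, ?_, ?_, fun _ => ?_⟩
    · have h32 : σ (e 3) = e 2 := by rw [h23, hσ]
      have := fix_block K hf h2 (a := e 0) (c := e 3) (by rw [← h01]; exact e.injective.ne (by decide))
        (by rw [h32]; exact e.injective.ne (by decide)) (e.injective.ne (by decide))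
        (by rw [← h01]; exact e.injective.ne (by decide))
      rwa [← h01, h32] at this
    · apply anti K e (i := 0) (j := 3) (k := 1) (l := 2) (m := 4) (n := 7) (p := 5) (q := 6) (by decide) (by decide)
        (by intro x; revert x; decide) p1
      rw [π_D' K e (by decide)]
      
    · exact mem_T K hf hσ e h01.symm h23.symm h45.symm h67.symm p1
  · -- three blocks
    have hs : ∀ i, σ (e i) = e ((swap 2 3 * (swap 4 5 * swap 6 7) : Perm (Fin 8)) i) := by
      intro i
      fin_cases i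
      · exact h0
      · exact h1'
      · exact h23.symm
      · show σ (e 3) = e 2; rw [h23, hσ]
      · exact h45.symm
      · show σ (e 5) = e 4; rw [h45, hσ]
      · exact h67.symm
      · show σ (e 7) = e 6; rw [h67, hσ]
    obtain ⟨r, p1, p2, p3, p4⟩ := key _ (swap 2 5 * swap 3 4 * (swap 6 7 * swap 0 1)) hs (by decide) (by decide)
      (by decide) (by decide)
    refine ⟨_, r, D K (e 2) (e 3) (e 5) (e 4), rfl, p2, p3, p4, ?_, ?_, fun h => absurd h (by omega)⟩
    · have h54 : σ (e 5) = e 4 := by rw [h45, hσ]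
      have := fix_block K hf h2 (a := e 2) (c := e 5) (by rw [← h23]; exact e.injective.ne (by decide))
        (by rw [h54]; exact e.injective.ne (by decide)) (e.injective.ne (by decide))
        (by rw [← h23]; exact e.injective.ne (by decide))
      rwa [← h23, h54] at this
    · apply anti K e (i := 2) (j := 5) (k := 3) (l := 4) (m := 6) (n := 7) (p := 0) (q := 1) (by decide) (by decide)
        (by intro x; revert x; decide) p1
      rw [π_D' K e (by decide)]
  · -- two blocks
    have hs : ∀ i, σ (e i) = e ((swap 4 5 * swap 6 7 : Perm (Fin 8)) i) := by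
      intro i
      fin_cases i
      · exact h0
      · exact h1'
      · exact h2'
      · exact h3'
      · exact h45.symm
      · show σ (e 5) = e 4; rw [h45, hσ]
      · exact h67.symm
      · show σ (e 7) = e 6; rw [h67, hσ]
    obtain ⟨r, p1, p2, p3, p4⟩ := key _ (swap 0 1 * swap 2 3 * (swap 4 5 * swap 6 7)) hs (by decide) (by decide)
      (by decide) (by decide)
    refine ⟨_, r, D K (e 0) (e 2) (e 1) (e 3), rfl, p2, p3, p4, ?_, ?_, fun h => absurd h (by omega)⟩
    · rw [map_D K hf (e.injective.ne (by decide)) (e.injective.ne (by decide)) (e.injective.ne (by decide))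
        (e.injective.ne (by decide)) (e.injective.ne (by decide)), h0, h1', h2', h3']
    · apply anti K e (i := 0) (j := 1) (k := 2) (l := 3) (m := 4) (n := 5) (p := 6) (q := 7) (by decide) (by decide)
        (by intro x; revert x; decide) p1
      rw [π_D' K e (by decide)]

/-- (A2), first half: the fixed elements contain a quaternion group with centre `z`. -/
theorem exists_quat (hf : ∀ g, K.π (f g) = σ * K.π g * σ⁻¹) (h2 : σ * σ = 1)
    (h8 : 8 ≤ Fintype.card α) (h4 : Fintype.card α ≤ σ.support.card + 4) :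
    ∃ a b, f a = a ∧ f b = b ∧ a * a = K.z ∧ b * b = K.z ∧ b * a = a * b * K.z := by
  have hσ : ∀ x, σ (σ x) = x := fun x => by rw [← Perm.mul_apply, h2]; rfl
  obtain ⟨e, h45, h67, hcase⟩ := exists_letters h2 h8 h4
  -- three blocks
  have key : ∀ i j : Fin 8, e j = σ (e i) → (i = 2 ∧ j = 3) → ∃ a b, f a = a ∧ f b = b ∧ a * a = K.z ∧
      b * b = K.z ∧ b * a = a * b * K.z := by
    rintro _ _ h23 ⟨rfl, rfl⟩
    have f1 := fix_block K hf h2 (a := e 2) (c := e 4) (by rw [← h23]; exact e.injective.ne (by decide))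
      (by rw [← h45]; exact e.injective.ne (by decide)) (e.injective.ne (by decide))
      (by rw [← h23]; exact e.injective.ne (by decide))
    have f2 := fix_block K hf h2 (a := e 4) (c := e 6) (by rw [← h45]; exact e.injective.ne (by decide))
      (by rw [← h67]; exact e.injective.ne (by decide)) (e.injective.ne (by decide))
      (by rw [← h45]; exact e.injective.ne (by decide))
    rw [← h23, ← h45] at f1
    rw [← h45, ← h67] at f2
    have p1 := π_D' K e (i := 2) (j := 3) (k := 4) (l := 5) (by decide)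
    have p2 := π_D' K e (i := 4) (j := 5) (k := 6) (l := 7) (by decide)
    have s1 := K.dbl (e 2) (e 3) (e 4) (e 5) (e.injective.ne (by decide)) (e.injective.ne (by decide))
      (e.injective.ne (by decide)) (e.injective.ne (by decide)) (e.injective.ne (by decide))
      (e.injective.ne (by decide)) _ (by rw [p1, map_mul, V_swap, V_swap])
    have s2 := K.dbl (e 4) (e 5) (e 6) (e 7) (e.injective.ne (by decide)) (e.injective.ne (by decide))
      (e.injective.ne (by decide)) (e.injective.ne (by decide)) (e.injective.ne (by decide))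
      (e.injective.ne (by decide)) _ (by rw [p2, map_mul, V_swap, V_swap])
    set a := D K (e 2) (e 3) (e 4) (e 5)
    set b := D K (e 4) (e 5) (e 6) (e 7)
    have s3 := K.dbl (e 2) (e 3) (e 6) (e 7) (e.injective.ne (by decide)) (e.injective.ne (by decide))
      (e.injective.ne (by decide)) (e.injective.ne (by decide)) (e.injective.ne (by decide))
      (e.injective.ne (by decide)) (a * b) (by
        rw [map_mul, p1, p2, ← map_mul, ← V_swap, ← V_swap, ← map_mul]
        congr 1
        decide)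
    refine ⟨a, b, f1, f2, s1, s2, ?_⟩
    have e1 : a * (b * a) * b = K.z := by rw [← s3]; group
    have e3 : a⁻¹ = a * K.z := by rw [inv_eq_iff_mul_eq_one, ← mul_assoc, s1, K.z_mul_z]
    have e4 : b⁻¹ = b * K.z := by rw [inv_eq_iff_mul_eq_one, ← mul_assoc, s2, K.z_mul_z]
    have e2 : b * a = a⁻¹ * K.z * b⁻¹ := by rw [← e1]; group
    rw [e2, e3, e4, mul_assoc a, K.z_mul_z, mul_one, mul_assoc]
  rcases hcase with ⟨h01, h23⟩ | ⟨hlt, h0, h1', h23⟩ | ⟨hlt, h0, h1', h2', h3'⟩
  · exact key 2 3 h23 ⟨rfl, rfl⟩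
  · exact key 2 3 h23 ⟨rfl, rfl⟩
  · have p1 := π_D' K e (i := 0) (j := 1) (k := 2) (l := 3) (by decide)
    have p2 := π_D' K e (i := 0) (j := 2) (k := 1) (l := 3) (by decide)
    refine ⟨D K (e 0) (e 1) (e 2) (e 3), D K (e 0) (e 2) (e 1) (e 3), ?_, ?_, ?_, ?_, ?_⟩
    · rw [map_D K hf (e.injective.ne (by decide)) (e.injective.ne (by decide)) (e.injective.ne (by decide))
        (e.injective.ne (by decide)) (e.injective.ne (by decide)), h0, h1', h2', h3']
    · rw [map_D K hf (e.injective.ne (by decide)) (e.injective.ne (by decide)) (e.injective.ne (by decide))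
        (e.injective.ne (by decide)) (e.injective.ne (by decide)), h0, h1', h2', h3']
    · exact K.dbl (e 0) (e 1) (e 2) (e 3) (e.injective.ne (by decide)) (e.injective.ne (by decide))
        (e.injective.ne (by decide)) (e.injective.ne (by decide)) (e.injective.ne (by decide))
        (e.injective.ne (by decide)) _ (by rw [p1, map_mul, V_swap, V_swap])
    · exact K.dbl (e 0) (e 2) (e 1) (e 3) (e.injective.ne (by decide)) (e.injective.ne (by decide))
        (e.injective.ne (by decide)) (e.injective.ne (by decide)) (e.injective.ne (by decide))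
        (e.injective.ne (by decide)) _ (by rw [p2, map_mul, V_swap, V_swap])
    · exact K.anticomm (a := e 0) (b := e 1) (c := e 2) (d := e 3) (e.injective.ne (by decide)) (e.injective.ne (by decide)) (e.injective.ne (by decide))
        (e.injective.ne (by decide)) (e.injective.ne (by decide)) (e.injective.ne (by decide))
        (by rw [p1, map_mul, V_swap, V_swap]) (by rw [p2, map_mul, V_swap, V_swap])

end Auto

/-! ### The form with a group acting on the cover -/

section Act

variable {H : Type*} [Group H] {L : Subgroup H} (K : Cover α L) (φ : H →* Perm α)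

/-- conjugation by an element normalizing `L` -/
def cnj (L : Subgroup H) (v : H) (hv : ∀ x ∈ L, v * x * v⁻¹ ∈ L) : L →* L where
  toFun x := ⟨v * x * v⁻¹, hv x x.2⟩
  map_one' := Subtype.ext (by simp)
  map_mul' x y := Subtype.ext (by simp)

theorem cnj_coe (v : H) (hv : ∀ x ∈ L, v * x * v⁻¹ ∈ L) (x : L) : ((cnj L v hv x : L) : H) = v * x * v⁻¹ := rfl

/-- (A1) for an involution `v` of a group `H` acting on the cover `L`: the elements `h'`, `q`, `w`, `g`, `h`. -/
theorem exists_elements (hL : ∀ v : H, ∀ x ∈ L, v * x * v⁻¹ ∈ L) (hφ : ∀ x : L, φ x = K.π x)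
    (h8 : 8 ≤ Fintype.card α) {v : H} (hv : v * v = 1) (h4 : Fintype.card α ≤ (φ v).support.card + 4) :
    (∃ h ∈ L, h⁻¹ * v * h = v * K.z) ∧ (∃ q ∈ L, q * v = v * q ∧ q * q = (K.z : H)) ∧
      (∃ a ∈ L, ∃ b ∈ L, a * v = v * a ∧ b * v = v * b ∧ a * a = (K.z : H) ∧ b * b = (K.z : H) ∧
        b * a = a * b * K.z) ∧
      ∃ w ∈ L, ∃ g ∈ L, ∃ h ∈ L, w * w = 1 ∧ (φ w).support.card = 8 ∧ w * v = v * w ∧ g⁻¹ * v * g = v * w ∧
        h * v = v * h ∧ h⁻¹ * w * h = w * K.z ∧
        (8 ≤ (φ v).support.card → w ∈ Subgroup.closure {x | x ∈ L ∧ x * v = v * x ∧ x ^ 3 = 1}) := by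
  have hvi : v⁻¹ = v := inv_eq_of_mul_eq_one_left hv
  set f := cnj L v (hL v) with hfdef
  have hf : ∀ g, K.π (f g) = φ v * K.π g * (φ v)⁻¹ := by
    intro g
    rw [← hφ, cnj_coe, map_mul, map_mul, map_inv, hφ]
  have hff : ∀ g, f (f g) = g := by
    intro g
    apply Subtype.ext
    rw [cnj_coe, cnj_coe, hvi]
    calc v * (v * g * v) * v = (v * v) * g * (v * v) := by group
      _ = g := by rw [hv, one_mul, mul_one]
  have h2 : φ v * φ v = 1 := by rw [← map_mul, hv, map_one]
  have fixc : ∀ x : L, f x = x ↔ (x : H) * v = v * x := by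
    intro x
    rw [Subtype.ext_iff, cnj_coe, mul_inv_eq_iff_eq_mul, eq_comm]
  obtain ⟨⟨h', e1⟩, ⟨q, q1, q2⟩, w, r, h, w1, w2, w3, w4, w5, w6, w7⟩ := main K hf hff h2 h8 h4
  obtain ⟨a, b, a1, b1, a2, b2, ab⟩ := exists_quat K hf h2 h8 h4
  refine ⟨⟨h', h'.2, ?_⟩, ⟨q, q.2, (fixc q).1 q1, by simpa using congrArg Subtype.val q2⟩,
    ⟨a, a.2, b, b.2, (fixc a).1 a1, (fixc b).1 b1, by simpa using congrArg Subtype.val a2,
      by simpa using congrArg Subtype.val b2, by simpa using congrArg Subtype.val ab⟩,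
    w, w.2, (r⁻¹ : L), (r⁻¹ : L).2, h, h.2, ?_, ?_, (fixc w).1 w4, ?_, (fixc h).1 w5, ?_, ?_⟩
  · have e2 : v * h' * v⁻¹ = h' * K.z := by
      have := congrArg Subtype.val e1
      rwa [cnj_coe] at this
    have e3 : v * (h' : H) = h' * K.z * v := by rw [← e2]; group
    have e4 : (K.z : H) * v = v * K.z := by
      have := congrArg Subtype.val (map_z K hf (fun x y hxy => by
        have := congrArg f hxy
        rwa [hff, hff] at this))
      rw [cnj_coe, mul_inv_eq_iff_eq_mul] at this
      exact this.symm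
    calc (h' : H)⁻¹ * v * h' = (h' : H)⁻¹ * (v * h') := by group
      _ = (h' : H)⁻¹ * (h' * K.z * v) := by rw [e3]
      _ = K.z * v := by group
      _ = v * K.z := e4
  · simpa using congrArg Subtype.val w2
  · rw [hφ]; exact w3
  · have e2 : (w : H) = v * r * v⁻¹ * (r : H)⁻¹ := by
      have := congrArg Subtype.val w1
      rw [this]
      rfl
    rw [e2]
    calc ((r⁻¹ : L) : H)⁻¹ * v * ((r⁻¹ : L) : H) = r * v * (r : H)⁻¹ := by simp
      _ = (v * v) * r * v * (r : H)⁻¹ := by rw [hv, one_mul]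
      _ = v * (v * r * v⁻¹ * (r : H)⁻¹) := by rw [hvi]; group
  · have e2 : (h : H) * w = w * h * K.z := by simpa using congrArg Subtype.val w6
    have e5 : (K.z : H) * h = h * K.z := by
      have := congrArg Subtype.val (K.z_comm h)
      simpa using this.symm
    have e6 : (K.z : H) * K.z = 1 := by simpa using congrArg Subtype.val K.z_mul_z
    have e3 : (w : H) * h = h * w * K.z := by
      rw [e2, mul_assoc (w * h : H), e6, mul_one]
    calc (h : H)⁻¹ * w * h = (h : H)⁻¹ * (w * h) := by group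
      _ = (h : H)⁻¹ * (h * w * K.z) := by rw [e3]
      _ = w * K.z := by group
  · intro h8'
    have hmap : w ∈ T f := w7 h8'
    have hle : (T f).map L.subtype ≤ Subgroup.closure {x | x ∈ L ∧ x * v = v * x ∧ x ^ 3 = 1} := by
      unfold T
      rw [MonoidHom.map_closure]
      apply Subgroup.closure_mono
      rintro _ ⟨x, ⟨x1, x2⟩, rfl⟩
      exact ⟨x.2, (fixc x).1 x1, by simpa using congrArg Subtype.val x2⟩
    exact hle ⟨w, hmap, rfl⟩

end Act

/-- (A2), second half: in degree less than 16, the centre of a quaternion group of permutations moves exactly 8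
points. -/
theorem card_support_of_quat (h16 : Fintype.card α < 16) {G : Type*} [Group G] (ψ : G →* Perm α) {a b u : G}
    (ha : a * a = u) (hb : b * b = u) (hab : b * a = a * b * u) (hu : u * u = 1) (hne : ψ u ≠ 1) :
    (ψ u).support.card = 8 :=
  Cfsg.Agent.StandardComponent.AltQuat.card_support h16 (α := ψ a) (β := ψ b) (by rw [← map_mul, ha])
    (by rw [← map_mul, hb]) (by rw [← map_mul, hab, map_mul, map_mul]) (by rw [← map_mul, hu, map_one]) hne

end Cfsg.Agent.Intrinsic.AnTypes
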