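import Cfsg.Agent.Intrinsic.Final
import Cfsg.Agent.Intrinsic.RecogMcL

/-!
# S1745 from the three worlds
-/

set_option autoImplicit false

open Cfsg Subgroup

namespace Cfsg.Agent.Intrinsic.AssembleMcL

universe u

/-- S1745. -/
theorem s1745 (h0 : Final.ZeroStmt.{u}) (hN : Final.NZStmt.{u}) (hP : Final.PairStmt.{u})
    {G : Type u} [Group G] [Finite G] [IsSimpleGroup G] (L : Subgroup G)
    (hL : Cfsg.IsStandardSubgroup L)
    (hLX : Cfsg.IsNonsplitDoubleCover ↥L ↥(alternatingGroup (Fin 8))) : Cfsg.Spor.IsoMcL G :=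
  Red.std_mcl (Final.simpleCase h0 hN hP) RecogMcL.mcl L hL hLX

end Cfsg.Agent.Intrinsic.AssembleMcL
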