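import Cfsg.Agent.Intrinsic.InvGraph
import Cfsg.Agent.Intrinsic.ANFactBigCent
import Cfsg.Agent.Intrinsic.Lifting

/-!
# The commuting graph on the involutions of a big 2-component is connected
-/

set_option autoImplicit false

open Cfsg Subgroup
open Cfsg.Agent.Intrinsic.Basic Cfsg.Agent.Intrinsic.Quot
open Cfsg.Agent.SignalizersComponents.IntrinsicBasic Cfsg.Agent.SignalizersComponents.PLayerAut

namespace Cfsg.Agent.Intrinsic.BigConn

section target

variable {X : Type*} [Group X] [Finite X] {n : ℕ} {z : X} {L : Subgroup X}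

/-- The commuting graph on the involutions of a target group is connected. -/
theorem Target.mem_of_closed (h : Target n X z L) (hp : IsPair n z L)
    (hSE : ∀ H : Subgroup X, ¬ IsStronglyEmbedded H) (S : Set X) (hzS : z ∈ S)
    (hS : ∀ t ∈ S, orderOf t = 2 → ∀ t', orderOf t' = 2 → t * t' = t' * t → t' ∈ S) {x : X} (hx : orderOf x = 2) :
    x ∈ S :=
  InvGraph.mem_of_closed (fun ⟨H, hH⟩ => hSE H hH) hp.inv h.2.2.2.2 S hzS hS hx

end target

section big

variable {G : Type*} [Group G] [Finite G] {m : ℕ} {u : G} {J M : Subgroup G}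

/-- Connectedness of the commuting graph on the involutions of a big component `M`, for sets closed under conjugation
by `O(M)`. -/
theorem Big.mem_of_closed (hB : Big m u J M) (hu : orderOf u = 2) (huJ : u ∈ J)
    (hJ : IsComp (M ⊓ Subgroup.centralizer ({u} : Set G)) J)
    (hcov : IsNonsplitDoubleCover (↥J ⧸ oddCore ↥J) ↥(alternatingGroup (Fin m)))
    (hSE : ∀ T : Subgroup (↥M ⧸ oddCore ↥M), ¬ IsStronglyEmbedded T)
    (S : Set G) (huS : u ∈ S) (hS : ∀ t ∈ S, ∀ t' ∈ M, orderOf t' = 2 → Commute t t' → t' ∈ S)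
    (hSc : ∀ t ∈ S, ∀ o ∈ core M, o * t * o⁻¹ ∈ S) {x : G} (hx : x ∈ M) (hx2 : orderOf x = 2) : x ∈ S := by
  have huM := hB.mem
  have sq : ∀ {y : G}, orderOf y = 2 → y * y = 1 := fun {y} h => by rw [← pow_two, ← h, pow_orderOf_eq_one]
  have ne : ∀ {y : G}, orderOf y = 2 → y ≠ 1 := by
    rintro y h rfl
    simp at h
  have hp := isPair_quot (sq hu) (ne hu) huJ huM hJ hcov
  obtain ⟨huM', hT⟩ := id hB
  have hcodd := odd_card_core M
  -- involutions of `M` survive in `M / O(M)`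
  have hne : ∀ {t : G} (ht : t ∈ M), orderOf t = 2 → (QuotientGroup.mk ⟨t, ht⟩ : ↥M ⧸ oddCore ↥M) ≠ 1 := by
    intro t ht ht2 h
    rw [mk_eq_one_iff ht] at h
    exact ne ht2 (Lifting.eq_one_of_odd hcodd h (n := 1) (by rw [pow_one, pow_two, sq ht2]))
  have hord : ∀ {t : G} (ht : t ∈ M), orderOf t = 2 → orderOf (QuotientGroup.mk ⟨t, ht⟩ : ↥M ⧸ oddCore ↥M) = 2 := by
    intro t ht ht2
    refine orderOf_eq_prime ?_ (hne ht ht2)
    rw [← QuotientGroup.mk_pow]
    have : (⟨t, ht⟩ : ↥M) ^ 2 = 1 := Subtype.ext (by rw [pow_two]; exact sq ht2)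
    rw [this, QuotientGroup.mk_one]
  -- congruent involutions are conjugate under the core
  have hcong : ∀ {t t' : G}, t ∈ M → orderOf t = 2 → orderOf t' = 2 → t⁻¹ * t' ∈ core M → t ∈ S → t' ∈ S := by
    intro t t' ht ht2 ht2' h htS
    obtain ⟨o, ho, hoe⟩ := Lifting.exists_conj_eq hcodd (v := t) (v' := t') (n := 1) (m := 1)
      (by rw [pow_one, pow_two, sq ht2]) (by rw [pow_one, pow_two, sq ht2']) (le_normalizer_core M ht) h
    rw [← hoe]
    exact hSc t htS o ho
  have key := Target.mem_of_closed hT hp hSE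
    {q | ∀ (t : G) (ht : t ∈ M), orderOf t = 2 → (QuotientGroup.mk ⟨t, ht⟩ : ↥M ⧸ oddCore ↥M) = q → t ∈ S} ?_ ?_
    (hord hx hx2)
  · exact key x hx hx2 rfl
  · intro t ht ht2 h
    refine hcong huM hu ht2 ?_ huS
    exact (mk_eq_mk_iff' huM ht).1 h.symm
  · intro q hq hq2 q' hq2' hqq' t' ht' ht2' hqt'
    -- an involution over `q`
    obtain ⟨g, hg⟩ := hT.2.2.2.2 q hq2
    obtain ⟨⟨g0, hg0⟩, rfl⟩ := QuotientGroup.mk_surjective g
    have hgu : g0 * u * g0⁻¹ ∈ M := M.mul_mem (M.mul_mem hg0 huM) (M.inv_mem hg0)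
    have hgu2 : orderOf (g0 * u * g0⁻¹) = 2 := by rw [← hu]; exact (MulAut.conj g0).orderOf_eq u
    have hgq : (QuotientGroup.mk ⟨g0 * u * g0⁻¹, hgu⟩ : ↥M ⧸ oddCore ↥M) = q := hg
    have hS1 := hq _ hgu hgu2 hgq
    rw [← hgq, ← hqt'] at hqq'
    have hc := (mk_comm_iff ht' hgu).1 hqq'.symm
    obtain ⟨o, ho, ho1, ho2⟩ := Lifting.exists_involution hcodd (v := g0 * u * g0⁻¹) (x := t') (n := 1)
      (by rw [pow_one, pow_two, sq hgu2]) (le_normalizer_core M hgu) (le_normalizer_core M ht')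
      (by rw [sq ht2']; exact one_mem _) hc
    have hoM : t' * o ∈ M := M.mul_mem ht' (Basic.core_le M ho)
    have h1 : t' * o ≠ 1 := by
      intro h
      have h2 : t' = o⁻¹ := eq_inv_of_mul_eq_one_left h
      exact ne ht2' (Lifting.eq_one_of_odd hcodd (by rw [h2]; exact inv_mem ho : t' ∈ core M) (n := 1)
        (by rw [pow_one, pow_two, sq ht2']))
    have h2 : orderOf (t' * o) = 2 := orderOf_eq_prime (by rw [pow_two, ho1]) h1
    have h3 := hS _ hS1 _ hoM h2 ho2
    refine hcong hoM h2 ht2' ?_ h3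
    rw [mul_inv_rev, mul_assoc, inv_mul_cancel, mul_one]
    exact inv_mem ho

end big

end Cfsg.Agent.Intrinsic.BigConn
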