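import Cfsg.Agent.Intrinsic.RedMain

/-!
# S1745 from the simple case of S1738
-/

set_option autoImplicit false

namespace Cfsg.Agent.Intrinsic.Red

open Subgroup Cfsg Cfsg.Agent.SignalizersComponents Cfsg.Agent.SignalizersComponents.PLayerAut
open Cfsg.Agent.SignalizersComponents.IntrinsicBasic
open Cfsg.Agent.Lib.PComponents (pElem)
open Cfsg.Agent.Intrinsic.Basic
open scoped commutatorElement

universe u

theorem oddCore_eq_bot_of_cover {L : Type*} [Group L] [Finite L] (hq : IsQuasisimple L)
    (hc : Nat.card (center L) = 2) : oddCore L = ⊥ := by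
  have hodd : Odd (Nat.card (oddCore L)) :=
    Nat.coprime_two_right.mp (Lib.Cores.pPrimeCore_coprime 2)
  have hcen : oddCore L ≤ center L := by
    have hn : (oddCore L).Normal := Lib.Cores.pPrimeCore_normal 2
    apply SignalizersComponents.QsBasic.normal_le_center_of_ne_top hq
    intro h
    have h1 : Nat.card (center L) ∣ Nat.card L := Subgroup.card_subgroup_dvd_card _
    rw [hc, ← Subgroup.card_top (G := L), ← h] at h1
    rw [← Nat.not_even_iff_odd, even_iff_two_dvd] at hodd
    exact hodd h1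
  have h1 : Nat.card (oddCore L) ∣ 2 := hc ▸ Subgroup.card_dvd_of_le hcen
  rw [← Subgroup.card_eq_one]
  rcases (Nat.dvd_prime Nat.prime_two).mp h1 with h2 | h2
  · exact h2
  · rw [h2] at hodd
    exact absurd hodd (by decide)

/-- A standard subgroup of type `2.A_n` gives an `n`-pair. -/
theorem pair_of_standard {G : Type*} [Group G] [Finite G] {n : ℕ} (L : Subgroup G)
    (hL : IsStandardSubgroup L) (hLX : IsNonsplitDoubleCover ↥L ↥(alternatingGroup (Fin n))) :
    ∃ z : G, IsPair n z L := by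
  have hp2 : Fact (Nat.Prime 2) := ⟨Nat.prime_two⟩
  obtain ⟨hq, ⟨-, htight⟩, -, hnorm⟩ := hL
  have hcard : 2 ∣ Nat.card (center ↥L) := by rw [hLX.1]
  obtain ⟨z0, hz0⟩ := exists_prime_orderOf_dvd_card' 2 hcard
  have hz2 : orderOf ((z0 : ↥L) : G) = 2 := by
    rw [Subgroup.orderOf_coe, Subgroup.orderOf_coe, hz0]
  obtain ⟨z, hz⟩ : ∃ z : G, z = ((z0 : ↥L) : G) := ⟨_, rfl⟩
  have hzL : z ∈ L := hz ▸ (z0 : ↥L).2
  have hzc : ∀ l ∈ L, l * z = z * l := by
    intro l hl
    rw [hz]
    exact congrArg Subtype.val (mem_center_iff.mp z0.2 ⟨l, hl⟩)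
  rw [← hz] at hz2
  have hzC : z ∈ centralizer (L : Set G) := by
    rw [mem_centralizer_iff]
    exact fun l hl => hzc l hl
  have hLC : L ≤ centralizer ({z} : Set G) := fun l hl =>
    mem_centralizer_singleton_iff.mpr (hzc l hl)
  have hCN : centralizer ({z} : Set G) ≤ normalizer (L : Set G) := by
    intro g hg
    rw [hnorm]
    by_contra h
    have h1 := htight g h
    have h2 : z ∈ centralizer (L : Set G) ⊓
        (centralizer (L : Set G)).map (MulAut.conj g).toMonoidHom := by
      refine ⟨hzC, z, hzC, ?_⟩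
      have h3 : g * z = z * g := mem_centralizer_singleton_iff.mp hg
      change g * z * g⁻¹ = z
      rw [h3]; group
    have h4 : z = 1 := eq_one_of_mem_odd h1 h2 (n := 1) (by
      rw [pow_one, ← hz2, pow_orderOf_eq_one])
    rw [h4] at hz2
    simp at hz2
  have hb : oddCore ↥L = ⊥ := oddCore_eq_bot_of_cover hq hLX.1
  let e : ↥L ≃* (↥L ⧸ oddCore ↥L) :=
    ((QuotientGroup.quotientMulEquivOfEq hb).trans QuotientGroup.quotientBot).symm
  refine ⟨z, hz2, hzL, ?_, cover_congr e hLX⟩
  rw [Basic.isComp_iff]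
  refine ⟨hLC, ?_, PCompQuot.quasisimple_congr e hq, ?_⟩
  · exact (Subgroup.normal_subgroupOf_of_le_normalizer hCN).isSubnormal
  · have h1 := Lib.PComponents.quasisimple_pElem_top (p := 2) hq
      (hcard.trans (Subgroup.card_subgroup_dvd_card _))
    have h2 := map_pElem (p := 2) L.subtype L.subtype_injective ⊤
    rw [h1, ← MonoidHom.range_eq_map, L.range_subtype] at h2
    exact h2.symm

/-- S1745 from the simple case and the recognition of `McL`. -/
theorem std_mcl (h : SimpleCase.{u})
    (hMcL : ∀ (X : Type u) [Group X] [Finite X] [IsSimpleGroup X] (z : X), orderOf z = 2 →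
      IsNonsplitDoubleCover ↥(centralizer ({z} : Set X)) ↥(alternatingGroup (Fin 8)) →
        Spor.IsoMcL X)
    {G : Type u} [Group G] [Finite G] [IsSimpleGroup G] (L : Subgroup G)
    (hL : IsStandardSubgroup L) (hLX : IsNonsplitDoubleCover ↥L ↥(alternatingGroup (Fin 8))) :
    Spor.IsoMcL G := by
  obtain ⟨z, hz⟩ := pair_of_standard L hL hLX
  obtain ⟨-, -, hC, -, -⟩ := h G (pqs_all h _) 8 le_rfl z L hz
  exact hMcL G z hz.inv (by rw [hC]; exact hLX)

end Cfsg.Agent.Intrinsic.Red
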