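import Cfsg.Agent.Intrinsic.TypesEnd
import Cfsg.Agent.Intrinsic.RedStd

/-!
# S1738: the simple case from the three worlds
-/

set_option autoImplicit false

open Cfsg Subgroup Equiv
open Cfsg.Agent.SignalizersComponents
open Cfsg.Agent.SignalizersComponents.IntrinsicBasic
open Cfsg.Agent.Intrinsic.Basic Cfsg.Agent.Intrinsic.TypesDef

namespace Cfsg.Agent.Intrinsic.Final

universe u

/-- World zero (section 4): all commuting pairs of conjugates are of type (0). -/
def ZeroStmt : Prop :=
  ∀ (G : Type u) [Group G] [Finite G] [IsSimpleGroup G] (n : ℕ) (z : G) (L : Subgroup G),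
    World n z L → (∀ u v X X', Om z L u X → Om z L v X' → u * v = v * u → Fixes v X) → False

/-- World one without pairs of type (0) (section 5a). -/
def NZStmt : Prop :=
  ∀ (G : Type u) [Group G] [Finite G] [IsSimpleGroup G] (n : ℕ) (D : Set G) (L : G → Subgroup G),
    WOne.W1 n D L → (∀ u ∈ D, ∀ v ∈ D, u ≠ v → u * v = v * u → ¬ Fixes v (L u)) →
    ∀ u ∈ D, Target n G u (L u)

/-- World one with pairs of type (0) (section 5b). -/
def PairStmt : Prop :=
  ∀ (G : Type u) [Group G] [Finite G] [IsSimpleGroup G] (n : ℕ) (D : Set G) (L : G → Subgroup G),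
    WOne.W1 n D L → (∃ u ∈ D, ∃ v ∈ D, u ≠ v ∧ u * v = v * u ∧ Fixes v (L u)) → False

theorem exists_world {G : Type u} [Group G] [Finite G] [IsSimpleGroup G] {n : ℕ} {z : G}
    {L : Subgroup G} (ih : PQS.{u} (Nat.card G)) (hn : 8 ≤ n) (hp : IsPair n z L) :
    World n z L := by
  refine ⟨hp, hn, ih, fun x hx hc => ?_⟩
  have hx1 : x ≠ 1 := by rintro rfl; simp at hx
  have h1 : x ∈ center G := by
    rw [mem_center_iff]
    intro y
    have : y ∈ centralizer ({x} : Set G) := by rw [hc]; exact mem_top y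
    exact mem_centralizer_singleton_iff.mp this
  have h2 : center G = ⊤ := by
    rcases (inferInstance : (center G).Normal).eq_bot_or_eq_top with h | h
    · rw [h] at h1; exact absurd (mem_bot.mp h1) hx1
    · exact h
  -- so `G` is abelian, but `L` is perfect
  apply hp.comp.ne_bot
  rw [← hp.comp.perfect, eq_bot_iff, Subgroup.commutator_le]
  intro a _ b _
  have h3 : a ∈ center G := by rw [h2]; exact mem_top a
  rw [mem_bot, commutatorElement_eq_one_iff_mul_comm]
  exact (mem_center_iff.mp h3 b).symm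

theorem simpleCase (h0 : ZeroStmt.{u}) (hN : NZStmt.{u}) (hP : PairStmt.{u}) :
    Red.SimpleCase.{u} := by
  intro G _ _ _ ih n hn z L hp
  have hW := exists_world ih hn hp
  by_cases h1 : ∃ u v X X', Om z L u X ∧ Om z L v X' ∧ u * v = v * u ∧ ¬ Fixes v X
  · obtain ⟨hW1, hL⟩ := TypesEnd.exists_w1 hW h1
    by_cases h2 : ∃ u ∈ TypesEnd.Dz z, ∃ v ∈ TypesEnd.Dz z, u ≠ v ∧ u * v = v * u ∧
        Fixes v (TypesEnd.Lz z L u)
    · exact (hP G n _ _ hW1 h2).elim
    · push Not at h2
      have h3 := hN G n _ _ hW1 h2 z ⟨1, by group⟩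
      rwa [hL] at h3
  · push Not at h1
    exact (h0 G n z L hW h1).elim

end Cfsg.Agent.Intrinsic.Final
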