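import Cfsg.Agent.Intrinsic.Functor
import Cfsg.Agent.TwoFusion.StronglyEmbeddedBasic
import Cfsg.Prelude.Def_TwoFusion

/-!
# S1738, (4.4) and (4.5) : the end of the world `W0`
-/

set_option autoImplicit false

namespace Cfsg.Agent.Intrinsic.FunctorEnd

open Subgroup Cfsg Cfsg.Agent.Intrinsic.Functor
open Cfsg.Agent.SignalizersComponents
open Cfsg.Agent.SignalizersComponents.PLayerAut
open Cfsg.Agent.SignalizersComponents.IntrinsicBasic

universe u

/-- The statement S1174 for the group `G`. -/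
def Closure (G : Type u) [Group G] : Prop :=
  ∀ (S : Sylow 2 G) (T : Subgroup G), T ≠ ⊥ → IsStronglyClosed T (S : Subgroup G) →
    (⨆ t : {t : G // t ∈ T ∧ orderOf t = 2}, centralizer ({(t : G)} : Set G)) ≠ ⊤ →
    ∃ H : Subgroup G, IsStronglyEmbedded H

variable {G : Type u} [Group G] [Finite G]

theorem le_normalizer_W {A : Subgroup G} (hodd : W A ≠ ⊥)
    (hC : ∀ a ∈ A, a ≠ 1 → centralizer ({a} : Set G) ≤
      th a ⊔ (centralizer ({a} : Set G) ⊓ normalizer (A : Set G))) {a : G} (ha : a ∈ A)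
    (ha1 : a ≠ 1) : centralizer ({a} : Set G) ≤ normalizer (W A : Set G) :=
  (hC a ha ha1).trans (sup_le ((le_W ha ha1).trans le_normalizer)
    (inf_le_right.trans (normalizer_le A)))

/-- **(4.5), first part.** -/
theorem exists_stronglyEmbedded [IsSimpleGroup G] (h74 : Closure G) (T : Sylow 2 G) {A : Subgroup G}
    (hA1 : A ≠ ⊥) (hAtop : A ≠ ⊤) (hsc : IsStronglyClosed A (T : Subgroup G))
    (hodd : Odd (Nat.card (W A)))
    (hC : ∀ a ∈ A, a ≠ 1 → centralizer ({a} : Set G) ≤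
      th a ⊔ (centralizer ({a} : Set G) ⊓ normalizer (A : Set G))) :
    ∃ H : Subgroup G, IsStronglyEmbedded H := by
  have hone : ∀ {t : G}, orderOf t = 2 → t ≠ 1 := by
    rintro t ht rfl
    rw [orderOf_one] at ht
    omega
  apply h74 T A hA1 hsc
  by_cases hW : W A = ⊥
  · -- `N(A)`
    have h1 : (⨆ t : {t : G // t ∈ A ∧ orderOf t = 2}, centralizer ({(t : G)} : Set G)) ≤
        normalizer (A : Set G) := by
      refine iSup_le fun t => ?_
      refine (hC t t.2.1 (hone t.2.2)).trans (sup_le ?_ inf_le_right)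
      have h2 := le_W t.2.1 (hone t.2.2)
      rw [hW] at h2
      exact h2.trans bot_le
    intro htop
    rw [htop] at h1
    have hn : A.Normal := normalizer_eq_top_iff.mp (top_le_iff.mp h1)
    rcases hn.eq_bot_or_eq_top with h | h
    · exact hA1 h
    · exact hAtop h
  · have h1 : (⨆ t : {t : G // t ∈ A ∧ orderOf t = 2}, centralizer ({(t : G)} : Set G)) ≤
        normalizer (W A : Set G) :=
      iSup_le fun t => le_normalizer_W hW hC t.2.1 (hone t.2.2)
    intro htop
    rw [htop] at h1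
    have hn : (W A).Normal := normalizer_eq_top_iff.mp (top_le_iff.mp h1)
    rcases hn.eq_bot_or_eq_top with h | h
    · exact hW h
    · -- `G` would have odd order
      apply hA1
      rw [eq_bot_iff]
      intro a ha
      rw [mem_bot]
      have h2 : IsPGroup 2 A := T.isPGroup'.to_le hsc.1
      obtain ⟨k, hk⟩ := h2 ⟨a, ha⟩
      have h3 : a ^ 2 ^ k = 1 := congrArg Subtype.val hk
      exact eq_one_of_mem_odd hodd (by rw [h]; exact mem_top a) h3

/-- **(4.5).** -/
theorem false_of_closed [IsSimpleGroup G] (h74 : Closure G) (T : Sylow 2 G) {A : Subgroup G}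
    (hA1 : A ≠ ⊥) (hAtop : A ≠ ⊤) (hsc : IsStronglyClosed A (T : Subgroup G))
    (hodd : Odd (Nat.card (W A)))
    (hC : ∀ a ∈ A, a ≠ 1 → centralizer ({a} : Set G) ≤
      th a ⊔ (centralizer ({a} : Set G) ⊓ normalizer (A : Set G)))
    {x y : G} (hx : orderOf x = 2) (hy : orderOf y = 2) (hxy : ¬ IsConj x y) : False := by
  obtain ⟨H, hH⟩ := exists_stronglyEmbedded h74 T hA1 hAtop hsc hodd hC
  exact hxy (TwoFusion.StronglyEmbeddedBasic.isConj_of_involutions hH x y hx hy)

/-- **(4.4) + (4.5)** : rank at least 3. -/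
theorem false_of_rank [IsSimpleGroup G] (FT : OddSol G) (h74 : Closure G) (T : Sylow 2 G)
    {A : Subgroup G} (hAtop : A ≠ ⊤) (hsc : IsStronglyClosed A (T : Subgroup G))
    (hAc : ∀ a ∈ A, ∀ b ∈ A, a * b = b * a) (hA2 : ∀ a ∈ A, a * a = 1) (hA8 : 8 ≤ Nat.card A)
    (hC : ∀ a ∈ A, a ≠ 1 → centralizer ({a} : Set G) ≤
      th a ⊔ (centralizer ({a} : Set G) ⊓ normalizer (A : Set G)))
    (hbal : ∀ a ∈ A, a ≠ 1 → ∀ b ∈ A, b ≠ 1 → th a ⊓ centralizer ({b} : Set G) ≤ th b)
    {x y : G} (hx : orderOf x = 2) (hy : orderOf y = 2) (hxy : ¬ IsConj x y) : False := by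
  have hA1 : A ≠ ⊥ := by
    rintro rfl
    rw [Subgroup.card_bot] at hA8
    omega
  exact false_of_closed h74 T hA1 hAtop hsc
    (closure_of_rank FT hAc (fun a ha => by rw [pow_two]; exact hA2 a ha) hA8 hbal).1 hC hx hy hxy

/-- **(4.4) + (4.5)** : `A` is a four-group. -/
theorem false_of_separated [IsSimpleGroup G] (FT : OddSol G) (h74 : Closure G) (T : Sylow 2 G)
    {A B : Subgroup G} (hAtop : A ≠ ⊤) (hsc : IsStronglyClosed A (T : Subgroup G))
    (hcs : IsCoreSeparated A B)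
    (hC : ∀ a ∈ A, a ≠ 1 → centralizer ({a} : Set G) ≤
      th a ⊔ (centralizer ({a} : Set G) ⊓ normalizer (A : Set G)))
    (hbal : ∀ a ∈ A, a ≠ 1 → ∃ b ∈ B, th a ⊓ centralizer (B : Set G) ≤ th b)
    {x y : G} (hx : orderOf x = 2) (hy : orderOf y = 2) (hxy : ¬ IsConj x y) : False := by
  have hA1 : A ≠ ⊥ := by
    rintro rfl
    have := hcs.2.2.1
    rw [Subgroup.card_bot] at this
    omega
  refine false_of_closed h74 T hA1 hAtop hsc (closure_of_separated FT hcs ?_).1 hC hx hy hxy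
  intro a ha ha1
  obtain ⟨b, hb, hbb⟩ := hbal a ha ha1
  exact bal_of hb hbb

end Cfsg.Agent.Intrinsic.FunctorEnd
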