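import Mathlib
import Cfsg.Prelude.Def_Involutions

/-!
# The commuting graph on the involutions of a group with one class of involutions

`conn`: if there is no strongly embedded subgroup, the commuting graph on the involutions is connected.
-/

set_option autoImplicit false

namespace Cfsg.Agent.Intrinsic.InvGraph

open Subgroup Cfsg

variable {X : Type*} [Group X]

/-- adjacency: commuting involutions -/
def R (a b : X) : Prop := orderOf a = 2 ∧ orderOf b = 2 ∧ a * b = b * a

theorem R.symm {a b : X} (h : R a b) : R b a := ⟨h.2.1, h.1, h.2.2.symm⟩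

theorem R.conj {a b : X} (h : R a b) (g : X) : R (g * a * g⁻¹) (g * b * g⁻¹) := by
  obtain ⟨h1, h2, h3⟩ := h
  refine ⟨?_, ?_, ?_⟩
  · rw [← h1]; exact (MulAut.conj g).orderOf_eq a
  · rw [← h2]; exact (MulAut.conj g).orderOf_eq b
  · calc g * a * g⁻¹ * (g * b * g⁻¹) = g * (a * b) * g⁻¹ := by group
      _ = g * (b * a) * g⁻¹ := by rw [h3]
      _ = g * b * g⁻¹ * (g * a * g⁻¹) := by group

/-- same connected component -/
def Conn (a b : X) : Prop := Relation.ReflTransGen R a b

theorem Conn.refl (a : X) : Conn a a := Relation.ReflTransGen.refl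

theorem Conn.trans {a b c : X} (h : Conn a b) (h' : Conn b c) : Conn a c := Relation.ReflTransGen.trans h h'

theorem Conn.symm {a b : X} (h : Conn a b) : Conn b a := by
  induction h with
  | refl => exact Relation.ReflTransGen.refl
  | tail _ h ih => exact Relation.ReflTransGen.head h.symm ih

theorem Conn.conj {a b : X} (h : Conn a b) (g : X) : Conn (g * a * g⁻¹) (g * b * g⁻¹) := by
  induction h with
  | refl => exact Relation.ReflTransGen.refl
  | tail _ h ih => exact Relation.ReflTransGen.tail ih (h.conj g)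

/-- The stabiliser of the component of `z`. -/
def N (z : X) : Subgroup X where
  carrier := {g | Conn z (g * z * g⁻¹)}
  one_mem' := by
    show Conn z (1 * z * 1⁻¹)
    rw [one_mul, inv_one, mul_one]
    exact Conn.refl z
  mul_mem' := by
    intro g h hg hh
    have h1 := Conn.conj hh g
    have h2 : Conn z (g * (h * z * h⁻¹) * g⁻¹) := Conn.trans hg h1
    show Conn z (g * h * z * (g * h)⁻¹)
    have h3 : g * h * z * (g * h)⁻¹ = g * (h * z * h⁻¹) * g⁻¹ := by group
    rw [h3]
    exact h2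
  inv_mem' := by
    intro g hg
    have h1 := (Conn.conj hg g⁻¹).symm
    have h2 : g⁻¹ * (g * z * g⁻¹) * g⁻¹⁻¹ = z := by group
    rw [h2] at h1
    exact h1

theorem mem_N {z g : X} : g ∈ N z ↔ Conn z (g * z * g⁻¹) := Iff.rfl

theorem centralizer_le_N (z : X) : centralizer ({z} : Set X) ≤ N z := by
  intro g hg
  rw [mem_centralizer_singleton_iff] at hg
  rw [mem_N, hg, mul_inv_cancel_right]
  exact Conn.refl z

/-- A nontrivial 2-group has a central involution. -/
theorem exists_center [Finite X] {P : Subgroup X} (hP : IsPGroup 2 P) (hne : P ≠ ⊥) :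
    ∃ c ∈ P, orderOf c = 2 ∧ ∀ x ∈ P, x * c = c * x := by
  have h2 : Fact (Nat.Prime 2) := ⟨Nat.prime_two⟩
  have hnt : Nontrivial P := (Subgroup.nontrivial_iff_ne_bot P).2 hne
  have hc : Nontrivial (center P) := hP.center_nontrivial
  have hcp : IsPGroup 2 (center P) := hP.to_subgroup _
  have hd : 2 ∣ Nat.card (center P) := by
    obtain ⟨n, hn⟩ := IsPGroup.iff_card.1 hcp
    rw [hn]
    apply dvd_pow_self
    rintro rfl
    rw [pow_zero] at hn
    have := Finite.one_lt_card_iff_nontrivial.2 hc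
    omega
  obtain ⟨c, hc2⟩ := exists_prime_orderOf_dvd_card' 2 hd
  refine ⟨((c : P) : X), (c : P).2, by rw [Subgroup.orderOf_coe, Subgroup.orderOf_coe, hc2], fun x hx =>
    congrArg Subtype.val (Subgroup.mem_center_iff.1 c.2 ⟨x, hx⟩)⟩

/-- Two involutions of a 2-subgroup are in the same component. -/
theorem conn_of_pgroup [Finite X] {P : Subgroup X} (hP : IsPGroup 2 P) {a b : X} (ha : a ∈ P) (hb : b ∈ P)
    (ha2 : orderOf a = 2) (hb2 : orderOf b = 2) : Conn a b := by
  obtain ⟨c, hcP, hco, hcom⟩ := exists_center hP (by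
    rintro rfl
    rw [Subgroup.mem_bot] at ha
    rw [ha, orderOf_one] at ha2
    omega)
  exact Relation.ReflTransGen.head ⟨ha2, hco, hcom a ha⟩
    (Relation.ReflTransGen.single ⟨hco, hb2, (hcom b hb).symm⟩)

/-- The stabiliser of the component of a 2-central involution is the whole group or strongly embedded. -/
theorem N_eq_top [Finite X] (hSE : ¬ ∃ H : Subgroup X, IsStronglyEmbedded H) {c : X} (hc : orderOf c = 2)
    (P : Sylow 2 X) (hcP : c ∈ P) (hP : (P : Subgroup X) ≤ centralizer {c}) : N c = ⊤ := by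
  by_contra hne
  apply hSE
  have h2 : Fact (Nat.Prime 2) := ⟨Nat.prime_two⟩
  have hPN : (P : Subgroup X) ≤ N c := hP.trans (centralizer_le_N c)
  have hcN : c ∈ N c := hPN hcP
  -- involutions of `N` are in the component
  have key : ∀ t ∈ N c, orderOf t = 2 → Conn c t := by
    intro t ht ht2
    set P' : Sylow 2 (N c) := P.subtype hPN with hP'
    have ht' : orderOf (⟨t, ht⟩ : N c) = 2 := by rw [← ht2, Subgroup.orderOf_mk]
    have hz : IsPGroup 2 (zpowers (⟨t, ht⟩ : N c)) :=
      IsPGroup.of_card (n := 1) (by rw [Nat.card_zpowers, ht', pow_one])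
    obtain ⟨Q, hQ⟩ := hz.exists_le_sylow
    obtain ⟨n, hn⟩ := MulAction.exists_smul_eq (N c) Q P'
    have h1 : n * ⟨t, ht⟩ * n⁻¹ ∈ P' := by
      rw [← hn, Sylow.smul_def]
      exact Subgroup.smul_mem_pointwise_smul _ (MulAut.conj n) _ (hQ (mem_zpowers _))
    have h3 : (n : X) * t * (n : X)⁻¹ ∈ (P : Subgroup X) := h1
    have h4 : Conn c ((n : X) * t * (n : X)⁻¹) := conn_of_pgroup P.2 hcP h3 hc (by
      rw [← ht2]; exact (MulAut.conj (n : X)).orderOf_eq t)
    have h5 := (Conn.conj h4 (n : X)⁻¹)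
    have h6 : (n : X)⁻¹ * ((n : X) * t * (n : X)⁻¹) * (n : X)⁻¹⁻¹ = t := by group
    rw [h6] at h5
    exact Conn.trans (mem_N.1 (inv_mem n.2)) h5
  refine ⟨N c, hne, ?_, ?_⟩
  · rw [even_iff_two_dvd]
    have := Subgroup.orderOf_dvd_natCard (N c) hcN
    rwa [hc] at this
  · intro g hg
    by_contra hodd
    rw [Nat.not_odd_iff_even, even_iff_two_dvd] at hodd
    obtain ⟨t, ht⟩ := exists_prime_orderOf_dvd_card' 2 hodd
    have ht2 : orderOf (t : X) = 2 := by rw [Subgroup.orderOf_coe, ht]
    obtain ⟨h1, s, hs, hst⟩ := t.2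
    have hst' : g * s * g⁻¹ = t := hst
    have hs2 : orderOf s = 2 := by rw [← ht2, ← hst']; exact ((MulAut.conj g).orderOf_eq s).symm
    have h3 := key t h1 ht2
    have h4 := (key s hs hs2).conj g
    rw [hst'] at h4
    exact hg (mem_N.2 (h3.trans h4.symm))

/-- If `X` has one class of involutions and no strongly embedded subgroup, the commuting graph on the involutions is
connected. -/
theorem conn [Finite X] (hSE : ¬ ∃ H : Subgroup X, IsStronglyEmbedded H) {z : X} (hz : orderOf z = 2)
    (hone : ∀ x : X, orderOf x = 2 → ∃ g, g * z * g⁻¹ = x) {x : X} (hx : orderOf x = 2) : Conn z x := by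
  have h2 : Fact (Nat.Prime 2) := ⟨Nat.prime_two⟩
  obtain ⟨P⟩ : Nonempty (Sylow 2 X) := inferInstance
  have hd0 : 2 ∣ Nat.card X := by rw [← hz]; exact orderOf_dvd_natCard z
  have hd1 : 2 ∣ Nat.card P := P.dvd_card_of_dvd_card hd0
  obtain ⟨c, hcP, hc, hcom⟩ := exists_center P.2 (by
    intro h
    have h3 : Nat.card (P : Subgroup X) = 1 := by rw [h, Subgroup.card_bot]
    have h4 : 2 ∣ Nat.card (P : Subgroup X) := hd1
    rw [h3] at h4
    omega)
  have hN := N_eq_top hSE hc P hcP (fun x hx => mem_centralizer_singleton_iff.2 (hcom x hx))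
  obtain ⟨g, hg⟩ := hone c hc
  have key : ∀ y : X, orderOf y = 2 → Conn c y := by
    intro y hy
    obtain ⟨k, hk⟩ := hone y hy
    have h3 : k * g⁻¹ ∈ N c := by rw [hN]; exact mem_top _
    have h4 : k * g⁻¹ * c * (k * g⁻¹)⁻¹ = y := by rw [← hg, ← hk]; group
    rw [mem_N, h4] at h3
    exact h3
  exact (key z hz).symm.trans (key x hx)

/-- The same in the form of an induction principle. -/
theorem mem_of_closed [Finite X] (hSE : ¬ ∃ H : Subgroup X, IsStronglyEmbedded H) {z : X} (hz : orderOf z = 2)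
    (hone : ∀ x : X, orderOf x = 2 → ∃ g, g * z * g⁻¹ = x) (S : Set X) (hzS : z ∈ S)
    (hS : ∀ t ∈ S, orderOf t = 2 → ∀ t', orderOf t' = 2 → t * t' = t' * t → t' ∈ S) {x : X} (hx : orderOf x = 2) :
    x ∈ S := by
  have h := conn hSE hz hone hx
  clear hx
  induction h with
  | refl => exact hzS
  | tail _ h ih => exact hS _ ih h.1 _ h.2.1 h.2.2

/-- **GEN**.  If in addition any two involutions of `C(z)` different from `z` are conjugate in `C(z)`, then
`X = ⟨C(z), C(t)⟩` for commuting involutions `z ≠ t`, if `X` is simple. -/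
theorem gen [Finite X] [IsSimpleGroup X] (hSE : ¬ ∃ H : Subgroup X, IsStronglyEmbedded H) {z : X}
    (hz : orderOf z = 2) (hone : ∀ x : X, orderOf x = 2 → ∃ g, g * z * g⁻¹ = x)
    (htwo : ∀ t t' : X, orderOf t = 2 → orderOf t' = 2 → t ≠ z → t' ≠ z → t * z = z * t → t' * z = z * t' →
      ∃ g, g * z = z * g ∧ g * t * g⁻¹ = t') {t : X} (ht : orderOf t = 2) (htz : t ≠ z) (hc : t * z = z * t) :
    centralizer ({z} : Set X) ⊔ centralizer ({t} : Set X) = ⊤ := by
  set H := centralizer ({z} : Set X) ⊔ centralizer ({t} : Set X) with hH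
  -- conjugation of centralizers
  have hconj : ∀ {g x y : X}, g ∈ H → g * x * g⁻¹ = y → centralizer ({x} : Set X) ≤ H →
      centralizer ({y} : Set X) ≤ H := by
    intro g x y hg hxy hx k hk
    rw [mem_centralizer_singleton_iff] at hk
    have h1 : g⁻¹ * k * g ∈ centralizer ({x} : Set X) := by
      rw [mem_centralizer_singleton_iff]
      have hx' : x = g⁻¹ * y * g := by rw [← hxy]; group
      rw [hx']
      calc g⁻¹ * k * g * (g⁻¹ * y * g) = g⁻¹ * (k * y) * g := by group
        _ = g⁻¹ * (y * k) * g := by rw [hk]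
        _ = g⁻¹ * y * g * (g⁻¹ * k * g) := by group
    have h2 : k = g * (g⁻¹ * k * g) * g⁻¹ := by group
    rw [h2]
    exact mul_mem (mul_mem hg (hx h1)) (inv_mem hg)
  -- transport of `htwo`
  have htwo' : ∀ y t t' : X, orderOf y = 2 → orderOf t = 2 → orderOf t' = 2 → t ≠ y → t' ≠ y → t * y = y * t →
      t' * y = y * t' → ∃ g, g * y = y * g ∧ g * t * g⁻¹ = t' := by
    intro y t t' hy ht ht' h1 h1' h2 h2'
    obtain ⟨k, rfl⟩ := hone y hy
    obtain ⟨g, hg1, hg2⟩ := htwo (k⁻¹ * t * k) (k⁻¹ * t' * k)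
      (by rw [← ht]; simpa using (MulAut.conj k⁻¹).orderOf_eq t)
      (by rw [← ht']; simpa using (MulAut.conj k⁻¹).orderOf_eq t')
      (fun h => h1 (by rw [← h]; group)) (fun h => h1' (by rw [← h]; group))
      (by
        calc k⁻¹ * t * k * z = k⁻¹ * (t * (k * z * k⁻¹)) * k := by group
          _ = k⁻¹ * (k * z * k⁻¹ * t) * k := by rw [h2]
          _ = z * (k⁻¹ * t * k) := by group)
      (by
        calc k⁻¹ * t' * k * z = k⁻¹ * (t' * (k * z * k⁻¹)) * k := by group
          _ = k⁻¹ * (k * z * k⁻¹ * t') * k := by rw [h2']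
          _ = z * (k⁻¹ * t' * k) := by group)
    refine ⟨k * g * k⁻¹, ?_, ?_⟩
    · calc k * g * k⁻¹ * (k * z * k⁻¹) = k * (g * z) * k⁻¹ := by group
        _ = k * (z * g) * k⁻¹ := by rw [hg1]
        _ = k * z * k⁻¹ * (k * g * k⁻¹) := by group
    · calc k * g * k⁻¹ * t * (k * g * k⁻¹)⁻¹ = k * (g * (k⁻¹ * t * k) * g⁻¹) * k⁻¹ := by group
        _ = t' := by rw [hg2]; group
  -- all centralizers of involutions are in `H`
  have hall : ∀ x : X, orderOf x = 2 → centralizer ({x} : Set X) ≤ H := by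
    intro x hx
    have := mem_of_closed hSE hz hone
      {y | centralizer ({y} : Set X) ≤ H ∧ ∀ y', orderOf y' = 2 → y * y' = y' * y → centralizer ({y'} : Set X) ≤ H}
      ?_ ?_ hx
    · exact this.1
    · refine ⟨le_sup_left, fun y' hy' hcy => ?_⟩
      by_cases hyz : y' = z
      · rw [hyz]; exact le_sup_left
      · obtain ⟨g, hg1, hg2⟩ := htwo t y' ht hy' htz hyz hc hcy.symm
        exact hconj (mem_sup_left (mem_centralizer_singleton_iff.2 hg1)) hg2 le_sup_right
    · rintro y ⟨h1, h3⟩ hy y' hy' hcy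
      refine ⟨h3 y' hy' hcy, fun y'' hy'' hcy' => ?_⟩
      by_cases hyy : y = y'
      · rw [← hyy] at hcy'
        exact h3 y'' hy'' hcy'
      by_cases hyy' : y'' = y'
      · rw [hyy']; exact h3 y' hy' hcy
      · obtain ⟨g, hg1, hg2⟩ := htwo' y' y y'' hy' hy hy'' hyy hyy' hcy hcy'.symm
        exact hconj (h3 y' hy' hcy (mem_centralizer_singleton_iff.2 hg1)) hg2 h1
  -- `H` contains the normal closure of `z`
  have hn : normalClosure ({z} : Set X) ≤ H := by
    rw [normalClosure, closure_le]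
    intro y hy
    rw [Group.mem_conjugatesOfSet_iff] at hy
    obtain ⟨a, ha, hay⟩ := hy
    rw [Set.mem_singleton_iff] at ha
    subst ha
    obtain ⟨g, hg⟩ := isConj_iff.1 hay
    have hy2 : orderOf y = 2 := by
      rw [← hz, ← hg]
      exact (MulAut.conj g).orderOf_eq a
    exact hall y hy2 (mem_centralizer_singleton_iff.2 rfl)
  rcases (inferInstance : (normalClosure ({z} : Set X)).Normal).eq_bot_or_eq_top with h | h
  · exfalso
    have h1 : z ∈ normalClosure ({z} : Set X) := subset_normalClosure (Set.mem_singleton z)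
    rw [h, Subgroup.mem_bot] at h1
    rw [h1, orderOf_one] at hz
    omega
  · rw [h] at hn
    exact top_le_iff.1 hn

end Cfsg.Agent.Intrinsic.InvGraph
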