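import Cfsg.Agent.Intrinsic.NZElevenPair

/-!
# Balance in groups with one class of involutions and involution centralizers `2.A₁₁` modulo core

The theorems are stated relative to the odd order theorem and the solvable signalizer functor theorem.
-/

set_option autoImplicit false
set_option linter.unusedSectionVars false

namespace Cfsg.Agent.Intrinsic.NZElevenMain

open Subgroup Equiv Cfsg
open Cfsg.Agent.SporRec.TwoAn Cfsg.Agent.SporRec.TwoAnEleven
open Cfsg.Agent.NineCore.Proj Cfsg.Agent.NineCore.NoTarget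
open Cfsg.Agent.Intrinsic.NZElevenCover Cfsg.Agent.Intrinsic.NZElevenPair

universe u v

section Lift

/-- Lifting an elementary abelian two-subgroup above a given two-subgroup. -/
theorem exists_elem_lift {C : Type u} [Group C] [Finite C] {X : Type v} [Group X] {π : C →* X}
    (hs : Function.Surjective π) (hodd : Odd (Nat.card π.ker)) {B : Subgroup X} (hB : IsElementaryAbelian 2 B)
    {F : Subgroup C} (hF : IsPGroup 2 F) (hFB : F.map π ≤ B) :
    ∃ E : Subgroup C, F ≤ E ∧ E.map π = B ∧ IsElementaryAbelian 2 E ∧ Nat.card E = Nat.card B := by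
  have : Fact (Nat.Prime 2) := ⟨Nat.prime_two⟩
  set K := B.comap π with hK
  have hFK : F ≤ K := fun x hx => hFB ⟨x, hx, rfl⟩
  have hF' : IsPGroup 2 (F.subgroupOf K) := hF.of_equiv (Subgroup.subgroupOfEquivOfLe hFK).symm
  obtain ⟨P, hP⟩ := hF'.exists_le_sylow
  let ρ : K →* B := (π.comp K.subtype).codRestrict B (fun x => x.2)
  have hρ : Function.Surjective ρ := by
    rintro ⟨y, hy⟩
    obtain ⟨c, rfl⟩ := hs y
    exact ⟨⟨c, hy⟩, rfl⟩
  have hBp : IsPGroup 2 B := isPGroup_of_elem hB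
  have h1 : ((P : Subgroup K).map ρ).index = 1 := by
    have h2 : ((P : Subgroup K).map ρ).index ∣ (P : Subgroup K).index := Subgroup.index_map_dvd _ hρ
    have h3 : ¬ 2 ∣ (P : Subgroup K).index := P.not_dvd_index
    have hfin : Finite B := Finite.of_surjective ρ hρ
    obtain ⟨k, hk⟩ := IsPGroup.iff_card.1 hBp
    have h4 : ((P : Subgroup K).map ρ).index ∣ Nat.card B := Subgroup.index_dvd_card _
    rw [hk] at h4
    obtain ⟨j, -, hj⟩ := (Nat.dvd_prime_pow Nat.prime_two).1 h4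
    rcases Nat.eq_zero_or_pos j with h5 | h5
    · rw [hj, h5, pow_zero]
    · exact absurd ((dvd_pow_self 2 h5.ne').trans (hj ▸ h2)) h3
  have h5 : (P : Subgroup K).map ρ = ⊤ := Subgroup.index_eq_one.1 h1
  set E := (P : Subgroup K).map K.subtype with hE
  have hEp : IsPGroup 2 E := P.2.map _
  have hEmap : E.map π = B := by
    rw [hE, Subgroup.map_map]
    have h6 : π.comp K.subtype = B.subtype.comp ρ := rfl
    rw [h6, ← Subgroup.map_map, h5, ← MonoidHom.range_eq_map, Subgroup.range_subtype]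
  have hFE : F ≤ E := fun x hx => ⟨⟨x, hFK hx⟩, hP hx, rfl⟩
  have hinj : ∀ x ∈ E, π x = 1 → x = 1 := by
    intro x hx h1
    have h2 : IsPGroup 2 (E ⊓ π.ker : Subgroup _) := hEp.to_le inf_le_left
    have h3 : Odd (Nat.card (E ⊓ π.ker : Subgroup _)) := odd_of_le inf_le_right hodd
    obtain ⟨k, hk⟩ := IsPGroup.iff_card.1 h2
    have h4 : Nat.card (E ⊓ π.ker : Subgroup _) = 1 := by
      rcases Nat.eq_zero_or_pos k with h5 | h5
      · rw [hk, h5, pow_zero]
      · exact absurd (hk ▸ dvd_pow_self 2 h5.ne') (not_two_dvd h3)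
    have h5 := Subgroup.eq_bot_of_card_eq _ h4
    have h6 : x ∈ E ⊓ π.ker := ⟨hx, h1⟩
    rwa [h5, Subgroup.mem_bot] at h6
  have hinj' : ∀ x ∈ E, ∀ y ∈ E, π x = π y → x = y := by
    intro x hx y hy hxy
    have := hinj (x * y⁻¹) (E.mul_mem hx (E.inv_mem hy)) (by rw [map_mul, hxy, map_inv, mul_inv_cancel])
    exact mul_inv_eq_one.1 this
  refine ⟨E, hFE, hEmap, elem_mk ?_ ?_, ?_⟩
  · intro x hx y hy
    apply hinj' _ (E.mul_mem hx hy) _ (E.mul_mem hy hx)
    rw [map_mul, map_mul]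
    exact elem_comm hB _ (hEmap ▸ ⟨x, hx, rfl⟩) _ (hEmap ▸ ⟨y, hy, rfl⟩)
  · intro x hx
    apply hinj' _ (E.mul_mem hx hx) _ (one_mem _)
    rw [map_mul, map_one]
    exact elem_sq hB _ (hEmap ▸ ⟨x, hx, rfl⟩)
  · rw [← hEmap]
    refine Nat.card_congr (Equiv.ofBijective
      (fun x : E => (⟨π x, ⟨x, x.2, rfl⟩⟩ : E.map π)) ⟨?_, ?_⟩)
    · intro x y hxy
      exact Subtype.ext (hinj' x x.2 y y.2 (congrArg Subtype.val hxy))
    · rintro ⟨_, ⟨x, hx, rfl⟩⟩
      exact ⟨⟨x, hx⟩, rfl⟩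

theorem elem_closure {H : Type*} [Group H] {a b : H} (ha : a * a = 1) (hb : b * b = 1) (hab : a * b = b * a) :
    IsElementaryAbelian 2 (closure {a, b}) := by
  have h1 : closure {a, b} ≤ centralizer ({a, b} : Set H) := by
    rw [closure_le]
    intro x hx
    rw [SetLike.mem_coe, mem_centralizer_iff]
    intro y hy
    simp only [Set.mem_insert_iff, Set.mem_singleton_iff] at hx hy
    rcases hx with rfl | rfl <;> rcases hy with rfl | rfl
    · rfl
    · exact hab.symm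
    · exact hab
    · rfl
  have h2 : closure {a, b} ≤ centralizer (closure {a, b} : Set H) := by
    rw [closure_le]
    intro x hx
    rw [SetLike.mem_coe, mem_centralizer_iff]
    intro y hy
    exact (mem_centralizer_iff.1 (h1 hy) x hx).symm
  have hc : ∀ x ∈ closure {a, b}, ∀ y ∈ closure {a, b}, x * y = y * x := fun x hx y hy =>
    (mem_centralizer_iff.1 (h2 hx) y hy).symm
  refine elem_mk hc ?_
  intro x hx
  refine closure_induction (p := fun x _ => x * x = 1) ?_ ?_ ?_ ?_ hx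
  · intro y hy
    simp only [Set.mem_insert_iff, Set.mem_singleton_iff] at hy
    rcases hy with rfl | rfl
    exacts [ha, hb]
  · exact one_mul 1
  · intro y w hy hw h3 h4
    calc y * w * (y * w) = y * (w * y) * w := by group
      _ = y * y * (w * w) := by rw [hc w hw y hy]; group
      _ = 1 := by rw [h3, h4, one_mul]
  · intro y hy h3
    rw [← mul_inv_rev, h3, inv_one]

/-- An involution lifts to an involution commuting with a given involution. -/
theorem exists_inv_lift {C : Type u} [Group C] [Finite C] {X : Type v} [Group X] {π : C →* X}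
    (hs : Function.Surjective π) (hodd : Odd (Nat.card π.ker)) {a : C} (ha : a * a = 1) {y : X}
    (hy : y * π a = π a * y) (hyy : y * y = 1) : ∃ c : C, c * c = 1 ∧ c * a = a * c ∧ π c = y := by
  obtain ⟨c, hc, hcy⟩ := exists_lift_commute hs hodd ha hy
  have h1 : c * c ∈ π.ker := by rw [MonoidHom.mem_ker, map_mul, hcy, hyy]
  obtain ⟨m, hm⟩ := hodd
  have h2 : (c * c) ^ (Nat.card π.ker) = 1 := by
    have h5 : (⟨c * c, h1⟩ : π.ker) ^ (Nat.card π.ker) = 1 := pow_card_eq_one'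
    have h6 := congrArg Subtype.val h5
    rwa [SubmonoidClass.coe_pow] at h6
  refine ⟨c ^ (Nat.card π.ker), ?_, ?_, ?_⟩
  · rw [← pow_two, ← pow_mul, mul_comm, pow_mul, pow_two, h2]
  · exact (show Commute c a from hc).pow_left _
  · rw [map_pow, hcy, hm, pow_succ, pow_mul, pow_two, hyy, one_pow, one_mul]

end Lift

section Main

variable {α : Type*} [Fintype α] [DecidableEq α] {X : Type v} [Group X] [Finite X] (K : Cover α X)
  {G : Type u} [Group G] [Finite G]

theorem img {u : G} (hu : orderOf u = 2) (q : Quo K.z u) {v : G} (hv : orderOf v = 2) (hne : v ≠ u)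
    (hvC : v ∈ centralizer ({u} : Set G)) :
    q.π ⟨v, hvC⟩ * q.π ⟨v, hvC⟩ = 1 ∧ q.π ⟨v, hvC⟩ ≠ 1 ∧ q.π ⟨v, hvC⟩ ≠ K.z := by
  have hu2 := orderOf_two_iff.1 hu
  have hv2 := orderOf_two_iff.1 hv
  set a' : centralizer ({u} : Set G) := ⟨v, hvC⟩ with ha'
  have ha'2 : a' * a' = 1 := Subtype.ext hv2.1
  refine ⟨by rw [← map_mul, ha'2, map_one], ?_, ?_⟩
  · intro h1
    exact hv2.2 (congrArg Subtype.val (eq_one_of_odd ha'2 q.odd h1))
  · intro h1
    have h2 : q.π (a' * ⟨u, mem_self u⟩) = 1 := by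
      rw [map_mul, h1, q.map_z, K.z_mul_z]
    have hvu : v * u = u * v := mem_centralizer_singleton_iff.1 hvC
    have h4 : a' * ⟨u, mem_self u⟩ * (a' * ⟨u, mem_self u⟩) = 1 := by
      apply Subtype.ext
      change v * u * (v * u) = 1
      calc v * u * (v * u) = v * (u * v) * u := by group
        _ = v * v * (u * u) := by rw [← hvu]; group
        _ = 1 := by rw [hu2.1, hv2.1, one_mul]
    have h5 := congrArg Subtype.val (eq_one_of_odd h4 q.odd h2)
    change v * u = 1 at h5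
    apply hne
    rw [mul_eq_one_iff_eq_inv, inv_eq_of_mul_eq_one_left hu2.1] at h5
    exact h5

/-- Pairs of commuting distinct involutions are conjugate. -/
theorem pair_conj (hα : Fintype.card α = 11) (hq : ∀ u : G, orderOf u = 2 → Nonempty (Quo K.z u))
    (hconj : ∀ x y : G, orderOf x = 2 → orderOf y = 2 → ∃ g : G, g * x * g⁻¹ = y) {u v u' v' : G}
    (hu : orderOf u = 2) (hv : orderOf v = 2) (huv : v ≠ u) (hc : v * u = u * v)
    (hu' : orderOf u' = 2) (hv' : orderOf v' = 2) (huv' : v' ≠ u') (hc' : v' * u' = u' * v') :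
    ∃ g : G, g * u * g⁻¹ = u' ∧ g * v * g⁻¹ = v' := by
  obtain ⟨g₁, hg₁⟩ := hconj u u' hu hu'
  obtain ⟨w, hw⟩ : ∃ w, w = g₁ * v * g₁⁻¹ := ⟨_, rfl⟩
  have hwo : orderOf w = 2 := by
    have hv2 := orderOf_two_iff.1 hv
    rw [orderOf_two_iff, hw]
    refine ⟨?_, fun h => hv2.2 (by simpa using h)⟩
    calc g₁ * v * g₁⁻¹ * (g₁ * v * g₁⁻¹) = g₁ * (v * v) * g₁⁻¹ := by group
      _ = 1 := by rw [hv2.1]; group
  have hwu : w ≠ u' := by
    rw [hw, ← hg₁]
    intro h
    apply huv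
    have := mul_right_cancel h
    exact mul_left_cancel this
  have hwC : w ∈ centralizer ({u'} : Set G) := by
    rw [mem_centralizer_singleton_iff, hw, ← hg₁]
    calc g₁ * v * g₁⁻¹ * (g₁ * u * g₁⁻¹) = g₁ * (v * u) * g₁⁻¹ := by group
      _ = g₁ * (u * v) * g₁⁻¹ := by rw [hc]
      _ = g₁ * u * g₁⁻¹ * (g₁ * v * g₁⁻¹) := by group
  have hv'C : v' ∈ centralizer ({u'} : Set G) := mem_centralizer_singleton_iff.2 hc'
  obtain ⟨q⟩ := hq u' hu'
  obtain ⟨a1, a2, a3⟩ := img K hu' q hwo hwu hwC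
  obtain ⟨b1, b2, b3⟩ := img K hu' q hv' huv' hv'C
  obtain ⟨y, hy⟩ := conj_of_involution K (by omega) (by omega) a1 a2 a3 b1 b2 b3
  obtain ⟨c, hc1, -⟩ := exists_lift_conj q.surj q.odd (a := ⟨w, hwC⟩) (b := ⟨v', hv'C⟩)
    (Subtype.ext (orderOf_two_iff.1 hwo).1) (Subtype.ext (orderOf_two_iff.1 hv').1) hy
  refine ⟨c * g₁, ?_, ?_⟩
  · have h1 := mem_centralizer_singleton_iff.1 c.2
    calc (c : G) * g₁ * u * ((c : G) * g₁)⁻¹ = c * (g₁ * u * g₁⁻¹) * (c : G)⁻¹ := by group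
      _ = u' := by rw [hg₁, h1, mul_inv_cancel_right]
  · have h1 : (c : G) * w * (c : G)⁻¹ = v' := congrArg Subtype.val hc1
    calc (c : G) * g₁ * v * ((c : G) * g₁)⁻¹ = c * (g₁ * v * g₁⁻¹) * (c : G)⁻¹ := by group
      _ = v' := by rw [← hw, h1]

/-- The elementary abelian subgroups of order sixteen. -/
structure IsE16 (E : Subgroup G) : Prop where
  elem : IsElementaryAbelian 2 E
  card : Nat.card E = 16

theorem IsE16.conj {E : Subgroup G} (hE : IsE16 E) (g : G) : IsE16 (E.map (MulAut.conj g).toMonoidHom) := by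
  refine ⟨elem_mk ?_ ?_, ?_⟩
  · rintro _ ⟨x, hx, rfl⟩ _ ⟨y, hy, rfl⟩
    rw [← map_mul, ← map_mul, elem_comm hE.1 x hx y hy]
  · rintro _ ⟨x, hx, rfl⟩
    rw [← map_mul, elem_sq hE.1 x hx, map_one]
  · rw [← hE.2]
    exact Subgroup.card_map_of_injective (MulAut.conj g).injective

theorem IsE16.isA {E : Subgroup G} (hE : IsE16 E) {u : G} (hu : u ∈ E) (q : Quo K.z u) :
    IsA K ((E.subgroupOf (centralizer ({u} : Set G))).map q.π) := by
  obtain ⟨h1, h2, h3⟩ := map_elem q hE.1 hu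
  exact ⟨h3, h2.trans hE.2, elem_sq h1⟩

theorem exists_E16_of_isA {u : G} (hu : orderOf u = 2) (q : Quo K.z u) {B : Subgroup X} (hB : IsA K B)
    {F : Subgroup (centralizer ({u} : Set G))} (hF : IsPGroup 2 F) (hFB : F.map q.π ≤ B) :
    ∃ E : Subgroup G, IsE16 E ∧ u ∈ E ∧ ∀ f ∈ F, (f : G) ∈ E := by
  have hBe : IsElementaryAbelian 2 B := by
    refine elem_mk ?_ hB.3
    intro a ha b hb
    have h1 := hB.3 a ha
    have h2 := hB.3 b hb
    have h3 := hB.3 _ (B.mul_mem ha hb)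
    have h4 : (a * b)⁻¹ = a * b := inv_eq_of_mul_eq_one_left h3
    rw [← h4, mul_inv_rev, inv_eq_of_mul_eq_one_left h1, inv_eq_of_mul_eq_one_left h2]
  obtain ⟨E, hFE, hmap, hE, hcard⟩ := exists_elem_lift q.surj q.odd hBe hF hFB
  refine ⟨E.map (centralizer ({u} : Set G)).subtype, ⟨elem_mk ?_ ?_, ?_⟩, ?_, ?_⟩
  · rintro _ ⟨x, hx, rfl⟩ _ ⟨y, hy, rfl⟩
    rw [← map_mul, ← map_mul, elem_comm hE x hx y hy]
  · rintro _ ⟨x, hx, rfl⟩
    rw [← map_mul, elem_sq hE x hx, map_one]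
  · rw [Subgroup.card_map_of_injective (Subgroup.subtype_injective _), hcard, hB.2]
  · have h1 : K.z ∈ E.map q.π := hmap ▸ hB.1
    obtain ⟨s, hs, hsz⟩ := h1
    have hcomm : s * ⟨u, mem_self u⟩ = ⟨u, mem_self u⟩ * s :=
      Subtype.ext (mem_centralizer_singleton_iff.1 s.2)
    have hzz : (⟨u, mem_self u⟩ : centralizer ({u} : Set G)) * ⟨u, mem_self u⟩ = 1 :=
      Subtype.ext (orderOf_two_iff.1 hu).1
    have h2 : s * ⟨u, mem_self u⟩ ∈ q.π.ker := by
      rw [MonoidHom.mem_ker, map_mul, hsz, q.map_z, K.z_mul_z]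
    have h3 := eq_one_of_odd (x := s * ⟨u, mem_self u⟩) (by
      calc s * ⟨u, mem_self u⟩ * (s * ⟨u, mem_self u⟩) = s * (⟨u, mem_self u⟩ * s) * ⟨u, mem_self u⟩ := by group
        _ = s * s * (⟨u, mem_self u⟩ * ⟨u, mem_self u⟩) := by rw [← hcomm]; group
        _ = 1 := by rw [elem_sq hE s hs, hzz, one_mul]) q.odd h2
    rw [mul_eq_one_iff_eq_inv, inv_eq_of_mul_eq_one_left hzz] at h3
    exact ⟨s, hs, by rw [h3]; rfl⟩
  · intro f hf
    exact ⟨f, hFE hf, rfl⟩

theorem exists_E16 (hα : Fintype.card α = 11) (hq : ∀ u : G, orderOf u = 2 → Nonempty (Quo K.z u))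
    (hconj : ∀ x y : G, orderOf x = 2 → orderOf y = 2 → ∃ g : G, g * x * g⁻¹ = y) {u v : G}
    (hu : orderOf u = 2) (hv : orderOf v = 2) (huv : v ≠ u) (hc : v * u = u * v) :
    ∃ E : Subgroup G, IsE16 E ∧ u ∈ E ∧ v ∈ E := by
  obtain ⟨q⟩ := hq u hu
  obtain ⟨B, hB⟩ := exists_isA K (r := 3) hα
  obtain ⟨E, hE, huE, -⟩ := exists_E16_of_isA K hu q hB (F := ⊥) IsPGroup.of_bot (by rw [Subgroup.map_bot]; exact bot_le)
  obtain ⟨w, hwE, hw⟩ : ∃ w ∈ E, w ∉ zpowers u := by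
    by_contra hcon
    push Not at hcon
    have h1 := Subgroup.card_le_of_le (H := E) (K := zpowers u) hcon
    rw [hE.2, Nat.card_zpowers, hu] at h1
    omega
  have hw1 : w ≠ 1 := fun h => hw (h ▸ one_mem _)
  have hwu : w ≠ u := fun h => hw (h ▸ mem_zpowers u)
  have hwo : orderOf w = 2 := orderOf_two_iff.2 ⟨elem_sq hE.1 w hwE, hw1⟩
  obtain ⟨g, hg1, hg2⟩ := pair_conj K hα hq hconj hu hwo hwu (elem_comm hE.1 w hwE u huE) hu hv huv hc
  exact ⟨_, hE.conj g, ⟨u, huE, hg1⟩, ⟨w, hwE, hg2⟩⟩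

/-- Subgroups of odd order normalised by `E`. -/
theorem sig (hα : Fintype.card α = 11) {E : Subgroup G} (hE : IsE16 E) {u : G} (hu : u ∈ E) (q : Quo K.z u) :
    ∃ x : X, x ^ 3 = 1 ∧ (K.π x).IsThreeCycle ∧
      (∀ b ∈ (E.subgroupOf (centralizer ({u} : Set G))).map q.π, (K.π b).Disjoint (K.π x)) ∧
      ∀ D : Subgroup G, E ≤ normalizer (D : Set G) → Odd (Nat.card D) →
        ∀ d ∈ D, ∀ hd : d ∈ centralizer ({u} : Set G), q.π ⟨d, hd⟩ ∈ zpowers x := by
  obtain ⟨x, hx3, -, hxc, hdis, hD⟩ := exists_three K hα (hE.isA K hu q)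
  refine ⟨x, hx3, hxc, hdis, ?_⟩
  intro D hED hodd d hdD hd
  refine hD ((D.subgroupOf (centralizer ({u} : Set G))).map q.π) ?_ ?_ ⟨⟨d, hd⟩, hdD, rfl⟩
  · rw [Subgroup.le_normalizer_iff]
    rintro _ ⟨a, ha, rfl⟩ _ ⟨x, hx, rfl⟩
    refine ⟨a * x * a⁻¹, ?_, by simp⟩
    exact (Subgroup.le_normalizer_iff.1 hED) _ ha _ hx
  · apply odd_card_map
    have h1 : ((D.subgroupOf (centralizer ({u} : Set G))).map (centralizer ({u} : Set G)).subtype) ≤ D := by
      rintro _ ⟨x, hx, rfl⟩; exact hx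
    have h2 := odd_of_le h1 hodd
    rwa [Nat.card_congr ((D.subgroupOf (centralizer ({u} : Set G))).equivMapOfInjective _
      (centralizer ({u} : Set G)).subtype_injective).toEquiv.symm] at h2

/-- The signalizer functor. -/
def theta (E : Subgroup G) (e : G) : Subgroup G :=
  ⨆ D : {D : Subgroup G // D ≤ centralizer ({e} : Set G) ∧ E ≤ normalizer (D : Set G) ∧ Odd (Nat.card D)},
    (D : Subgroup G)

theorem le_theta {E : Subgroup G} {e : G} {D : Subgroup G} (h1 : D ≤ centralizer ({e} : Set G))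
    (h2 : E ≤ normalizer (D : Set G)) (h3 : Odd (Nat.card D)) : D ≤ theta E e :=
  le_iSup (fun D : {D : Subgroup G // D ≤ centralizer ({e} : Set G) ∧ E ≤ normalizer (D : Set G) ∧
    Odd (Nat.card D)} => (D : Subgroup G)) ⟨D, h1, h2, h3⟩

theorem theta_le (E : Subgroup G) (e : G) : theta E e ≤ centralizer ({e} : Set G) :=
  iSup_le fun D => D.2.1

theorem le_normalizer_theta (E : Subgroup G) (e : G) : E ≤ normalizer (theta E e : Set G) := by
  intro b hb
  rw [mem_normalizer_iff_map_conj_eq, theta, Subgroup.map_iSup]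
  refine iSup_congr fun D => ?_
  rw [← mem_normalizer_iff_map_conj_eq]
  exact D.2.2.1 hb

theorem theta_odd (hα : Fintype.card α = 11) {E : Subgroup G} (hE : IsE16 E) {e : G} (he : e ∈ E)
    (q : Quo K.z e) : Odd (Nat.card (theta E e)) := by
  obtain ⟨x, hx3, -, -, hx⟩ := sig K hα hE he q
  have hle : theta E e ≤ ((zpowers x).comap q.π).map (centralizer ({e} : Set G)).subtype := by
    refine iSup_le ?_
    rintro ⟨D, h1, h2, h3⟩ d hd
    exact ⟨⟨d, h1 hd⟩, hx D h2 h3 d hd (h1 hd), rfl⟩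
  refine odd_of_le hle ?_
  apply odd_card_map
  by_contra hcon
  rw [Nat.not_odd_iff_even, even_iff_two_dvd] at hcon
  have : Fact (Nat.Prime 2) := ⟨Nat.prime_two⟩
  obtain ⟨y, hy⟩ := exists_prime_orderOf_dvd_card' 2 hcon
  have hy2 := orderOf_two_iff.1 hy
  have h1 : q.π (y : centralizer ({e} : Set G)) = 1 := by
    obtain ⟨k, hk⟩ := mem_zpowers_iff.1 y.2
    have h2 : q.π (y : centralizer ({e} : Set G)) ^ 3 = 1 := by
      rw [← hk, ← zpow_natCast, ← zpow_mul, mul_comm, zpow_mul, zpow_natCast, hx3, one_zpow]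
    have h3 : q.π (y : centralizer ({e} : Set G)) ^ 2 = 1 := by
      rw [← map_pow, pow_two]
      have := congrArg Subtype.val hy2.1
      change (y : centralizer ({e} : Set G)) * y = 1 at this
      rw [this, map_one]
    rw [pow_succ, h3, one_mul] at h2
    exact h2
  have h2 : (y : centralizer ({e} : Set G)) = 1 :=
    eq_one_of_odd (congrArg Subtype.val hy2.1) q.odd h1
  exact hy2.2 (Subtype.ext h2)

/-- The cores of two commuting involutions generate a group of odd order. -/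
theorem odd_sup (ft : FTStatement.{u}) (sf : SFStatement.{u}) (hα : Fintype.card α = 11)
    (hq : ∀ u : G, orderOf u = 2 → Nonempty (Quo K.z u)) {E : Subgroup G} (hE : IsE16 E) {u v : G}
    (hu : orderOf u = 2) (hv : orderOf v = 2) (huE : u ∈ E) (hvE : v ∈ E) :
    Odd (Nat.card (core u ⊔ core v : Subgroup G)) := by
  have hodd : ∀ a ∈ E, a ≠ 1 → Odd (Nat.card (theta E a)) := by
    intro a ha ha1
    obtain ⟨q⟩ := hq a (orderOf_two_iff.2 ⟨elem_sq hE.1 a ha, ha1⟩)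
    exact theta_odd K hα hE ha q
  obtain ⟨h1, -⟩ := sf G E (elem_comm hE.1) hE.1.2 (by rw [hE.2]; norm_num) (fun a => theta E a)
    (fun a _ _ => theta_le E a) (fun a ha ha1 => not_two_dvd (hodd a ha ha1))
    (fun a _ _ b hb x hx => (Subgroup.le_normalizer_iff.1 (le_normalizer_theta E a)) b hb x hx)
    (fun a ha ha1 => ft _ (hodd a ha ha1))
    (fun a ha ha1 b hb hb1 => by
      refine le_theta inf_le_right ?_ (odd_of_le inf_le_left (hodd a ha ha1))
      rw [Subgroup.le_normalizer_iff]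
      intro c hc x hx
      refine ⟨(Subgroup.le_normalizer_iff.1 (le_normalizer_theta E a)) c hc x hx.1, ?_⟩
      have h2 : c * b * c⁻¹ = b := by rw [elem_comm hE.1 c hc b hb, mul_inv_cancel_right]
      have h3 := conj_mem_centralizer c hx.2
      rwa [h2] at h3)
  have h2 : ∀ a ∈ E, orderOf a = 2 → core a ≤ ⨆ a : {a : G // a ∈ E ∧ a ≠ 1}, theta E a := by
    intro a ha hao
    have ha1 := (orderOf_two_iff.1 hao).2
    refine le_trans ?_ (le_iSup (fun a : {a : G // a ∈ E ∧ a ≠ 1} => theta E (a : G)) ⟨a, ha, ha1⟩)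
    refine le_theta (core_le a) ?_ (core_odd a)
    intro b hb
    exact centralizer_le_normalizer_core a (mem_centralizer_singleton_iff.2 (elem_comm hE.1 b hb a ha))
  exact odd_of_le (sup_le (h2 u huE hu) (h2 v hvE hv)) (odd_of_not_two_dvd h1)

theorem eq_of_mem_zpowers {H : Type*} [Group H] {x g : H} (hx : x ^ 3 = 1) (hg : g ∈ zpowers x) :
    g = 1 ∨ g = x ∨ g = x * x := by
  obtain ⟨k, rfl⟩ := mem_zpowers_iff.1 hg
  have h1 : x ^ k = x ^ (k % 3) := by
    have h2 := Int.emod_add_mul_ediv k 3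
    conv_lhs => rw [← h2, zpow_add, zpow_mul]
    have h3 : x ^ (3 : ℤ) = 1 := by exact_mod_cast hx
    rw [h3, one_zpow, mul_one]
  have h2 := Int.emod_nonneg k (show (3 : ℤ) ≠ 0 by norm_num)
  have h3 := Int.emod_lt_of_pos k (show (0 : ℤ) < 3 by norm_num)
  rw [h1]
  obtain ⟨j, hj⟩ : ∃ j, j = k % 3 := ⟨_, rfl⟩
  rw [← hj] at h2 h3 ⊢
  interval_cases j
  · left; exact zpow_zero x
  · right; left; exact zpow_one x
  · right; right; exact zpow_two x

/-- If the core of `v` is unbalanced, then it contributes a three-cycle in the centralizer of `u`. -/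
theorem exists_cycle (hα : Fintype.card α = 11) {E : Subgroup G} (hE : IsE16 E) {u v : G} (hu : orderOf u = 2)
    (hv : orderOf v = 2) (huE : u ∈ E) (hvE : v ∈ E) (hne : v ≠ u) (q : Quo K.z u)
    (hunb : ¬ core v ⊓ centralizer ({u} : Set G) ≤ core u) (hvC : v ∈ centralizer ({u} : Set G)) :
    ∃ (t : G) (ht : t ∈ centralizer ({u} : Set G)), t ∈ core v ∧
      (∀ p, K.π (q.π ⟨t, ht⟩) (K.π (q.π ⟨t, ht⟩) (K.π (q.π ⟨t, ht⟩) p)) = p) ∧
      ∀ p, K.π (q.π ⟨t, ht⟩) p ≠ p ↔ K.π (q.π ⟨v, hvC⟩) p = p := by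
  obtain ⟨x, hx3, hxc, hdis, hx⟩ := sig K hα hE huE q
  obtain ⟨t, ht, htn⟩ := Set.not_subset.1 hunb
  obtain ⟨htv, htC⟩ := ht
  have hX : ∀ N : Subgroup X, N.Normal → Odd (Nat.card N) → N = ⊥ := fun N hN hodd => eq_bot_of_normal K hα hN hodd
  have h1 : q.π ⟨t, htC⟩ ≠ 1 := fun h => htn ((q.map_eq_one_iff hX ⟨t, htC⟩).2 h)
  have h2 : q.π ⟨t, htC⟩ ∈ zpowers x := by
    refine hx (core v) ?_ (core_odd v) t htv htC
    intro b hb
    exact centralizer_le_normalizer_core v (mem_centralizer_singleton_iff.2 (elem_comm hE.1 b hb v hvE))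
  obtain ⟨b1, b2, b3⟩ := img K hu q hv hne hvC
  have h3 := apply_ne_iff K hα b1 b2 b3 hxc (hdis _ ⟨⟨v, hvC⟩, hvE, rfl⟩)
  have hc3 : ∀ p, K.π x (K.π x (K.π x p)) = p := by
    intro p
    have h4 : K.π x ^ 3 = 1 := by rw [← map_pow, hx3, map_one]
    have h5 := congrArg (fun f : Perm α => f p) h4
    exact h5
  refine ⟨t, htC, htv, ?_⟩
  rcases eq_of_mem_zpowers hx3 h2 with h | h | h
  · exact absurd h h1
  · rw [h]
    exact ⟨hc3, h3⟩
  · rw [h]
    refine ⟨fun p => ?_, fun p => ?_⟩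
    · rw [map_mul, Perm.mul_apply, Perm.mul_apply, Perm.mul_apply, hc3, hc3]
    · rw [← h3 p, map_mul, Perm.mul_apply, not_iff_not]
      constructor
      · intro h4
        have h5 := hc3 p
        rw [h4] at h5
        exact h5
      · intro h4
        rw [h4, h4]

/-- **Balance** for groups with one class of involutions and `C(u)/O(C(u)) ≅ 2.A₁₁`. -/
theorem false_of_unbalanced (ft : FTStatement.{u}) (sf : SFStatement.{u}) (hα : Fintype.card α = 11)
    (hq : ∀ u : G, orderOf u = 2 → Nonempty (Quo K.z u))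
    (hconj : ∀ x y : G, orderOf x = 2 → orderOf y = 2 → ∃ g : G, g * x * g⁻¹ = y) {u₀ v₀ : G}
    (hu₀ : orderOf u₀ = 2) (hv₀ : orderOf v₀ = 2) (hne₀ : v₀ ≠ u₀) (hc₀ : v₀ * u₀ = u₀ * v₀)
    (hunb₀ : ¬ core v₀ ⊓ centralizer ({u₀} : Set G) ≤ core u₀) : False := by
  -- all pairs are unbalanced
  have hunb : ∀ u v : G, orderOf u = 2 → orderOf v = 2 → v ≠ u → v * u = u * v →
      ¬ core v ⊓ centralizer ({u} : Set G) ≤ core u := by
    intro u v hu hv hne hc hle
    apply hunb₀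
    obtain ⟨g, hg1, hg2⟩ := pair_conj K hα hq hconj hu₀ hv₀ hne₀ hc₀ hu hv hne hc
    rintro x ⟨hx1, hx2⟩
    have h1 : g * x * g⁻¹ ∈ core v ⊓ centralizer ({u} : Set G) := by
      refine ⟨?_, ?_⟩
      · rw [← hg2, core_conj]; exact ⟨x, hx1, rfl⟩
      · rw [← hg1]; exact conj_mem_centralizer g hx2
    have h2 := hle h1
    rw [← hg1, core_conj] at h2
    obtain ⟨y, hy, hyx⟩ := h2
    have h3 : g * y * g⁻¹ = g * x * g⁻¹ := hyx
    have h4 : y = x := mul_left_cancel (mul_right_cancel h3)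
    rwa [← h4]
  -- the configuration
  obtain ⟨z, hz⟩ : ∃ z, z = u₀ := ⟨_, rfl⟩
  have hzo : orderOf z = 2 := hz ▸ hu₀
  obtain ⟨q⟩ := hq z hzo
  have hz2 := orderOf_two_iff.1 hzo
  obtain ⟨x₁, y₁, hx₁, hy₁, hxy₁, cx1, cxz, cy1, cyz, cxy1, cxyz, hsupp⟩ := exists_config K hα
  obtain ⟨x', hx'2, -, hx'⟩ := exists_inv_lift q.surj q.odd (a := 1) (one_mul 1) (y := x₁)
    (by rw [map_one, one_mul, mul_one]) hx₁
  obtain ⟨y', hy'2, hyx', hy'⟩ := exists_inv_lift q.surj q.odd hx'2 (y := y₁) (by rw [hx']; exact hxy₁.symm) hy₁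
  obtain ⟨x, hx⟩ : ∃ x : G, x = x' := ⟨_, rfl⟩
  obtain ⟨y, hy⟩ : ∃ y : G, y = y' := ⟨_, rfl⟩
  have hx2 : x * x = 1 := by rw [hx]; exact congrArg Subtype.val hx'2
  have hy2 : y * y = 1 := by rw [hy]; exact congrArg Subtype.val hy'2
  have hyx : y * x = x * y := by rw [hx, hy]; exact congrArg Subtype.val hyx'
  have hxz : x * z = z * x := by rw [hx]; exact mem_centralizer_singleton_iff.1 x'.2
  have hyz : y * z = z * y := by rw [hy]; exact mem_centralizer_singleton_iff.1 y'.2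
  have ex : x' = ⟨x, hx ▸ x'.2⟩ := Subtype.ext hx.symm
  have ey : y' = ⟨y, hy ▸ y'.2⟩ := Subtype.ext hy.symm
  have hx1 : x ≠ 1 := by
    intro h
    apply cx1
    have : x' = 1 := Subtype.ext (hx.symm.trans h)
    rw [← hx', this, map_one]
  have hy1 : y ≠ 1 := by
    intro h
    apply cy1
    have : y' = 1 := Subtype.ext (hy.symm.trans h)
    rw [← hy', this, map_one]
  have hxo : orderOf x = 2 := orderOf_two_iff.2 ⟨hx2, hx1⟩
  have hyo : orderOf y = 2 := orderOf_two_iff.2 ⟨hy2, hy1⟩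
  have hxnz : x ≠ z := by
    intro h
    apply cxz
    have : x' = ⟨z, mem_self z⟩ := Subtype.ext (hx.symm.trans h)
    rw [← hx', this, q.map_z]
  have hynz : y ≠ z := by
    intro h
    apply cyz
    have : y' = ⟨z, mem_self z⟩ := Subtype.ext (hy.symm.trans h)
    rw [← hy', this, q.map_z]
  have hxny : x ≠ y := by
    intro h
    apply hsupp
    have : x' = y' := Subtype.ext (hx.symm.trans (h.trans hy))
    rw [← hx', ← hy', this]
  have hzx1 : z * x ≠ 1 := by
    intro h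
    rw [mul_eq_one_iff_eq_inv, inv_eq_of_mul_eq_one_left hx2] at h
    exact hxnz h.symm
  have hzxy : z * x ≠ y := by
    intro h
    apply hsupp
    have : (⟨z, mem_self z⟩ : centralizer ({z} : Set G)) * x' = y' := by
      apply Subtype.ext
      change z * (x' : G) = y'
      rw [← hx, ← hy, h]
    rw [← hx', ← hy', ← this, map_mul, map_mul, q.map_z, K.π_z, one_mul]
  have hzx2 : z * x * (z * x) = 1 := by
    calc z * x * (z * x) = z * (x * z) * x := by group
      _ = z * z * (x * x) := by rw [hxz]; group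
      _ = 1 := by rw [hz2.1, hx2, one_mul]
  have hzxo : orderOf (z * x) = 2 := orderOf_two_iff.2 ⟨hzx2, hzx1⟩
  -- the projection for `y`
  obtain ⟨r⟩ := hq y hyo
  have hzC : z ∈ centralizer ({y} : Set G) := mem_centralizer_singleton_iff.2 hyz.symm
  have hxC : x ∈ centralizer ({y} : Set G) := mem_centralizer_singleton_iff.2 hyx.symm
  have hzxC : z * x ∈ centralizer ({y} : Set G) := mul_mem hzC hxC
  obtain ⟨a1, a2, a3⟩ := img K hyo r hzo hynz.symm hzC
  obtain ⟨b1, b2, b3⟩ := img K hyo r hxo hxny hxC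
  obtain ⟨c1, c2, c3⟩ := img K hyo r hzxo hzxy hzxC
  have hmul : r.π ⟨z, hzC⟩ * r.π ⟨x, hxC⟩ = r.π ⟨z * x, hzxC⟩ := by rw [← map_mul]; rfl
  have hcm : r.π ⟨z, hzC⟩ * r.π ⟨x, hxC⟩ = r.π ⟨x, hxC⟩ * r.π ⟨z, hzC⟩ := by
    rw [← map_mul, ← map_mul]
    congr 1
    exact Subtype.ext hxz.symm
  have hsupp' : (K.π (r.π ⟨z, hzC⟩)).support ≠ (K.π (r.π ⟨x, hxC⟩)).support := by
    intro hs
    obtain ⟨B, hB, hzB, hxB⟩ := exists_isA_of_pair K hα a1 b1 hcm a2 a3 (by rw [hmul]; exact c2)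
      (by rw [hmul]; exact c3) hs
    have hF : IsElementaryAbelian 2 (closure {(⟨z, hzC⟩ : centralizer ({y} : Set G)), ⟨x, hxC⟩}) :=
      elem_closure (Subtype.ext hz2.1) (Subtype.ext hx2) (Subtype.ext hxz.symm)
    obtain ⟨E, hE, hyE, hFE⟩ := exists_E16_of_isA K hyo r hB (isPGroup_of_elem hF) (by
      rw [MonoidHom.map_closure, closure_le]
      rintro _ ⟨w, hw, rfl⟩
      simp only [Set.mem_insert_iff, Set.mem_singleton_iff] at hw
      rcases hw with rfl | rfl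
      exacts [hzB, hxB])
    have hzE : z ∈ E := hFE ⟨z, hzC⟩ (subset_closure (Set.mem_insert _ _))
    have hxE : x ∈ E := hFE ⟨x, hxC⟩ (subset_closure (Set.mem_insert_of_mem _ rfl))
    obtain ⟨w, -, hwc, hdis, -⟩ := sig K hα hE hzE q
    have e1 := apply_ne_iff K hα hx₁ cx1 cxz hwc (hdis _ ⟨x', by rw [ex]; exact hxE, hx'⟩)
    have e2 := apply_ne_iff K hα hy₁ cy1 cyz hwc (hdis _ ⟨y', by rw [ey]; exact hyE, hy'⟩)
    apply hsupp
    ext p
    rw [Perm.mem_support, Perm.mem_support, not_iff_not, ← e1, ← e2]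
  -- the cycles
  obtain ⟨E₁, hE₁, hyE₁, hzE₁⟩ := exists_E16 K hα hq hconj hyo hzo hynz.symm hyz.symm
  obtain ⟨E₂, hE₂, hyE₂, hxE₂⟩ := exists_E16 K hα hq hconj hyo hxo hxny hyx.symm
  obtain ⟨E₃, hE₃, hzE₃, hxE₃⟩ := exists_E16 K hα hq hconj hzo hxo hxnz hxz
  obtain ⟨t₁, ht₁, ht₁z, d1, d2⟩ := exists_cycle K hα hE₁ hyo hzo hyE₁ hzE₁ hynz.symm r
    (hunb y z hyo hzo hynz.symm hyz.symm) hzC
  obtain ⟨t₂, ht₂, ht₂x, -, d3⟩ := exists_cycle K hα hE₂ hyo hxo hyE₂ hxE₂ hxny r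
    (hunb y x hyo hxo hxny hyx.symm) hxC
  have hodd := odd_sup K ft sf hα hq hE₃ hzo hxo hzE₃ hxE₃
  have hσ : ∀ g : X, g * g = 1 → ∀ p, K.π g (K.π g p) = p := by
    intro g hg p
    rw [← Perm.mul_apply, ← map_mul, hg, map_one, Perm.one_apply]
  refine false_of_cycles (a := K.π (r.π ⟨z, hzC⟩)) (b := K.π (r.π ⟨x, hxC⟩)) (hσ _ b1) ?_ ?_ ?_ hsupp'
    d1 d2 d3 (D := ((((core z ⊔ core x : Subgroup G).subgroupOf (centralizer ({y} : Set G))).map r.π).map K.π)) ?_
    ⟨_, ⟨_, (le_sup_left : core z ≤ core z ⊔ core x) ht₁z, rfl⟩, rfl⟩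
    ⟨_, ⟨_, (le_sup_right : core x ≤ core z ⊔ core x) ht₂x, rfl⟩, rfl⟩
  · intro p
    rw [← Perm.mul_apply, ← Perm.mul_apply, ← map_mul K.π, ← map_mul K.π, hcm]
  · rw [Finset.card_compl, card_support_of_involution K (by omega) a1 a2 a3, hα]
  · rw [Finset.card_compl, card_support_of_involution K (by omega) b1 b2 b3, hα]
  · apply odd_card_map
    apply odd_card_map
    have h1 : (((core z ⊔ core x : Subgroup G).subgroupOf (centralizer ({y} : Set G))).map
        (centralizer ({y} : Set G)).subtype) ≤ core z ⊔ core x := by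
      rintro _ ⟨x, hx, rfl⟩; exact hx
    have h2 := odd_of_le h1 hodd
    rwa [Nat.card_congr (((core z ⊔ core x : Subgroup G).subgroupOf
      (centralizer ({y} : Set G))).equivMapOfInjective _
      (centralizer ({y} : Set G)).subtype_injective).toEquiv.symm] at h2

end Main

end Cfsg.Agent.Intrinsic.NZElevenMain
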