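import Cfsg.Agent.Intrinsic.NZCoreTh
import Cfsg.Agent.Intrinsic.NZElevenMain
import Cfsg.Agent.Intrinsic.AnEight

/-!
# World NZ, (5a.4): balance

`C_G(z) / O(C_G(z)) = 2.A_n` with `n = 8, 10, 11` and one class of involutions: commuting involutions are balanced.
-/

set_option autoImplicit false

namespace Cfsg.Agent.Intrinsic.NZBal

open Equiv Cfsg.Agent.SporRec.TwoAn Cfsg Subgroup
open Cfsg.Agent.NineCore.Proj Cfsg.Agent.NineCore.NoTarget

universe u v

section cover

variable {α : Type*} [Fintype α] [DecidableEq α] {X : Type v} [Group X] (K : Cover α X)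

include K in
/-- A normal subgroup of odd order of a double cover of an alternating group is trivial. -/
theorem eq_bot_of_normal (hα : 5 ≤ Fintype.card α) {N : Subgroup X} (hN : N.Normal)
    (hodd : Odd (Nat.card N)) : N = ⊥ := by
  have hs : IsSimpleGroup (alternatingGroup α) :=
    alternatingGroup.isSimpleGroup (by rwa [Nat.card_eq_fintype_card])
  let f : X →* alternatingGroup α := K.π.codRestrict _ K.mem_alternating
  have hf : Function.Surjective f := by
    rintro ⟨σ, hσ⟩
    obtain ⟨g, hg⟩ := K.exists_lift hσ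
    exact ⟨g, Subtype.ext hg⟩
  have hz : K.z ∉ N := by
    intro h
    have h1 := orderOf_dvd_natCard (⟨K.z, h⟩ : N)
    rw [Subgroup.orderOf_mk, K.orderOf_z] at h1
    exact (Nat.not_even_iff_odd.mpr hodd) (even_iff_two_dvd.mpr h1)
  rcases (hN.map f hf).eq_bot_or_eq_top with h | h
  · rw [eq_bot_iff]
    intro x hx
    have h1 : f x ∈ N.map f := ⟨x, hx, rfl⟩
    rw [h, mem_bot] at h1
    rcases (K.ker x).1 (congrArg Subtype.val h1) with h2 | h2
    · exact h2
    · exact absurd (h2 ▸ hx) hz
  · exfalso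
    have h1 : Nat.card (alternatingGroup α) ∣ Nat.card N := by
      rw [← card_top (G := alternatingGroup α), ← h]
      exact Subgroup.card_map_dvd N f
    obtain ⟨e⟩ : Nonempty (Fin 5 ↪ α) := Function.Embedding.nonempty_of_card_le (by simpa using hα)
    have hne : ∀ i j : Fin 5, i ≠ j → e i ≠ e j := fun i j h e' => h (e.injective e')
    have h2 : swap (e 0) (e 1) * swap (e 2) (e 3) ∈ alternatingGroup α :=
      Cover.swap_mul_swap_mem _ _ _ _ (hne _ _ (by decide)) (hne _ _ (by decide))
    have h3 : swap (e 0) (e 1) * swap (e 2) (e 3) * (swap (e 0) (e 1) * swap (e 2) (e 3)) = 1 := by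
      have h4 : (swap (e 0) (e 1)).Disjoint (swap (e 2) (e 3)) := by
        intro m
        by_cases h : m = e 0 ∨ m = e 1
        · right
          rcases h with rfl | rfl
          · exact swap_apply_of_ne_of_ne (hne _ _ (by decide)) (hne _ _ (by decide))
          · exact swap_apply_of_ne_of_ne (hne _ _ (by decide)) (hne _ _ (by decide))
        · left
          push Not at h
          exact swap_apply_of_ne_of_ne h.1 h.2
      have h5 := h4.commute.eq
      calc swap (e 0) (e 1) * swap (e 2) (e 3) * (swap (e 0) (e 1) * swap (e 2) (e 3))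
          = swap (e 0) (e 1) * (swap (e 2) (e 3) * swap (e 0) (e 1)) * swap (e 2) (e 3) := by group
        _ = (swap (e 0) (e 1) * swap (e 0) (e 1)) * (swap (e 2) (e 3) * swap (e 2) (e 3)) := by
            rw [← h5]; group
        _ = 1 := by rw [swap_mul_self, swap_mul_self, one_mul]
    have h6 : swap (e 0) (e 1) * swap (e 2) (e 3) ≠ 1 := by
      intro h
      have h7 := congrArg (fun σ : Perm α => σ (e 0)) h
      simp only [Perm.mul_apply, Perm.one_apply] at h7
      rw [swap_apply_of_ne_of_ne (hne _ _ (by decide)) (hne _ _ (by decide)), swap_apply_left] at h7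
      exact hne _ _ (by decide) h7
    have h8 : orderOf (⟨_, h2⟩ : alternatingGroup α) = 2 := by
      rw [Subgroup.orderOf_mk]
      exact orderOf_eq_prime (by rw [pow_two, h3]) h6
    have h9 := (h8 ▸ orderOf_dvd_natCard (⟨_, h2⟩ : alternatingGroup α)).trans h1
    exact (Nat.not_even_iff_odd.mpr hodd) (even_iff_two_dvd.mpr h9)

end cover

theorem bal_le_ten {G : Type u} [Group G] [Finite G] {X : Type v} [Group X] {n : ℕ} (K : Cover (Fin n) X)
    (hn5 : 5 ≤ n) (hn : n ≤ 10) {a b : G} (ha : orderOf a = 2) (hb : orderOf b = 2) (hab : a * b = b * a)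
    (q : Quo K.z b) : core a ⊓ centralizer ({b} : Set G) ≤ core b := by
  by_cases hne : a = b
  · subst hne; exact inf_le_left
  have hXc : ∀ N : Subgroup X, N.Normal → Odd (Nat.card N) → N = ⊥ := fun N hN hodd =>
    eq_bot_of_normal K (by rw [Fintype.card_fin]; exact hn5) hN hodd
  have ha2 := orderOf_two_iff.1 ha
  have hb2 := orderOf_two_iff.1 hb
  set C := centralizer ({b} : Set G) with hC
  have haC : a ∈ C := mem_centralizer_singleton_iff.2 hab
  set a' : C := ⟨a, haC⟩ with ha'
  have ha'2 : a' * a' = 1 := Subtype.ext ha2.1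
  set N : Subgroup C := (core a).subgroupOf C with hN
  have hv2 : q.π a' * q.π a' = 1 := by rw [← map_mul, ha'2, map_one]
  have hv1 : q.π a' ≠ 1 := by
    intro h1
    have h2 : (a' : G) ∈ core b := (q.map_eq_one_iff hXc a').2 h1
    exact ha2.2 (eq_one_of_odd ha2.1 (core_odd b) h2)
  have hvz : q.π a' ≠ K.z := by
    intro h1
    have h2 : q.π (a' * ⟨b, mem_self b⟩) = 1 := by
      rw [map_mul, h1, q.map_z, K.z_mul_z]
    have h3 : a * b ∈ core b := (q.map_eq_one_iff hXc (a' * ⟨b, mem_self b⟩)).2 h2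
    have h4 : a * b * (a * b) = 1 := by
      calc a * b * (a * b) = a * (b * a) * b := by group
        _ = a * a * (b * b) := by rw [← hab]; group
        _ = 1 := by rw [ha2.1, hb2.1, one_mul]
    have h5 := eq_one_of_odd h4 (core_odd b) h3
    apply hne
    rw [mul_eq_one_iff_eq_inv, inv_eq_of_mul_eq_one_left hb2.1] at h5
    exact h5
  have hπ1 : K.π (q.π a') ≠ 1 := fun h => by
    rcases (K.ker _).1 h with h | h
    · exact hv1 h
    · exact hvz h
  have hbot := AnEight.odd_normal_eq_bot' K hn hv2 hπ1 (N.map q.π) (by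
    apply odd_card_map
    have h1 : (N.map C.subtype) ≤ core a := by
      rintro _ ⟨x, hx, rfl⟩; exact hx
    have h2 := odd_of_le h1 (core_odd a)
    rwa [Nat.card_congr (N.equivMapOfInjective _ C.subtype_injective).toEquiv.symm] at h2) (by
    rintro _ ⟨x, hx, rfl⟩
    rw [← map_mul, ← map_mul]
    congr 1
    apply Subtype.ext
    exact mem_centralizer_singleton_iff.1 (core_le a hx)) (by
    rintro y hy _ ⟨x, hx, rfl⟩
    obtain ⟨c, hc, rfl⟩ := exists_lift_commute q.surj q.odd ha'2 hy
    refine ⟨c * x * c⁻¹, ?_, by simp⟩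
    have hc' : (c : G) ∈ centralizer ({a} : Set G) :=
      mem_centralizer_singleton_iff.2 (congrArg Subtype.val hc)
    exact (Subgroup.le_normalizer_iff.1 (centralizer_le_normalizer_core a)) _ hc' _ hx)
  rintro x ⟨hxa, hxC⟩
  have h6 : q.π ⟨x, hxC⟩ ∈ N.map q.π := ⟨⟨x, hxC⟩, hxa, rfl⟩
  rw [hbot, Subgroup.mem_bot] at h6
  exact (q.map_eq_one_iff hXc ⟨x, hxC⟩).2 h6

/-- **Balance** for `n = 8, 10, 11`. -/
theorem bal {G : Type u} [Group G] [Finite G] [IsSimpleGroup G] {X : Type v} [Group X] {n : ℕ}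
    (K : Cover (Fin n) X) (hn : n = 8 ∨ n = 10 ∨ n = 11) (ft : FTStatement.{u}) (sf : SFStatement.{u})
    (hquo : ∀ u : G, orderOf u = 2 → Nonempty (Quo K.z u))
    (hconj : ∀ x y : G, orderOf x = 2 → orderOf y = 2 → ∃ g : G, g * x * g⁻¹ = y) :
    NZCoreTh.Bal G := by
  intro a b ha hb hab
  by_cases hne : a = b
  · subst hne; exact inf_le_left
  obtain ⟨q⟩ := hquo b hb
  by_cases hn10 : n ≤ 10
  · exact bal_le_ten K (by omega) hn10 ha hb hab q
  · obtain rfl : n = 11 := by omega
    have : Finite X := Finite.of_surjective q.π q.surj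
    by_contra hcon
    exact NZElevenMain.false_of_unbalanced K ft sf (Fintype.card_fin 11) hquo hconj hb ha hne hab hcon

end Cfsg.Agent.Intrinsic.NZBal
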