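import Cfsg.Agent.Intrinsic.BigBal
import Cfsg.Agent.NineCore.Proj

/-!
# World NZ: there is no strongly embedded subgroup

`G` is simple with one class of involutions and `C_G(z)` maps onto `2.A_n`, `n = 8, 10, 11`, with kernel of odd order.
By Bender's theorem `G` has no strongly embedded subgroup.
-/

set_option autoImplicit false

namespace Cfsg.Agent.Intrinsic.NZBender

open Subgroup Cfsg
open Cfsg.Agent.SporRec.TwoAn Cfsg.Agent.NineCore.Proj

universe u v

theorem no_se {G : Type u} [Group G] [Finite G] [IsSimpleGroup G] (hBen : BigBal.BenderSimple.{u}) {X : Type v}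
    [Group X] {n : ℕ} (K : Cover (Fin n) X) (hn : n = 8 ∨ n = 10 ∨ n = 11) {z : G} (hz : orderOf z = 2)
    (q : Quo K.z z) (hconj : ∀ x y : G, orderOf x = 2 → orderOf y = 2 → ∃ g : G, g * x * g⁻¹ = y) :
    ∀ H : Subgroup G, ¬ IsStronglyEmbedded H := by
  intro H hH
  have hX : Finite X := Finite.of_surjective q.π q.surj
  have hB : ANFactBigCent.BenderList G := by
    refine hBen G ?_ H hH
    by_contra hc
    push Not at hc
    obtain ⟨σ, hσ, hσ2, hσ8⟩ := ANFactBigCent.exists_perm_eight (n := n) (by omega)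
    obtain ⟨g, hg⟩ := K.exists_lift hσ
    obtain ⟨w, hw⟩ := K.exists_conj_mul_z (g := g) (by rw [hg, hσ2]) (by
      rw [hg]
      rintro rfl
      rw [Equiv.Perm.support_one, Finset.card_empty] at hσ8
      exact absurd hσ8 (by norm_num))
    obtain ⟨w', rfl⟩ := q.surj w
    obtain ⟨g', rfl⟩ := q.surj g
    have h2 : q.π w' * q.π g' * (q.π w')⁻¹ = q.π g' := by
      have h3 : w' * g' = g' * w' := Subtype.ext (hc w' g')
      rw [← map_mul, h3, map_mul, mul_inv_cancel_right]
    exact K.mul_z_ne _ (hw.symm.trans h2)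
  have h1 : Nat.card X = n.factorial := by
    rw [StandardComponent.CoverExtra.card_eq K (by rw [Fintype.card_fin]; omega), Fintype.card_fin]
  have hC : Nat.card ↥(centralizer ({z} : Set G)) = n.factorial * Nat.card q.π.ker := by
    rw [← h1, card_eq_card_quotient_mul_card_subgroup q.π.ker,
      Nat.card_congr (QuotientGroup.quotientKerEquivOfSurjective q.π q.surj).toEquiv]
  have h2 := (centralizer ({z} : Set G)).card_mul_index
  have h3 := ANFactBigCent.odd_index hz (fun x hx => hconj z x hz hx)
  rw [hC] at h2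
  have h4 : Odd (Nat.card q.π.ker * (centralizer ({z} : Set G)).index) := q.odd.mul h3
  rw [mul_assoc] at h2
  have hdvd : n.factorial ∣ Nat.card G := ⟨_, h2.symm⟩
  rcases hn with rfl | rfl | rfl
  · refine StandardComponent.NoSE.false_of_list hB (k := 7)
      (m := 315 * (Nat.card q.π.ker * (centralizer ({z} : Set G)).index))
      ?_ (Odd.mul (by decide) h4) (Or.inl rfl) ?_ ?_ ?_
    · rw [← h2, ← mul_assoc (2 ^ 7) 315 _]; rfl
    · exact (by decide : 3 ∣ Nat.factorial 8).trans hdvd
    · exact (by decide : 5 ∣ Nat.factorial 8).trans hdvd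
    · exact (by decide : 7 ∣ Nat.factorial 8).trans hdvd
  · refine StandardComponent.NoSE.false_of_list hB (k := 8)
      (m := 14175 * (Nat.card q.π.ker * (centralizer ({z} : Set G)).index))
      ?_ (Odd.mul (by decide) h4) (Or.inr rfl) ?_ ?_ ?_
    · rw [← h2, ← mul_assoc (2 ^ 8) 14175 _]; rfl
    · exact (by decide : 3 ∣ Nat.factorial 10).trans hdvd
    · exact (by decide : 5 ∣ Nat.factorial 10).trans hdvd
    · exact (by decide : 7 ∣ Nat.factorial 10).trans hdvd
  · refine StandardComponent.NoSE.false_of_list hB (k := 8)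
      (m := 155925 * (Nat.card q.π.ker * (centralizer ({z} : Set G)).index))
      ?_ (Odd.mul (by decide) h4) (Or.inr rfl) ?_ ?_ ?_
    · rw [← h2, ← mul_assoc (2 ^ 8) 155925 _]; rfl
    · exact (by decide : 3 ∣ Nat.factorial 11).trans hdvd
    · exact (by decide : 5 ∣ Nat.factorial 11).trans hdvd
    · exact (by decide : 7 ∣ Nat.factorial 11).trans hdvd

end Cfsg.Agent.Intrinsic.NZBender
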