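import Cfsg.Agent.StandardComponent.CoverExtra

/-!
# (A7): the commuting graph on products of four transpositions

Two products `σ, τ` of four disjoint transpositions in the symmetric group of degree `n` are joined if they commute and
`σ τ` is again a product of four disjoint transpositions. For `n = 8, 10, 11` this graph is connected.
-/

set_option autoImplicit false

namespace Cfsg.Agent.Intrinsic.TypeFour

open Equiv

/-- products of four disjoint transpositions -/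
def T {n : ℕ} (σ : Perm (Fin n)) : Prop := σ * σ = 1 ∧ σ.support.card = 8

/-- adjacency -/
def R {n : ℕ} (σ τ : Perm (Fin n)) : Prop := T σ ∧ T τ ∧ σ * τ = τ * σ ∧ (σ * τ).support.card = 8

instance {n : ℕ} (σ : Perm (Fin n)) : Decidable (T σ) := inferInstanceAs (Decidable (_ ∧ _))

instance {n : ℕ} (σ τ : Perm (Fin n)) : Decidable (R σ τ) := inferInstanceAs (Decidable (_ ∧ _ ∧ _ ∧ _))

theorem R.symm {n : ℕ} {σ τ : Perm (Fin n)} (h : R σ τ) : R τ σ :=
  ⟨h.2.1, h.1, h.2.2.1.symm, by rw [← h.2.2.1]; exact h.2.2.2⟩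

theorem T.conj {n : ℕ} {σ : Perm (Fin n)} (h : T σ) (ρ : Perm (Fin n)) : T (ρ * σ * ρ⁻¹) := by
  refine ⟨?_, ?_⟩
  · rw [show ρ * σ * ρ⁻¹ * (ρ * σ * ρ⁻¹) = ρ * (σ * σ) * ρ⁻¹ by group, h.1]; group
  · rw [Perm.card_support_conj]; exact h.2

theorem R.conj {n : ℕ} {σ τ : Perm (Fin n)} (h : R σ τ) (ρ : Perm (Fin n)) : R (ρ * σ * ρ⁻¹) (ρ * τ * ρ⁻¹) := by
  refine ⟨h.1.conj ρ, h.2.1.conj ρ, ?_, ?_⟩
  · rw [show ρ * σ * ρ⁻¹ * (ρ * τ * ρ⁻¹) = ρ * (σ * τ) * ρ⁻¹ by group, h.2.2.1]; group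
  · rw [show ρ * σ * ρ⁻¹ * (ρ * τ * ρ⁻¹) = ρ * (σ * τ) * ρ⁻¹ by group, Perm.card_support_conj]; exact h.2.2.2

/-- connectedness -/
abbrev Conn {n : ℕ} : Perm (Fin n) → Perm (Fin n) → Prop := Relation.ReflTransGen R

theorem Conn.symm {n : ℕ} {σ τ : Perm (Fin n)} (h : Conn σ τ) : Conn τ σ := by
  induction h with
  | refl => exact Relation.ReflTransGen.refl
  | tail _ h ih => exact Relation.ReflTransGen.head h.symm ih

theorem Conn.conj {n : ℕ} {σ τ : Perm (Fin n)} (h : Conn σ τ) (ρ : Perm (Fin n)) :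
    Conn (ρ * σ * ρ⁻¹) (ρ * τ * ρ⁻¹) := by
  induction h with
  | refl => exact Relation.ReflTransGen.refl
  | tail _ h ih => exact ih.tail (h.conj ρ)

/-- Reduction of connectedness to the transpositions `(i, i + 1)`. -/
theorem conn_of_swaps {n : ℕ} (σ₀ : Perm (Fin (n + 1))) (h₀ : T σ₀)
    (h : ∀ i : Fin n, Conn σ₀ (swap i.castSucc i.succ * σ₀ * (swap i.castSucc i.succ)⁻¹)) {σ τ : Perm (Fin (n + 1))}
    (hσ : T σ) (hτ : T τ) : Conn σ τ := by
  let S : Submonoid (Perm (Fin (n + 1))) :=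
    { carrier := {ρ | Conn σ₀ (ρ * σ₀ * ρ⁻¹)}
      one_mem' := by
        show Conn σ₀ (1 * σ₀ * 1⁻¹)
        rw [one_mul, inv_one, mul_one]
      mul_mem' := by
        intro ρ π hρ hπ
        have h1 := Conn.conj hπ ρ
        have h2 : ρ * (π * σ₀ * π⁻¹) * ρ⁻¹ = ρ * π * σ₀ * (ρ * π)⁻¹ := by group
        rw [h2] at h1
        exact hρ.trans h1 }
  have hS : S = ⊤ := by
    rw [eq_top_iff, ← Equiv.Perm.mclosure_swap_castSucc_succ n, Submonoid.closure_le]
    rintro _ ⟨i, rfl⟩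
    exact h i
  have key : ∀ σ : Perm (Fin (n + 1)), T σ → Conn σ₀ σ := by
    intro σ hσ
    have h1 : σ₀ ≠ 1 := by
      rintro rfl
      have := h₀.2
      rw [Perm.support_one, Finset.card_empty] at this
      exact absurd this (by decide)
    obtain ⟨ρ, -, hρ⟩ := StandardComponent.CoverExtra.exists_even_conj h₀.1 hσ.1 h1 (h₀.2.trans hσ.2.symm)
    have h2 : ρ ∈ S := by rw [hS]; trivial
    have h3 : Conn σ₀ (ρ * σ₀ * ρ⁻¹) := h2
    rwa [hρ] at h3
  exact (key σ hσ).symm.trans (key τ hτ)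

/-- Every product of four disjoint transpositions has a neighbour. -/
theorem exists_adj {n : ℕ} {σ₀ τ₀ : Perm (Fin n)} (h : R σ₀ τ₀) {σ : Perm (Fin n)} (hσ : T σ) : ∃ τ, R σ τ := by
  have h1 : σ₀ ≠ 1 := by
    rintro rfl
    have := h.1.2
    rw [Perm.support_one, Finset.card_empty] at this
    exact absurd this (by decide)
  obtain ⟨ρ, -, hρ⟩ := StandardComponent.CoverExtra.exists_even_conj h.1.1 hσ.1 h1 (h.1.2.trans hσ.2.symm)
  refine ⟨ρ * τ₀ * ρ⁻¹, ?_⟩
  rw [← hρ]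
  exact h.conj ρ

/-- For `n = 8, 10, 11` the graph is connected without isolated vertices. -/
def Good (n : ℕ) : Prop := (∀ σ τ : Perm (Fin n), T σ → T τ → Conn σ τ) ∧ ∀ σ : Perm (Fin n), T σ → ∃ τ, R σ τ

theorem conn_eight {σ τ : Perm (Fin 8)} (hσ : T σ) (hτ : T τ) : Conn σ τ := by
  have h0 : ∀ y τ : Perm (Fin 8), R (swap 0 1 * swap 2 3 * (swap 4 5 * swap 6 7)) y → R y τ →
      Conn (swap 0 1 * swap 2 3 * (swap 4 5 * swap 6 7)) τ := fun y τ h1 h2 =>
    (Relation.ReflTransGen.single h1).tail h2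
  have hr : ∀ τ : Perm (Fin 8), τ = swap 0 1 * swap 2 3 * (swap 4 5 * swap 6 7) →
      Conn (swap 0 1 * swap 2 3 * (swap 4 5 * swap 6 7)) τ := by
    rintro _ rfl
    exact Relation.ReflTransGen.refl
  refine conn_of_swaps (n := 7) (swap 0 1 * swap 2 3 * (swap 4 5 * swap 6 7)) (by decide +kernel) ?_ hσ hτ
  intro i
  fin_cases i
  · exact hr _ (by decide +kernel)
  · exact h0 (swap 0 3 * swap 1 2 * (swap 4 6 * swap 5 7)) _ (by decide +kernel) (by decide +kernel)
  · exact hr _ (by decide +kernel)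
  · exact h0 (swap 2 5 * swap 3 4 * (swap 0 6 * swap 1 7)) _ (by decide +kernel) (by decide +kernel)
  · exact hr _ (by decide +kernel)
  · exact h0 (swap 4 7 * swap 5 6 * (swap 0 2 * swap 1 3)) _ (by decide +kernel) (by decide +kernel)
  · exact hr _ (by decide +kernel)

theorem conn_ten {σ τ : Perm (Fin 10)} (hσ : T σ) (hτ : T τ) : Conn σ τ := by
  have h0 : ∀ y τ : Perm (Fin 10), R (swap 0 1 * swap 2 3 * (swap 4 5 * swap 6 7)) y → R y τ →
      Conn (swap 0 1 * swap 2 3 * (swap 4 5 * swap 6 7)) τ := fun y τ h1 h2 =>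
    (Relation.ReflTransGen.single h1).tail h2
  have h3 : ∀ y w τ : Perm (Fin 10), R (swap 0 1 * swap 2 3 * (swap 4 5 * swap 6 7)) y → R y w → R w τ →
      Conn (swap 0 1 * swap 2 3 * (swap 4 5 * swap 6 7)) τ := fun y w τ h1 h2 h3 =>
    ((Relation.ReflTransGen.single h1).tail h2).tail h3
  have hr : ∀ τ : Perm (Fin 10), τ = swap 0 1 * swap 2 3 * (swap 4 5 * swap 6 7) →
      Conn (swap 0 1 * swap 2 3 * (swap 4 5 * swap 6 7)) τ := by
    rintro _ rfl
    exact Relation.ReflTransGen.refl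
  refine conn_of_swaps (n := 9) (swap 0 1 * swap 2 3 * (swap 4 5 * swap 6 7)) (by decide +kernel) ?_ hσ hτ
  intro i
  fin_cases i
  · exact hr _ (by decide +kernel)
  · exact h0 (swap 0 3 * swap 1 2 * (swap 4 6 * swap 5 7)) _ (by decide +kernel) (by decide +kernel)
  · exact hr _ (by decide +kernel)
  · exact h0 (swap 2 5 * swap 3 4 * (swap 0 6 * swap 1 7)) _ (by decide +kernel) (by decide +kernel)
  · exact hr _ (by decide +kernel)
  · exact h0 (swap 4 7 * swap 5 6 * (swap 0 2 * swap 1 3)) _ (by decide +kernel) (by decide +kernel)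
  · exact hr _ (by decide +kernel)
  · exact h3 (swap 2 3 * swap 4 6 * (swap 5 7 * swap 8 9)) (swap 0 1 * swap 4 6 * (swap 5 8 * swap 7 9)) _
      (by decide +kernel) (by decide +kernel) (by decide +kernel)
  · exact hr _ (by decide +kernel)

theorem conn_eleven {σ τ : Perm (Fin 11)} (hσ : T σ) (hτ : T τ) : Conn σ τ := by
  have h0 : ∀ y τ : Perm (Fin 11), R (swap 0 1 * swap 2 3 * (swap 4 5 * swap 6 7)) y → R y τ →
      Conn (swap 0 1 * swap 2 3 * (swap 4 5 * swap 6 7)) τ := fun y τ h1 h2 =>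
    (Relation.ReflTransGen.single h1).tail h2
  have h3 : ∀ y w τ : Perm (Fin 11), R (swap 0 1 * swap 2 3 * (swap 4 5 * swap 6 7)) y → R y w → R w τ →
      Conn (swap 0 1 * swap 2 3 * (swap 4 5 * swap 6 7)) τ := fun y w τ h1 h2 h3 =>
    ((Relation.ReflTransGen.single h1).tail h2).tail h3
  have hr : ∀ τ : Perm (Fin 11), τ = swap 0 1 * swap 2 3 * (swap 4 5 * swap 6 7) →
      Conn (swap 0 1 * swap 2 3 * (swap 4 5 * swap 6 7)) τ := by
    rintro _ rfl
    exact Relation.ReflTransGen.refl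
  refine conn_of_swaps (n := 10) (swap 0 1 * swap 2 3 * (swap 4 5 * swap 6 7)) (by decide +kernel) ?_ hσ hτ
  intro i
  fin_cases i
  · exact hr _ (by decide +kernel)
  · exact h0 (swap 0 3 * swap 1 2 * (swap 4 6 * swap 5 7)) _ (by decide +kernel) (by decide +kernel)
  · exact hr _ (by decide +kernel)
  · exact h0 (swap 2 5 * swap 3 4 * (swap 0 6 * swap 1 7)) _ (by decide +kernel) (by decide +kernel)
  · exact hr _ (by decide +kernel)
  · exact h0 (swap 4 7 * swap 5 6 * (swap 0 2 * swap 1 3)) _ (by decide +kernel) (by decide +kernel)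
  · exact hr _ (by decide +kernel)
  · exact h3 (swap 2 3 * swap 4 6 * (swap 5 7 * swap 8 9)) (swap 0 1 * swap 4 6 * (swap 5 8 * swap 7 9)) _
      (by decide +kernel) (by decide +kernel) (by decide +kernel)
  · exact hr _ (by decide +kernel)
  · exact hr _ (by decide +kernel)

theorem good_eight : Good 8 := ⟨fun _ _ h h' => conn_eight h h', fun _ h => exists_adj
  (σ₀ := swap 0 1 * swap 2 3 * (swap 4 5 * swap 6 7)) (τ₀ := swap 0 3 * swap 1 2 * (swap 4 6 * swap 5 7))
  (by decide +kernel) h⟩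

theorem good_ten : Good 10 := ⟨fun _ _ h h' => conn_ten h h', fun _ h => exists_adj
  (σ₀ := swap 0 1 * swap 2 3 * (swap 4 5 * swap 6 7)) (τ₀ := swap 0 3 * swap 1 2 * (swap 4 6 * swap 5 7))
  (by decide +kernel) h⟩

theorem good_eleven : Good 11 := ⟨fun _ _ h h' => conn_eleven h h', fun _ h => exists_adj
  (σ₀ := swap 0 1 * swap 2 3 * (swap 4 5 * swap 6 7)) (τ₀ := swap 0 3 * swap 1 2 * (swap 4 6 * swap 5 7))
  (by decide +kernel) h⟩

/-- The sign of a product of four disjoint transpositions. -/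
theorem T.mem_alternating {n : ℕ} {σ : Perm (Fin n)} (h : T σ) : σ ∈ alternatingGroup (Fin n) := by
  rw [Perm.mem_alternatingGroup]
  have : Fact (Nat.Prime 2) := ⟨Nat.prime_two⟩
  have e1 := Perm.cycleType_of_pow_prime_eq_one (σ := σ) (p := 2) (by rw [pow_two, h.1])
  have s1 := σ.sum_cycleType
  rw [e1, Multiset.sum_replicate, smul_eq_mul, h.2] at s1
  rw [Perm.sign_of_cycleType, e1, Multiset.sum_replicate, Multiset.card_replicate, smul_eq_mul]
  have h4 : σ.cycleType.card = 4 := by omega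
  rw [h4]
  decide

end Cfsg.Agent.Intrinsic.TypeFour
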