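import Cfsg.Agent.Intrinsic.NZTransfer
import Cfsg.Agent.Intrinsic.TypeFour
import Cfsg.Agent.StandardComponent.CentCore
import Cfsg.Agent.StandardComponent.CoreClose
import Cfsg.Agent.SignalizersComponents.SolFunctorTwo

/-!
# World NZ, (5a.4): killing the core

`G` is simple with one class of involutions, `C_G(z) / O(C_G(z)) = 2.A_n` with `n = 8, 10, 11`, and commuting involutions
are balanced: `O(C_G(x)) ∩ C_G(y) ≤ O(C_G(y))`. Then `O(C_G(z)) = 1`.
-/

set_option autoImplicit false

namespace Cfsg.Agent.Intrinsic.NZCore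

open Equiv Cfsg.Agent.SporRec.TwoAn Cfsg Subgroup NZTransfer
open Cfsg.Agent.StandardComponent.CentCore (core_le core_comm core_odd core_odd_order le_core core_conj_mem
  mem_core_conj core_eq_of_comm)

variable {G : Type*} [Group G]

/-- the closure of a set of commuting involutions is elementary abelian -/
theorem isElementaryAbelian_closure (s : Set G) (hs : ∀ a ∈ s, a * a = 1) (hc : ∀ a ∈ s, ∀ b ∈ s, a * b = b * a) :
    IsElementaryAbelian 2 (closure s) := by
  have hcomm : IsMulCommutative (closure s) := Subgroup.isMulCommutative_closure hc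
  refine ⟨hcomm, ?_⟩
  intro a ha
  refine closure_induction (p := fun x _ => x ^ 2 = 1) ?_ ?_ ?_ ?_ ha
  · intro x hx; rw [pow_two]; exact hs x hx
  · rw [one_pow]
  · intro x y hx hy h1 h2
    have h3 : x * y = y * x := by
      have := hcomm.is_comm.comm (⟨x, hx⟩ : closure s) ⟨y, hy⟩
      exact congrArg Subtype.val this
    have h4 : Commute x y := h3
    rw [h4.mul_pow, h1, h2, one_mul]
  · intro x _ h1
    rw [inv_pow, h1, inv_one]

/-- The closure of the cores of a balanced elementary abelian group of order at least 8 has odd order and is generated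
by the cores of any noncyclic subgroup. -/
theorem functor [Finite G] (A V : Subgroup G) (hA : IsElementaryAbelian 2 A) (hA8 : 8 ≤ Nat.card A) (hVA : V ≤ A)
    (hV : 4 ≤ Nat.card V) (hsolv : ∀ a ∈ A, a ≠ 1 → Group.IsSolvable (centralizerPPrimeCore 2 a))
    (hbal : ∀ a ∈ A, a ≠ 1 → ∀ b ∈ A, b ≠ 1 →
      centralizerPPrimeCore 2 a ⊓ centralizer {b} ≤ centralizerPPrimeCore 2 b) :
    (⨆ a : {a : G // a ∈ V ∧ a ≠ 1}, centralizerPPrimeCore 2 (a : G)) =
      (⨆ a : {a : G // a ∈ A ∧ a ≠ 1}, centralizerPPrimeCore 2 (a : G)) ∧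
    Odd (Nat.card ↥(⨆ a : {a : G // a ∈ A ∧ a ≠ 1}, centralizerPPrimeCore 2 (a : G))) := by
  have : Fact (Nat.Prime 2) := ⟨Nat.prime_two⟩
  have hAc := SignalizersComponents.CoprimeGen.comm_of_isElementaryAbelian hA
  obtain ⟨h1, h2, -⟩ := SignalizersComponents.SolFunctorTwo.solvable_signalizer_functor_two A hAc hA.2
    (by norm_num; exact hA8) (centralizerPPrimeCore 2) (fun a _ _ => core_le a)
    (fun a _ _ h => (Nat.not_even_iff_odd.2 (core_odd a)) (even_iff_two_dvd.2 h))
    (fun a ha _ b hb x hx => core_conj_mem (hAc b hb a ha) hx) hsolv hbal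
  refine ⟨le_antisymm ?_ ?_, ?_⟩
  · refine iSup_le fun a => ?_
    exact le_iSup (fun a : {a : G // a ∈ A ∧ a ≠ 1} => centralizerPPrimeCore 2 (a : G)) ⟨a, hVA a.2.1, a.2.2⟩
  · have hVn : V ≤ normalizer ((⨆ a : {a : G // a ∈ A ∧ a ≠ 1}, centralizerPPrimeCore 2 (a : G) : Subgroup G) :
        Set G) := by
      intro v hv
      refine StandardComponent.CoreClose.mem_normalizer_of_le _ v ?_
      intro d hd
      refine iSup_induction (C := fun d => v * d * v⁻¹ ∈
        (⨆ a : {a : G // a ∈ A ∧ a ≠ 1}, centralizerPPrimeCore 2 (a : G))) _ hd ?_ ?_ ?_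
      · intro a x hx
        exact (le_iSup (fun a : {a : G // a ∈ A ∧ a ≠ 1} => centralizerPPrimeCore 2 (a : G)) a)
          (core_conj_mem (hAc v (hVA hv) a a.2.1) hx)
      · rw [mul_one, mul_inv_cancel]; exact one_mem _
      · intro x y hx hy
        rw [show v * (x * y) * v⁻¹ = v * x * v⁻¹ * (v * y * v⁻¹) by group]
        exact mul_mem hx hy
    refine (SignalizersComponents.CoprimeGen.le_iSup_centralizer_ne_one
      (SignalizersComponents.CoprimeGen.isElementaryAbelian_mono hA hVA) (by norm_num; exact hV) h1 hVn).trans ?_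
    refine iSup_le fun v => ?_
    rw [h2 v (hVA v.2.1) v.2.2]
    exact le_iSup (fun a : {a : G // a ∈ V ∧ a ≠ 1} => centralizerPPrimeCore 2 (a : G)) v
  · rw [← Nat.not_even_iff_odd, even_iff_two_dvd]; exact h1

/-- the group generated by the cores of the nontrivial elements of a set -/
def supO (s : Set G) : Subgroup G := ⨆ a : {a : G // a ∈ s ∧ a ≠ 1}, centralizerPPrimeCore 2 (a : G)

theorem le_supO {s : Set G} {a : G} (ha : a ∈ s) (h1 : a ≠ 1) : centralizerPPrimeCore 2 a ≤ supO s :=
  le_iSup (fun a : {a : G // a ∈ s ∧ a ≠ 1} => centralizerPPrimeCore 2 (a : G)) ⟨a, ha, h1⟩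

theorem supO_le {s : Set G} {H : Subgroup G} (h : ∀ a ∈ s, a ≠ 1 → centralizerPPrimeCore 2 a ≤ H) : supO s ≤ H :=
  iSup_le fun a => h a a.2.1 a.2.2

theorem conj_mem_supO [Finite G] {s t : Set G} {g : G} (h : ∀ a ∈ s, g * a * g⁻¹ ∈ t) {x : G} (hx : x ∈ supO s) :
    g * x * g⁻¹ ∈ supO t := by
  have h1 : (supO s).map (MulAut.conj g).toMonoidHom ≤ supO t := by
    rw [map_le_iff_le_comap]
    refine supO_le fun a ha h1 y hy => ?_
    refine le_supO (h a ha) ?_ ((mem_core_conj g a (g * y * g⁻¹)).2 ?_)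
    · intro h2
      rw [mul_inv_eq_one, mul_eq_left] at h2
      exact h1 h2
    · rwa [show g⁻¹ * (g * y * g⁻¹) * g = y by group]
  exact h1 ⟨x, hx, rfl⟩

/-- hypothesis: commuting involutions are balanced -/
def Bal (G : Type*) [Group G] : Prop := ∀ x y : G, orderOf x = 2 → orderOf y = 2 → x ≠ y → x * y = y * x →
  centralizerPPrimeCore 2 x ⊓ centralizer {y} ≤ centralizerPPrimeCore 2 y

theorem orderOf_of_elemAb {A : Subgroup G} (hA : IsElementaryAbelian 2 A) {a : G} (ha : a ∈ A) (h1 : a ≠ 1) :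
    orderOf a = 2 := by
  have : Fact (Nat.Prime 2) := ⟨Nat.prime_two⟩
  exact orderOf_eq_prime (hA.2 a ha) h1

theorem supO_eq [Finite G] (hbal : Bal G) (hsolv : ∀ x : G, orderOf x = 2 → Group.IsSolvable (centralizerPPrimeCore 2 x))
    {A V : Subgroup G} (hA : IsElementaryAbelian 2 A) (hA8 : 8 ≤ Nat.card A) (hVA : V ≤ A) (hV : 4 ≤ Nat.card V) :
    supO (V : Set G) = supO (A : Set G) ∧ Odd (Nat.card (supO (A : Set G))) := by
  have hc := SignalizersComponents.CoprimeGen.comm_of_isElementaryAbelian hA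
  refine functor A V hA hA8 hVA hV (fun a ha h1 => hsolv a (orderOf_of_elemAb hA ha h1)) ?_
  intro a ha ha1 b hb hb1
  by_cases hab : a = b
  · rw [hab]; exact inf_le_left
  · exact hbal a b (orderOf_of_elemAb hA ha ha1) (orderOf_of_elemAb hA hb hb1) hab (hc a ha b hb)

theorem two_mul_card_le [Finite G] {A B : Subgroup G} (h : A ≤ B) (hne : A ≠ B) : 2 * Nat.card A ≤ Nat.card B := by
  obtain ⟨k, hk⟩ := Subgroup.card_dvd_of_le h
  have hA : 0 < Nat.card A := Nat.card_pos
  have hB : 0 < Nat.card B := Nat.card_pos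
  have h0 : k ≠ 0 := by rintro rfl; omega
  have h1 : k ≠ 1 := by
    rintro rfl
    apply hne
    exact Subgroup.eq_of_le_of_card_ge h (by rw [hk, mul_one])
  rw [hk, mul_comm]
  exact Nat.mul_le_mul_left _ (by omega)

theorem four_le_card [Finite G] {z x : G} (hz : orderOf z = 2) (hx1 : x ≠ 1) (hxz : x ≠ z) :
    4 ≤ Nat.card (closure {z, x}) := by
  have h1 : zpowers z ≤ closure {z, x} := by
    rw [zpowers_le]
    exact subset_closure (by simp)
  have h2 : zpowers z ≠ closure {z, x} := by
    intro h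
    have h3 : x ∈ zpowers z := by rw [h]; exact subset_closure (by simp)
    obtain ⟨k, hk⟩ := mem_zpowers_iff.1 h3
    rcases Int.even_or_odd k with ⟨m, hm⟩ | ⟨m, hm⟩
    · apply hx1
      rw [← hk, hm, ← two_mul, zpow_mul, zpow_ofNat, ← hz, pow_orderOf_eq_one, one_zpow]
    · apply hxz
      rw [← hk, hm, zpow_add, zpow_mul, zpow_ofNat, ← hz, pow_orderOf_eq_one, one_zpow, one_mul, zpow_one]
  have h3 := two_mul_card_le h1 h2
  rw [Nat.card_zpowers, hz] at h3
  exact h3

section main

variable [Finite G] {n : ℕ} {z : G} (hz : orderOf z = 2) (K : Cover (Fin n) (Cbar z)) (hKz : K.z = zb z)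

/-- the permutation induced by an element of the centralizer -/
def p {z : G} (K : Cover (Fin n) (Cbar z)) (x : G) (hx : x * z = z * x) : Perm (Fin n) := K.π (im x hx)

include hz hKz

omit [Finite G] hz in
theorem p_z (h : z * z = z * z) : p K z h = 1 := by
  have : im z h = K.z := by rw [hKz]; rfl
  rw [p, this, K.π_z]

theorem p_ne_one {x : G} (hx : x * z = z * x) (hxx : x * x = 1) (hx1 : x ≠ 1) (hxz : x ≠ z) : p K x hx ≠ 1 := by
  intro h
  rcases (K.ker _).1 h with h1 | h1
  · exact hx1 (im_inj_of_sq hx hxx h1)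
  · exact hxz (eq_z_of_im (z_sq_of hz) hx hxx (by rw [h1, hKz]))

omit [Finite G] hz hKz in
theorem im_sq {x : G} (hx : x * z = z * x) (hxx : x * x = 1) : im x hx * im x hx = 1 := by
  have h1 : x * x * z = z * (x * x) := by rw [hxx, one_mul, mul_one]
  rw [← im_mul hx hx h1]
  have : im (z := z) (x * x) h1 = im (1 : G) (by rw [one_mul, mul_one]) := by congr 1
  rw [this]; rfl

theorem T_p (hn : n < 16) {x : G} (hx : x * z = z * x) (hxx : x * x = 1) (hx1 : x ≠ 1) (hxz : x ≠ z) :
    TypeFour.T (p K x hx) := by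
  obtain ⟨h1, k, hk⟩ := K.sq_eq_one_iff.1 (im_sq hx hxx)
  refine ⟨h1, ?_⟩
  have h2 : (K.π (im x hx)).support.card ≤ Fintype.card (Fin n) := Finset.card_le_univ _
  rw [Fintype.card_fin] at h2
  have h3 : (K.π (im x hx)).support.card ≠ 0 := by
    rw [Ne, Finset.card_eq_zero, Perm.support_eq_empty_iff]
    exact p_ne_one hz K hKz hx hxx hx1 hxz
  show (K.π (im x hx)).support.card = 8
  omega

/-- every product of four transpositions is induced by an involution -/
theorem exists_of_T {σ : Perm (Fin n)} (hσ : TypeFour.T σ) :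
    ∃ (y : G) (hy : y * z = z * y), y * y = 1 ∧ y ≠ 1 ∧ y ≠ z ∧ p K y hy = σ := by
  obtain ⟨q, hq⟩ := K.exists_lift hσ.mem_alternating
  have hqq : q * q = 1 := K.sq_eq_one_iff.2 ⟨by rw [hq]; exact hσ.1, by rw [hq, hσ.2]⟩
  obtain ⟨⟨y, hyC⟩, hy, hyy⟩ := OddQuot.exists_inv_lift (odd_oddCore _) q hqq
  have hyz := mem_cent.1 hyC
  have hp : p K y hyz = σ := by
    rw [← hq, ← hy]; rfl
  have hσ1 : σ ≠ 1 := by
    rintro rfl
    have := hσ.2
    rw [Perm.support_one, Finset.card_empty] at this
    exact absurd this (by decide)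
  refine ⟨y, hyz, congrArg Subtype.val hyy, ?_, ?_, hp⟩
  · rintro rfl
    apply hσ1
    rw [← hp]
    exact map_one K.π
  · rintro rfl
    apply hσ1
    rw [← hp]
    exact p_z K hKz _

omit hz hKz K in
/-- conjugation by an element of the core -/
theorem W_le_of_conj {y o x' : G} (ho : o ∈ centralizerPPrimeCore 2 z) (hz1 : z ≠ 1) (h : o * y * o⁻¹ = x') :
    supO (closure {z, x'} : Set G) ≤ supO (closure {z, y} : Set G) := by
  have hoz := core_comm ho
  have hOz : centralizerPPrimeCore 2 z ≤ supO (closure {z, y} : Set G) :=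
    le_supO (subset_closure (by simp)) hz1
  have h1 : ∀ a ∈ (closure {z, x'} : Set G), o⁻¹ * a * o⁻¹⁻¹ ∈ (closure {z, y} : Set G) := by
    have h2 : closure {z, x'} ≤ (closure {z, y}).comap (MulAut.conj o⁻¹).toMonoidHom := by
      rw [closure_le]
      intro a ha
      show o⁻¹ * a * o⁻¹⁻¹ ∈ closure {z, y}
      rcases ha with ha | ha
      · rw [ha, inv_inv, mul_assoc, ← hoz, inv_mul_cancel_left]
        exact subset_closure (by simp)
      · rw [Set.mem_singleton_iff] at ha
        rw [ha, ← h, show o⁻¹ * (o * y * o⁻¹) * o⁻¹⁻¹ = y by group]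
        exact subset_closure (by simp)
    exact fun a ha => h2 ha
  intro t ht
  have h2 := conj_mem_supO h1 ht
  have h3 : t = o * (o⁻¹ * t * o⁻¹⁻¹) * o⁻¹ := by group
  rw [h3]
  exact mul_mem (mul_mem (hOz ho) h2) (inv_mem (hOz ho))

/-- (α): the group `⟨O(C(z)), O(C(x)), O(C(zx))⟩` depends only on the permutation. -/
theorem W_le_of_p_eq {x x' : G} (hx : x * z = z * x) (hxx : x * x = 1) (hx' : x' * z = z * x') (hxx' : x' * x' = 1)
    (h : p K x hx = p K x' hx') : supO (closure {z, x'} : Set G) ≤ supO (closure {z, x} : Set G) := by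
  have hzz := z_sq_of hz
  have hz1 : z ≠ 1 := by rintro rfl; rw [orderOf_one] at hz; exact absurd hz (by decide)
  have key : ∀ (y : G) (hy : y * z = z * y), y * y = 1 → im y hy = im x' hx' →
      supO (closure {z, x'} : Set G) ≤ supO (closure {z, y} : Set G) := by
    intro y hy hyy hyx
    obtain ⟨o, ho, hox⟩ := OddQuot.conj_of_mk_eq (odd_oddCore _)
      (x := (⟨y, mem_cent.2 hy⟩ : ↥(centralizer ({z} : Set G)))) (x' := ⟨x', mem_cent.2 hx'⟩)
      (Subtype.ext hyy) (Subtype.ext hxx') hyx
    exact W_le_of_conj (z := z) (y := y) (o := (o : G)) (x' := x') ⟨o, ho, rfl⟩ hz1 (congrArg Subtype.val hox)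
  rcases K.lift_eq h.symm with h1 | h1
  · exact key x hx hxx h1.symm
  · have hxz2 : x * z * z = z * (x * z) := by rw [← mul_assoc, hx]
    have h2 : im (x * z) hxz2 = im x' hx' := by
      rw [im_mul hx rfl, h1, hKz]; rfl
    have h3 := key (x * z) hxz2 (by
      calc x * z * (x * z) = x * (z * x) * z := by group
        _ = x * x * (z * z) := by rw [← hx]; group
        _ = 1 := by rw [hxx, hzz, one_mul]) h2
    refine h3.trans ?_
    have h4 : (closure {z, x * z} : Subgroup G) ≤ closure {z, x} := by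
      rw [closure_le]
      rintro a (rfl | rfl)
      · exact subset_closure (by simp)
      · exact mul_mem (subset_closure (by simp)) (subset_closure (by simp))
    exact supO_le fun a ha h1 => le_supO (h4 ha) h1

/-- (α), equality -/
theorem W_eq_of_p_eq {x x' : G} (hx : x * z = z * x) (hxx : x * x = 1) (hx' : x' * z = z * x') (hxx' : x' * x' = 1)
    (h : p K x hx = p K x' hx') : supO (closure {z, x'} : Set G) = supO (closure {z, x} : Set G) :=
  le_antisymm (W_le_of_p_eq hz K hKz hx hxx hx' hxx' h) (W_le_of_p_eq hz K hKz hx' hxx' hx hxx h.symm)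

/-- (β): adjacent permutations -/
theorem W_eq_of_R (hbal : Bal G) (hsolv : ∀ x : G, orderOf x = 2 → Group.IsSolvable (centralizerPPrimeCore 2 x))
    {x x' : G} (hx : x * z = z * x) (hxx : x * x = 1)
    (hx' : x' * z = z * x') (hxx' : x' * x' = 1)
    (h : TypeFour.R (p K x hx) (p K x' hx')) :
    supO (closure {z, x'} : Set G) = supO (closure {z, x} : Set G) ∧ Odd (Nat.card (supO (closure {z, x} : Set G))) := by
  have hzz := z_sq_of hz
  have hne1 : ∀ {y : G} {hy : y * z = z * y}, TypeFour.T (p K y hy) → y ≠ 1 ∧ y ≠ z := by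
    intro y hy hT
    have hσ1 : p K y hy ≠ 1 := by
      intro h1
      have := hT.2
      rw [h1, Perm.support_one, Finset.card_empty] at this
      exact absurd this (by decide)
    exact ⟨fun h => hσ1 (by subst h; exact map_one K.π), fun h => hσ1 (by subst h; exact p_z K hKz _)⟩
  -- the images commute
  have hcomm : im x' hx' * im x hx = im x hx * im x' hx' := by
    have h1 : (im x hx * im x' hx') * (im x hx * im x' hx') = 1 := by
      rw [K.sq_eq_one_iff, map_mul]
      refine ⟨?_, ?_⟩
      · have e1 : p K x hx * p K x' hx' = p K x' hx' * p K x hx := h.2.2.1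
        have e2 := h.1.1
        have e3 := h.2.1.1
        show p K x hx * p K x' hx' * (p K x hx * p K x' hx') = 1
        calc p K x hx * p K x' hx' * (p K x hx * p K x' hx')
            = p K x hx * (p K x' hx' * p K x hx) * p K x' hx' := by group
          _ = (p K x hx * p K x hx) * (p K x' hx' * p K x' hx') := by rw [← e1]; group
          _ = 1 := by rw [e2, e3, one_mul]
      · show 8 ∣ (p K x hx * p K x' hx').support.card
        rw [h.2.2.2]
    have h2 := im_sq hx hxx
    have h3 := im_sq hx' hxx'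
    calc im x' hx' * im x hx = (im x hx * im x hx) * (im x' hx' * im x hx) * (im x' hx' * im x' hx') := by
          rw [h2, h3, one_mul, mul_one]
      _ = im x hx * ((im x hx * im x' hx') * (im x hx * im x' hx')) * im x' hx' := by group
      _ = im x hx * im x' hx' := by rw [h1, mul_one]
  obtain ⟨⟨y, hyC⟩, hy, hyy', hyx'⟩ := OddQuot.exists_comm_inv_lift (odd_oddCore _)
    (x := (⟨x, mem_cent.2 hx⟩ : ↥(centralizer ({z} : Set G)))) (Subtype.ext hxx) (im x' hx') (im_sq hx' hxx') hcomm
  have hyz := mem_cent.1 hyC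
  have hyy : y * y = 1 := congrArg Subtype.val hyy'
  have hyx : y * x = x * y := congrArg Subtype.val hyx'
  have hpy : p K y hyz = p K x' hx' := by
    show K.π _ = K.π _
    congr 1
  have hx1 := hne1 h.1
  have hy1 : y ≠ 1 ∧ y ≠ z := hne1 (y := y) (hy := hyz) (by rw [hpy]; exact h.2.1)
  -- `y` is not in `⟨z, x⟩`
  have hyV : y ∉ closure {z, x} := by
    intro hyV
    have h1 : closure {z, x} ≤ ((zpowers (p K x hx)).comap (K.π.comp (QuotientGroup.mk' _))).map
        (centralizer ({z} : Set G)).subtype := by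
      rw [closure_le]
      intro a ha
      rcases ha with ha | ha
      · subst ha
        refine ⟨⟨a, mem_cent.2 rfl⟩, ?_, rfl⟩
        show K.π (zb a) ∈ zpowers _
        rw [← hKz, K.π_z]
        exact one_mem _
      · rw [Set.mem_singleton_iff] at ha
        subst ha
        exact ⟨⟨a, mem_cent.2 hx⟩, mem_zpowers _, rfl⟩
    obtain ⟨⟨y', hy'C⟩, hy', hyy'⟩ := h1 hyV
    have e1 : y' = y := hyy'
    subst e1
    obtain ⟨k, hk⟩ := mem_zpowers_iff.1 hy'
    have hk' : p K x hx ^ k = p K y' hyz := hk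
    have hxx2 : p K x hx ^ (2 : ℤ) = 1 := by rw [zpow_ofNat, pow_two]; exact h.1.1
    have hR := h.2.2.2
    rw [← hpy, ← hk'] at hR
    rcases Int.even_or_odd k with ⟨m, hm⟩ | ⟨m, hm⟩
    · have : p K x hx ^ k = 1 := by rw [hm, ← two_mul, zpow_mul, hxx2, one_zpow]
      rw [this] at hk'
      exact p_ne_one hz K hKz hyz hyy hy1.1 hy1.2 hk'.symm
    · have : p K x hx ^ k = p K x hx := by rw [hm, zpow_add, zpow_mul, hxx2, one_zpow, one_mul, zpow_one]
      rw [this, h.1.1, Perm.support_one, Finset.card_empty] at hR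
      exact absurd hR (by decide)
  -- the elementary abelian group of order 8
  have hA : IsElementaryAbelian 2 (closure {z, x, y}) := by
    refine isElementaryAbelian_closure _ ?_ ?_
    · intro a ha
      simp only [Set.mem_insert_iff, Set.mem_singleton_iff] at ha
      rcases ha with rfl | rfl | rfl <;> assumption
    · intro a ha b hb
      simp only [Set.mem_insert_iff, Set.mem_singleton_iff] at ha hb
      rcases ha with rfl | rfl | rfl <;> rcases hb with rfl | rfl | rfl <;>
        first | rfl | assumption | (symm; assumption)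
  have hVx : closure {z, x} ≤ closure {z, x, y} := closure_mono (by
    intro a ha
    simp only [Set.mem_insert_iff, Set.mem_singleton_iff] at ha ⊢
    rcases ha with h | h
    · exact Or.inl h
    · exact Or.inr (Or.inl h))
  have hVy : closure {z, y} ≤ closure {z, x, y} := closure_mono (by
    intro a ha
    simp only [Set.mem_insert_iff, Set.mem_singleton_iff] at ha ⊢
    rcases ha with h | h
    · exact Or.inl h
    · exact Or.inr (Or.inr h))
  have hne : closure {z, x} ≠ closure {z, x, y} := by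
    intro h1
    apply hyV
    rw [h1]
    exact subset_closure (by simp)
  have h4 := four_le_card hz hx1.1 hx1.2
  have h8 : 8 ≤ Nat.card (closure {z, x, y}) := by
    have := two_mul_card_le hVx hne
    omega
  have r1 := supO_eq hbal hsolv hA h8 hVx h4
  have r2 := supO_eq hbal hsolv hA h8 hVy (four_le_card hz hy1.1 hy1.2)
  have r3 := W_eq_of_p_eq hz K hKz hyz hyy hx' hxx' hpy
  refine ⟨?_, ?_⟩
  · rw [r3, r2.1, r1.1]
  · rw [r1.1]; exact r1.2

/-- (5): independence of the second involution -/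
theorem W_eq (hn : n < 16) (hgood : TypeFour.Good n) (hbal : Bal G)
    (hsolv : ∀ x : G, orderOf x = 2 → Group.IsSolvable (centralizerPPrimeCore 2 x))
    {x x' : G} (hx : x * z = z * x) (hxx : x * x = 1) (hx1 : x ≠ 1) (hxz : x ≠ z)
    (hx' : x' * z = z * x') (hxx' : x' * x' = 1) (hx1' : x' ≠ 1) (hxz' : x' ≠ z) :
    supO (closure {z, x'} : Set G) = supO (closure {z, x} : Set G) := by
  have hT := T_p hz K hKz hn hx hxx hx1 hxz
  have hT' := T_p hz K hKz hn hx' hxx' hx1' hxz'
  have key : ∀ τ : Perm (Fin n), TypeFour.Conn (p K x hx) τ → ∀ (y : G) (hy : y * z = z * y), y * y = 1 →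
      p K y hy = τ → supO (closure {z, y} : Set G) = supO (closure {z, x} : Set G) := by
    intro τ h
    induction h with
    | refl => intro y hy hyy hp; exact W_eq_of_p_eq hz K hKz hx hxx hy hyy hp.symm
    | tail h1 h2 ih =>
      rename_i σ τ
      intro y hy hyy hp
      obtain ⟨w, hw, hww, hw1, hwz, hpw⟩ := exists_of_T hz K hKz h2.1
      rw [← ih w hw hww hpw]
      exact (W_eq_of_R hz K hKz hbal hsolv hw hww hy hyy (by rw [hpw, hp]; exact h2)).1
  exact key _ (hgood.1 _ _ hT hT') x' hx' hxx' rfl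

theorem W_odd (hn : n < 16) (hgood : TypeFour.Good n) (hbal : Bal G)
    (hsolv : ∀ x : G, orderOf x = 2 → Group.IsSolvable (centralizerPPrimeCore 2 x))
    {x : G} (hx : x * z = z * x) (hxx : x * x = 1) (hx1 : x ≠ 1) (hxz : x ≠ z) :
    Odd (Nat.card (supO (closure {z, x} : Set G))) := by
  have hT := T_p hz K hKz hn hx hxx hx1 hxz
  obtain ⟨τ, hτ⟩ := hgood.2 _ hT
  obtain ⟨w, hw, hww, hw1, hwz, hpw⟩ := exists_of_T hz K hKz hτ.2.1
  exact (W_eq_of_R hz K hKz hbal hsolv hx hxx hw hww (by rw [hpw]; exact hτ)).2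

end main

end Cfsg.Agent.Intrinsic.NZCore
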