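import Cfsg.Agent.Intrinsic.Functor
import Cfsg.Agent.Intrinsic.TypeFour
import Cfsg.Agent.Intrinsic.AnEight
import Cfsg.Agent.NineCore.Proj
import Cfsg.Agent.SignalizersComponents.CoprimeGen
import Cfsg.Agent.StandardComponent.AltTransfer
import Cfsg.Agent.Intrinsic.ANFactBigCent
import Cfsg.Agent.SporRec.TwoAnEleven

/-!
# S1738, (5a.4): the core of `C(z)` in a simple group with one class of involutions and `C(z)/O(C(z)) ≅ 2.A_n`

Let `n = 8, 10, 11`.  If the cores `O(C(x))` of the centralizers of involutions are balanced then either they are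
trivial or `G` has a strongly embedded subgroup.
-/

set_option autoImplicit false

namespace Cfsg.Agent.Intrinsic.NZCoreTh

open Subgroup Cfsg Equiv
open Cfsg.Agent.SignalizersComponents
open Cfsg.Agent.SignalizersComponents.PLayerAut
open Cfsg.Agent.SignalizersComponents.IntrinsicBasic
open Cfsg.Agent.Intrinsic.Functor
open Cfsg.Agent.SporRec.TwoAn

universe u v

/-! ### four-groups -/

section four

variable {G : Type u} [Group G]

theorem sq_of {x : G} (h : orderOf x = 2) : x * x = 1 := by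
  rw [← pow_two, ← h]; exact pow_orderOf_eq_one x

theorem ne_of {x : G} (h : orderOf x = 2) : x ≠ 1 := by
  rintro rfl; rw [orderOf_one] at h; omega

theorem two_of {x : G} (h : x * x = 1) (h1 : x ≠ 1) : orderOf x = 2 :=
  orderOf_eq_prime (by rw [pow_two, h]) h1

theorem orderOf_conj (g x : G) : orderOf (g * x * g⁻¹) = orderOf x := by
  have := orderOf_injective (MulAut.conj g).toMonoidHom (MulAut.conj g).injective x
  simpa using this

theorem closure_comm {S : Set G} (h : ∀ a ∈ S, ∀ b ∈ S, a * b = b * a) :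
    ∀ x ∈ closure S, ∀ y ∈ closure S, x * y = y * x := by
  have h1 : closure S ≤ centralizer S := by
    rw [closure_le]
    intro i hi
    rw [SetLike.mem_coe, mem_centralizer_iff]
    intro j hj
    exact h j hj i hi
  have h3 : closure S ≤ centralizer ((closure S : Subgroup G) : Set G) := by
    rw [closure_le]
    intro i hi
    rw [SetLike.mem_coe, mem_centralizer_iff]
    intro j hj
    exact (mem_centralizer_iff.mp (h1 hj) i hi).symm
  intro x hx y hy
  exact (mem_centralizer_iff.mp (h3 hx) y hy).symm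

theorem closure_sq {S : Set G} (h : ∀ a ∈ S, ∀ b ∈ S, a * b = b * a) (h2 : ∀ a ∈ S, a * a = 1) :
    ∀ x ∈ closure S, x * x = 1 := by
  intro x hx
  induction hx using closure_induction with
  | mem i hi => exact h2 i hi
  | one => exact one_mul 1
  | mul a b ha hb iha ihb =>
    calc a * b * (a * b) = a * (b * a) * b := by group
      _ = a * (a * b) * b := by rw [closure_comm h b hb a ha]
      _ = (a * a) * (b * b) := by group
      _ = 1 := by rw [iha, ihb, one_mul]
  | inv a ha iha => rw [← mul_inv_rev, iha, inv_one]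

/-- `⟨a, b⟩` -/
def four (a b : G) : Subgroup G := closure {a, b}

theorem left_mem (a b : G) : a ∈ four a b := subset_closure (by simp)

theorem right_mem (a b : G) : b ∈ four a b := subset_closure (by simp)

theorem four_comm (a b : G) : four a b = four b a := by unfold four; rw [Set.pair_comm]

theorem cj_four (g a b : G) : cj g (four a b) = four (g * a * g⁻¹) (g * b * g⁻¹) := by
  unfold four
  rw [cj_def, MonoidHom.map_closure, Set.image_pair]
  rfl

theorem pair_comm {a b : G} (h : a * b = b * a) : ∀ x ∈ ({a, b} : Set G), ∀ y ∈ ({a, b} : Set G),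
    x * y = y * x := by
  rintro x (rfl | rfl) y (rfl | rfl)
  · rfl
  · exact h
  · exact h.symm
  · rfl

/-- `⟨a, b⟩ = ⟨a, a b⟩` -/
theorem four_mul (a b : G) : four a b = four a (a * b) := by
  apply le_antisymm
  · unfold four
    rw [closure_le]
    rintro x (rfl | rfl)
    · exact left_mem _ _
    · have h := (four a (a * x)).mul_mem ((four a (a * x)).inv_mem (left_mem a (a * x)))
        (right_mem a (a * x))
      rwa [inv_mul_cancel_left] at h
  · unfold four
    rw [closure_le]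
    rintro x (rfl | rfl)
    · exact left_mem _ _
    · exact (four a b).mul_mem (left_mem a b) (right_mem a b)

variable [Finite G]

theorem isPGroup_of {A : Subgroup G} (h : ∀ a ∈ A, a * a = 1) : IsPGroup 2 A :=
  isPGroup_of_sq fun a ha => by rw [pow_two]; exact h a ha

theorem four_le_card {A : Subgroup G} (h : ∀ a ∈ A, a * a = 1) {a b : G} (ha : a ∈ A) (hb : b ∈ A)
    (ha1 : a ≠ 1) (hb1 : b ≠ 1) (hab : a ≠ b) : 4 ≤ Nat.card A := by
  have : Fact (Nat.Prime 2) := ⟨Nat.prime_two⟩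
  obtain ⟨k, hk⟩ := IsPGroup.iff_card.mp (isPGroup_of h)
  have h3 : 3 ≤ Nat.card A := by
    have h4 : ({1, a, b} : Set G) ⊆ (A : Set G) := by
      rintro x (rfl | rfl | rfl)
      · exact A.one_mem
      · exact ha
      · exact hb
    have h5 := Set.ncard_le_ncard h4 (Set.toFinite _)
    have h6 : ({1, a, b} : Set G).ncard = 3 := by
      rw [Set.ncard_insert_of_notMem (by
        simp only [Set.mem_insert_iff, Set.mem_singleton_iff, not_or]
        exact ⟨ha1.symm, hb1.symm⟩),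
        Set.ncard_insert_of_notMem (by simp only [Set.mem_singleton_iff]; exact hab),
        Set.ncard_singleton]
    rw [h6] at h5
    exact h5
  rw [hk] at h3 ⊢
  match k, h3 with
  | 0, h => simp at h
  | 1, h => simp at h
  | k + 2, _ =>
    have : 1 ≤ 2 ^ k := Nat.one_le_two_pow
    rw [pow_add]; omega

end four

/-! ### the subgroups `W ⟨z, t⟩` -/

section W

variable {G : Type u} [Group G] [Finite G]

/-- balance -/
def Bal (G : Type u) [Group G] : Prop := ∀ a b : G, orderOf a = 2 → orderOf b = 2 → a * b = b * a →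
  th a ⊓ centralizer ({b} : Set G) ≤ th b

theorem W_mono {A B : Subgroup G} (h : A ≤ B) : W A ≤ W B := W_le fun _ ha ha1 => le_W (h ha) ha1

theorem rank (FT : OddSol G) (hbal : Bal G) {A : Subgroup G} (hAc : ∀ a ∈ A, ∀ b ∈ A, a * b = b * a)
    (hA2 : ∀ a ∈ A, a * a = 1) (hA8 : 8 ≤ Nat.card A) :
    Odd (Nat.card (W A)) ∧ ∀ a ∈ A, a ≠ 1 → W A ⊓ centralizer ({a} : Set G) = th a :=
  closure_of_rank FT hAc (fun a ha => by rw [pow_two]; exact hA2 a ha) hA8
    fun a ha ha1 b hb hb1 => hbal a b (two_of (hA2 a ha) ha1) (two_of (hA2 b hb) hb1)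
      (hAc a ha b hb)

theorem W_eq_of_le (FT : OddSol G) (hbal : Bal G) {A V : Subgroup G}
    (hAc : ∀ a ∈ A, ∀ b ∈ A, a * b = b * a) (hA2 : ∀ a ∈ A, a * a = 1) (hA8 : 8 ≤ Nat.card A)
    (hV : V ≤ A) (hV4 : 4 ≤ Nat.card V) : W A = W V := by
  apply le_antisymm _ (W_mono hV)
  have : Fact (Nat.Prime 2) := ⟨Nat.prime_two⟩
  obtain ⟨h1, h2⟩ := rank FT hbal hAc hA2 hA8
  have hAn : A ≤ normalizer (W A : Set G) := le_normalizer.trans (normalizer_le A)
  have hVel : Cfsg.IsElementaryAbelian 2 V :=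
    ⟨⟨⟨fun x y => Subtype.ext (hAc _ (hV x.2) _ (hV y.2))⟩⟩,
      fun a ha => by rw [pow_two]; exact hA2 a (hV ha)⟩
  have h3 := CoprimeGen.le_iSup_centralizer_ne_one (p := 2) hVel (by norm_num; exact hV4)
    (fun h4 => (Nat.not_even_iff_odd.mpr h1) (even_iff_two_dvd.mpr h4)) (hV.trans hAn)
  refine h3.trans (iSup_le fun a => ?_)
  rw [h2 _ (hV a.2.1) a.2.2]
  exact le_W a.2.1 a.2.2

/-- `W ⟨z, t⟩ = W ⟨z, t'⟩` for commuting `t, t'` -/
theorem W_four_eq (FT : OddSol G) (hbal : Bal G) {z t t' : G} (hz : orderOf z = 2)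
    (ht : orderOf t = 2) (ht' : orderOf t' = 2) (hzt : z * t = t * z) (hzt' : z * t' = t' * z)
    (htt' : t * t' = t' * t) (hne : t ≠ z) (hne' : t' ≠ z) : W (four z t) = W (four z t') := by
  have : Fact (Nat.Prime 2) := ⟨Nat.prime_two⟩
  obtain ⟨A, hA⟩ : ∃ A, A = closure ({z, t, t'} : Set G) := ⟨_, rfl⟩
  have hc : ∀ x ∈ ({z, t, t'} : Set G), ∀ y ∈ ({z, t, t'} : Set G), x * y = y * x := by
    rintro x (rfl | rfl | rfl) y (rfl | rfl | rfl)
    · rfl
    · exact hzt
    · exact hzt'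
    · exact hzt.symm
    · rfl
    · exact htt'
    · exact hzt'.symm
    · exact htt'.symm
    · rfl
  have h2 : ∀ x ∈ ({z, t, t'} : Set G), x * x = 1 := by
    rintro x (rfl | rfl | rfl)
    · exact sq_of hz
    · exact sq_of ht
    · exact sq_of ht'
  have hAc : ∀ a ∈ A, ∀ b ∈ A, a * b = b * a := hA ▸ closure_comm hc
  have hA2 : ∀ a ∈ A, a * a = 1 := hA ▸ closure_sq hc h2
  have hzA : z ∈ A := hA ▸ subset_closure (by simp)
  have htA : t ∈ A := hA ▸ subset_closure (by simp)
  have htA' : t' ∈ A := hA ▸ subset_closure (by simp)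
  have hF : four z t ≤ A := by
    unfold four
    rw [closure_le]
    rintro x (rfl | rfl)
    · exact hzA
    · exact htA
  have hF' : four z t' ≤ A := by
    unfold four
    rw [closure_le]
    rintro x (rfl | rfl)
    · exact hzA
    · exact htA'
  have h4 : 4 ≤ Nat.card (four z t) := four_le_card (fun a ha => hA2 a (hF ha)) (left_mem z t)
    (right_mem z t) (ne_of hz) (ne_of ht) hne.symm
  have h4' : 4 ≤ Nat.card (four z t') := four_le_card (fun a ha => hA2 a (hF' ha)) (left_mem z t')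
    (right_mem z t') (ne_of hz) (ne_of ht') hne'.symm
  by_cases h8 : 8 ≤ Nat.card A
  · rw [← W_eq_of_le FT hbal hAc hA2 h8 hF h4, W_eq_of_le FT hbal hAc hA2 h8 hF' h4']
  · have hA4 : Nat.card A ≤ 4 := by
      obtain ⟨k, hk⟩ := IsPGroup.iff_card.mp (isPGroup_of hA2)
      rw [hk] at h8 ⊢
      match k, h8 with
      | 0, _ => norm_num
      | 1, _ => norm_num
      | 2, _ => norm_num
      | k + 3, h =>
        exfalso
        apply h
        have : 1 ≤ 2 ^ k := Nat.one_le_two_pow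
        rw [pow_add]; omega
    rw [Subgroup.eq_of_le_of_card_ge hF (hA4.trans h4), Subgroup.eq_of_le_of_card_ge hF'
      (hA4.trans h4')]

end W

/-! ### independence of `t` -/

section indep

open Cfsg.Agent.NineCore.Proj
open Cfsg.Agent.Intrinsic.TypeFour

variable {G : Type u} [Group G] [Finite G] {X : Type v} [Group X] {n : ℕ} (K : Cover (Fin n) X)

/-- involutions of `C(z)` other than `z` have images which are involutions other than the central one -/
theorem image_ne {z : G} (hz : orderOf z = 2) (q : Quo K.z z) {t : G} (ht : orderOf t = 2)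
    (hc : t ∈ centralizer ({z} : Set G)) (hne : t ≠ z) :
    q.π ⟨t, hc⟩ * q.π ⟨t, hc⟩ = 1 ∧ K.π (q.π ⟨t, hc⟩) ≠ 1 := by
  have hsq : (⟨t, hc⟩ : centralizer ({z} : Set G)) * ⟨t, hc⟩ = 1 := Subtype.ext (sq_of ht)
  refine ⟨by rw [← map_mul, hsq, map_one], fun h => ?_⟩
  rcases (K.ker _).mp h with h1 | h1
  · have h2 := eq_one_of_odd hsq q.odd h1
    exact ne_of ht (congrArg Subtype.val h2)
  · have hzz : (⟨z, mem_self z⟩ : centralizer ({z} : Set G)) * ⟨z, mem_self z⟩ = 1 :=
      Subtype.ext (sq_of hz)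
    have hcz : (⟨t, hc⟩ : centralizer ({z} : Set G)) * ⟨z, mem_self z⟩ =
        ⟨z, mem_self z⟩ * ⟨t, hc⟩ := Subtype.ext (mem_centralizer_singleton_iff.mp hc)
    have h3 : (⟨t, hc⟩ : centralizer ({z} : Set G)) * ⟨z, mem_self z⟩ ∈ q.π.ker := by
      rw [MonoidHom.mem_ker, map_mul, h1, q.map_z, K.z_mul_z]
    have h4 := eq_one_of_odd (x := (⟨t, hc⟩ : centralizer ({z} : Set G)) * ⟨z, mem_self z⟩) (by
      calc (⟨t, hc⟩ : centralizer ({z} : Set G)) * ⟨z, mem_self z⟩ * (⟨t, hc⟩ * ⟨z, mem_self z⟩)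
          = ⟨t, hc⟩ * (⟨z, mem_self z⟩ * ⟨t, hc⟩) * ⟨z, mem_self z⟩ := by group
        _ = ⟨t, hc⟩ * ⟨t, hc⟩ * (⟨z, mem_self z⟩ * ⟨z, mem_self z⟩) := by rw [← hcz]; group
        _ = 1 := by rw [hsq, hzz, one_mul]) q.odd h3
    apply hne
    have h5 : t * z = 1 := congrArg Subtype.val h4
    rw [eq_inv_of_mul_eq_one_left h5, inv_eq_of_mul_eq_one_left (sq_of hz)]

/-- lifting an involution of `X` commuting with the image of an involution -/
theorem exists_lift_inv {z : G} (q : Quo K.z z) {a : centralizer ({z} : Set G)} (ha : a * a = 1)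
    {y : X} (hyy : y * y = 1) (hy : y * q.π a = q.π a * y) :
    ∃ c : centralizer ({z} : Set G), c * c = 1 ∧ c * a = a * c ∧ q.π c = y := by
  obtain ⟨c, hca, hc⟩ := exists_lift_commute q.surj q.odd ha hy
  have hcc : c * c ∈ q.π.ker := by rw [MonoidHom.mem_ker, map_mul, hc, hyy]
  obtain ⟨m, hm⟩ := q.odd
  have hpow : (c * c) ^ (2 * m + 1) = 1 := by
    rw [← hm]
    have := pow_card_eq_one' (x := (⟨c * c, hcc⟩ : q.π.ker))
    exact congrArg Subtype.val this
  refine ⟨c ^ (2 * m + 1), ?_, ?_, ?_⟩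
  · rw [← hpow, ← pow_two, ← pow_two, ← pow_mul, ← pow_mul, mul_comm]
  · exact ((show Commute c a from hca).pow_left _).eq
  · rw [map_pow, hc, pow_succ, pow_mul, pow_two, hyy, one_pow, one_mul]

theorem W_cj_four {z t : G} {o : G} (ho : o ∈ W (four z t)) (hoz : o * z * o⁻¹ = z) :
    W (four z (o * t * o⁻¹)) = W (four z t) := by
  have h1 : four z (o * t * o⁻¹) = cj o (four z t) := by rw [cj_four, hoz]
  rw [h1, ← cj_W]
  exact cj_eq_self_of_mem ho

theorem W_indep (hn : n < 16) (hconn : ∀ σ τ : Perm (Fin n), T σ → T τ → Conn σ τ)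
    (FT : OddSol G) (hbal : Bal G) {z : G} (hz : orderOf z = 2) (q : Quo K.z z) {t t' : G}
    (ht : orderOf t = 2) (ht' : orderOf t' = 2) (hzt : t * z = z * t) (hzt' : t' * z = z * t')
    (hne : t ≠ z) (hne' : t' ≠ z) : W (four z t) = W (four z t') := by
  have hc : ∀ {x : G}, x * z = z * x → x ∈ centralizer ({z} : Set G) := fun h =>
    mem_centralizer_singleton_iff.mpr h
  have hT : ∀ {x : G} (hx : x * z = z * x), orderOf x = 2 → x ≠ z →
      T (K.π (q.π ⟨x, hc hx⟩)) := by
    intro x hx hx2 hxz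
    obtain ⟨h1, h2⟩ := image_ne K hz q hx2 (hc hx) hxz
    exact ⟨(K.sq_eq_one_iff.mp h1).1,
      AnEight.card_support_eq K (by rw [Fintype.card_fin]; exact hn) h1 h2⟩
  have key : ∀ τ, Conn (K.π (q.π ⟨t, hc hzt⟩)) τ → ∀ t' : G, orderOf t' = 2 →
      ∀ h : t' * z = z * t', t' ≠ z → K.π (q.π ⟨t', hc h⟩) = τ →
      W (four z t) = W (four z t') := by
    intro τ hτ
    induction hτ with
    | refl =>
      intro t' ht' hzt' hne' he
      have htt : (⟨t, hc hzt⟩ : centralizer ({z} : Set G)) * ⟨t, hc hzt⟩ = 1 :=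
        Subtype.ext (sq_of ht)
      have htt' : (⟨t', hc hzt'⟩ : centralizer ({z} : Set G)) * ⟨t', hc hzt'⟩ = 1 :=
        Subtype.ext (sq_of ht')
      have hcz : (⟨t, hc hzt⟩ : centralizer ({z} : Set G)) * ⟨z, mem_self z⟩ =
          ⟨z, mem_self z⟩ * ⟨t, hc hzt⟩ := Subtype.ext hzt
      have hzz : (⟨z, mem_self z⟩ : centralizer ({z} : Set G)) * ⟨z, mem_self z⟩ = 1 :=
        Subtype.ext (sq_of hz)
      -- the conjugating elements
      have hker : ∀ o : centralizer ({z} : Set G), o ∈ q.π.ker → (o : G) ∈ th z := by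
        intro o ho
        refine le_core (N := q.π.ker.map (centralizer ({z} : Set G)).subtype)
          (map_subtype_le _) ?_ (odd_card_map _ q.odd) ⟨o, ho, rfl⟩
        rw [Subgroup.le_normalizer_iff]
        rintro a ha _ ⟨b, hb, rfl⟩
        exact ⟨⟨a, ha⟩ * b * ⟨a, ha⟩⁻¹, (MonoidHom.normal_ker q.π).conj_mem b hb _, rfl⟩
      rcases K.lift_eq he with h1 | h1
      · obtain ⟨o, ho, hoe⟩ := exists_conj_of_odd (x := (⟨t', hc hzt'⟩ : centralizer ({z} : Set G)))
          (y := ⟨t, hc hzt⟩) (N := q.π.ker) htt' htt q.odd (by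
            rw [MonoidHom.mem_ker, map_mul, h1, ← map_mul, htt, map_one])
        have hoe' : (o : G) * t * (o : G)⁻¹ = t' := congrArg Subtype.val hoe
        have hoz : (o : G) * z * (o : G)⁻¹ = z := by
          rw [mem_centralizer_singleton_iff.mp o.2, mul_inv_cancel_right]
        rw [← hoe']
        exact (W_cj_four (le_W (left_mem z t) (ne_of hz) (hker o ho)) hoz).symm
      · have h2 : (⟨t, hc hzt⟩ : centralizer ({z} : Set G)) * ⟨z, mem_self z⟩ *
            (⟨t, hc hzt⟩ * ⟨z, mem_self z⟩) = 1 := by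
          calc (⟨t, hc hzt⟩ : centralizer ({z} : Set G)) * ⟨z, mem_self z⟩ *
              (⟨t, hc hzt⟩ * ⟨z, mem_self z⟩)
              = ⟨t, hc hzt⟩ * (⟨z, mem_self z⟩ * ⟨t, hc hzt⟩) * ⟨z, mem_self z⟩ := by group
            _ = ⟨t, hc hzt⟩ * ⟨t, hc hzt⟩ * (⟨z, mem_self z⟩ * ⟨z, mem_self z⟩) := by
              rw [← hcz]; group
            _ = 1 := by rw [htt, hzz, one_mul]
        have h3 : q.π (⟨t, hc hzt⟩ * ⟨z, mem_self z⟩) = q.π ⟨t', hc hzt'⟩ := by
          rw [map_mul, q.map_z, h1]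
        obtain ⟨o, ho, hoe⟩ := exists_conj_of_odd (x := (⟨t', hc hzt'⟩ : centralizer ({z} : Set G)))
          (y := ⟨t, hc hzt⟩ * ⟨z, mem_self z⟩) (N := q.π.ker) htt' h2 q.odd (by
            rw [MonoidHom.mem_ker, map_mul, h3, ← map_mul, htt', map_one])
        have hoe' : (o : G) * (t * z) * (o : G)⁻¹ = t' := congrArg Subtype.val hoe
        have hoz : (o : G) * z * (o : G)⁻¹ = z := by
          rw [mem_centralizer_singleton_iff.mp o.2, mul_inv_cancel_right]
        have h4 : four z t = four z (t * z) := by rw [hzt]; exact four_mul z t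
        rw [← hoe', h4]
        exact (W_cj_four (le_W (left_mem z (t * z)) (ne_of hz) (hker o ho)) hoz).symm
    | @tail σ τ _ hR ih =>
      intro t' ht' hzt' hne' he
      obtain ⟨hσ, hτ', hcomm, h8⟩ := hR
      -- the involution over `σ`
      have hσa : σ ∈ alternatingGroup (Fin n) := by
        have h4 := Cfsg.Agent.SporRec.TwoAnEleven.cycleType_of_involution (σ := σ) hσ.1 (k := 4) hσ.2
        rw [Perm.mem_alternatingGroup, Perm.sign_of_cycleType, h4]
        decide
      obtain ⟨y, hy⟩ := K.exists_lift hσa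
      have hyy : y * y = 1 := K.sq_eq_one_iff.mpr ⟨by rw [hy]; exact hσ.1, by rw [hy, hσ.2]⟩
      have htt' : (⟨t', hc hzt'⟩ : centralizer ({z} : Set G)) * ⟨t', hc hzt'⟩ = 1 :=
        Subtype.ext (sq_of ht')
      have h1 : q.π ⟨t', hc hzt'⟩ * q.π ⟨t', hc hzt'⟩ = 1 := by rw [← map_mul, htt', map_one]
      have hyt : y * q.π ⟨t', hc hzt'⟩ * (y * q.π ⟨t', hc hzt'⟩) = 1 := by
        rw [K.sq_eq_one_iff, map_mul, hy, he, h8]
        refine ⟨?_, dvd_refl 8⟩
        calc σ * τ * (σ * τ) = σ * (τ * σ) * τ := by group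
          _ = (σ * σ) * (τ * τ) := by rw [← hcomm]; group
          _ = 1 := by rw [hσ.1, hτ'.1, one_mul]
      have hcy : y * q.π ⟨t', hc hzt'⟩ = q.π ⟨t', hc hzt'⟩ * y := by
        have h2 := eq_inv_of_mul_eq_one_left hyt
        rw [mul_inv_rev, inv_eq_of_mul_eq_one_left hyy, inv_eq_of_mul_eq_one_left h1] at h2
        exact h2
      obtain ⟨c, hcc, hct, hcπ⟩ := exists_lift_inv K q htt' hyy hcy
      have hσ1 : σ ≠ 1 := by
        rintro rfl
        have := hσ.2
        rw [Perm.support_one, Finset.card_empty] at this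
        omega
      have hc1 : (c : G) ≠ 1 := by
        intro h
        have h2 : c = 1 := Subtype.ext h
        rw [h2, map_one] at hcπ
        rw [← hcπ, map_one] at hy
        exact hσ1 hy.symm
      have hcz : (c : G) ≠ z := by
        intro h
        have h2 : c = ⟨z, mem_self z⟩ := Subtype.ext h
        rw [h2, q.map_z] at hcπ
        rw [← hcπ, K.π_z] at hy
        exact hσ1 hy.symm
      have hc2 : orderOf (c : G) = 2 := two_of (congrArg Subtype.val hcc) hc1
      have hczc : (c : G) * z = z * c := mem_centralizer_singleton_iff.mp c.2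
      have hctc : (c : G) * t' = t' * c := congrArg Subtype.val hct
      have h5 := ih (c : G) hc2 hczc hcz (by
        have : (⟨(c : G), hc hczc⟩ : centralizer ({z} : Set G)) = c := rfl
        rw [this, hcπ, hy])
      rw [h5]
      exact W_four_eq FT hbal hz hc2 ht' hczc.symm hzt'.symm hctc hcz hne'
  exact key _ (hconn _ _ (hT hzt ht hne) (hT hzt' ht' hne')) t' ht' hzt' hne' rfl

end indep

/-! ### strong embedding -/

section strong

open Cfsg.Agent.NineCore.Proj
open Cfsg.Agent.Intrinsic.TypeFour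

variable {G : Type u} [Group G] [Finite G] {X : Type v} [Group X] {n : ℕ} (K : Cover (Fin n) X)

/-- there is a four-group `⟨z, t⟩` contained in an elementary abelian group of order 8 -/
theorem exists_odd (hR : ∃ σ τ : Perm (Fin n), R σ τ) (FT : OddSol G) (hbal : Bal G) {z : G}
    (hz : orderOf z = 2) (q : Quo K.z z) : ∃ t : G, orderOf t = 2 ∧ t * z = z * t ∧ t ≠ z ∧
      Odd (Nat.card (W (four z t))) := by
  have : Fact (Nat.Prime 2) := ⟨Nat.prime_two⟩
  obtain ⟨σ, τ, hσ, hτ, hcomm, h8⟩ := hR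
  have halt : ∀ {ρ : Perm (Fin n)}, T ρ → ρ ∈ alternatingGroup (Fin n) := by
    intro ρ hρ
    have h4 := Cfsg.Agent.SporRec.TwoAnEleven.cycleType_of_involution (σ := ρ) hρ.1 (k := 4) hρ.2
    rw [Perm.mem_alternatingGroup, Perm.sign_of_cycleType, h4]
    decide
  have hne1 : ∀ {ρ : Perm (Fin n)}, T ρ → ρ ≠ 1 := by
    rintro ρ hρ rfl
    have := hρ.2
    rw [Perm.support_one, Finset.card_empty] at this
    omega
  obtain ⟨y, hy⟩ := K.exists_lift (halt hσ)
  obtain ⟨y', hy'⟩ := K.exists_lift (halt hτ)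
  have hyy : y * y = 1 := K.sq_eq_one_iff.mpr ⟨by rw [hy]; exact hσ.1, by rw [hy, hσ.2]⟩
  have hyy' : y' * y' = 1 := K.sq_eq_one_iff.mpr ⟨by rw [hy']; exact hτ.1, by rw [hy', hτ.2]⟩
  have hyy2 : y' * y * (y' * y) = 1 := by
    rw [K.sq_eq_one_iff, map_mul, hy, hy', ← hcomm, h8]
    refine ⟨?_, dvd_refl 8⟩
    calc σ * τ * (σ * τ) = σ * (τ * σ) * τ := by group
      _ = (σ * σ) * (τ * τ) := by rw [← hcomm]; group
      _ = 1 := by rw [hσ.1, hτ.1, one_mul]
  have hcy : y' * y = y * y' := by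
    have h2 := eq_inv_of_mul_eq_one_left hyy2
    rw [mul_inv_rev, inv_eq_of_mul_eq_one_left hyy, inv_eq_of_mul_eq_one_left hyy'] at h2
    exact h2
  have hzz : (⟨z, mem_self z⟩ : centralizer ({z} : Set G)) * ⟨z, mem_self z⟩ = 1 :=
    Subtype.ext (sq_of hz)
  obtain ⟨t, htt, -, htπ⟩ := exists_lift_inv K q hzz hyy (by rw [q.map_z]; exact K.z_comm y)
  obtain ⟨t', htt', hct, htπ'⟩ := exists_lift_inv K q htt hyy' (by rw [htπ]; exact hcy)
  have h1 : ∀ {c : centralizer ({z} : Set G)} {w : X} {ρ : Perm (Fin n)}, T ρ → K.π w = ρ →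
      q.π c = w → (c : G) ≠ 1 ∧ (c : G) ≠ z := by
    intro c w ρ hρ hw hc
    constructor
    · intro h
      have h2 : c = 1 := Subtype.ext h
      rw [h2, map_one] at hc
      rw [← hc, map_one] at hw
      exact hne1 hρ hw.symm
    · intro h
      have h2 : c = ⟨z, mem_self z⟩ := Subtype.ext h
      rw [h2, q.map_z] at hc
      rw [← hc, K.π_z] at hw
      exact hne1 hρ hw.symm
  obtain ⟨ht1, htz⟩ := h1 hσ hy htπ
  obtain ⟨ht1', htz'⟩ := h1 hτ hy' htπ'
  have hsq : (t : G) * t = 1 := congrArg Subtype.val htt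
  have hsq' : (t' : G) * t' = 1 := congrArg Subtype.val htt'
  have htz_c : (t : G) * z = z * t := mem_centralizer_singleton_iff.mp t.2
  have htz_c' : (t' : G) * z = z * t' := mem_centralizer_singleton_iff.mp t'.2
  have hct' : (t' : G) * t = t * t' := congrArg Subtype.val hct
  refine ⟨t, two_of hsq ht1, htz_c, htz, ?_⟩
  obtain ⟨A, hA⟩ : ∃ A, A = closure ({z, (t : G), (t' : G)} : Set G) := ⟨_, rfl⟩
  have hc : ∀ x ∈ ({z, (t : G), (t' : G)} : Set G), ∀ y ∈ ({z, (t : G), (t' : G)} : Set G),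
      x * y = y * x := by
    rintro x (rfl | rfl | rfl) y (rfl | rfl | rfl)
    · rfl
    · exact htz_c.symm
    · exact htz_c'.symm
    · exact htz_c
    · rfl
    · exact hct'.symm
    · exact htz_c'
    · exact hct'
    · rfl
  have h2 : ∀ x ∈ ({z, (t : G), (t' : G)} : Set G), x * x = 1 := by
    rintro x (rfl | rfl | rfl)
    · exact sq_of hz
    · exact hsq
    · exact hsq'
  have hAc : ∀ a ∈ A, ∀ b ∈ A, a * b = b * a := hA ▸ closure_comm hc
  have hA2 : ∀ a ∈ A, a * a = 1 := hA ▸ closure_sq hc h2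
  have hF : four z t ≤ A := by
    unfold four
    rw [closure_le]
    rintro x (rfl | rfl)
    · exact hA ▸ subset_closure (by simp)
    · exact hA ▸ subset_closure (by simp)
  have h4 : 4 ≤ Nat.card (four z t) := four_le_card (fun a ha => hA2 a (hF ha)) (left_mem z _)
    (right_mem z _) (ne_of hz) ht1 htz.symm
  -- `t'` is not in `⟨z, t⟩`
  have hnot : (t' : G) ∉ four z t := by
    intro h
    have h5 : four z t ≤ ((zpowers σ).comap (K.π.comp q.π)).map
        (centralizer ({z} : Set G)).subtype := by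
      unfold four
      rw [closure_le]
      rintro x (rfl | rfl)
      · refine ⟨⟨x, mem_self x⟩, ?_, rfl⟩
        change K.π (q.π ⟨x, mem_self x⟩) ∈ zpowers σ
        rw [q.map_z, K.π_z]; exact one_mem _
      · refine ⟨t, ?_, rfl⟩
        change K.π (q.π t) ∈ zpowers σ
        rw [htπ, hy]; exact mem_zpowers σ
    obtain ⟨c, hc, hct⟩ := h5 h
    have hcc : c = t' := Subtype.ext hct
    rw [hcc] at hc
    have h6 : τ ∈ zpowers σ := by
      have : K.π (q.π t') ∈ zpowers σ := hc
      rwa [htπ', hy'] at this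
    obtain ⟨k, hk⟩ := h6
    have hk' : σ ^ k = τ := hk
    rcases Int.even_or_odd k with he | ho
    · obtain ⟨j, rfl⟩ := he
      rw [← two_mul, zpow_mul, show (σ ^ (2 : ℤ)) = 1 by rw [zpow_ofNat, pow_two, hσ.1],
        one_zpow] at hk'
      exact hne1 hτ hk'.symm
    · obtain ⟨j, rfl⟩ := ho
      rw [zpow_add, zpow_mul, show (σ ^ (2 : ℤ)) = 1 by rw [zpow_ofNat, pow_two, hσ.1],
        one_zpow, one_mul, zpow_one] at hk'
      rw [← hk', hσ.1, Perm.support_one, Finset.card_empty] at h8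
      omega
  have hA8 : 8 ≤ Nat.card A := by
    have hlt : Nat.card (four z t) < Nat.card A := by
      by_contra hle
      push Not at hle
      apply hnot
      rw [Subgroup.eq_of_le_of_card_ge hF hle, hA]
      exact subset_closure (by simp)
    obtain ⟨k, hk⟩ := IsPGroup.iff_card.mp (isPGroup_of hA2)
    have h5 : 4 < Nat.card A := lt_of_le_of_lt h4 hlt
    rw [hk] at h5 ⊢
    match k, h5 with
    | 0, h => norm_num at h
    | 1, h => norm_num at h
    | 2, h => norm_num at h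
    | k + 3, _ =>
      have : 1 ≤ 2 ^ k := Nat.one_le_two_pow
      rw [pow_add]; omega
  exact odd_of_le (W_mono hF) (rank FT hbal hAc hA2 hA8).1

/-- **(5a.4)** the cores vanish or `G` has a strongly embedded subgroup -/
theorem th_eq_bot [IsSimpleGroup G] (hn : n < 16)
    (hconn : ∀ σ τ : Perm (Fin n), T σ → T τ → Conn σ τ) (hR : ∃ σ τ : Perm (Fin n), R σ τ)
    (FT : OddSol G) (hbal : Bal G) (hquo : ∀ u : G, orderOf u = 2 → Nonempty (Quo K.z u))
    (hconj : ∀ x y : G, orderOf x = 2 → orderOf y = 2 → ∃ g : G, g * x * g⁻¹ = y)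
    (hSE : ∀ H : Subgroup G, ¬ IsStronglyEmbedded H) {z : G} (hz : orderOf z = 2) : th z = ⊥ := by
  have : Fact (Nat.Prime 2) := ⟨Nat.prime_two⟩
  obtain ⟨q⟩ := hquo z hz
  obtain ⟨t, ht, htz, hne, hodd⟩ := exists_odd K hR FT hbal hz q
  obtain ⟨W₀, hW₀⟩ : ∃ W₀, W₀ = W (four z t) := ⟨_, rfl⟩
  rw [← hW₀] at hodd
  have hindep : ∀ t' : G, orderOf t' = 2 → t' * z = z * t' → t' ≠ z → W (four z t') = W₀ := by
    intro t' ht' htz' hne'
    rw [hW₀]
    exact (W_indep K hn hconn FT hbal hz q ht ht' htz htz' hne hne').symm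
  obtain ⟨M, hM⟩ : ∃ M, M = normalizer (W₀ : Set G) := ⟨_, rfl⟩
  have hmemM : ∀ g, g ∈ M ↔ cj g W₀ = W₀ := by
    intro g; rw [hM]; exact mem_normalizer_iff_cj
  have hconj2 : ∀ (g : G) {a b : G}, a * b = b * a → g * a * g⁻¹ * (g * b * g⁻¹) =
      g * b * g⁻¹ * (g * a * g⁻¹) := by
    intro g a b h
    calc g * a * g⁻¹ * (g * b * g⁻¹) = g * (a * b) * g⁻¹ := by group
      _ = g * (b * a) * g⁻¹ := by rw [h]
      _ = g * b * g⁻¹ * (g * a * g⁻¹) := by group
  have hinj : ∀ (g : G) {a b : G}, g * a * g⁻¹ = g * b * g⁻¹ → a = b := fun g a b h =>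
    mul_left_cancel (mul_right_cancel h)
  have hCM : centralizer ({z} : Set G) ≤ M := by
    intro c hc
    rw [mem_centralizer_singleton_iff] at hc
    have hcz : c * z * c⁻¹ = z := by rw [hc, mul_inv_cancel_right]
    rw [hmemM]
    conv_lhs => rw [hW₀]
    rw [cj_W, cj_four, hcz]
    apply hindep
    · rw [orderOf_conj, ht]
    · have := hconj2 c htz
      rwa [hcz] at this
    · intro h
      rw [← hcz] at h
      exact hne (hinj c h)
  have hidx := ANFactBigCent.odd_index hz fun x hx => hconj z x hz hx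
  -- Claim A
  have hA : ∀ x ∈ M, orderOf x = 2 → ∀ y : G, orderOf y = 2 → y * x = x * y → y ≠ x →
      W (four x y) = W₀ := by
    intro x hx hx2 y hy2 hyx hyne
    obtain ⟨m, hm, hmx⟩ := StandardComponent.AltTransfer.exists_conj_mem_of_odd hCM hidx hx
      (sq_of hx2)
    rw [mem_centralizer_singleton_iff] at hmx
    obtain ⟨x₁, hx₁⟩ : ∃ x₁, x₁ = m⁻¹ * x * m := ⟨_, rfl⟩
    obtain ⟨y₁, hy₁⟩ : ∃ y₁, y₁ = m⁻¹ * y * m := ⟨_, rfl⟩
    rw [← hx₁] at hmx
    have hx' : x = m * x₁ * m⁻¹ := by rw [hx₁]; group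
    have hy' : y = m * y₁ * m⁻¹ := by rw [hy₁]; group
    have hx₁2 : orderOf x₁ = 2 := by rw [← hx2, hx', orderOf_conj]
    have hy₁2 : orderOf y₁ = 2 := by rw [← hy2, hy', orderOf_conj]
    have hc₁ : y₁ * x₁ = x₁ * y₁ := by
      rw [hx₁, hy₁]
      calc m⁻¹ * y * m * (m⁻¹ * x * m) = m⁻¹ * (y * x) * m := by group
        _ = m⁻¹ * (x * y) * m := by rw [hyx]
        _ = m⁻¹ * x * m * (m⁻¹ * y * m) := by group
    have hne₁ : y₁ ≠ x₁ := by
      intro h; apply hyne; rw [hx', hy', h]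
    have hkey : W (four x₁ y₁) = W₀ := by
      by_cases e : x₁ = z
      · rw [e]
        rw [e] at hc₁ hne₁
        exact hindep y₁ hy₁2 hc₁ hne₁
      · obtain ⟨q₁⟩ := hquo x₁ hx₁2
        rw [W_indep K hn hconn FT hbal hx₁2 q₁ hy₁2 hz hc₁ hmx.symm hne₁ (Ne.symm e),
          four_comm]
        exact hindep x₁ hx₁2 hmx e
    rw [hx', hy', ← cj_four, ← cj_W, hkey]
    exact (hmemM m).mp hm
  by_cases hMtop : M = ⊤
  · have hn0 : W₀.Normal := by
      rw [← normalizer_eq_top_iff, ← hM, hMtop]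
    rcases hn0.eq_bot_or_eq_top with h | h
    · rw [eq_bot_iff, ← h, hW₀]
      exact le_W (left_mem z t) (ne_of hz)
    · exfalso
      rw [h, Subgroup.card_top] at hodd
      have h1 : 2 ∣ Nat.card G := by rw [← hz]; exact orderOf_dvd_natCard z
      exact not_two_dvd hodd h1
  · exfalso
    refine hSE M ⟨hMtop, ?_, fun g hg => ?_⟩
    · rw [even_iff_two_dvd]
      have hzM : z ∈ M := hCM (mem_self z)
      have h1 : orderOf (⟨z, hzM⟩ : M) = 2 := by rw [← hz]; exact (Subgroup.orderOf_coe _).symm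
      rw [← h1]; exact orderOf_dvd_natCard _
    · by_contra hev
      rw [Nat.not_odd_iff_even, even_iff_two_dvd] at hev
      obtain ⟨x, hx⟩ := exists_prime_orderOf_dvd_card' 2 hev
      have hx2 : orderOf (x : G) = 2 := by rw [← hx]; exact Subgroup.orderOf_coe _
      obtain ⟨hxM, hxg⟩ := x.2
      obtain ⟨q₁⟩ := hquo x hx2
      obtain ⟨y, hy, hyx, hyne, -⟩ := exists_odd K hR FT hbal hx2 q₁
      have h1 := hA x hxM hx2 y hy hyx hyne
      -- conjugate by `g⁻¹`
      obtain ⟨x', hx', hxx'⟩ := hxg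
      have hxx : g * x' * g⁻¹ = (x : G) := hxx'
      obtain ⟨y', hy'⟩ : ∃ y', y' = g⁻¹ * y * g := ⟨_, rfl⟩
      have hyy : g * y' * g⁻¹ = y := by rw [hy']; group
      have hx'2 : orderOf x' = 2 := by rw [← hx2, ← hxx, orderOf_conj]
      have hy'2 : orderOf y' = 2 := by rw [← hy, ← hyy, orderOf_conj]
      have h2 : W (four x' y') = W₀ := by
        apply hA x' hx' hx'2 y' hy'2
        · apply hinj g
          have h3 := hyx
          rw [← hxx, ← hyy] at h3
          calc g * (y' * x') * g⁻¹ = g * y' * g⁻¹ * (g * x' * g⁻¹) := by group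
            _ = g * x' * g⁻¹ * (g * y' * g⁻¹) := h3
            _ = g * (x' * y') * g⁻¹ := by group
        · intro h
          apply hyne
          rw [← hxx, ← hyy, h]
      apply hg
      rw [hmemM]
      conv_lhs => rw [← h2]
      rw [cj_W, cj_four, hxx, hyy, h1]

end strong

end Cfsg.Agent.Intrinsic.NZCoreTh
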