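import Cfsg.Agent.Intrinsic.NZElevenMain
import Cfsg.Agent.SignalizersComponents.SolFunctorTwo
import Cfsg.Agent.S0205

/-!
# Balance in groups with one class of involutions and `C(z)/O(C(z)) ≅ 2.A₁₁`
-/

set_option autoImplicit false

namespace Cfsg.Agent.Intrinsic.NZEleven

open Subgroup Cfsg
open Cfsg.Agent.SporRec.TwoAn
open Cfsg.Agent.NineCore.Proj Cfsg.Agent.NineCore.NoTarget

universe u

theorem ftStatement : FTStatement.{u} := fun _ _ _ h => Cfsg.Agent.S0205.result h

theorem sfStatement : SFStatement.{u} := by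
  intro G _ _ A h1 h2 h3 θ h4 h5 h6 h7 h8
  have h := Cfsg.Agent.SignalizersComponents.SolFunctorTwo.solvable_signalizer_functor_two A h1 h2 h3 θ h4 h5 h6 h7 h8
  exact ⟨h.1, h.2.1⟩

/-- **Balance** for groups with one class of involutions and `C(z)/O(C(z)) ≅ 2.A₁₁`. -/
theorem balanced {G : Type u} [Group G] [Finite G] {z : G} (hz : orderOf z = 2)
    (hone : ∀ x : G, orderOf x = 2 → ∃ g, g * z * g⁻¹ = x)
    (K : Cover (Fin 11) (centralizer ({z} : Set G) ⧸ oddCore (centralizer ({z} : Set G))))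
    (hK : K.z = QuotientGroup.mk' _ ⟨z, mem_centralizer_singleton_iff.2 rfl⟩) :
    ∀ x y : G, orderOf x = 2 → orderOf y = 2 → x ≠ y → x * y = y * x →
      centralizerPPrimeCore 2 x ⊓ centralizer ({y} : Set G) ≤ centralizerPPrimeCore 2 y := by
  intro x y hx hy hne hc
  by_contra hcon
  have hodd : Odd (Nat.card (oddCore (centralizer ({z} : Set G)))) := by
    rw [← Nat.coprime_two_right]
    exact Cfsg.Agent.Lib.Cores.pPrimeCore_coprime 2
  have q : Quo K.z z := ⟨QuotientGroup.mk' _, QuotientGroup.mk'_surjective _, by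
    rw [QuotientGroup.ker_mk']; exact hodd, hK.symm⟩
  refine NZElevenMain.false_of_unbalanced K ftStatement sfStatement (Fintype.card_fin 11) (u₀ := y) (v₀ := x) ?_ ?_
    hy hx hne hc hcon
  · intro u hu
    obtain ⟨g, rfl⟩ := hone u hu
    exact ⟨q.conj g⟩
  · intro a b ha hb
    obtain ⟨g, rfl⟩ := hone a ha
    obtain ⟨g', rfl⟩ := hone b hb
    exact ⟨g' * g⁻¹, by group⟩

end Cfsg.Agent.Intrinsic.NZEleven
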