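import Cfsg.Agent.SporRec.TwoAnEleven
import Cfsg.Agent.NineCore.TwoNine

/-!
# The double cover of `A₁₁`: subgroups of odd order normalised by a maximal elementary abelian two-subgroup
-/

set_option autoImplicit false
set_option linter.unusedSectionVars false

namespace Cfsg.Agent.Intrinsic.NZElevenCover

open Subgroup Equiv Cfsg
open Cfsg.Agent.SporRec.TwoAn Cfsg.Agent.SporRec.TwoAnEleven
open Cfsg.Agent.NineCore.Proj Cfsg.Agent.NineCore.NoTarget
open Cfsg.Agent.NineCore.TwoNine (eq_one_of_map_pow sq_apply)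

universe v

section Label

variable {C : Type v} [Group C]

/-- the subgroup generated by two vectors -/
def InSpan (v w x : V) : Prop := x = 0 ∨ x = v ∨ x = w ∨ x = v + w

instance (v w x : V) : Decidable (InSpan v w x) := by unfold InSpan; infer_instance

/-- auxiliary decidable statement -/
def SumSpan (v w : V) : Prop := ∀ x : V, ¬ InSpan v w x → ∀ y : V, ¬ InSpan v w y → InSpan v w (x + y)

instance (v w : V) : Decidable (SumSpan v w) := by unfold SumSpan; infer_instance

theorem sumSpan : ∀ v : V, v ≠ 0 → ∀ w : V, w ≠ 0 → v ≠ w → SumSpan v w := by decide +kernel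

theorem inSpan_of_not {v w : V} (hv : v ≠ 0) (hw : w ≠ 0) (hvw : v ≠ w) {x y : V} (hx : ¬ InSpan v w x)
    (hy : ¬ InSpan v w y) : InSpan v w (x + y) :=
  sumSpan v hv w hw hvw x hx y hy

/-- Elements of the subgroup fixing the first eight points. -/
def fixInl (L : Cover (V ⊕ Fin 3) C) : Subgroup C where
  carrier := {g | ∀ u : V, L.π g (Sum.inl u) = Sum.inl u}
  mul_mem' {g h} hg hh u := by
    show L.π (g * h) (Sum.inl u) = Sum.inl u
    rw [map_mul, Perm.mul_apply, hh u, hg u]
  one_mem' u := by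
    show L.π 1 (Sum.inl u) = Sum.inl u
    rw [map_one, Perm.one_apply]
  inv_mem' {g} hg u := by
    show L.π g⁻¹ (Sum.inl u) = Sum.inl u
    rw [map_inv, Perm.inv_eq_iff_eq]
    exact (hg u).symm

theorem mem_fixInl {L : Cover (V ⊕ Fin 3) C} {g : C} :
    g ∈ fixInl L ↔ ∀ u : V, L.π g (Sum.inl u) = Sum.inl u := Iff.rfl

/-- A permutation commuting with a four-group of translations: its fourth power fixes the first eight points. -/
theorem pow_four_inl {v w : V} (hv : v ≠ 0) (hw : w ≠ 0) (hvw : v ≠ w) {δ : Perm (V ⊕ Fin 3)}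
    (h1 : ∀ x, δ (t 3 v x) = t 3 v (δ x)) (h2 : ∀ x, δ (t 3 w x) = t 3 w (δ x)) (u : V) :
    δ (δ (δ (δ (Sum.inl u)))) = Sum.inl u := by
  have hl : ∀ u : V, ∃ u' : V, δ (Sum.inl u) = Sum.inl u' := by
    intro u
    rcases hu : δ (Sum.inl u) with u' | i
    · exact ⟨u', rfl⟩
    exfalso
    have h3 := h1 (Sum.inl u)
    rw [hu, t_inr, ← hu, δ.injective.eq_iff, t_inl, Sum.inl_injective.eq_iff, add_eq_right] at h3
    exact hv h3
  choose f hf using hl
  have e1 : ∀ u, f (v + u) = v + f u := by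
    intro u
    have h3 := h1 (Sum.inl u)
    rw [t_inl, hf, hf, t_inl] at h3
    exact Sum.inl_injective h3
  have e2 : ∀ u, f (w + u) = w + f u := by
    intro u
    have h3 := h2 (Sum.inl u)
    rw [t_inl, hf, hf, t_inl] at h3
    exact Sum.inl_injective h3
  have finj : Function.Injective f := by
    intro a b hab
    have h3 : δ (Sum.inl a) = δ (Sum.inl b) := by rw [hf, hf, hab]
    exact Sum.inl_injective (δ.injective h3)
  have e3 : ∀ k, InSpan v w k → ∀ u, f (k + u) = k + f u := by
    rintro k (rfl | rfl | rfl | rfl) u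
    · rw [zero_add, zero_add]
    · exact e1 u
    · exact e2 u
    · rw [add_assoc, e1, e2, add_assoc]
  rw [hf, hf, hf, hf]
  congr 1
  have hself : ∀ a : V, a + a = 0 := V_add_self
  by_cases hk : InSpan v w (f u + u)
  · have h3 : f (f u) = u := by
      have h4 := e3 _ hk u
      rw [add_assoc, hself, add_zero] at h4
      rw [h4, add_comm (f u) u, add_assoc, hself, add_zero]
    rw [h3, h3]
  · have hk2 : ¬ InSpan v w (f (f u) + f u) := by
      intro h3
      have h4 := e3 _ h3 u
      apply hk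
      have h5 : f (f (f u) + f u + u) = f (f u) := by
        rw [h4, add_assoc, hself, add_zero]
      have h6 := finj h5
      have h7 : f u + u = f (f u) + f u := by
        have h8 : f (f u) + f u + u + u = f u + u := by rw [h6]
        rw [add_assoc _ u u, hself, add_zero] at h8
        exact h8.symm
      rw [h7]; exact h3
    have hk3 : InSpan v w (f (f u) + u) := by
      have h3 := inSpan_of_not hv hw hvw hk2 hk
      have h4 : f (f u) + f u + (f u + u) = f (f u) + u := by
        rw [add_assoc, ← add_assoc (f u) (f u) u, hself, zero_add]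
      rwa [h4] at h3
    obtain ⟨k, hk4⟩ : ∃ k, k = f (f u) + u := ⟨_, rfl⟩
    rw [← hk4] at hk3
    have h8 : f (f u) = k + u := by rw [hk4, add_assoc, hself, add_zero]
    rw [h8, e3 k hk3, e3 k hk3, h8, ← add_assoc, hself, zero_add]

/-- In the labelled double cover of `A₁₁`, a subgroup of odd order normalised by `A` fixes the first eight points. -/
theorem le_fixInl [Finite C] (L : Cover (V ⊕ Fin 3) C) {D : Subgroup C}
    (hAD : SporRec.TwoAnEleven.A L ≤ normalizer (D : Set C)) (hD : Odd (Nat.card D)) : D ≤ fixInl L := by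
  have : Fact (Nat.Prime 2) := ⟨Nat.prime_two⟩
  set E := SporRec.TwoAnEleven.A L with hEdef
  have hE : IsElementaryAbelian 2 E :=
    elem_mk (fun a ha b hb => comm_of_mem_A L ha hb) (fun a ha => mul_self_of_mem_A L ha)
  have hcard : Nat.card E = 16 := card_A L
  have hE1 : E ≠ ⊥ := by
    intro h
    rw [h, Subgroup.card_bot] at hcard
    norm_num at hcard
  have h := Cfsg.Agent.Lib.CoprimeHyperplane.iSup_centralizer_hyperplane hE hE1 (not_two_dvd hD) hAD
  rw [← h]
  refine iSup_le ?_
  rintro ⟨B, hBE, hB⟩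
  have hBcard : Nat.card B = 8 := by
    have h1 := Subgroup.relIndex_mul_relIndex ⊥ B E bot_le hBE
    rw [hB, Subgroup.relIndex_bot_left, Subgroup.relIndex_bot_left, hcard] at h1
    omega
  -- choose `a, b ∈ B`
  obtain ⟨a, haB, ha⟩ : ∃ a ∈ B, a ∉ ({1, L.z} : Set C) := by
    by_contra hcon
    push Not at hcon
    have h1 : (B : Set C).ncard ≤ ({1, L.z} : Set C).ncard := Set.ncard_le_ncard hcon (Set.toFinite _)
    have h2 : ({1, L.z} : Set C).ncard ≤ 2 := (Set.ncard_insert_le _ _).trans (by rw [Set.ncard_singleton])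
    have h3 : (B : Set C).ncard = 8 := by rw [← hBcard]; exact (Nat.card_coe_set_eq _).symm
    omega
  obtain ⟨b, hbB, hb⟩ : ∃ b ∈ B, b ∉ ({1, L.z, a, a * L.z} : Set C) := by
    by_contra hcon
    push Not at hcon
    have h1 : (B : Set C).ncard ≤ ({1, L.z, a, a * L.z} : Set C).ncard := Set.ncard_le_ncard hcon (Set.toFinite _)
    have h2 : ({1, L.z, a, a * L.z} : Set C).ncard ≤ 4 := by
      refine (Set.ncard_insert_le _ _).trans ?_
      refine Nat.succ_le_succ ((Set.ncard_insert_le _ _).trans ?_)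
      refine Nat.succ_le_succ ((Set.ncard_insert_le _ _).trans (by rw [Set.ncard_singleton]))
    have h3 : (B : Set C).ncard = 8 := by rw [← hBcard]; exact (Nat.card_coe_set_eq _).symm
    omega
  simp only [Set.mem_insert_iff, Set.mem_singleton_iff, not_or] at ha hb
  obtain ⟨v, hv⟩ := (mem_A L).1 (hBE haB)
  obtain ⟨w, hw⟩ := (mem_A L).1 (hBE hbB)
  have hv0 : v ≠ 0 := by
    rintro rfl
    rw [t_zero] at hv
    rcases (L.ker a).1 hv with h | h
    exacts [ha.1 h, ha.2 h]
  have hw0 : w ≠ 0 := by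
    rintro rfl
    rw [t_zero] at hw
    rcases (L.ker b).1 hw with h | h
    exacts [hb.1 h, hb.2.1 h]
  have hvw : v ≠ w := by
    rintro rfl
    rcases L.lift_eq (hw.trans hv.symm) with h | h
    exacts [hb.2.2.1 h, hb.2.2.2 h]
  rintro d ⟨hdD, hdB⟩
  have hda : ∀ x, L.π d (t 3 v x) = t 3 v (L.π d x) := by
    intro x
    have h1 := mem_centralizer_iff.1 hdB a haB
    rw [← hv, ← Perm.mul_apply, ← Perm.mul_apply, ← map_mul, ← map_mul, h1]
  have hdb : ∀ x, L.π d (t 3 w x) = t 3 w (L.π d x) := by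
    intro x
    have h1 := mem_centralizer_iff.1 hdB b hbB
    rw [← hw, ← Perm.mul_apply, ← Perm.mul_apply, ← map_mul, ← map_mul, h1]
  have h4 : d ^ 4 ∈ fixInl L := by
    intro u
    rw [map_pow]
    exact pow_four_inl hv0 hw0 hvw hda hdb u
  -- `d` is a power of `d ^ 4`
  obtain ⟨m, hm⟩ := hD
  have hdn : d ^ (Nat.card D) = 1 := by
    have h5 : (⟨d, hdD⟩ : D) ^ (Nat.card D) = 1 := pow_card_eq_one'
    have h6 := congrArg Subtype.val h5
    rwa [SubmonoidClass.coe_pow] at h6
  have h5 : Nat.card D * Nat.card D = 4 * (m * m + m) + 1 := by rw [hm]; ring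
  have h6 : (d ^ 4) ^ (m * m + m) * d = 1 := by
    rw [← pow_mul, ← pow_succ, ← h5, pow_mul, hdn, one_pow]
  have h7 : d = ((d ^ 4) ^ (m * m + m))⁻¹ := (inv_eq_of_mul_eq_one_right h6).symm
  rw [h7]
  exact (fixInl L).inv_mem ((fixInl L).pow_mem h4 _)

end Label

section Gen

variable {α : Type*} [Fintype α] [DecidableEq α] {C : Type v} [Group C] (K : Cover α C)

/-- elements of `B ⊔ ⟨x⟩` when `x` centralises `B` -/
theorem mem_sup_zpowers {B : Subgroup C} {x : C} (hx : ∀ b ∈ B, b * x = x * b) {g : C} (hg : g ∈ B ⊔ zpowers x) :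
    ∃ b ∈ B, ∃ k : ℤ, g = b * x ^ k := by
  rw [Subgroup.sup_eq_closure] at hg
  have hc : ∀ b ∈ B, ∀ k : ℤ, b * x ^ k = x ^ k * b := fun b hb k =>
    ((show Commute b x from hx b hb).zpow_right k)
  refine Subgroup.closure_induction ?_ ?_ ?_ ?_ hg
  · rintro y (hy | hy)
    · exact ⟨y, hy, 0, by rw [zpow_zero, mul_one]⟩
    · obtain ⟨k, rfl⟩ := mem_zpowers_iff.1 hy
      exact ⟨1, B.one_mem, k, by rw [one_mul]⟩
  · exact ⟨1, B.one_mem, 0, by rw [zpow_zero, mul_one]⟩
  · rintro _ _ - - ⟨b, hb, k, rfl⟩ ⟨b', hb', k', rfl⟩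
    refine ⟨b * b', B.mul_mem hb hb', k + k', ?_⟩
    rw [zpow_add]
    calc b * x ^ k * (b' * x ^ k') = b * (x ^ k * b') * x ^ k' := by group
      _ = b * (b' * x ^ k) * x ^ k' := by rw [hc b' hb' k]
      _ = b * b' * (x ^ k * x ^ k') := by group
  · rintro _ - ⟨b, hb, k, rfl⟩
    refine ⟨b⁻¹, B.inv_mem hb, -k, ?_⟩
    rw [mul_inv_rev, zpow_neg]
    have h1 := hc b⁻¹ (B.inv_mem hb) (-k)
    rw [zpow_neg] at h1
    exact h1.symm

/-- The subgroup of order three centralising a maximal elementary abelian two-subgroup of the double cover of `A₁₁`. -/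
theorem exists_three [Finite C] (hα : Fintype.card α = 11) {B : Subgroup C} (hB : IsA K B) :
    ∃ x : C, x ^ 3 = 1 ∧ x ≠ 1 ∧ (K.π x).IsThreeCycle ∧ (∀ b ∈ B, (K.π b).Disjoint (K.π x)) ∧
      ∀ D : Subgroup C, B ≤ normalizer (D : Set C) → Odd (Nat.card D) → D ≤ zpowers x := by
  obtain ⟨x, hx3, hx1, hxc, hdis, hcent, -⟩ := hB.exists_x K hα
  refine ⟨x, hx3, hx1, hxc, hdis, ?_⟩
  intro D hBD hD
  obtain ⟨e, he⟩ := exists_label_A K (r := 3) le_rfl hα hB
  subst he
  have h1 := le_fixInl (K.congr e) hBD hD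
  intro d hd
  have h2 : d ∈ centralizer (SporRec.TwoAnEleven.A (K.congr e) : Set C) := by
    rw [mem_centralizer_iff]
    intro a ha
    refine (K.congr e).commute_of_disjoint ?_
    intro y
    obtain ⟨v, hv⟩ := (mem_A (K.congr e)).1 ha
    rcases y with y | y
    · right; exact h1 hd y
    · left; rw [hv, t_inr]
  rw [hcent] at h2
  have hcomm : ∀ b ∈ SporRec.TwoAnEleven.A (K.congr e), b * x = x * b := fun b hb => K.commute_of_disjoint (hdis b hb)
  obtain ⟨b, hb, k, hk⟩ := mem_sup_zpowers hcomm h2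
  have hb1 : b = 1 := by
    obtain ⟨m, hm⟩ := hD
    have hdn : d ^ (Nat.card D) = 1 := by
      have h5 : (⟨d, hd⟩ : D) ^ (Nat.card D) = 1 := pow_card_eq_one'
      have h6 := congrArg Subtype.val h5
      rwa [SubmonoidClass.coe_pow] at h6
    have h3 : d ^ (Nat.card D * 3) = 1 := by rw [pow_mul, hdn, one_pow]
    have hcb : Commute b (x ^ k) := (show Commute b x from hcomm b hb).zpow_right k
    rw [hk, hcb.mul_pow] at h3
    have h4 : (x ^ k) ^ (Nat.card D * 3) = 1 := by
      rw [mul_comm, pow_mul, ← zpow_natCast (x ^ k) 3, ← zpow_mul, mul_comm, zpow_mul, zpow_natCast, hx3, one_zpow,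
        one_pow]
    rw [h4, mul_one] at h3
    have h5 : b * b = 1 := mul_self_of_mem_A _ hb
    have h6 : Nat.card D * 3 = 2 * (3 * m + 1) + 1 := by rw [hm]; ring
    rw [h6, pow_succ, pow_mul, pow_two, h5, one_pow, one_mul] at h3
    exact h3
  rw [hk, hb1, one_mul]
  exact zpow_mem (mem_zpowers x) k

include K in
/-- A nontrivial normal subgroup of the double cover of `A₁₁` has even order. -/
theorem eq_bot_of_normal [Finite C] (hα : Fintype.card α = 11) {N : Subgroup C} (hN : N.Normal)
    (hodd : Odd (Nat.card N)) : N = ⊥ := by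
  rw [eq_bot_iff]
  intro n hn
  rw [Subgroup.mem_bot]
  have e₀ : α ≃ V ⊕ Fin 3 := Fintype.equivOfCardEq (by rw [hα, Fintype.card_sum, card_V, Fintype.card_fin])
  have h1 : K.π n = 1 := by
    ext p
    rw [Perm.one_apply]
    let e : α ≃ V ⊕ Fin 3 := e₀.trans (swap (e₀ p) (Sum.inl 0))
    have hep : e p = Sum.inl 0 := swap_apply_left _ _
    have h2 := le_fixInl (K.congr e) (D := N) (by
      rw [Subgroup.normalizer_eq_top_iff.2 hN]; exact le_top) hodd hn 0
    have h3 : e (K.π n (e.symm (Sum.inl 0))) = Sum.inl 0 := h2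
    rw [← hep, e.symm_apply_apply] at h3
    exact e.injective h3
  exact eq_one_of_map_pow K hodd hn (k := 0) (by rw [h1, one_pow])

/-- The complement of the support of a noncentral element of `B` is the support of `x`. -/
theorem apply_ne_iff (hα : Fintype.card α = 11) {b x : C} (hb : b * b = 1) (hb1 : b ≠ 1) (hbz : b ≠ K.z)
    (hx : (K.π x).IsThreeCycle) (hd : (K.π b).Disjoint (K.π x)) (p : α) : K.π x p ≠ p ↔ K.π b p = p := by
  have h1 := card_support_of_involution K (by omega) hb hb1 hbz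
  have h2 : (K.π x).support.card = 3 := card_support_eq_three_iff.2 hx
  have h3 : Disjoint (K.π b).support (K.π x).support := Perm.disjoint_iff_disjoint_support.1 hd
  have h4 : (K.π b).support ∪ (K.π x).support = Finset.univ := by
    rw [← Finset.card_eq_iff_eq_univ, Finset.card_union_of_disjoint h3, h1, h2, hα]
  constructor
  · intro h
    exact (hd p).resolve_right h
  · intro h
    have h5 : p ∈ (K.π b).support ∪ (K.π x).support := by rw [h4]; exact Finset.mem_univ _
    rw [Finset.mem_union, Perm.mem_support, Perm.mem_support] at h5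
    exact h5.resolve_left (fun h6 => h6 h)

end Gen

end Cfsg.Agent.Intrinsic.NZElevenCover
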