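import Cfsg.Agent.Intrinsic.NZElevenCover

/-!
# The double cover of `A₁₁`: pairs of commuting involutions
-/

set_option autoImplicit false
set_option linter.unusedSectionVars false

namespace Cfsg.Agent.Intrinsic.NZElevenPair

open Subgroup Equiv Cfsg
open Cfsg.Agent.SporRec.TwoAn Cfsg.Agent.SporRec.TwoAnEleven
open Cfsg.Agent.NineCore.Proj Cfsg.Agent.NineCore.NoTarget
open Cfsg.Agent.NineCore.TwoNine (eq_one_of_map_pow sq_apply)
open Cfsg.Agent.Intrinsic.NZElevenCover

universe v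

section Perm

variable {α : Type*} [Fintype α] [DecidableEq α]

/-- A four-group acting semiregularly outside `F`. -/
structure FourOn (σ τ : Perm α) (F : Finset α) : Prop where
  hσ : ∀ x, σ (σ x) = x
  hτ : ∀ x, τ (τ x) = x
  hc : ∀ x, σ (τ x) = τ (σ x)
  s1 : ∀ x, σ x = x ↔ x ∈ F
  s2 : ∀ x, τ x = x ↔ x ∈ F
  s3 : ∀ x, σ (τ x) = x ↔ x ∈ F

/-- The orbit of `x`. -/
def orb (σ τ : Perm α) (x : α) : Finset α := {x, σ x, τ x, σ (τ x)}

theorem mem_orb {σ τ : Perm α} {x y : α} : y ∈ orb σ τ x ↔ y = x ∨ y = σ x ∨ y = τ x ∨ y = σ (τ x) := by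
  simp [orb]

theorem FourOn.card_orb {σ τ : Perm α} {F : Finset α} (h : FourOn σ τ F) {x : α} (hx : x ∉ F) :
    (orb σ τ x).card = 4 := by
  have a1 : x ≠ σ x := fun e => hx ((h.s1 x).1 e.symm)
  have a2 : x ≠ τ x := fun e => hx ((h.s2 x).1 e.symm)
  have a3 : x ≠ σ (τ x) := fun e => hx ((h.s3 x).1 e.symm)
  have a4 : σ x ≠ τ x := fun e => hx ((h.s3 x).1 (by rw [← e, h.hσ]))
  have a5 : σ x ≠ σ (τ x) := fun e => a2 (σ.injective e)
  have a6 : τ x ≠ σ (τ x) := fun e => a1 (τ.injective (by rw [← h.hc]; exact e))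
  rw [orb, Finset.card_insert_of_notMem, Finset.card_insert_of_notMem, Finset.card_pair a6]
  · simp [a4, a5]
  · simp [a1, a2, a3]

theorem FourOn.orb_σ {σ τ : Perm α} {F : Finset α} (h : FourOn σ τ F) {x w : α} (hw : w ∈ orb σ τ x) :
    σ w ∈ orb σ τ x := by
  rw [mem_orb] at hw ⊢
  rcases hw with e | e | e | e
  · right; left; rw [e]
  · left; rw [e, h.hσ]
  · right; right; right; rw [e]
  · right; right; left; rw [e, h.hσ]

theorem FourOn.orb_τ {σ τ : Perm α} {F : Finset α} (h : FourOn σ τ F) {x w : α} (hw : w ∈ orb σ τ x) :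
    τ w ∈ orb σ τ x := by
  rw [mem_orb] at hw ⊢
  rcases hw with e | e | e | e
  · right; right; left; rw [e]
  · right; right; right; rw [e, h.hc]
  · left; rw [e, h.hτ]
  · right; left; rw [e, ← h.hc, h.hτ]

theorem FourOn.disjoint_orb {σ τ : Perm α} {F : Finset α} (h : FourOn σ τ F) {x y : α} (hy : y ∉ orb σ τ x) :
    Disjoint (orb σ τ x) (orb σ τ y) := by
  rw [Finset.disjoint_left]
  intro w hw hw'
  apply hy
  rw [mem_orb] at hw'
  rcases hw' with e' | e' | e' | e'
  · rwa [← e']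
  · have : y = σ w := by rw [e', h.hσ]
    rw [this]; exact h.orb_σ hw
  · have : y = τ w := by rw [e', h.hτ]
    rw [this]; exact h.orb_τ hw
  · have : y = τ (σ w) := by rw [e', h.hσ, h.hτ]
    rw [this]; exact h.orb_τ (h.orb_σ hw)

theorem FourOn.orb_subset {σ τ : Perm α} {F : Finset α} (h : FourOn σ τ F) {x : α} (hx : x ∉ F) :
    orb σ τ x ⊆ Fᶜ := by
  intro w hw
  rw [Finset.mem_compl]
  intro hwF
  have q1 : σ w = w := (h.s1 w).2 hwF
  have q2 : τ w = w := (h.s2 w).2 hwF
  rw [mem_orb] at hw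
  rcases hw with e | e | e | e
  · exact hx (e ▸ hwF)
  · apply hx
    have : x = w := by rw [← q1, e, h.hσ]
    rw [this]; exact hwF
  · apply hx
    have : x = w := by rw [← q2, e, h.hτ]
    rw [this]; exact hwF
  · apply hx
    have : x = w := by rw [← q2, ← q1, e, h.hσ, h.hτ]
    rw [this]; exact hwF

/-- the identity or `σ` -/
def pw (σ : Perm α) (c : ZMod 2) (x : α) : α := if c = 0 then x else σ x

theorem pw_zero (σ : Perm α) (x : α) : pw σ 0 x = x := if_pos rfl

theorem pw_one (σ : Perm α) (x : α) : pw σ 1 x = σ x := if_neg (by decide)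

theorem pw_add {σ : Perm α} (hσ : ∀ x, σ (σ x) = x) (c : ZMod 2) (x : α) : pw σ (1 + c) x = σ (pw σ c x) := by
  rcases zmod2 c with rfl | rfl
  · rw [add_zero, pw_one, pw_zero]
  · rw [show (1 + 1 : ZMod 2) = 0 from by decide, pw_zero, pw_one, hσ]

theorem pw_comm {σ τ : Perm α} (hc : ∀ x, σ (τ x) = τ (σ x)) (c : ZMod 2) (x : α) :
    pw σ c (τ x) = τ (pw σ c x) := by
  rcases zmod2 c with rfl | rfl
  · rw [pw_zero, pw_zero]
  · rw [pw_one, pw_one, hc]

/-- Labelling the points by a semiregular four-group. -/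
theorem FourOn.exists_label {σ τ : Perm α} {F : Finset α} (h : FourOn σ τ F) (hα : Fintype.card α = 11)
    (hF : F.card = 3) : ∃ (e : α ≃ V ⊕ Fin 3) (v w : V), e.permCongr σ = t 3 v ∧ e.permCongr τ = t 3 w := by
  have hFc : Fᶜ.card = 8 := by rw [Finset.card_compl, hα, hF]
  obtain ⟨p, hp⟩ := Finset.card_pos.1 (show 0 < Fᶜ.card by rw [hFc]; norm_num)
  have hpF : p ∉ F := Finset.mem_compl.1 hp
  obtain ⟨q, hq⟩ : ∃ q, q ∈ Fᶜ \ orb σ τ p := by
    rw [← Finset.Nonempty, ← Finset.card_pos, Finset.card_sdiff_of_subset (h.orb_subset hpF), hFc, h.card_orb hpF]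
    norm_num
  rw [Finset.mem_sdiff, Finset.mem_compl] at hq
  obtain ⟨hqF, hqp⟩ := hq
  have hunion : orb σ τ p ∪ orb σ τ q = Fᶜ := by
    apply Finset.eq_of_subset_of_card_le
    · exact Finset.union_subset (h.orb_subset hpF) (h.orb_subset hqF)
    · rw [Finset.card_union_of_disjoint (h.disjoint_orb hqp), h.card_orb hpF, h.card_orb hqF, hFc]
  obtain ⟨e3⟩ : Nonempty (Fin 3 ≃ {x // x ∈ F}) := ⟨(Fintype.equivFinOfCardEq (by rw [Fintype.card_coe, hF])).symm⟩
  let base : ZMod 2 → α := fun c => if c = 0 then p else q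
  let g : V → α := fun v => pw σ (v 0) (pw τ (v 1) (base (v 2)))
  have hgσ : ∀ v : V, g (Pi.single 0 1 + v) = σ (g v) := by
    intro v
    have h0 : (Pi.single 0 1 + v : V) 0 = 1 + v 0 := by simp
    have h1 : (Pi.single 0 1 + v : V) 1 = v 1 := by simp
    have h2 : (Pi.single 0 1 + v : V) 2 = v 2 := by simp
    simp only [g, h0, h1, h2]
    exact pw_add h.hσ _ _
  have hgτ : ∀ v : V, g (Pi.single 1 1 + v) = τ (g v) := by
    intro v
    have h0 : (Pi.single 1 1 + v : V) 0 = v 0 := by simp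
    have h1 : (Pi.single 1 1 + v : V) 1 = 1 + v 1 := by simp
    have h2 : (Pi.single 1 1 + v : V) 2 = v 2 := by simp
    simp only [g, h0, h1, h2]
    rw [pw_add h.hτ]
    exact pw_comm h.hc _ _
  let ψ : V ⊕ Fin 3 → α := Sum.elim g (fun i => (e3 i).1)
  have hsurj : Function.Surjective ψ := by
    intro x
    by_cases hx : x ∈ F
    · exact ⟨Sum.inr (e3.symm ⟨x, hx⟩), by simp [ψ]⟩
    · have hx2 : x ∈ orb σ τ p ∪ orb σ τ q := by rw [hunion]; exact Finset.mem_compl.2 hx
      have hb : ∀ c : ZMod 2, ∀ y ∈ orb σ τ (base c), ∃ v, g v = y := by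
        intro c y hy
        obtain ⟨v, hv⟩ : ∃ v : V, g v = base c := by
          refine ⟨Pi.single 2 c, ?_⟩
          have h0 : (Pi.single 2 c : V) 0 = 0 := by simp
          have h1 : (Pi.single 2 c : V) 1 = 0 := by simp
          have h2 : (Pi.single 2 c : V) 2 = c := by simp
          simp only [g, h0, h1, h2, pw_zero]
        rw [mem_orb] at hy
        rcases hy with e | e | e | e
        · exact ⟨v, by rw [hv, e]⟩
        · exact ⟨_, by rw [hgσ, hv, e]⟩
        · exact ⟨_, by rw [hgτ, hv, e]⟩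
        · exact ⟨_, by rw [hgσ, hgτ, hv, e]⟩
      rw [Finset.mem_union] at hx2
      rcases hx2 with hx2 | hx2
      · obtain ⟨v, hv⟩ := hb 0 x (by simpa [base] using hx2)
        exact ⟨Sum.inl v, hv⟩
      · obtain ⟨v, hv⟩ := hb 1 x (by simpa [base] using hx2)
        exact ⟨Sum.inl v, hv⟩
  have hbij : Function.Bijective ψ := by
    rw [Fintype.bijective_iff_surjective_and_card]
    refine ⟨hsurj, ?_⟩
    rw [Fintype.card_sum, card_V, Fintype.card_fin, hα]
  let e : α ≃ V ⊕ Fin 3 := (Equiv.ofBijective ψ hbij).symm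
  refine ⟨e, Pi.single 0 1, Pi.single 1 1, ?_, ?_⟩
  · ext x : 1
    rw [Equiv.permCongr_apply, ← Equiv.eq_symm_apply]
    show σ (ψ x) = ψ (t 3 _ x)
    rcases x with w | i
    · rw [t_inl]
      exact (hgσ w).symm
    · rw [t_inr]
      exact (h.s1 _).2 (e3 i).2
  · ext x : 1
    rw [Equiv.permCongr_apply, ← Equiv.eq_symm_apply]
    show τ (ψ x) = ψ (t 3 _ x)
    rcases x with w | i
    · rw [t_inl]
      exact (hgτ w).symm
    · rw [t_inr]
      exact (h.s2 _).2 (e3 i).2

/-- Two intersecting but distinct three-cycles coming from commuting involutions of type `2⁴` on eleven points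
cannot lie in a group of odd order. -/
theorem false_of_cycles {a b c₁ c₂ : Perm α} (hb : ∀ x, b (b x) = x)
    (hab : ∀ x, a (b x) = b (a x)) (ha3 : a.supportᶜ.card = 3) (hb3 : b.supportᶜ.card = 3)
    (hne : a.support ≠ b.support) (hc₁ : ∀ x, c₁ (c₁ (c₁ x)) = x) (h₁ : ∀ x, c₁ x ≠ x ↔ a x = x)
    (h₂ : ∀ x, c₂ x ≠ x ↔ b x = x) {D : Subgroup (Perm α)} (hD : Odd (Nat.card D)) (hc₁D : c₁ ∈ D) (hc₂D : c₂ ∈ D) :
    False := by
  have memA : ∀ x, x ∈ a.supportᶜ ↔ a x = x := fun x => by rw [Finset.mem_compl, Perm.notMem_support]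
  have memB : ∀ x, x ∈ b.supportᶜ ↔ b x = x := fun x => by rw [Finset.mem_compl, Perm.notMem_support]
  -- `b` acts on the fixed points of `a`
  have hbA : ∀ x, a x = x → a (b x) = b x := fun x hx => by rw [hab, hx]
  obtain ⟨r, hra, hrb⟩ : ∃ r, a r = r ∧ b r = r := by
    obtain ⟨p, q, r, hpq, hpr, hqr, hA⟩ := Finset.card_eq_three.1 ha3
    have hmem : ∀ x, a x = x ↔ x = p ∨ x = q ∨ x = r := fun x => by rw [← memA, hA]; simp
    have hp := (hmem p).2 (Or.inl rfl)
    have hq := (hmem q).2 (Or.inr (Or.inl rfl))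
    have hr := (hmem r).2 (Or.inr (Or.inr rfl))
    rcases (hmem _).1 (hbA p hp) with e | e | e
    · exact ⟨p, hp, e⟩
    · -- `b` swaps `p` and `q`
      rcases (hmem _).1 (hbA r hr) with e' | e' | e'
      · exact absurd (b.injective (by rw [e', ← e, hb])) hqr.symm
      · exact absurd (b.injective (by rw [e', ← e])) hpr.symm
      · exact ⟨r, hr, e'⟩
    · rcases (hmem _).1 (hbA q hq) with e' | e' | e'
      · exact absurd (b.injective (by rw [e', ← e, hb])) hqr
      · exact ⟨q, hq, e'⟩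
      · exact absurd (b.injective (by rw [e', ← e])) hpq.symm
  -- the points moved by `c₁`
  have hc1A : ∀ x, a x = x → a (c₁ x) = c₁ x := by
    intro x hx
    rw [← h₁]
    intro h
    exact (h₁ x).2 hx (c₁.injective h)
  have hc2B : ∀ x, b x = x → b (c₂ x) = c₂ x := by
    intro x hx
    rw [← h₂]
    intro h
    exact (h₂ x).2 hx (c₂.injective h)
  obtain ⟨p, hp⟩ : ∃ p, p = c₁ r := ⟨_, rfl⟩
  obtain ⟨q, hq⟩ : ∃ q, q = c₁ p := ⟨_, rfl⟩
  have hpa : a p = p := hp ▸ hc1A r hra
  have hqa : a q = q := hq ▸ hc1A p hpa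
  have hqr : c₁ q = r := by rw [hq, hp, hc₁]
  have hpr : p ≠ r := by rw [hp]; exact (h₁ r).2 hra
  have hqp : q ≠ p := by rw [hq]; exact (h₁ p).2 hpa
  have hrq : r ≠ q := by
    intro h
    exact (h₁ q).2 hqa (by rw [hqr]; exact h)
  have hAeq : a.supportᶜ = {r, p, q} := by
    symm
    apply Finset.eq_of_subset_of_card_le
    · intro x hx
      simp only [Finset.mem_insert, Finset.mem_singleton] at hx
      rw [memA]
      rcases hx with rfl | rfl | rfl
      exacts [hra, hpa, hqa]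
    · rw [ha3, Finset.card_insert_of_notMem, Finset.card_pair hqp.symm]
      simp [hpr.symm, hrq]
  have hmem : ∀ x, a x = x → x = r ∨ x = p ∨ x = q := fun x hx => by
    have := (memA x).2 hx
    rw [hAeq] at this
    simpa using this
  -- `b` does not fix `p`
  have hnot : ¬ (b p = p ∧ b q = q) := by
    rintro ⟨h3, h4⟩
    apply hne
    have h5 : a.supportᶜ = b.supportᶜ := by
      apply Finset.eq_of_subset_of_card_le
      · intro x hx
        rw [memA] at hx
        rw [memB]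
        rcases hmem x hx with rfl | rfl | rfl
        exacts [hrb, h3, h4]
      · rw [ha3, hb3]
    exact compl_injective h5
  have hbp : b p = q := by
    rcases hmem _ (hbA p hpa) with e | e | e
    · exact absurd (b.injective (by rw [e, hrb])) hpr
    · exfalso
      apply hnot
      refine ⟨e, ?_⟩
      rcases hmem _ (hbA q hqa) with e' | e' | e'
      · exact absurd (b.injective (by rw [e', hrb])) hrq.symm
      · exact absurd (b.injective (by rw [e', e])) hqp
      · exact e'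
    · exact e
  have hbp' : b p ≠ p := by rw [hbp]; exact hqp
  have hbq' : b q ≠ q := by
    rw [← hbp, hb]
    exact hbp'.symm
  have hc2p : c₂ p = p := by
    by_contra h
    exact hbp' ((h₂ p).1 h)
  have hc2q : c₂ q = q := by
    by_contra h
    exact hbq' ((h₂ q).1 h)
  obtain ⟨s, hs⟩ : ∃ s, s = c₂ r := ⟨_, rfl⟩
  have hsr : s ≠ r := by rw [hs]; exact (h₂ r).2 hrb
  have hsb : b s = s := hs ▸ hc2B r hrb
  have hc1s : c₁ s = s := by
    by_contra h
    rcases hmem s ((h₁ s).1 h) with e | e | e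
    · exact hsr e
    · exact hbp' (e ▸ hsb)
    · exact hbq' (e ▸ hsb)
  have hps : p ≠ s := fun h => hbp' (h ▸ hsb)
  -- the word
  obtain ⟨w, hw⟩ : ∃ w, w = c₂ * c₁ * c₂⁻¹ * c₁ := ⟨_, rfl⟩
  have hwD : w ∈ D := by
    rw [hw]
    exact D.mul_mem (D.mul_mem (D.mul_mem hc₂D hc₁D) (D.inv_mem hc₂D)) hc₁D
  have i1 : c₂⁻¹ q = q := by rw [Perm.inv_eq_iff_eq]; exact hc2q.symm
  have i2 : c₂⁻¹ s = r := by rw [Perm.inv_eq_iff_eq]; exact hs
  have w1 : w p = s := by
    rw [hw, Perm.mul_apply, Perm.mul_apply, Perm.mul_apply, ← hq, i1, hqr, hs]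
  have w2 : w s = p := by
    rw [hw, Perm.mul_apply, Perm.mul_apply, Perm.mul_apply, hc1s, i2, ← hp, hc2p]
  have w3 : ∀ k, (w ^ (2 * k)) p = p := by
    intro k
    induction k with
    | zero => rfl
    | succ k ih =>
      rw [mul_add, pow_add, Perm.mul_apply, mul_one, pow_two, Perm.mul_apply, w1, w2, ih]
  obtain ⟨m, hm⟩ := hD
  have hwn : w ^ (Nat.card D) = 1 := by
    have h5 : (⟨w, hwD⟩ : D) ^ (Nat.card D) = 1 := pow_card_eq_one'
    have h6 := congrArg Subtype.val h5
    rwa [SubmonoidClass.coe_pow] at h6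
  have h7 : (w ^ (Nat.card D)) p = s := by
    rw [hm, add_comm, pow_add, Perm.mul_apply, w3, pow_one, w1]
  rw [hwn, Perm.one_apply] at h7
  exact hps h7

end Perm

section Cover

variable {α : Type*} [Fintype α] [DecidableEq α] {C : Type v} [Group C] (K : Cover α C)

/-- Two commuting involutions with the same moved points lie in an elementary abelian subgroup of order sixteen. -/
theorem exists_isA_of_pair (hα : Fintype.card α = 11) {a b : C} (ha : a * a = 1) (hb : b * b = 1)
    (hab : a * b = b * a) (ha1 : a ≠ 1) (haz : a ≠ K.z) (hab1 : a * b ≠ 1)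
    (habz : a * b ≠ K.z) (hs : (K.π a).support = (K.π b).support) : ∃ B, IsA K B ∧ a ∈ B ∧ b ∈ B := by
  have hlt : Fintype.card α < 16 := by omega
  have hab2 : a * b * (a * b) = 1 := by
    calc a * b * (a * b) = a * (b * a) * b := by group
      _ = a * a * (b * b) := by rw [← hab]; group
      _ = 1 := by rw [ha, hb, one_mul]
  have ca := card_support_of_involution K hlt ha ha1 haz
  have cab := card_support_of_involution K hlt hab2 hab1 habz
  have hsab : (K.π (a * b)).support = (K.π a).support := by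
    apply Finset.eq_of_subset_of_card_le
    · rw [map_mul]
      refine (Perm.support_mul_le _ _).trans ?_
      rw [← hs]
      exact (sup_idem _).le
    · rw [ca, cab]
  have h4 : FourOn (K.π a) (K.π b) (K.π a).supportᶜ := by
    refine ⟨sq_apply (by rw [← map_mul, ha, map_one]), sq_apply (by rw [← map_mul, hb, map_one]), ?_, ?_, ?_, ?_⟩
    · intro x
      rw [← Perm.mul_apply, ← Perm.mul_apply, ← map_mul, ← map_mul, hab]
    · intro x
      rw [Finset.mem_compl, Perm.notMem_support]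
    · intro x
      rw [hs, Finset.mem_compl, Perm.notMem_support]
    · intro x
      rw [← hsab, Finset.mem_compl, Perm.notMem_support, map_mul, Perm.mul_apply]
  obtain ⟨e, v, w, hv, hw⟩ := h4.exists_label hα (by rw [Finset.card_compl, ca, hα])
  refine ⟨SporRec.TwoAnEleven.A (K.congr e), ?_, ?_, ?_⟩
  · have h5 := isA_A (K.congr e)
    exact ⟨h5.1, h5.2, h5.3⟩
  · exact (mem_A (K.congr e)).2 ⟨v, hv⟩
  · exact (mem_A (K.congr e)).2 ⟨w, hw⟩

/-- Two commuting involutions with different moved points. -/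
theorem exists_config (hα : Fintype.card α = 11) : ∃ x y : C, x * x = 1 ∧ y * y = 1 ∧ x * y = y * x ∧ x ≠ 1 ∧
    x ≠ K.z ∧ y ≠ 1 ∧ y ≠ K.z ∧ x * y ≠ 1 ∧ x * y ≠ K.z ∧ (K.π x).support ≠ (K.π y).support := by
  let σ : Perm (Fin 11) := swap 0 1 * swap 2 3 * swap 4 5 * swap 6 7
  let τ : Perm (Fin 11) := swap 0 2 * swap 1 3 * swap 4 5 * swap 8 9
  obtain ⟨e⟩ : Nonempty (α ≃ Fin 11) := ⟨Fintype.equivFinOfCardEq hα⟩
  let L := K.congr e
  obtain ⟨x, hx⟩ := L.exists_lift (σ := σ) (by rw [Perm.mem_alternatingGroup]; decide)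
  obtain ⟨y, hy⟩ := L.exists_lift (σ := τ) (by rw [Perm.mem_alternatingGroup]; decide)
  have hσs : σ.support.card = 8 := by decide
  have hτs : τ.support.card = 8 := by decide
  have hστs : (σ * τ).support.card = 8 := by decide
  have hσ2 : σ * σ = 1 := by decide
  have hτ2 : τ * τ = 1 := by decide
  have hστ2 : σ * τ * (σ * τ) = 1 := by decide
  have hxx : x * x = 1 := L.sq_eq_one_iff.2 (by rw [hx]; exact ⟨hσ2, by rw [hσs]⟩)
  have hyy : y * y = 1 := L.sq_eq_one_iff.2 (by rw [hy]; exact ⟨hτ2, by rw [hτs]⟩)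
  have hxy : x * y * (x * y) = 1 := L.sq_eq_one_iff.2 (by rw [map_mul, hx, hy]; exact ⟨hστ2, by rw [hστs]⟩)
  have hcomm : x * y = y * x := by
    have h1 : (x * y)⁻¹ = x * y := inv_eq_of_mul_eq_one_left hxy
    rw [← h1, mul_inv_rev, inv_eq_of_mul_eq_one_left hxx, inv_eq_of_mul_eq_one_left hyy]
  have hone : ∀ g : C, (L.π g).support.card = 8 → g ≠ 1 ∧ g ≠ K.z := by
    intro g hg
    constructor
    · rintro rfl
      rw [map_one, Perm.support_one, Finset.card_empty] at hg
      omega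
    · rintro rfl
      have h1 : L.π K.z = 1 := L.π_z
      rw [h1, Perm.support_one, Finset.card_empty] at hg
      omega
  obtain ⟨a1, a2⟩ := hone x (by rw [hx, hσs])
  obtain ⟨a3, a4⟩ := hone y (by rw [hy, hτs])
  obtain ⟨a5, a6⟩ := hone (x * y) (by rw [map_mul, hx, hy, hστs])
  refine ⟨x, y, hxx, hyy, hcomm, a1, a2, a3, a4, a5, a6, ?_⟩
  intro h
  have h1 : e (K.π x (e.symm 8)) = 8 := by
    have h2 : L.π x 8 = 8 := by rw [hx]; decide
    exact h2
  have h2 : e (K.π y (e.symm 8)) = 9 := by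
    have h2 : L.π y 8 = 9 := by rw [hy]; decide
    exact h2
  have h3 : e.symm 8 ∉ (K.π x).support := by
    rw [Perm.notMem_support]
    apply e.injective
    rw [h1, e.apply_symm_apply]
  rw [h, Perm.notMem_support] at h3
  rw [h3, e.apply_symm_apply] at h2
  exact absurd h2 (by decide)

end Cover

end Cfsg.Agent.Intrinsic.NZElevenPair
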