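import Cfsg.Agent.SporRec.TwoAn
import Cfsg.Agent.StandardComponent.CoverExtra

/-!
# A normal subgroup `2.A_n` of a group, with the action on it

`QAct H n z`: the group `H` has a normal subgroup `L`, a double cover of the alternating group of degree `n` with central
involution `z`, and `φ : H →* Perm (Fin n)` is the action of `H` on `L` modulo `z`. (Exact, no cores. In use `H` is
`C_G(u)` modulo its odd core.)
-/

set_option autoImplicit false

namespace Cfsg.Agent.Intrinsic

open Equiv Cfsg.Agent.SporRec.TwoAn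

/-- A normal subgroup `L = 2.A_n` with central involution `z` and the action of the whole group on `L` modulo `z`. -/
structure QAct (H : Type*) [Group H] (n : ℕ) (z : H) where
  /-- the normal subgroup -/
  L : Subgroup H
  normal : L.Normal
  /-- the double cover -/
  cov : Cover (Fin n) L
  cov_z : (cov.z : H) = z
  /-- the action -/
  φ : H →* Perm (Fin n)
  φ_L : ∀ x : L, φ x = cov.π x
  φ_ker : ∀ h, φ h = 1 ↔ ∀ x ∈ L, h * x = x * h

namespace QAct

variable {H : Type*} [Group H] {n : ℕ} {z : H} (S : QAct H n z)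

include S

theorem z_mem : z ∈ S.L := by
  have h := S.cov.z.2
  rwa [S.cov_z] at h

theorem z_sq : z * z = 1 := by
  have := congrArg Subtype.val S.cov.z_mul_z
  rwa [← S.cov_z]

theorem z_ne : z ≠ 1 := fun h => S.cov.z_ne (Subtype.ext (S.cov_z.trans h))

theorem orderOf_z : orderOf z = 2 := orderOf_eq_prime (by rw [pow_two, S.z_sq]) S.z_ne

theorem L_comm {x : H} (hx : x ∈ S.L) : x * z = z * x := by
  have := congrArg Subtype.val (S.cov.z_comm ⟨x, hx⟩)
  rwa [← S.cov_z]

theorem φ_z : S.φ z = 1 := (S.φ_ker z).2 fun _ hx => (S.L_comm hx).symm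

theorem even_of_mem {x : H} (hx : x ∈ S.L) : S.φ x ∈ alternatingGroup (Fin n) := by
  have := S.φ_L ⟨x, hx⟩
  rw [this]
  exact S.cov.mem_alternating _

theorem lift {σ : Perm (Fin n)} (hσ : σ ∈ alternatingGroup (Fin n)) : ∃ x ∈ S.L, S.φ x = σ := by
  obtain ⟨x, hx⟩ := S.cov.exists_lift hσ
  exact ⟨x, x.2, (S.φ_L x).trans hx⟩

theorem eq_of_mem_of_φ {x : H} (hx : x ∈ S.L) (h : S.φ x = 1) : x = 1 ∨ x = z := by
  have h1 : S.cov.π ⟨x, hx⟩ = 1 := (S.φ_L ⟨x, hx⟩).symm.trans h
  rcases (S.cov.ker _).1 h1 with h2 | h2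
  · exact Or.inl (congrArg Subtype.val h2)
  · exact Or.inr ((congrArg Subtype.val h2).trans S.cov_z)

theorem conj_mem {x : H} (hx : x ∈ S.L) (h : H) : h * x * h⁻¹ ∈ S.L := S.normal.conj_mem x hx h

/-- The central involution of the component is central in the whole group. -/
theorem comm_z (hn : 4 ≤ n) (h : H) : h * z = z * h := by
  have h1 : h * z * h⁻¹ ∈ S.L := S.conj_mem S.z_mem h
  have h2 : (⟨h * z * h⁻¹, h1⟩ : S.L) ∈ Subgroup.center S.L := by
    rw [Subgroup.mem_center_iff]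
    rintro ⟨x, hx⟩
    apply Subtype.ext
    show x * (h * z * h⁻¹) = h * z * h⁻¹ * x
    have h3 := S.conj_mem hx h⁻¹
    rw [inv_inv] at h3
    have h4 := S.L_comm h3
    calc x * (h * z * h⁻¹) = h * (h⁻¹ * x * h * z) * h⁻¹ := by group
      _ = h * (z * (h⁻¹ * x * h)) * h⁻¹ := by rw [h4]
      _ = h * z * h⁻¹ * x := by group
  rcases (S.cov.mem_center_iff (by rwa [Fintype.card_fin])).1 h2 with h3 | h3
  · exfalso
    apply S.z_ne
    have h4 : h * z * h⁻¹ = 1 := congrArg Subtype.val h3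
    rw [mul_inv_eq_one, mul_eq_left] at h4
    exact h4
  · have h4 : h * z * h⁻¹ = z := (congrArg Subtype.val h3).trans S.cov_z
    rwa [mul_inv_eq_iff_eq_mul] at h4

/-- Elements inducing even permutations are products. -/
theorem exists_mul {y : H} (he : S.φ y ∈ alternatingGroup (Fin n)) :
    ∃ l ∈ S.L, ∃ k, S.φ k = 1 ∧ (∀ x ∈ S.L, k * x = x * k) ∧ y = l * k ∧ S.φ l = S.φ y := by
  obtain ⟨l, hl, hly⟩ := S.lift he
  have h1 : S.φ (l⁻¹ * y) = 1 := by rw [map_mul, map_inv, hly, inv_mul_cancel]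
  exact ⟨l, hl, l⁻¹ * y, h1, (S.φ_ker _).1 h1, by rw [mul_inv_cancel_left], hly⟩

omit S in
/-- If the 2-elements of the kernel are `1` and `z`: an involution inducing an even permutation lies in `L`. -/
theorem mem_L_of_even (S : QAct H n z) (hK : ∀ k, S.φ k = 1 → ∀ j : ℕ, k ^ 2 ^ j = 1 → k = 1 ∨ k = z) {x : H}
    (hx2 : x * x = 1) (he : S.φ x ∈ alternatingGroup (Fin n)) : x ∈ S.L := by
  obtain ⟨l, hl, k, hφk, hk, hxlk, hφ⟩ := S.exists_mul he
  have h1 : l * l * (k * k) = 1 := by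
    rw [← hx2, hxlk]
    calc l * l * (k * k) = l * (l * k) * k := by group
      _ = l * (k * l) * k := by rw [hk l hl]
      _ = l * k * (l * k) := by group
  have h2 : S.φ (l * l) = 1 := by rw [map_mul, hφ, ← map_mul, hx2, map_one]
  have h4 : (l * l) * (l * l) = 1 := by
    rcases S.eq_of_mem_of_φ (S.L.mul_mem hl hl) h2 with h3 | h3
    · rw [h3, one_mul]
    · rw [h3, S.z_sq]
  have h5 : k * k = (l * l)⁻¹ := eq_inv_of_mul_eq_one_right h1
  have h6 : k ^ 2 ^ 2 = 1 := by
    have : k ^ 2 ^ 2 = (k * k) * (k * k) := by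
      rw [← pow_two, ← pow_two, ← pow_mul]; rfl
    rw [this, h5, ← mul_inv_rev, h4, inv_one]
  rw [hxlk]
  rcases hK k hφk 2 h6 with rfl | rfl
  · rwa [mul_one]
  · exact S.L.mul_mem hl S.z_mem

/-- `y` commutes with elements of odd order of the component whose image commutes with that of `y`. -/
theorem commute_of_odd {y t : H} (ht : t ∈ S.L) {m : ℕ} (hm : Odd m) (htm : t ^ m = 1)
    (hc : S.φ y * S.φ t = S.φ t * S.φ y) : y * t = t * y := by
  have h1 := S.conj_mem ht y
  have h2 : (⟨y * t * y⁻¹, h1⟩ : S.L) = ⟨t, ht⟩ := by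
    refine S.cov.odd_lift_unique hm ?_ ?_ ?_
    · apply Subtype.ext
      show (y * t * y⁻¹) ^ m = 1
      rw [conj_pow, htm, mul_one, mul_inv_cancel]
    · exact Subtype.ext htm
    · rw [← S.φ_L, ← S.φ_L]
      show S.φ (y * t * y⁻¹) = S.φ t
      rw [map_mul, map_mul, map_inv, hc, mul_inv_cancel_right]
  have h3 : y * t * y⁻¹ = t := congrArg Subtype.val h2
  rwa [mul_inv_eq_iff_eq_mul] at h3

/-- `y` of odd order commutes with the elements of the component whose image commutes with that of `y`. -/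
theorem commute_of_odd_order (hn : 4 ≤ n) {y l : H} (hl : l ∈ S.L) (ho : Odd (orderOf y))
    (hc : S.φ y * S.φ l = S.φ l * S.φ y) : y * l = l * y := by
  have hy := S.comm_z hn y
  have h1 := S.conj_mem hl y
  have h2 : S.cov.π ⟨y * l * y⁻¹, h1⟩ = S.cov.π ⟨l, hl⟩ := by
    rw [← S.φ_L, ← S.φ_L]
    show S.φ (y * l * y⁻¹) = S.φ l
    rw [map_mul, map_mul, map_inv, hc, mul_inv_cancel_right]
  rcases S.cov.lift_eq h2 with h3 | h3
  · have h4 : y * l * y⁻¹ = l := congrArg Subtype.val h3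
    rwa [mul_inv_eq_iff_eq_mul] at h4
  · exfalso
    have h4 : y * l * y⁻¹ = l * z := by
      have := congrArg Subtype.val h3
      rwa [MulMemClass.coe_mul, S.cov_z] at this
    have h5 : ∀ j : ℕ, y ^ j * l * (y ^ j)⁻¹ = l * z ^ j := by
      intro j
      induction j with
      | zero => simp
      | succ j ih =>
        rw [pow_succ', pow_succ]
        calc y * y ^ j * l * (y * y ^ j)⁻¹ = y * (y ^ j * l * (y ^ j)⁻¹) * y⁻¹ := by group
          _ = y * (l * z ^ j) * y⁻¹ := by rw [ih]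
          _ = y * l * y⁻¹ * (y * z ^ j * y⁻¹) := by group
          _ = l * z * z ^ j := by
            rw [h4]
            congr 1
            have h6 : Commute y (z ^ j) := (show Commute y z from hy).pow_right j
            rw [h6.eq, mul_inv_cancel_right]
          _ = l * (z ^ j * z) := by rw [mul_assoc, ← pow_succ', ← pow_succ]
    have h6 := h5 (orderOf y)
    rw [pow_orderOf_eq_one] at h6
    obtain ⟨r, hr⟩ := ho
    rw [hr, pow_succ, pow_mul, pow_two, S.z_sq, one_pow, one_mul, one_mul, inv_one, mul_one, left_eq_mul] at h6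
    exact S.z_ne h6

/-- a lift of odd order of a 3-cycle in the form `(a b)(b c)` -/
theorem exists_three {a b c : Fin n} (hab : a ≠ b) (hac : a ≠ c) (hbc : b ≠ c) :
    ∃ t ∈ S.L, t ^ 3 = 1 ∧ S.φ t = swap a b * swap b c := by
  have h1 : swap a b * swap b c ∈ alternatingGroup (Fin n) := Cover.swap_mul_swap_mem a b b c hab hbc
  have h2 : (swap a b * swap b c) ^ 3 = 1 := by
    have h3 := (Perm.isThreeCycle_swap_mul_swap_same hab.symm hbc hac).orderOf
    rw [← h3, ← swap_comm a b]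
    exact pow_orderOf_eq_one _
  obtain ⟨t, ht, ht3⟩ := S.cov.exists_odd_lift h1 (n := 3) (by decide) h2
  exact ⟨t, t.2, congrArg Subtype.val ht3, (S.φ_L t).trans ht⟩

/-- a lift of a double transposition commuting with everything which fixes its support -/
theorem exists_double {a b c d : Fin n} (hab : a ≠ b) (hac : a ≠ c) (had : a ≠ d) (hbc : b ≠ c) (hbd : b ≠ d)
    (hcd : c ≠ d) : ∃ D ∈ S.L, S.φ D = swap a b * swap c d ∧ D * D = z ∧
      ∀ y, S.φ y a = a → S.φ y b = b → S.φ y c = c → S.φ y d = d → y * D = D * y := by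
  obtain ⟨t, ht, ht3, htφ⟩ := S.exists_three hab hac hbc
  obtain ⟨u, hu, hu3, huφ⟩ := S.exists_three hbc hbd hcd
  have hD : S.φ (t * u) = swap a b * swap c d := by
    rw [map_mul, htφ, huφ, mul_assoc, ← mul_assoc (swap b c), swap_mul_self, one_mul]
  refine ⟨t * u, S.L.mul_mem ht hu, hD, ?_, ?_⟩
  · have h1 := S.cov.dbl a b c d hab hac had hbc hbd hcd ⟨t * u, S.L.mul_mem ht hu⟩ ((S.φ_L _).symm.trans hD)
    exact (congrArg Subtype.val h1).trans S.cov_z
  intro y ya yb yc yd
  have hsw : ∀ p q : Fin n, S.φ y p = p → S.φ y q = q → S.φ y * swap p q = swap p q * S.φ y := by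
    intro p q hp hq
    have h6 := Equiv.mul_swap_eq_swap_mul (S.φ y) p q
    rw [hp, hq] at h6
    exact h6
  have h1 : y * t = t * y := by
    refine S.commute_of_odd ht (m := 3) (by decide) ht3 ?_
    rw [htφ, ← mul_assoc, hsw a b ya yb, mul_assoc, hsw b c yb yc, mul_assoc]
  have h2 : y * u = u * y := by
    refine S.commute_of_odd hu (m := 3) (by decide) hu3 ?_
    rw [huφ, ← mul_assoc, hsw b c yb yc, mul_assoc, hsw c d yc yd, mul_assoc]
  rw [← mul_assoc, h1, mul_assoc, h2, mul_assoc]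

omit S in
/-- If some element induces an odd permutation, so does an involution. -/
theorem exists_odd_involution [Finite H] (S : QAct H n z) (hn : 6 ≤ n)
    (hK : ∀ k, S.φ k = 1 → ∀ j : ℕ, k ^ 2 ^ j = 1 → k = 1 ∨ k = z) {y : H}
    (ho : S.φ y ∉ alternatingGroup (Fin n)) : ∃ u, u * u = 1 ∧ S.φ u ∉ alternatingGroup (Fin n) := by
  have hne : ∀ i j : ℕ, (hi : i < n) → (hj : j < n) → i ≠ j → (⟨i, hi⟩ : Fin n) ≠ ⟨j, hj⟩ :=
    fun i j hi hj h h' => h (Fin.mk.inj_iff.1 h')
  have hsig : ∀ σ : Perm (Fin n), σ ∉ alternatingGroup (Fin n) ↔ Perm.sign σ = -1 := by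
    intro σ
    rw [Perm.mem_alternatingGroup]
    rcases Int.units_eq_one_or (Perm.sign σ) with h | h
    · rw [h]; decide
    · rw [h]; decide
  rw [hsig] at ho
  set a : Fin n := ⟨0, by omega⟩ with ha
  set b : Fin n := ⟨1, by omega⟩ with hb
  have hab : a ≠ b := hne _ _ _ _ (by decide)
  -- normalise the permutation to be a transposition
  have h1 : (S.φ y)⁻¹ * swap a b ∈ alternatingGroup (Fin n) := by
    rw [Perm.mem_alternatingGroup, map_mul, map_inv, ho, Perm.sign_swap hab]; decide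
  obtain ⟨l, hl, hlφ⟩ := S.lift h1
  have hyl : S.φ (y * l) = swap a b := by rw [map_mul, hlφ, mul_inv_cancel_left]
  -- take the 2-part
  obtain ⟨k, m, hm, hkm⟩ := Nat.exists_eq_two_pow_mul_odd (orderOf_pos (y * l)).ne'
  set w := (y * l) ^ m with hw
  have hwφ : S.φ w = swap a b := by
    obtain ⟨r, hr⟩ := hm
    rw [hw, map_pow, hyl, hr, pow_succ, pow_mul, pow_two, swap_mul_self, one_pow, one_mul]
  have hwk : w ^ 2 ^ k = 1 := by
    rw [hw, ← pow_mul, mul_comm, ← hkm, pow_orderOf_eq_one]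
  have hwwφ : S.φ (w * w) = 1 := by rw [map_mul, hwφ, swap_mul_self]
  have hww : w * w = 1 ∨ w * w = z := by
    refine hK (w * w) hwwφ k ?_
    rw [← pow_two, ← pow_mul, mul_comm, pow_mul, hwk, one_pow]
  rcases hww with hww | hww
  · exact ⟨w, hww, by rw [hsig, hwφ, Perm.sign_swap hab]⟩
  · obtain ⟨D, hD, hDφ, hDD, hDc⟩ := S.exists_double (a := ⟨2, by omega⟩) (b := ⟨3, by omega⟩)
      (c := ⟨4, by omega⟩) (d := ⟨5, by omega⟩) (hne _ _ _ _ (by decide)) (hne _ _ _ _ (by decide))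
      (hne _ _ _ _ (by decide)) (hne _ _ _ _ (by decide)) (hne _ _ _ _ (by decide)) (hne _ _ _ _ (by decide))
    have hfix : ∀ j : ℕ, (hj : j < n) → 2 ≤ j → S.φ w ⟨j, hj⟩ = ⟨j, hj⟩ := by
      intro j hj h2
      rw [hwφ]
      exact swap_apply_of_ne_of_ne (hne _ _ _ _ (by omega)) (hne _ _ _ _ (by omega))
    have hwD := hDc w (hfix _ _ (by norm_num)) (hfix _ _ (by norm_num)) (hfix _ _ (by norm_num))
      (hfix _ _ (by norm_num))
    refine ⟨w * D, ?_, ?_⟩
    · calc w * D * (w * D) = w * (D * w) * D := by group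
        _ = (w * w) * (D * D) := by rw [← hwD]; group
        _ = 1 := by rw [hww, hDD, S.z_sq]
    · rw [hsig, map_mul, hwφ, hDφ, map_mul, map_mul, Perm.sign_swap hab,
        Perm.sign_swap (hne _ _ _ _ (by decide)), Perm.sign_swap (hne _ _ _ _ (by decide))]
      decide

end QAct

end Cfsg.Agent.Intrinsic
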