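import Cfsg.Prelude.Def_CaseTheorems
import Cfsg.Agent.Lib.Cores
import Cfsg.Agent.Intrinsic.QAct
import Cfsg.Agent.Intrinsic.OddQuot
import Cfsg.Agent.StandardComponent.AltTransfer
import Cfsg.Agent.Classification.TransferSign

/-!
# World NZ, (5a.3): transfer

`G` simple, `C = C_G(z)`, `Q = C / O(C)` has the normal subgroup `2.A_n` (`S : QAct Q n z̄`), all conjugates of `z` in
`C` have image in it, and the 2-elements of the kernel of the action are `1` and `z̄`. Then `C` has odd index, all elements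
induce even permutations, `Q = S.L` and `G` has one class of involutions.
-/

set_option autoImplicit false

namespace Cfsg.Agent.Intrinsic.NZTransfer

open Equiv Cfsg.Agent.SporRec.TwoAn Cfsg Subgroup

variable {G : Type*} [Group G] {n : ℕ}

/-- the centralizer modulo its core -/
abbrev Cbar (z : G) : Type _ := ↥(centralizer ({z} : Set G)) ⧸ oddCore ↥(centralizer ({z} : Set G))

theorem mem_cent {x z : G} : x ∈ centralizer ({z} : Set G) ↔ x * z = z * x :=
  mem_centralizer_singleton_iff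

instance oddCore_normal (C : Type*) [Group C] : (oddCore C).Normal := Lib.Cores.pPrimeCore_normal 2

theorem odd_oddCore (C : Type*) [Group C] [Finite C] : Odd (Nat.card (oddCore C)) :=
  Nat.Coprime.odd_of_right (Lib.Cores.pPrimeCore_coprime 2)

/-- the image of an element commuting with `z` -/
def im {z : G} (x : G) (hx : x * z = z * x) : Cbar z := QuotientGroup.mk' _ ⟨x, mem_cent.2 hx⟩

/-- the image of `z` -/
def zb (z : G) : Cbar z := im z rfl

theorem im_mul {z x y : G} (hx : x * z = z * x) (hy : y * z = z * y) (hxy : x * y * z = z * (x * y)) :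
    im (x * y) hxy = im x hx * im y hy := rfl

theorem im_inj_of_sq [Finite G] {z x : G} (hx : x * z = z * x) (hxx : x * x = 1) (h : im x hx = 1) : x = 1 := by
  have h1 : (⟨x, mem_cent.2 hx⟩ : ↥(centralizer ({z} : Set G))) ^ 2 ^ 1 = 1 := by
    rw [pow_one, pow_two]; exact Subtype.ext hxx
  exact congrArg Subtype.val (OddQuot.eq_one_of_mk_eq_one (odd_oddCore _) h1 h)

/-- An involution commuting with `z` whose image is `z̄` is `z`. -/
theorem eq_z_of_im [Finite G] {z x : G} (hzz : z * z = 1) (hx : x * z = z * x) (hxx : x * x = 1) (h : im x hx = zb z) :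
    x = z := by
  have h1 : x * z * (x * z) = 1 := by
    calc x * z * (x * z) = x * (z * x) * z := by group
      _ = x * x * (z * z) := by rw [← hx]; group
      _ = 1 := by rw [hxx, hzz, one_mul]
  have h2 : x * z * z = z * (x * z) := by rw [← mul_assoc, hx]
  have h3 : im (x * z) h2 = 1 := by
    rw [im_mul hx rfl, h]
    show zb z * zb z = 1
    show im z rfl * im z rfl = 1
    rw [← im_mul rfl rfl (by rw [mul_assoc])]
    have : im (z * z) (by rw [mul_assoc]) = im (1 : G) (by rw [one_mul, mul_one]) (z := z) := by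
      congr 1
    rw [this]
    rfl
  have h4 := im_inj_of_sq h2 h1 h3
  rw [mul_eq_one_iff_eq_inv] at h4
  rw [h4]
  exact inv_eq_of_mul_eq_one_left hzz

/-- hypothesis: the conjugates of `z` in `C_G(z)` have image in the component -/
def InL {z : G} (S : QAct (Cbar z) n (zb z)) : Prop :=
  ∀ g : G, (h : g * z * g⁻¹ * z = z * (g * z * g⁻¹)) → im (g * z * g⁻¹) h ∈ S.L

/-- hypothesis: the 2-elements of the kernel are `1` and `z̄` -/
def SmallK {z : G} (S : QAct (Cbar z) n (zb z)) : Prop :=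
  ∀ k, S.φ k = 1 → ∀ j : ℕ, k ^ 2 ^ j = 1 → k = 1 ∨ k = zb z

/-- hypothesis: the involutions of `C_G(z)` in the component are conjugate to `z` -/
def LIn {z : G} (S : QAct (Cbar z) n (zb z)) : Prop :=
  ∀ x : G, (h : x * z = z * x) → orderOf x = 2 → im x h ∈ S.L → ∃ g : G, g * z * g⁻¹ = x

theorem z_sq_of {z : G} [Finite G] (hz : orderOf z = 2) : z * z = 1 := by rw [← pow_two, ← hz, pow_orderOf_eq_one]

theorem odd_index [Finite G] {z : G} (hz : orderOf z = 2) (S : QAct (Cbar z) n (zb z)) (hL : InL S) :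
    Odd (centralizer ({z} : Set G)).index := by
  have : Fact (Nat.Prime 2) := ⟨Nat.prime_two⟩
  have hzz := z_sq_of hz
  set C := centralizer ({z} : Set G) with hC
  set mk : ↥C →* Cbar z := QuotientGroup.mk' _ with hmk
  let Λ : Subgroup C := S.L.comap mk
  let f : Λ →* S.L := (mk.comp Λ.subtype).codRestrict S.L (fun x => x.2)
  have hf : Function.Surjective f := by
    rintro ⟨q, hq⟩
    obtain ⟨y, rfl⟩ := QuotientGroup.mk'_surjective _ q
    exact ⟨⟨y, hq⟩, rfl⟩
  have hzC : z ∈ C := mem_cent.2 rfl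
  have hzΛ : (⟨z, hzC⟩ : C) ∈ Λ := S.z_mem
  let zΛ : Λ := ⟨⟨z, hzC⟩, hzΛ⟩
  have hzΛ2 : orderOf zΛ = 2 := by
    rw [← Subgroup.orderOf_coe, ← Subgroup.orderOf_coe]; exact hz
  have hzp : IsPGroup 2 (Subgroup.zpowers zΛ) := IsPGroup.of_card (n := 1) (by
    rw [Nat.card_zpowers, hzΛ2, pow_one])
  obtain ⟨P, hP⟩ := hzp.exists_le_sylow
  have hzP : zΛ ∈ P := hP (Subgroup.mem_zpowers _)
  have hPodd : Odd (P : Subgroup Λ).index := by
    rw [← Nat.not_even_iff_odd, even_iff_two_dvd]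
    exact P.not_dvd_index
  have hPfodd : Odd ((P : Subgroup Λ).map f).index := by
    have h1 := Subgroup.index_map_dvd (P : Subgroup Λ) hf
    exact Odd.of_dvd_nat hPodd h1
  refine StandardComponent.AltTransfer.odd_index_of_unique
    (P := ((P : Subgroup Λ).map Λ.subtype).map C.subtype) ((P.2.map _).map _) ?_ ?_
  · rintro _ ⟨x, -, rfl⟩
    exact x.2
  · intro g hg
    have hcomm : ∀ x ∈ P, ((x : C) : G) * (g * z * g⁻¹) = g * z * g⁻¹ * ((x : C) : G) := by
      intro x hx
      have h1 := mem_cent.1 (hg ((x : C) : G) ⟨(x : C), ⟨x, hx, rfl⟩, rfl⟩)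
      calc ((x : C) : G) * (g * z * g⁻¹) = g * (g⁻¹ * ((x : C) : G) * g * z) * g⁻¹ := by group
        _ = g * (z * (g⁻¹ * ((x : C) : G) * g)) * g⁻¹ := by rw [h1]
        _ = g * z * g⁻¹ * ((x : C) : G) := by group
    have hz1 : z * (g * z * g⁻¹) = g * z * g⁻¹ * z := hcomm _ hzP
    have hmem := hL g hz1.symm
    have hsq : g * z * g⁻¹ * (g * z * g⁻¹) = 1 := by
      rw [show g * z * g⁻¹ * (g * z * g⁻¹) = g * (z * z) * g⁻¹ by group, hzz, mul_one, mul_inv_cancel]
    have hsq' : im (g * z * g⁻¹) hz1.symm * im (g * z * g⁻¹) hz1.symm = 1 := by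
      rw [← im_mul _ _ (by rw [hsq, one_mul, mul_one])]
      have : im (z := z) (g * z * g⁻¹ * (g * z * g⁻¹)) (by rw [hsq, one_mul, mul_one]) =
          im (1 : G) (by rw [one_mul, mul_one]) := by congr 1
      rw [this]; rfl
    have hne1 : g * z * g⁻¹ ≠ 1 := by
      intro h
      rw [mul_inv_eq_one, mul_eq_left] at h
      rw [h, orderOf_one] at hz
      exact absurd hz (by decide)
    by_cases h1 : S.φ (im (g * z * g⁻¹) hz1.symm) = 1
    · rcases S.eq_of_mem_of_φ hmem h1 with h2 | h2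
      · exact absurd (im_inj_of_sq _ hsq h2) hne1
      · have h3 := eq_z_of_im hzz hz1.symm hsq h2
        rw [mem_cent]
        rwa [mul_inv_eq_iff_eq_mul] at h3
    · exfalso
      refine StandardComponent.CoverExtra.not_commute_sylow S.cov ((P : Subgroup Λ).map f) hPfodd (t := ⟨_, hmem⟩) ?_ ?_ ?_
      · rw [← map_mul]
        have : (⟨_, hmem⟩ * ⟨_, hmem⟩ : S.L) = 1 := Subtype.ext hsq'
        rw [this, map_one]
      · rw [← S.φ_L]; exact h1
      · rintro _ ⟨x, hx, rfl⟩
        apply Subtype.ext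
        show mk (x : C) * im (g * z * g⁻¹) hz1.symm = im (g * z * g⁻¹) hz1.symm * mk (x : C)
        show mk (x : C) * mk ⟨g * z * g⁻¹, _⟩ = mk ⟨g * z * g⁻¹, _⟩ * mk (x : C)
        rw [← map_mul, ← map_mul]
        congr 1
        exact Subtype.ext (hcomm x hx)

/-- A normal subgroup whose 2-elements are `1` and the central involution `z`, in a group without normal subgroups of
odd order, is contained in `{1, z}`. -/
theorem eq_one_or_of_mem {Q : Type*} [Group Q] [Finite Q] (hO : oddCore Q = ⊥) (K : Subgroup Q) (hN : K.Normal)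
    {z : Q} (hzz : z * z = 1) (hzc : ∀ k ∈ K, k * z = z * k)
    (hK : ∀ k ∈ K, ∀ j : ℕ, k ^ 2 ^ j = 1 → k = 1 ∨ k = z) : ∀ k ∈ K, k = 1 ∨ k = z := by
  have : Fact (Nat.Prime 2) := ⟨Nat.prime_two⟩
  obtain ⟨P⟩ := (inferInstance : Nonempty (Sylow 2 K))
  have hPz : ∀ x : P, x = 1 ∨ ((x : K) : Q) = z := by
    intro x
    obtain ⟨j, hj⟩ := P.2 x
    have h1 : ((x : K) : Q) ^ 2 ^ j = 1 := by
      have := congrArg (fun y : P => ((y : K) : Q)) hj
      simpa using this
    rcases hK _ (x : K).2 j h1 with h2 | h2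
    · exact Or.inl (Subtype.ext (Subtype.ext h2))
    · exact Or.inr h2
  have hcyc : IsCyclic P := by
    by_cases hx : ∃ x : P, x ≠ 1
    · obtain ⟨x, hx⟩ := hx
      refine ⟨x, fun y => ?_⟩
      rcases hPz y with hy | hy
      · exact ⟨0, by rw [hy]; simp⟩
      · have h2 := (hPz x).resolve_left hx
        have h3 : y = x := Subtype.ext (Subtype.ext (hy.trans h2.symm))
        exact ⟨1, by rw [h3]; simp⟩
    · push Not at hx
      exact ⟨1, fun y => ⟨0, by rw [hx y]; simp⟩⟩
  have hclosed := Classification.TransferSign.oddClosed_of_isCyclic P hcyc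
  let N : Subgroup Q :=
    { carrier := {x | x ∈ K ∧ Odd (orderOf x)}
      mul_mem' := by
        rintro a b ⟨ha, ha'⟩ ⟨hb, hb'⟩
        have h1 := hclosed ⟨a, ha⟩ ⟨b, hb⟩ (by rwa [Subgroup.orderOf_mk]) (by rwa [Subgroup.orderOf_mk])
        rw [MulMemClass.mk_mul_mk, Subgroup.orderOf_mk] at h1
        exact ⟨K.mul_mem ha hb, h1⟩
      one_mem' := ⟨K.one_mem, by rw [orderOf_one]; exact odd_one⟩
      inv_mem' := by
        rintro a ⟨ha, ha'⟩
        exact ⟨K.inv_mem ha, by rwa [orderOf_inv]⟩ }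
  have hNle : N ≤ oddCore Q := by
    refine Lib.Cores.le_pPrimeCore ?_ ?_
    · constructor
      rintro x ⟨hx, hx'⟩ y
      refine ⟨hN.conj_mem x hx y, ?_⟩
      have : orderOf (y * x * y⁻¹) = orderOf x := by
        have := orderOf_injective (MulAut.conj y).toMonoidHom (MulAut.conj y).injective x
        simpa using this
      rwa [this]
    · rw [Nat.coprime_two_right, ← Nat.not_even_iff_odd, even_iff_two_dvd]
      intro h2
      obtain ⟨x, hx⟩ := exists_prime_orderOf_dvd_card' 2 h2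
      have h3 : Odd (orderOf (x : Q)) := x.2.2
      rw [Subgroup.orderOf_coe, hx] at h3
      exact absurd h3 (by decide)
  have hN1 : ∀ x ∈ K, Odd (orderOf x) → x = 1 := by
    intro x hx hx'
    have h1 : x ∈ oddCore Q := hNle ⟨hx, hx'⟩
    rw [hO, Subgroup.mem_bot] at h1
    exact h1
  intro k hk
  obtain ⟨j, m, hm, hjm⟩ := Nat.exists_eq_two_pow_mul_odd (orderOf_pos k).ne'
  have hodd1 : ∀ x : Q, x ^ m = 1 → Odd (orderOf x) := fun x hx => Odd.of_dvd_nat hm (orderOf_dvd_of_pow_eq_one hx)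
  rcases hK (k ^ m) (K.pow_mem hk m) j (by rw [← pow_mul, mul_comm, ← hjm, pow_orderOf_eq_one]) with h1 | h1
  · exact Or.inl (hN1 k hk (hodd1 k h1))
  · right
    have hkz : Commute k z := hzc k hk
    have h3 : (k * z) ^ m = 1 := by
      obtain ⟨r, hr⟩ := hm
      rw [hkz.mul_pow, h1, ← pow_succ', hr, show 2 * r + 1 + 1 = 2 * (r + 1) by ring, pow_mul, pow_two, hzz,
        one_pow]
    have hzK : z ∈ K := by rw [← h1]; exact K.pow_mem hk m
    have h4 := hN1 _ (K.mul_mem hk hzK) (hodd1 _ h3)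
    rw [mul_eq_one_iff_eq_inv] at h4
    rw [h4]
    exact inv_eq_of_mul_eq_one_left hzz

/-- **Thompson transfer.** All elements of `C_G(z)` induce even permutations. -/
theorem φ_even [Finite G] [IsSimpleGroup G] (hn : 6 ≤ n) {z : G} (hz : orderOf z = 2) (S : QAct (Cbar z) n (zb z))
    (hL : InL S) (hK : SmallK S) (hI : LIn S) (hne : ∃ g : G, g * z * g⁻¹ ≠ z) (q : Cbar z) :
    S.φ q ∈ alternatingGroup (Fin n) := by
  by_contra ho
  obtain ⟨ub, hub, huo⟩ := S.exists_odd_involution hn hK ho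
  set C := centralizer ({z} : Set G) with hC
  set mk : ↥C →* Cbar z := QuotientGroup.mk' _ with hmk
  obtain ⟨⟨u, huC⟩, hu, huu⟩ := OddQuot.exists_inv_lift (odd_oddCore C) ub hub
  have huu' : u * u = 1 := congrArg Subtype.val huu
  have huz := mem_cent.1 huC
  let E : Subgroup C := (alternatingGroup (Fin n)).comap (S.φ.comp mk)
  have hE : ∀ c : C, c ∈ E ↔ Perm.sign (S.φ (mk c)) = 1 := fun c => Iff.rfl
  have hsu : Perm.sign (S.φ (mk ⟨u, huC⟩)) = -1 := by
    refine (Int.units_eq_one_or _).resolve_left ?_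
    rw [hu]
    exact huo
  have hE2 : E.index = 2 := by
    rw [Subgroup.index_eq_two_iff]
    refine ⟨⟨u, huC⟩, fun b => ?_⟩
    show Xor (b * ⟨u, huC⟩ ∈ E) (b ∈ E)
    rw [hE, hE, map_mul, map_mul, map_mul, hsu]
    rcases Int.units_eq_one_or (Perm.sign (S.φ (mk b))) with h | h
    · rw [h]; exact Or.inr ⟨rfl, by decide⟩
    · rw [h]; exact Or.inl ⟨by decide, by decide⟩
  have hidx : (E.map C.subtype).index = 2 * C.index := by
    rw [Subgroup.index_map_subtype, hE2]
  have hu1 : u ≠ 1 := by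
    rintro rfl
    have h1 : mk ⟨1, huC⟩ = 1 := map_one mk
    rw [h1, map_one, map_one] at hsu
    exact absurd hsu (by decide)
  have hu2 : orderOf u = 2 := orderOf_eq_prime (by rw [pow_two, huu']) hu1
  obtain ⟨f, hf⟩ := Classification.TransferSign.exists_hom_neg_one_of_index _ _ (odd_index hz S hL) hidx u hu2 (by
    intro g hg
    obtain ⟨x, hx, hxg⟩ := hg
    have hxg' : (x : G) = g * u * g⁻¹ := hxg
    have hgg : (x : G) * x = 1 := by
      rw [hxg', show g * u * g⁻¹ * (g * u * g⁻¹) = g * (u * u) * g⁻¹ by group, huu', mul_one, mul_inv_cancel]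
    have hx1 : (x : G) ≠ 1 := by
      intro h
      apply hu1
      rw [hxg', mul_inv_eq_one, mul_eq_left] at h
      exact h
    have hx2 : orderOf (x : G) = 2 := orderOf_eq_prime (by rw [pow_two, hgg]) hx1
    have hmkx : mk x * mk x = 1 := by
      rw [← map_mul]
      have : x * x = 1 := Subtype.ext hgg
      rw [this, map_one]
    have hxL : mk x ∈ S.L := S.mem_L_of_even hK hmkx hx
    obtain ⟨h, hh⟩ := hI x (mem_cent.1 x.2) hx2 hxL
    have e : (g⁻¹ * h) * z * (g⁻¹ * h)⁻¹ = u := by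
      rw [show (g⁻¹ * h) * z * (g⁻¹ * h)⁻¹ = g⁻¹ * (h * z * h⁻¹) * g by group, hh, hxg']; group
    have h5 := hL (g⁻¹ * h) (by rw [e]; exact huz)
    have h6 := S.even_of_mem h5
    apply huo
    rw [← hu]
    have : (⟨u, huC⟩ : C) = ⟨(g⁻¹ * h) * z * (g⁻¹ * h)⁻¹, by rw [e]; exact huC⟩ := Subtype.ext e.symm
    rw [this]
    exact h6)
  rcases (MonoidHom.normal_ker f).eq_bot_or_eq_top with hk | hk
  · obtain ⟨g, hg⟩ := hne
    apply hg
    have hinj := (MonoidHom.ker_eq_bot_iff f).1 hk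
    apply hinj
    rw [map_mul, map_mul, map_inv, mul_comm (f g), mul_inv_cancel_right]
  · have h1 : u ∈ f.ker := by rw [hk]; trivial
    rw [MonoidHom.mem_ker, hf] at h1
    exact absurd h1 (by decide)

/-- (5a.3) `C_G(z) / O(C_G(z))` is `2.A_n`. -/
theorem L_eq_top [Finite G] [IsSimpleGroup G] (hn : 6 ≤ n) {z : G} (hz : orderOf z = 2) (S : QAct (Cbar z) n (zb z))
    (hL : InL S) (hK : SmallK S) (hI : LIn S) (hne : ∃ g : G, g * z * g⁻¹ ≠ z) : S.L = ⊤ := by
  have hO : oddCore (Cbar z) = ⊥ := Lib.Cores.pPrimeCore_quotient_pPrimeCore 2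
  have hker := eq_one_or_of_mem hO S.φ.ker inferInstance S.z_sq (fun k _ => S.comm_z (by omega) k)
    (fun k hk j hj => hK k hk j hj)
  rw [eq_top_iff]
  intro q _
  obtain ⟨l, hl, k, hφk, -, rfl, -⟩ := S.exists_mul (φ_even hn hz S hL hK hI hne q)
  refine S.L.mul_mem hl ?_
  rcases hker k hφk with rfl | rfl
  · exact S.L.one_mem
  · exact S.z_mem

/-- (5a.3) `G` has one class of involutions. -/
theorem one_class [Finite G] [IsSimpleGroup G] (hn : 6 ≤ n) {z : G} (hz : orderOf z = 2)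
    (S : QAct (Cbar z) n (zb z)) (hL : InL S) (hK : SmallK S) (hI : LIn S) (hne : ∃ g : G, g * z * g⁻¹ ≠ z) (x : G)
    (hx : orderOf x = 2) : ∃ g : G, g * z * g⁻¹ = x := by
  have hxx : x * x = 1 := by rw [← pow_two, ← hx, pow_orderOf_eq_one]
  obtain ⟨h, -, hh⟩ := StandardComponent.AltTransfer.exists_conj_mem_of_odd (H := ⊤) le_top (odd_index hz S hL)
    (Subgroup.mem_top x) hxx
  have h1 := mem_cent.1 hh
  have h2 : orderOf (h⁻¹ * x * h) = 2 := by
    have := orderOf_injective (MulAut.conj h⁻¹).toMonoidHom (MulAut.conj h⁻¹).injective x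
    rw [← hx]
    simpa using this
  obtain ⟨g, hg⟩ := hI _ h1 h2 (by rw [L_eq_top hn hz S hL hK hI hne]; trivial)
  refine ⟨h * g, ?_⟩
  rw [show h * g * z * (h * g)⁻¹ = h * (g * z * g⁻¹) * h⁻¹ by group, hg]; group

end Cfsg.Agent.Intrinsic.NZTransfer
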