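import Cfsg.Agent.Intrinsic.NZCoreTh
import Cfsg.Agent.Intrinsic.NZTransfer
import Cfsg.Agent.Intrinsic.Bridge
import Cfsg.Agent.Intrinsic.Final
import Cfsg.Agent.NineCore.Base
import Cfsg.Agent.NineCore.Final

/-!
# S1738, the world W1 without pairs of type (0): the end

`G` is simple with one class of involutions and `C(z)/O(C(z)) ≅ 2.A_n`, `8 ≤ n ≤ 11`.  Then `n ∈ {8, 11}` and
`O(C(z)) = 1`.
-/

set_option autoImplicit false

namespace Cfsg.Agent.Intrinsic.NZEnd

open Subgroup Cfsg Equiv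
open Cfsg.Agent.SignalizersComponents
open Cfsg.Agent.SignalizersComponents.PLayerAut
open Cfsg.Agent.SignalizersComponents.IntrinsicBasic
open Cfsg.Agent.Intrinsic.Functor Cfsg.Agent.Intrinsic.Basic
open Cfsg.Agent.SporRec.TwoAn
open Cfsg.Agent.NineCore.Proj Cfsg.Agent.NineCore.NoTarget
open Cfsg.Agent.Intrinsic.NZTransfer

universe u

/-- Balance. -/
def BalStmt : Prop :=
  ∀ (G : Type u) [Group G] [Finite G] [IsSimpleGroup G] (X : Type u) [Group X] (n : ℕ) (K : Cover (Fin n) X),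
    (n = 8 ∨ n = 10 ∨ n = 11) → (∀ u : G, orderOf u = 2 → Nonempty (Quo K.z u)) →
    (∀ x y : G, orderOf x = 2 → orderOf y = 2 → ∃ g : G, g * x * g⁻¹ = y) → NZCoreTh.Bal G

/-- No strongly embedded subgroups. -/
def SEStmt : Prop :=
  ∀ (G : Type u) [Group G] [Finite G] [IsSimpleGroup G] (X : Type u) [Group X] (n : ℕ) (K : Cover (Fin n) X),
    (n = 8 ∨ n = 10 ∨ n = 11) → ∀ z : G, orderOf z = 2 → Nonempty (Quo K.z z) →
    (∀ x y : G, orderOf x = 2 → orderOf y = 2 → ∃ g : G, g * x * g⁻¹ = y) → ∀ H : Subgroup G, ¬ IsStronglyEmbedded H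

section

variable {G : Type u} [Group G] {n : ℕ} {z : G}

theorem quo_of_qact [Finite G] (S : QAct (Cbar z) n (zb z)) (hL : S.L = ⊤) : Nonempty (Quo S.cov.z z) := by
  have hmem : ∀ x : Cbar z, x ∈ S.L := fun x => by rw [hL]; exact mem_top x
  refine ⟨⟨(QuotientGroup.mk' _).codRestrict S.L (fun x => hmem _), ?_, ?_, ?_⟩⟩
  · rintro ⟨q, hq⟩
    obtain ⟨x, rfl⟩ := QuotientGroup.mk'_surjective _ q
    exact ⟨x, rfl⟩
  · have h1 : ((QuotientGroup.mk' (oddCore ↥(centralizer ({z} : Set G)))).codRestrict S.L (fun x => hmem _)).ker =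
        oddCore ↥(centralizer ({z} : Set G)) := by
      rw [MonoidHom.ker_codRestrict, QuotientGroup.ker_mk']
    rw [h1]
    exact odd_oddCore _
  · exact Subtype.ext S.cov_z.symm

/-- If the core is trivial then the centralizer is the cover. -/
theorem exists_cover [Finite G] {X : Type*} [Group X] (K : Cover (Fin n) X) (q : Quo K.z z) (h : th z = ⊥) :
    ∃ K' : Cover (Fin n) (centralizer ({z} : Set G)), K'.z = ⟨z, mem_self z⟩ := by
  have hinj : Function.Injective q.π := by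
    rw [← MonoidHom.ker_eq_bot_iff, eq_bot_iff]
    have h1 : q.π.ker ≤ oddCore (centralizer ({z} : Set G)) :=
      Lib.Cores.le_pPrimeCore inferInstance (by
        rw [Nat.coprime_two_right]; exact q.odd)
    intro x hx
    have h2 : (x : G) ∈ th z := ⟨x, h1 hx, rfl⟩
    rw [h, mem_bot] at h2
    rw [mem_bot]
    exact Subtype.ext h2
  have e : centralizer ({z} : Set G) ≃* X := MulEquiv.ofBijective q.π ⟨hinj, q.surj⟩
  refine ⟨K.map (MulEquiv.ofBijective q.π ⟨hinj, q.surj⟩).symm, ?_⟩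
  show (MulEquiv.ofBijective q.π ⟨hinj, q.surj⟩).symm K.z = _
  rw [MulEquiv.symm_apply_eq]
  exact q.map_z.symm

/-- The degree 10 does not occur. -/
theorem ne_ten {G : Type u} [Group G] [Finite G] {z : G} (hz : orderOf z = 2)
    (K : Cover (Fin 10) (centralizer ({z} : Set G))) (hK : K.z = ⟨z, mem_self z⟩) {g : G}
    (hg : g * z * g⁻¹ * z = z * (g * z * g⁻¹)) (hne : g * z * g⁻¹ ≠ z) : False := by
  obtain ⟨hz2, hz1⟩ := orderOf_two_iff.1 hz
  obtain ⟨π, hπ⟩ := NineCore.Base.isCover_of_cover (by norm_num) K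
  rw [hK] at hπ
  refine Cfsg.Agent.SporRec.TwoNine.Main.nine_ten (Or.inr rfl) hπ (u := g * z * g⁻¹) ?_ ?_ hne hg ⟨g, rfl⟩
  · calc g * z * g⁻¹ * (g * z * g⁻¹) = g * (z * z) * g⁻¹ := by group
      _ = 1 := by rw [hz2]; group
  · intro h
    apply hz1
    calc z = g⁻¹ * (g * z * g⁻¹) * g := by group
      _ = 1 := by rw [h]; group

/-- **The end.** -/
theorem core_eq_bot (ft : FTStatement.{u}) (hB : BalStmt.{u}) (hSE : SEStmt.{u}) {G : Type u} [Group G] [Finite G]
    [IsSimpleGroup G] {n : ℕ} (hn : 8 ≤ n) (hn' : n ≤ 11) {z : G} (hz : orderOf z = 2) (S : QAct (Cbar z) n (zb z))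
    (hL : S.L = ⊤) (hone : ∀ x : G, orderOf x = 2 → ∃ g : G, g * z * g⁻¹ = x) {g : G}
    (hg : g * z * g⁻¹ * z = z * (g * z * g⁻¹)) (hne : g * z * g⁻¹ ≠ z) : (n = 8 ∨ n = 11) ∧ th z = ⊥ := by
  obtain ⟨q⟩ := quo_of_qact S hL
  have hquo : ∀ u : G, orderOf u = 2 → Nonempty (Quo S.cov.z u) := by
    intro u hu
    obtain ⟨g, rfl⟩ := hone u hu
    exact ⟨q.conj g⟩
  have hconj : ∀ x y : G, orderOf x = 2 → orderOf y = 2 → ∃ g : G, g * x * g⁻¹ = y := by
    intro x y hx hy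
    obtain ⟨a, rfl⟩ := hone x hx
    obtain ⟨b, rfl⟩ := hone y hy
    exact ⟨b * a⁻¹, by group⟩
  by_cases h9 : n = 9
  · exfalso
    subst h9
    exact hne (((NineCore.Final.isolated_of_quo ft NineCore.Base.sfStatement NineCore.Base.baseNine S.cov hz q).2 g
      hg.symm))
  · have hn3 : n = 8 ∨ n = 10 ∨ n = 11 := by omega
    have FT : OddSol G := fun Y hY => ft Y hY
    have hgood : TypeFour.Good n := by
      rcases hn3 with rfl | rfl | rfl
      · exact TypeFour.good_eight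
      · exact TypeFour.good_ten
      · exact TypeFour.good_eleven
    have hR : ∃ σ τ : Perm (Fin n), TypeFour.R σ τ := by
      rcases hn3 with rfl | rfl | rfl
      · exact ⟨swap 0 1 * swap 2 3 * (swap 4 5 * swap 6 7), swap 0 3 * swap 1 2 * (swap 4 6 * swap 5 7),
          by decide +kernel⟩
      · exact ⟨swap 0 1 * swap 2 3 * (swap 4 5 * swap 6 7), swap 0 3 * swap 1 2 * (swap 4 6 * swap 5 7),
          by decide +kernel⟩
      · exact ⟨swap 0 1 * swap 2 3 * (swap 4 5 * swap 6 7), swap 0 3 * swap 1 2 * (swap 4 6 * swap 5 7),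
          by decide +kernel⟩
    have hth : th z = ⊥ := NZCoreTh.th_eq_bot S.cov (by omega) hgood.1 hR FT
      (hB G _ n S.cov hn3 hquo hconj) hquo hconj (hSE G _ n S.cov hn3 z hz ⟨q⟩ hconj) hz
    refine ⟨?_, hth⟩
    by_contra h10
    have h : n = 10 := by omega
    subst h
    obtain ⟨K', hK'⟩ := exists_cover S.cov q hth
    exact ne_ten hz K' hK' hg hne

theorem target (ft : FTStatement.{u}) (hB : BalStmt.{u}) (hSE : SEStmt.{u}) {G : Type u} [Group G] [Finite G]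
    [IsSimpleGroup G] {n : ℕ} (hn : 8 ≤ n) (hn' : n ≤ 11) {z : G} (hz : orderOf z = 2) (S : QAct (Cbar z) n (zb z))
    (hL : S.L = ⊤) (hone : ∀ x : G, orderOf x = 2 → ∃ g : G, g * z * g⁻¹ = x) {g : G}
    (hg : g * z * g⁻¹ * z = z * (g * z * g⁻¹)) (hne : g * z * g⁻¹ ≠ z) {L : Subgroup G}
    (hLC : L ≤ centralizer ({z} : Set G))
    (hSL : ∀ (a : G) (ha : a ∈ centralizer ({z} : Set G)), (QuotientGroup.mk ⟨a, ha⟩ : Cbar z) ∈ S.L →
        ∃ x ∈ L, x⁻¹ * a ∈ core (centralizer ({z} : Set G))) : Target n G z L := by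
  obtain ⟨h1, h2⟩ := core_eq_bot ft hB hSE hn hn' hz S hL hone hg hne
  have h3 : centralizer ({z} : Set G) = L := by
    apply le_antisymm _ hLC
    intro a ha
    obtain ⟨x, hx, hxa⟩ := hSL a ha (by rw [hL]; exact mem_top _)
    have h4 : core (centralizer ({z} : Set G)) = ⊥ := h2
    rw [h4, mem_bot, inv_mul_eq_one] at hxa
    rwa [← hxa]
  refine ⟨h1, inferInstance, h3, ?_, hone⟩
  have h4 : core (centralizer ({z} : Set G)) = ⊥ := h2
  rw [← h3, eq_bot_iff]
  intro x hx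
  have h5 : (x : G) ∈ core (centralizer ({z} : Set G)) := ⟨x, hx, rfl⟩
  rw [h4, mem_bot] at h5
  rw [mem_bot]
  exact Subtype.ext h5

end

end Cfsg.Agent.Intrinsic.NZEnd
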