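import Cfsg.Agent.Intrinsic.NZEnd
import Cfsg.Agent.Intrinsic.NZBal
import Cfsg.Agent.Intrinsic.NZBender
import Cfsg.Agent.Intrinsic.WOne.NZOne

/-!
# S1738, the world W1 without pairs of type (0): from the world to `C(z)/O(C(z)) = 2.A_n`
-/

set_option autoImplicit false

namespace Cfsg.Agent.Intrinsic.NZGlue

open Subgroup Cfsg Equiv
open Cfsg.Agent.SignalizersComponents
open Cfsg.Agent.SignalizersComponents.IntrinsicBasic
open Cfsg.Agent.Intrinsic.Basic
open Cfsg.Agent.SporRec.TwoAn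
open Cfsg.Agent.NineCore.NoTarget
open Cfsg.Agent.Intrinsic.NZTransfer Cfsg.Agent.Intrinsic.WOne

universe u

theorem balStmt (ft : FTStatement.{u}) : NZEnd.BalStmt.{u} := fun _ _ _ _ _ _ _ K hn hquo hconj =>
  NZBal.bal K hn ft NineCore.Base.sfStatement hquo hconj

theorem seStmt (hBen : BigBal.BenderSimple.{u}) : NZEnd.SEStmt.{u} := fun _ _ _ _ _ _ _ K hn _ hz ⟨q⟩ hconj =>
  NZBender.no_se hBen K hn hz q hconj

/-- (5a.2): the 2-elements of `C(u)` which fix `L u` are `1` and `u`. -/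
def EqFix : Prop :=
  ∀ (G : Type u) [Group G] [Finite G] [IsSimpleGroup G] (n : ℕ) (D : Set G) (L : G → Subgroup G),
    W1 n D L → NoZero D L → ∀ u ∈ D, ∀ (y : G) (k : ℕ), y ^ 2 ^ k = 1 → y * u = u * y → Fixes y (L u) →
      y = 1 ∨ y = u

section

variable {G : Type*} [Group G]

theorem mul_pow_mem {L : Subgroup G} {l o : G} (hl : l ∈ L) (ho : o ∈ normalizer (L : Set G)) (k : ℕ) :
    (l * o) ^ k * (o ^ k)⁻¹ ∈ L := by
  induction k with
  | zero => simp
  | succ k ih =>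
    have h1 : (l * o) ^ (k + 1) * (o ^ (k + 1))⁻¹ = l * (o * ((l * o) ^ k * (o ^ k)⁻¹) * o⁻¹) := by
      rw [pow_succ' (l * o), pow_succ' o]
      group
    rw [h1]
    exact L.mul_mem hl ((mem_normalizer_iff.1 ho _).1 ih)

/-- an involution of `L O`, where `O` has odd order and normalizes `L`, lies in `L` -/
theorem mem_of_mul {L : Subgroup G} {l x : G} (hl : l ∈ L) (hx : x * x = 1)
    (ho : l⁻¹ * x ∈ normalizer (L : Set G)) (hodd : Odd (orderOf (l⁻¹ * x))) : x ∈ L := by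
  have h1 := mul_pow_mem hl ho (orderOf (l⁻¹ * x))
  rw [pow_orderOf_eq_one, inv_one, mul_one, mul_inv_cancel_left] at h1
  obtain ⟨r, hr⟩ := hodd
  rwa [hr, pow_succ, pow_mul, pow_two, hx, one_pow, one_mul] at h1

end

theorem exists_qact {G : Type u} [Group G] [Finite G] {n : ℕ} {D : Set G} {L : G → Subgroup G} {u : G}
    (h : W1 n D L) (hz : NoZero D L) (hu : u ∈ D)
    (heq : ∀ (y : G) (k : ℕ), y ^ 2 ^ k = 1 → y * u = u * y → Fixes y (L u) → y = 1 ∨ y = u) :
    ∃ S : QAct (Cbar u) n (zb u), InL S ∧ SmallK S ∧ LIn S ∧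
      ∀ (a : G) (ha : a ∈ centralizer ({u} : Set G)), (QuotientGroup.mk ⟨a, ha⟩ : Cbar u) ∈ S.L →
        ∃ x ∈ L u, x⁻¹ * a ∈ core (centralizer ({u} : Set G)) := by
  obtain ⟨S, h1, h2⟩ := Bridge.exists_cent_act (h.pair hu) (by have := h.le; omega)
    (fun a ha => h.norm hu (mem_centralizer_singleton_iff.1 ha))
  refine ⟨S, ?_, ?_, ?_, fun a ha hx => (h1 a ha).1 hx⟩
  · intro g hg
    refine (h1 _ (mem_centralizer_singleton_iff.2 hg)).2 ⟨g * u * g⁻¹, h.mem_of_comm hz hu (h.conj hu g) hg, ?_⟩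
    rw [inv_mul_cancel]; exact one_mem _
  · intro k hk j hj
    obtain ⟨y, rfl⟩ := QuotientGroup.mk'_surjective _ k
    have h3 : y ^ 2 ^ j ∈ oddCore (centralizer ({u} : Set G)) := by
      rw [← map_pow] at hj
      exact (QuotientGroup.eq_one_iff _).1 hj
    obtain ⟨m, hm1, hm2⟩ := Lifting.exists_two_part (odd_oddCore _) h3
    have h4 : (QuotientGroup.mk' (oddCore ↥(centralizer ({u} : Set G)))) y = QuotientGroup.mk' _ (y ^ m) :=
      QuotientGroup.eq.2 hm2
    rw [h4] at hk ⊢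
    have h5 : Fixes ((y ^ m : centralizer ({u} : Set G)) : G) (L u) := (h2 _ (y ^ m).2).1 hk
    rcases heq _ j (by rw [← Subgroup.coe_pow, hm1]; rfl) (mem_centralizer_singleton_iff.1 (y ^ m).2) h5 with h6 | h6
    · left
      have h7 : y ^ m = 1 := Subtype.ext h6
      rw [h7, map_one]
    · right
      have h7 : y ^ m = ⟨u, mem_centralizer_singleton_iff.2 rfl⟩ := Subtype.ext h6
      rw [h7]; rfl
  · intro x hx hx2 hxL
    obtain ⟨l, hl, hlx⟩ := (h1 x (mem_centralizer_singleton_iff.2 hx)).1 hxL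
    have hxx : x * x = 1 := by rw [← pow_two, ← hx2, pow_orderOf_eq_one]
    have hx1 : x ≠ 1 := by rintro rfl; rw [orderOf_one] at hx2; omega
    have h3 : l⁻¹ * x ∈ normalizer (L u : Set G) := by
      apply h.norm hu
      have := (core_le _) hlx
      exact mem_centralizer_singleton_iff.1 this
    have h4 : Odd (orderOf (l⁻¹ * x)) :=
      Odd.of_dvd_nat (odd_card_core _) (Subgroup.orderOf_dvd_natCard _ hlx)
    have h5 : x ∈ L u := mem_of_mul hl hxx h3 h4
    exact h.one_class hu (h.inv_mem hu h5 hxx hx1)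

/-- **The world W1 without pairs of type (0)**, from (5a.2). -/
theorem nzStmt (hBen : BigBal.BenderSimple.{u}) (ft : FTStatement.{u}) (hEq : EqFix.{u}) : Final.NZStmt.{u} := by
  intro G _ _ _ n D L h hz u hu
  have hz' : NoZero D L := hz
  have hu2 : orderOf u = 2 := orderOf_eq_prime (by rw [pow_two]; exact h.sq hu) (h.ne_one hu)
  obtain ⟨S, h1, h2, h3, h4⟩ := exists_qact h hz' hu (hEq G n D L h hz' u hu)
  obtain ⟨w, hwL, hwD, hwu⟩ := h.four hu
  obtain ⟨g, rfl⟩ := h.one_class hu hwD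
  have hne : ∃ g : G, g * u * g⁻¹ ≠ u := ⟨g, hwu⟩
  have hn := h.le
  have hn' := h.le'
  exact NZEnd.target ft (balStmt ft) (seStmt hBen) hn hn' hu2 S
    (NZTransfer.L_eq_top (by omega) hu2 S h1 h2 h3 hne)
    (NZTransfer.one_class (by omega) hu2 S h1 h2 h3 hne) (h.comm hu hwL) hwu (h.pair hu).comp.le h4

end Cfsg.Agent.Intrinsic.NZGlue
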