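import Cfsg.Agent.SignalizersComponents.IntrinsicDiag

/-!
# Ambient-independent characterisation of 2-components

`TC X K` (`K` is a 2-component of the subgroup `X`) holds iff `K ≤ X`, `K` is subnormal in `X`,
`K` is generated by its 2-elements and `K / O(K)` is quasisimple.
-/

set_option autoImplicit false

namespace Cfsg.Agent.Intrinsic.Red

open Subgroup Cfsg Cfsg.Agent.SignalizersComponents Cfsg.Agent.SignalizersComponents.PLayerAut
open Cfsg.Agent.SignalizersComponents.IntrinsicBasic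
open Cfsg.Agent.Lib.PComponents (pElem)

variable {G : Type*} [Group G]

/-- `O^{p'}` commutes with injective homomorphisms. -/
theorem map_pElem {H : Type*} [Group H] {p : ℕ} (f : G →* H) (hf : Function.Injective f)
    (K : Subgroup G) : (pElem p K).map f = pElem p (K.map f) := by
  apply le_antisymm
  · rw [Subgroup.map_le_iff_le_comap]
    refine (Subgroup.closure_le _).mpr ?_
    rintro y ⟨hyY, n, hn⟩
    exact Lib.PComponents.mem_pElem (n := n) ⟨y, hyY, rfl⟩ (by rw [← map_pow, hn, map_one])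
  · refine (Subgroup.closure_le _).mpr ?_
    rintro _ ⟨⟨y, hy, rfl⟩, n, hn⟩
    refine ⟨y, Lib.PComponents.mem_pElem (n := n) hy (hf ?_), rfl⟩
    rw [map_pow, hn, map_one]

theorem pElem_map_le {H : Type*} [Group H] {p : ℕ} (f : G →* H) {K : Subgroup G}
    (hK : pElem p K = K) : pElem p (K.map f) = K.map f := by
  apply le_antisymm (Lib.PComponents.pElem_le _)
  conv_lhs => rw [← hK]
  rw [Subgroup.map_le_iff_le_comap]
  refine (Subgroup.closure_le _).mpr ?_
  rintro y ⟨hyY, n, hn⟩
  exact Lib.PComponents.mem_pElem (n := n) ⟨y, hyY, rfl⟩ (by rw [← map_pow, hn, map_one])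

theorem pElem_subgroupOf {p : ℕ} {X K : Subgroup G} (hKX : K ≤ X) :
    pElem p (K.subgroupOf X) = K.subgroupOf X ↔ pElem p K = K := by
  have h1 := map_pElem (p := p) X.subtype X.subtype_injective (K.subgroupOf X)
  rw [subgroupOf_map_subtype, inf_of_le_left hKX] at h1
  constructor
  · intro h
    rw [h, subgroupOf_map_subtype, inf_of_le_left hKX] at h1
    exact h1.symm
  · intro h
    rw [h] at h1
    apply Subgroup.map_injective X.subtype_injective
    rw [h1, subgroupOf_map_subtype, inf_of_le_left hKX]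

theorem isPComponent_iff [Finite G] {K : Subgroup G} :
    IsPComponent 2 K ↔ K.IsSubnormal ∧ pElem 2 K = K ∧ IsQuasisimple (↥K ⧸ oddCore ↥K) := by
  have hp2 : Fact (Nat.Prime 2) := ⟨Nat.prime_two⟩
  constructor
  · intro h
    exact ⟨h.1, Lib.PComponents.pElem_pcomp h, PCompQuot.quasisimple_quotient h⟩
  · rintro ⟨h1, h2, h3⟩
    obtain ⟨e, -⟩ := PCompQuot.exists_quotient_equiv 2 h1
    refine ⟨h1, ⟨h1.quotient, PCompQuot.quasisimple_congr e h3⟩, ?_⟩
    intro H hH hle hmap
    refine le_antisymm hle ?_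
    have h4 := Lib.PComponents.pElem_comap_le (p := 2) hH hmap
    rw [← h2]
    refine le_trans (Lib.PComponents.pElem_mono ?_) h4
    exact Subgroup.le_comap_map _ _

theorem tc_iff [Finite G] {X K : Subgroup G} :
    TC X K ↔ K ≤ X ∧ (K.subgroupOf X).IsSubnormal ∧ pElem 2 K = K ∧
      IsQuasisimple (↥K ⧸ oddCore ↥K) := by
  constructor
  · intro h
    obtain ⟨h1, h2, h3⟩ := isPComponent_iff.mp h.comp
    exact ⟨h.le, h1, (pElem_subgroupOf h.le).mp h2,
      PCompQuot.quasisimple_congr (IntrinsicDiag.quotSubgroupOf h.le) h3⟩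
  · rintro ⟨h0, h1, h2, h3⟩
    exact ⟨h0, isPComponent_iff.mpr ⟨h1, (pElem_subgroupOf h0).mpr h2,
      PCompQuot.quasisimple_congr (IntrinsicDiag.quotSubgroupOf h0).symm h3⟩⟩

/-- A 2-component of `X` contained in `Y ≤ X` is a 2-component of `Y`. -/
theorem tc_of_le [Finite G] {X Y K : Subgroup G} (h : TC X K) (hKY : K ≤ Y) (hYX : Y ≤ X) :
    TC Y K := by
  obtain ⟨h0, h1, h2, h3⟩ := tc_iff.mp h
  refine tc_iff.mpr ⟨hKY, ?_, h2, h3⟩
  have h4 : K.subgroupOf Y = (K.subgroupOf X).comap (Subgroup.inclusion hYX) := by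
    ext x; rfl
  rw [h4]
  exact h1.comap _

end Cfsg.Agent.Intrinsic.Red
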