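import Cfsg.Agent.Intrinsic.RedQuot
import Cfsg.Prelude.Def_Spor_Conway
import Cfsg.Prelude.Def_Spor_Ly

/-!
# S1738 : the induction frame and the final assembly
-/

set_option autoImplicit false

namespace Cfsg.Agent.Intrinsic.Red

open Subgroup Cfsg Cfsg.Agent.SignalizersComponents Cfsg.Agent.SignalizersComponents.PLayerAut
open Cfsg.Agent.SignalizersComponents.IntrinsicBasic
open Cfsg.Agent.Lib.PComponents (pElem)
open Cfsg.Agent.Intrinsic.Basic
open scoped commutatorElement

universe u

/-- The main theorem for simple groups (sections 3-5 of the blueprint). -/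
def SimpleCase : Prop :=
  ∀ (X : Type u) [Group X] [Finite X] [IsSimpleGroup X], PQS.{u} (Nat.card X) →
    ∀ n, 8 ≤ n → ∀ (z : X) (L : Subgroup X), IsPair n z L → Target n X z L

theorem isSimple_of_center_eq_bot {X : Type*} [Group X] (hq : IsQuasisimple X)
    (hc : center X = ⊥) : IsSimpleGroup X := by
  have h1 := hq.2
  have e : (X ⧸ center X) ≃* X :=
    (QuotientGroup.quotientMulEquivOfEq hc).trans QuotientGroup.quotientBot
  have : Nontrivial X := e.symm.toEquiv.nontrivial
  exact IsSimpleGroup.isSimpleGroup_of_surjective e.toMonoidHom e.surjective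

/-- The induction: the statement for all quasisimple groups follows from the simple case. -/
theorem pqs_all (h : SimpleCase.{u}) (N : ℕ) : PQS.{u} N := by
  induction N using Nat.strong_induction_on with
  | _ N ih =>
    intro X _ _ hcard hq hO n hn z L hp
    by_cases hz : z ∈ center X
    · exact Or.inl hz
    right
    have hP : PQS.{u} (Nat.card X) := ih _ hcard
    by_cases hc : center X = ⊥
    · have := isSimple_of_center_eq_bot hq hc
      exact h X hP n hn z L hp
    · exact (false_of_center hq hO hP hn hp hz hc).elim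

/-- A pair of `G` contained in the subgroup `F` is a pair of `F`. -/
theorem pair_restrict {G : Type*} [Group G] [Finite G] {n : ℕ} {z : G} {L : Subgroup G}
    (hp : IsPair n z L) (F : Subgroup G) (hLF : L ≤ F) :
    IsPair n (⟨z, hLF hp.mem⟩ : ↥F) (L.subgroupOf F) := by
  have hord : orderOf (⟨z, hLF hp.mem⟩ : ↥F) = 2 := by
    rw [← Subgroup.orderOf_coe]; exact hp.inv
  let e1 := (IntrinsicDiag.quotSubgroupOf hLF).symm
  refine ⟨hord, hp.mem, ?_, cover_congr e1 hp.cover⟩
  rw [Basic.isComp_iff]
  obtain ⟨-, h2, h3, h4⟩ := Basic.isComp_iff.mp hp.comp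
  refine ⟨?_, ?_, PCompQuot.quasisimple_congr e1 h3, (pElem_subgroupOf hLF).mpr h4⟩
  · intro x hx
    have h5 := mem_centralizer_singleton_iff.mp (hp.comp.le hx)
    exact mem_centralizer_singleton_iff.mpr (Subtype.ext h5)
  · let f : ↥(centralizer ({(⟨z, hLF hp.mem⟩ : ↥F)} : Set ↥F)) →*
        ↥(centralizer ({z} : Set G)) :=
      { toFun := fun x => ⟨x.1.1, mem_centralizer_singleton_iff.mpr
          (congrArg Subtype.val (mem_centralizer_singleton_iff.mp x.2))⟩
        map_one' := rfl
        map_mul' := fun _ _ => rfl }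
    have h5 : (L.subgroupOf F).subgroupOf (centralizer ({(⟨z, hLF hp.mem⟩ : ↥F)} : Set ↥F)) =
        (L.subgroupOf (centralizer ({z} : Set G))).comap f := by
      ext x; rfl
    rw [h5]
    exact h2.comap f

/-- An odd order subgroup of `F ⊴ G`, normal in `F`, is trivial if `O(G) = 1`. -/
theorem eq_bot_of_odd_normal {G : Type*} [Group G] [Finite G] (hO : oddCore G = ⊥)
    (F : Subgroup G) [hF : F.Normal] (N : Subgroup G) (hN : N ≤ F)
    (hn : ∀ x ∈ F, ∀ n ∈ N, x * n * x⁻¹ ∈ N) (hodd : Odd (Nat.card N)) : N = ⊥ := by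
  have h1 : (N.subgroupOf F).Normal := ⟨fun n hn' g => hn g g.2 n hn'⟩
  have h2 : N.IsSubnormal := Subgroup.IsSubnormal.step _ F hN hF.isSubnormal h1
  have h3 := CompBasic.subnormal_coprime_le_pPrimeCore (p := 2) h2 (Nat.coprime_two_right.mpr hodd)
  have h4 : N ≤ oddCore G := h3
  rw [hO] at h4
  exact le_bot_iff.mp h4

/-- Final assembly of S1738 from the simple case and the two recognition theorems. -/
theorem assemble (h : SimpleCase.{u})
    (hMcL : ∀ (X : Type u) [Group X] [Finite X] [IsSimpleGroup X] (z : X), orderOf z = 2 →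
      IsNonsplitDoubleCover ↥(centralizer ({z} : Set X)) ↥(alternatingGroup (Fin 8)) →
        Spor.IsoMcL X)
    (hLy : ∀ (X : Type u) [Group X] [Finite X] [IsSimpleGroup X] (z : X), orderOf z = 2 →
      IsNonsplitDoubleCover ↥(centralizer ({z} : Set X)) ↥(alternatingGroup (Fin 11)) →
        Spor.IsoLy X)
    {G : Type u} [Group G] [Finite G]
    (hO : Cfsg.oddCore G = ⊥) (hF : Cfsg.IsQuasisimple ↥(Cfsg.generalizedFittingSubgroup G))
    (t : G) (ht : orderOf t = 2)
    (K : Subgroup ↥(Subgroup.centralizer ({t} : Set G))) (hK : Cfsg.IsPComponent 2 K)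
    (htK : t ∈ K.map (Subgroup.centralizer ({t} : Set G)).subtype)
    (n : ℕ) (hn : 8 ≤ n)
    (hKA : Cfsg.IsNonsplitDoubleCover (↥K ⧸ Cfsg.oddCore ↥K) ↥(alternatingGroup (Fin n))) :
    Cfsg.IsNonsplitDoubleCover ↥(Cfsg.generalizedFittingSubgroup G) ↥(alternatingGroup (Fin n)) ∨
      (n = 8 ∧ Cfsg.Spor.IsoMcL ↥(Cfsg.generalizedFittingSubgroup G)) ∨
      (n = 11 ∧ Cfsg.Spor.IsoLy ↥(Cfsg.generalizedFittingSubgroup G)) := by
  set F := generalizedFittingSubgroup G with hFdef
  set L := K.map (centralizer ({t} : Set G)).subtype with hL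
  have hFn : F.Normal := by
    have h1 : (layer G).Normal := SignalizersComponents.LayerBasic.layer_normal G
    have h2 : (fittingSubgroup G).Normal := inferInstance
    rw [hFdef, generalizedFittingSubgroup]
    exact Subgroup.sup_normal _ _
  have hpair : IsPair n t L := by
    refine ⟨ht, htK, isComp_of_subtype hK, ?_⟩
    let e0 : ↥K ≃* ↥L := K.equivMapOfInjective _ (centralizer ({t} : Set G)).subtype_injective
    exact cover_congr (QuotientGroup.congr _ _ e0 (Lib.Cores.map_equiv_pPrimeCore e0 2)) hKA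
  have hLF : L ≤ F := by
    apply le_normal F hFn Cfsg.Agent.S1265.result _ (pair_pr hpair)
    exact fun N h1 h2 h3 => eq_bot_of_odd_normal hO F N h1 h2 h3
  have hOF : oddCore ↥F = ⊥ := by
    have h1 : (oddCore ↥F).map F.subtype = ⊥ := by
      apply eq_bot_of_odd_normal hO F _ (map_subtype_le _)
      · rintro x hx _ ⟨m, hm, rfl⟩
        exact ⟨⟨x, hx⟩ * m * ⟨x, hx⟩⁻¹, (Lib.Cores.pPrimeCore_normal 2).conj_mem m hm _, rfl⟩
      · exact odd_card_map _ (Nat.coprime_two_right.mp (Lib.Cores.pPrimeCore_coprime 2))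
    exact (Subgroup.map_eq_bot_iff_of_injective _ F.subtype_injective).mp h1
  have hp := pair_restrict hpair F hLF
  rcases pqs_all h (Nat.card ↥F + 1) ↥F (Nat.lt_succ_self _) hF hOF n hn _ _ hp with hc | hT
  · left
    have htop : L.subgroupOf F = ⊤ := by
      by_contra hne
      have hsub : (L.subgroupOf F).IsSubnormal := by
        have h2 := (Basic.isComp_iff.mp hp.comp).2.1
        have h3 : centralizer ({(⟨t, hLF hpair.mem⟩ : ↥F)} : Set ↥F) = ⊤ := by
          rw [eq_top_iff]
          intro x _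
          rw [mem_centralizer_singleton_iff]
          exact mem_center_iff.mp hc x
        exact Subgroup.IsSubnormal.trans hp.comp.le h2 (h3 ▸ Subgroup.IsSubnormal.top)
      obtain ⟨N, hNn, hLN, hNt⟩ := hsub.exists_normal_and_le_and_lt_top_of_ne hne
      have h4 := SignalizersComponents.QsBasic.normal_le_center_of_ne_top hF N hNt.ne
      have h5 := hp.comp.perfect
      have h6 : ⁅L.subgroupOf F, L.subgroupOf F⁆ = ⊥ := by
        rw [Subgroup.commutator_eq_bot_iff_le_centralizer]
        intro x hx
        rw [mem_centralizer_iff]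
        intro y _
        exact mem_center_iff.mp (h4 (hLN hx)) y
      exact hp.comp.ne_bot (h5 ▸ h6)
    let e : (↥(L.subgroupOf F) ⧸ oddCore ↥(L.subgroupOf F)) ≃* ↥F := by
      have hb : oddCore ↥(L.subgroupOf F) = ⊥ := by
        have h7 : (oddCore ↥(L.subgroupOf F)).map (L.subgroupOf F).subtype ≤ oddCore ↥F := by
          apply Lib.PComponents.map_pPrimeCore_le_of_isSubnormal
          rw [htop]; exact Subgroup.IsSubnormal.top
        rw [hOF, le_bot_iff] at h7
        exact (Subgroup.map_eq_bot_iff_of_injective _ (L.subgroupOf F).subtype_injective).mp h7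
      exact (QuotientGroup.quotientMulEquivOfEq hb).trans (QuotientGroup.quotientBot.trans
        ((MulEquiv.subgroupCongr htop).trans Subgroup.topEquiv))
    exact cover_congr e hp.cover
  · obtain ⟨hn', hs, hC, hb, -⟩ := hT
    have hcov : IsNonsplitDoubleCover
        ↥(centralizer ({(⟨t, hLF hpair.mem⟩ : ↥F)} : Set ↥F)) ↥(alternatingGroup (Fin n)) := by
      refine cover_congr ?_ hp.cover
      exact (QuotientGroup.quotientMulEquivOfEq hb).trans (QuotientGroup.quotientBot.trans
        (MulEquiv.subgroupCongr hC.symm))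
    right
    rcases hn' with rfl | rfl
    · left
      exact ⟨rfl, hMcL ↥F _ hp.inv hcov⟩
    · right
      exact ⟨rfl, hLy ↥F _ hp.inv hcov⟩

end Cfsg.Agent.Intrinsic.Red
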