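import Cfsg.Agent.Intrinsic.RedBasic
import Cfsg.Agent.SignalizersComponents.IntrinsicTools
import Cfsg.Agent.SignalizersComponents.IntrinsicLift
import Cfsg.Agent.SignalizersComponents.LBalanceCore
import Cfsg.Agent.S0215
import Cfsg.Agent.S1265

/-!
# S1738, section 1 : the intrinsic 2-component lies in `F*(G)`
-/

set_option autoImplicit false

namespace Cfsg.Agent.Intrinsic.Red

open Subgroup Cfsg Cfsg.Agent.SignalizersComponents Cfsg.Agent.SignalizersComponents.PLayerAut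
open Cfsg.Agent.SignalizersComponents.IntrinsicBasic
open Cfsg.Agent.Lib.PComponents (pElem)
open scoped commutatorElement

variable {G : Type*} [Group G]

/-- `L` is a 2-component of `C(z)`, `z ∈ L` an involution which generates the centre of `L/O(L)`. -/
structure Pr (z : G) (L : Subgroup G) : Prop where
  tc : TC (centralizer ({z} : Set G)) L
  mem : z ∈ L
  sq : z * z = 1
  ne : z ≠ 1
  ctr : ∀ j ∈ L, j ∈ cenMod (centralizer ({z} : Set G)) L →
    j ∈ relCore 2 (centralizer ({z} : Set G)) ∨ j * z ∈ relCore 2 (centralizer ({z} : Set G))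

theorem Pr.cj {z : G} {L : Subgroup G} (h : Pr z L) (g : G) :
    Pr (g * z * g⁻¹) (IntrinsicBasic.cj g L) := by
  refine ⟨?_, conj_mem_cj h.mem, ?_, ?_, ?_⟩
  · rw [← cj_centralizer]; exact h.tc.cj g
  · calc g * z * g⁻¹ * (g * z * g⁻¹) = g * (z * z) * g⁻¹ := by group
      _ = 1 := by rw [h.sq]; group
  · intro h1
    apply h.ne
    have : z = g⁻¹ * (g * z * g⁻¹) * g := by group
    rw [this, h1]; group
  · intro j hj hjc
    rw [← cj_centralizer, ← cj_cenMod g h.tc.le, mem_cj] at hjc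
    rw [mem_cj] at hj
    rcases h.ctr _ hj hjc with h1 | h1
    · left
      rw [← cj_centralizer, ← cj_relCore, mem_cj]
      exact h1
    · right
      rw [← cj_centralizer, ← cj_relCore, mem_cj]
      convert h1 using 1
      group

theorem Pr.comm {z : G} {L : Subgroup G} (h : Pr z L) {j : G} (hj : j ∈ L) : j * z = z * j := by
  have := h.tc.le hj
  rwa [mem_centralizer_singleton_iff] at this

theorem Pr.z_mem_cenMod {z : G} {L : Subgroup G} (h : Pr z L) :
    z ∈ cenMod (centralizer ({z} : Set G)) L := by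
  rw [mem_cenMod h.tc.le]
  refine ⟨mem_centralizer_singleton_iff.mpr rfl, fun k hk => ?_⟩
  have h1 : k⁻¹ * (z * k * z⁻¹) = 1 := by rw [← h.comm hk]; group
  rw [h1]
  exact one_mem _

theorem odd_of_dvd {a b : ℕ} (h : a ∣ b) (hb : Odd b) : Odd a := by
  obtain ⟨c, rfl⟩ := h
  exact (Nat.odd_mul.mp hb).1

theorem odd_card_of_le [Finite G] {A B : Subgroup G} (h : A ≤ B) (hB : Odd (Nat.card B)) :
    Odd (Nat.card A) := odd_of_dvd (Subgroup.card_dvd_of_le h) hB

theorem odd_card_map [Finite G] {H : Type*} [Group H] (f : G →* H) {A : Subgroup G}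
    (hA : Odd (Nat.card A)) : Odd (Nat.card (A.map f)) :=
  odd_of_dvd (Subgroup.card_map_dvd (H := A) f) hA

/-- Two commuting members `(z, L)`, `(z', L')` of a class of pairs, `L'` the conjugate of `L` under
an element of the normal subgroup `F`, each centralizing the other one: then `L ≤ F`. -/
theorem le_of_commuting [Finite G] (F : Subgroup G) (hFn : F.Normal) {z : G} {L : Subgroup G}
    (hL : Pr z L) {f : G} (hf : f ∈ F) (hcomm : Commute z (f * z * f⁻¹)) (hne : f * z * f⁻¹ ≠ z)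
    (h1 : f * z * f⁻¹ ∈ cenMod (centralizer ({z} : Set G)) L)
    (h2 : z ∈ cenMod (centralizer ({f * z * f⁻¹} : Set G)) (cj f L)) : L ≤ F := by
  have hp2 : Fact (Nat.Prime 2) := ⟨Nat.prime_two⟩
  set z' := f * z * f⁻¹ with hz'
  set L' := cj f L with hL'def
  have hL' : Pr z' L' := hL.cj f
  have hzX : z' ∈ centralizer ({z} : Set G) := mem_centralizer_singleton_iff.mpr hcomm.symm.eq
  have hzX' : z ∈ centralizer ({z'} : Set G) := mem_centralizer_singleton_iff.mpr hcomm.eq
  obtain ⟨J, hJ, hJL, hJc, hJm⟩ := IntrinsicLift.exists_comp_cen hL.tc hzX hL'.sq h1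
  obtain ⟨J', hJ', hJL', hJc', hJm'⟩ := IntrinsicLift.exists_comp_cen hL'.tc hzX' hL.sq h2
  have hzJ : z ∈ J := hJm z hL.mem hcomm.eq 1 (by rw [pow_one, pow_two, hL.sq])
  have hzJ' : z' ∈ J' := hJm' z' hL'.mem hcomm.symm.eq 1 (by rw [pow_one, pow_two, hL'.sq])
  rw [inf_comm] at hJ'
  -- J ≠ J'
  have hJne : J ≠ J' := by
    intro h
    have h3 : z ∈ L' := hJL' (h ▸ hzJ)
    rcases hL'.ctr z h3 h2 with h4 | h4
    · exact hL.ne (eq_one_of_sq h4 hL.sq)
    · have h5 : z * z' = 1 := by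
        apply eq_one_of_sq h4
        calc z * z' * (z * z') = z * (z' * z) * z' := by group
          _ = z * (z * z') * z' := by rw [hcomm.symm.eq]
          _ = (z * z) * (z' * z') := by group
          _ = 1 := by rw [hL.sq, hL'.sq, one_mul]
      apply hne
      have h6 : z' = z⁻¹ := (inv_eq_of_mul_eq_one_right h5).symm
      have h7 : z⁻¹ = z := inv_eq_of_mul_eq_one_left hL.sq
      rw [h6, h7]
  -- the homomorphism
  set q := QuotientGroup.mk' F with hq
  have hqf : q f = 1 := (QuotientGroup.eq_one_iff f).mpr hf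
  set H := L.map q with hH
  have hH' : L'.map q = H := by
    apply le_antisymm
    · rintro _ ⟨x, hx, rfl⟩
      have h3 := mem_cj.mp hx
      refine ⟨f⁻¹ * x * f, h3, ?_⟩
      simp [map_mul, map_inv, hqf]
    · rintro _ ⟨x, hx, rfl⟩
      refine ⟨f * x * f⁻¹, conj_mem_cj hx, ?_⟩
      simp [map_mul, map_inv, hqf]
  have hJH : J.map q ≤ H := Subgroup.map_mono hJL
  have hJH' : J'.map q ≤ H := hH' ▸ Subgroup.map_mono hJL'
  -- the quotient `H / O(H)`
  set r := QuotientGroup.mk' (oddCore ↥H) with hr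
  have key : ∀ (w : G) (M K : Subgroup G), TC (centralizer ({w} : Set G)) M → M.map q = H → K ≤ M →
      (∀ k ∈ M, ∃ l ∈ K, l⁻¹ * k ∈ relCore 2 (centralizer ({w} : Set G))) →
      ((K.map q).subgroupOf H).map r = ⊤ := by
    intro w M K hM hMH hKM hcov
    have hodd : ((M ⊓ relCore 2 (centralizer ({w} : Set G))).map q).subgroupOf H ≤ oddCore ↥H := by
      have hn : (((M ⊓ relCore 2 (centralizer ({w} : Set G))).map q).subgroupOf H).Normal := by
        constructor
        rintro ⟨x, hx⟩ hx' ⟨g, hg⟩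
        rw [← hMH] at hg
        obtain ⟨m, hm, rfl⟩ := hg
        obtain ⟨y, hy, hyx⟩ := hx'
        refine ⟨m * y * m⁻¹, ⟨M.mul_mem (M.mul_mem hm hy.1) (M.inv_mem hm),
          conj_mem_relCore' (hM.le hm) hy.2⟩, ?_⟩
        simp only [map_mul, map_inv, hyx]
        rfl
      apply CompBasic.subnormal_coprime_le_pPrimeCore hn.isSubnormal
      rw [Nat.card_congr (Subgroup.subgroupOfEquivOfLe (by
        rw [← hMH]; exact Subgroup.map_mono inf_le_left)).toEquiv]
      exact Nat.coprime_two_right.mpr (odd_card_map q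
        (odd_card_of_le inf_le_right (odd_card_relCore _)))
    rw [eq_top_iff]
    rintro x -
    obtain ⟨⟨y, hy⟩, rfl⟩ := QuotientGroup.mk'_surjective _ x
    obtain ⟨m, hm, rfl⟩ : y ∈ M.map q := hMH ▸ hy
    obtain ⟨l, hl, hlm⟩ := hcov m hm
    have hlH : q l ∈ H := hMH ▸ ⟨l, hKM hl, rfl⟩
    refine ⟨⟨q l, hlH⟩, ⟨l, hl, rfl⟩, ?_⟩
    have h9 : (⟨q l, hlH⟩ : ↥H)⁻¹ * ⟨q m, hy⟩ ∈ oddCore ↥H := by
      apply hodd
      refine ⟨l⁻¹ * m, ⟨M.mul_mem (M.inv_mem (hKM hl)) hm, hlm⟩, ?_⟩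
      simp only [map_mul, map_inv]
      rfl
    exact QuotientGroup.eq.mpr h9
  have hk1 := key z L J hL.tc rfl hJL hJc
  have hk2 := key z' L' J' hL'.tc hH' hJL' hJc'
  -- commutator
  have hcom : ⁅J, J'⁆ ≤ relCore 2 (centralizer ({z} : Set G) ⊓ centralizer ({z'} : Set G)) := by
    rw [Subgroup.commutator_le]
    intro a ha b hb
    have h3 := (mem_cenMod hJ.le).mp (hJ.le_cenMod hJ' hJne hb)
    have h4 := h3.2 (a⁻¹) (J.inv_mem ha)
    have h5 : ⁅a, b⁆ = a⁻¹⁻¹ * (b * a⁻¹ * b⁻¹) := by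
      rw [commutatorElement_def]; group
    rw [h5]
    exact h4
  have hperf : ⁅H, H⁆ = H := by
    rw [hH, ← Subgroup.map_commutator, hL.tc.perfect]
  have hQperf : (⊤ : Subgroup (↥H ⧸ oddCore ↥H)) = ⁅(⊤ : Subgroup (↥H ⧸ oddCore ↥H)), ⊤⁆ := by
    have h3 : ⁅(⊤ : Subgroup ↥H), (⊤ : Subgroup ↥H)⁆ = ⊤ := by
      apply Subgroup.map_injective H.subtype_injective
      rw [Subgroup.map_commutator, ← MonoidHom.range_eq_map, H.range_subtype, hperf]
    have h4 : (⊤ : Subgroup ↥H).map r = ⊤ :=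
      Subgroup.map_top_of_surjective _ (QuotientGroup.mk'_surjective _)
    conv_lhs => rw [← h4, ← h3, Subgroup.map_commutator, h4]
  have hQ : (⊤ : Subgroup (↥H ⧸ oddCore ↥H)) = (((⁅J, J'⁆).map q).subgroupOf H).map r := by
    apply le_antisymm _ le_top
    have h5 : (⊤ : Subgroup (↥H ⧸ oddCore ↥H)) =
        ⁅((J.map q).subgroupOf H).map r, ((J'.map q).subgroupOf H).map r⁆ := by
      rw [hk1, hk2]; exact hQperf
    rw [h5, ← Subgroup.map_commutator]
    apply Subgroup.map_mono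
    rw [Subgroup.commutator_le]
    rintro ⟨a, ha⟩ ⟨a', ha', haa⟩ ⟨b, hb⟩ ⟨b', hb', hbb⟩
    refine ⟨⁅a', b'⁆, Subgroup.commutator_mem_commutator ha' hb', ?_⟩
    have haa' : q a' = a := haa
    have hbb' : q b' = b := hbb
    rw [map_commutatorElement, haa', hbb']
    rfl
  have hQodd : Odd (Nat.card (↥H ⧸ oddCore ↥H)) := by
    have h3 : Nat.card (↥H ⧸ oddCore ↥H) =
        Nat.card (⊤ : Subgroup (↥H ⧸ oddCore ↥H)) := Subgroup.card_top.symm
    rw [h3, hQ]
    apply odd_card_map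
    have h4 : (⁅J, J'⁆).map q ≤ H := by
      rw [Subgroup.map_commutator]
      exact (Subgroup.commutator_mono hJH hJH').trans (Subgroup.commutator_le_self H)
    rw [Nat.card_congr (Subgroup.subgroupOfEquivOfLe h4).toEquiv]
    exact odd_card_map q (odd_card_of_le hcom (odd_card_relCore _))
  have hHodd : Odd (Nat.card H) := by
    rw [Subgroup.card_eq_card_quotient_mul_card_subgroup (oddCore ↥H)]
    exact Odd.mul hQodd (Nat.coprime_two_right.mp (Lib.Cores.pPrimeCore_coprime 2))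
  -- conclusion
  have h3 : pElem 2 L = L := (tc_iff.mp hL.tc).2.2.1
  rw [← h3]
  refine (Subgroup.closure_le _).mpr ?_
  rintro y ⟨hy, n, hn⟩
  change y ∈ F
  rw [← QuotientGroup.eq_one_iff y]
  exact eq_one_of_mem_odd hHodd (x := q y) ⟨y, hy, rfl⟩ (n := n) (by rw [← map_pow, hn, map_one])

theorem mem_of_eq {F : Subgroup G} {a b : G} (h : a = b) (hb : b ∈ F) : a ∈ F := h ▸ hb

/-- Section 1 : an intrinsic 2-component `L` of `C(z)` lies in every normal subgroup `F` with
`C_G(F) ≤ F` and `O(F) = 1`. -/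
theorem le_normal [Finite G] (F : Subgroup G) (hFn : F.Normal)
    (hcF : centralizer (F : Set G) ≤ F)
    (hOF : ∀ N : Subgroup G, N ≤ F → (∀ x ∈ F, ∀ n ∈ N, x * n * x⁻¹ ∈ N) → Odd (Nat.card N) →
      N = ⊥) {z : G} {L : Subgroup G} (hL : Pr z L) : L ≤ F := by
  have hp2 : Fact (Nat.Prime 2) := ⟨Nat.prime_two⟩
  set C := centralizer ({z} : Set G) with hC
  have hNn : ((F ⊓ C).subgroupOf C).Normal := by
    constructor
    intro n hn g
    refine ⟨hFn.conj_mem _ hn.1 _, ?_⟩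
    exact (g * n * g⁻¹ : ↥C).2
  rcases LBalanceCore.pcomp_le_or_commutator_le hL.tc.comp hNn with h | h
  · intro x hx
    have h1 : (⟨x, hL.tc.le hx⟩ : ↥C) ∈ (F ⊓ C).subgroupOf C := h hx
    exact h1.1
  have hcm : ∀ n ∈ F, n ∈ C → n ∈ cenMod C L := by
    intro n hn hnC
    rw [mem_cenMod hL.tc.le]
    refine ⟨hnC, fun k hk => ?_⟩
    have h1 : ⁅(⟨k⁻¹, C.inv_mem (hL.tc.le hk)⟩ : ↥C), (⟨n, hnC⟩ : ↥C)⁆ ∈ pPrimeCore 2 ↥C :=
      h (Subgroup.commutator_mem_commutator (L.inv_mem hk) ⟨hn, hnC⟩)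
    refine mem_relCore.mpr ⟨?_, ?_⟩
    · exact C.mul_mem (C.inv_mem (hL.tc.le hk))
        (C.mul_mem (C.mul_mem hnC (hL.tc.le hk)) (C.inv_mem hnC))
    · convert h1 using 1
      apply Subtype.ext
      rw [commutatorElement_def]
      simp
      group
  have hcm' : ∀ f : G, ∀ n ∈ F, n ∈ centralizer ({f * z * f⁻¹} : Set G) →
      n ∈ cenMod (centralizer ({f * z * f⁻¹} : Set G)) (cj f L) := by
    intro f n hn hnC
    rw [← cj_centralizer, ← cj_cenMod f hL.tc.le, mem_cj]
    rw [← cj_centralizer, mem_cj] at hnC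
    refine hcm _ ?_ hnC
    have := hFn.conj_mem n hn f⁻¹
    rwa [inv_inv] at this
  set G1 := F ⊔ zpowers z with hG1
  have hFG1 : F ≤ G1 := le_sup_left
  have hzG1 : z ∈ G1 := mem_sup_right (mem_zpowers z)
  have hord : orderOf (⟨z, hzG1⟩ : ↥G1) = 2 := by
    apply orderOf_eq_prime
    · apply Subtype.ext
      simpa [pow_two] using hL.sq
    · intro h4
      exact hL.ne (congrArg Subtype.val h4)
  have hPg : IsPGroup 2 ↥(zpowers (⟨z, hzG1⟩ : ↥G1)) := by
    rw [IsPGroup.iff_card]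
    exact ⟨1, by rw [Nat.card_zpowers, hord, pow_one]⟩
  obtain ⟨P, hP⟩ := hPg.exists_le_sylow
  have hzP : (⟨z, hzG1⟩ : ↥G1) ∈ P := hP (mem_zpowers _)
  by_cases hiso : ∀ g : ↥G1, g * ⟨z, hzG1⟩ * g⁻¹ ∈ P → g * ⟨z, hzG1⟩ * g⁻¹ = ⟨z, hzG1⟩
  · obtain ⟨N, hNnorm, hNodd, hN⟩ := Cfsg.Agent.S0215.result P _ hord hzP hiso
    have hbot : N.map G1.subtype = ⊥ := by
      have hcen : N.map G1.subtype ≤ centralizer (F : Set G) := by
        have h5 : N.map G1.subtype ⊓ F = ⊥ := by
          apply hOF _ inf_le_right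
          · rintro x hx n ⟨⟨m, hm, rfl⟩, hnF⟩
            exact ⟨⟨⟨x, hFG1 hx⟩ * m * ⟨x, hFG1 hx⟩⁻¹, hNnorm.conj_mem m hm _, rfl⟩,
              hFn.conj_mem _ hnF x⟩
          · refine odd_card_of_le inf_le_left ?_
            exact odd_card_map _ hNodd
        rintro n ⟨m, hm, rfl⟩
        rw [mem_centralizer_iff]
        intro x hx
        have h6 : x * (m : G) * x⁻¹ * (m : G)⁻¹ ∈ N.map G1.subtype ⊓ F := by
          refine ⟨?_, ?_⟩
          · exact ⟨⟨x, hFG1 hx⟩ * m * ⟨x, hFG1 hx⟩⁻¹ * m⁻¹,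
              N.mul_mem (hNnorm.conj_mem m hm _) (N.inv_mem hm), rfl⟩
          · exact mem_of_eq (by group) (F.mul_mem hx (hFn.conj_mem _ (F.inv_mem hx) (m : G)))
        rw [h5, mem_bot] at h6
        change x * (m : G) = (m : G) * x
        have h7 := mul_inv_eq_one.mp h6
        calc x * (m : G) = (x * (m : G) * x⁻¹) * x := by group
          _ = (m : G) * x := by rw [h7]
      apply hOF _ (hcen.trans hcF)
      · rintro x hx n ⟨m, hm, rfl⟩
        exact ⟨⟨x, hFG1 hx⟩ * m * ⟨x, hFG1 hx⟩⁻¹, hNnorm.conj_mem m hm _, rfl⟩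
      · exact odd_card_map _ hNodd
    have hFC : F ≤ C := by
      intro x hx
      rw [hC, mem_centralizer_singleton_iff]
      have h5 : z * x * z⁻¹ * x⁻¹ ∈ N.map G1.subtype := ⟨_, hN ⟨x, hFG1 hx⟩, rfl⟩
      rw [hbot, mem_bot] at h5
      have h7 := mul_inv_eq_one.mp h5
      calc x * z = (z * x * z⁻¹) * z := by rw [h7]
        _ = z * x := by group
    have hbot2 : relCore 2 C ⊓ F = ⊥ := by
      apply hOF _ inf_le_right
      · intro x hx n hn
        exact ⟨conj_mem_relCore' (hFC hx) hn.1, hFn.conj_mem _ hn.2 x⟩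
      · exact odd_card_of_le inf_le_left (odd_card_relCore _)
    refine le_trans ?_ hcF
    intro l hl
    rw [mem_centralizer_iff]
    intro x hx
    have h5 := ((mem_cenMod hL.tc.le).mp (hcm x hx (hFC hx))).2 l hl
    have h6 : l⁻¹ * (x * l * x⁻¹) ∈ relCore 2 C ⊓ F := by
      refine ⟨h5, ?_⟩
      exact mem_of_eq (by group) (F.mul_mem (hFn.conj_mem x hx l⁻¹) (F.inv_mem hx))
    rw [hbot2, mem_bot] at h6
    have h7 : x * l * x⁻¹ = l := by
      have := congrArg (fun y => l * y) h6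
      simpa using this
    calc x * l = (x * l * x⁻¹) * x := by group
      _ = l * x := by rw [h7]
  · push Not at hiso
    obtain ⟨g, hg, hgne⟩ := hiso
    obtain ⟨x, -, hxne, hxc⟩ := IntrinsicTools.exists_commuting_conj P.2 hzP hg hgne
    obtain ⟨f, hf, y, hy, hfy⟩ := Subgroup.mem_sup_of_normal_left.mp x.2
    have hyz : y * z = z * y := by
      obtain ⟨i, rfl⟩ := hy
      exact ((Commute.refl z).zpow_left i).eq
    have hxz : (x : G) * z * (x : G)⁻¹ = f * z * f⁻¹ := by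
      rw [← hfy]
      calc f * y * z * (f * y)⁻¹ = f * (y * z) * y⁻¹ * f⁻¹ := by group
        _ = f * (z * y) * y⁻¹ * f⁻¹ := by rw [hyz]
        _ = f * z * f⁻¹ := by group
    have hcomm : Commute z (f * z * f⁻¹) := by
      have h5 := congrArg Subtype.val hxc.eq
      change z * ((x : G) * z * (x : G)⁻¹) = ((x : G) * z * (x : G)⁻¹) * z at h5
      rw [hxz] at h5
      exact h5
    have hne : f * z * f⁻¹ ≠ z := by
      intro h5
      apply hxne
      apply Subtype.ext
      change (x : G) * z * (x : G)⁻¹ = z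
      rw [hxz, h5]
    have hF1 : f * z * f⁻¹ * z⁻¹ ∈ F := by
      have := F.mul_mem hf (hFn.conj_mem _ (F.inv_mem hf) z)
      convert this using 1
      group
    have hL' := hL.cj f
    apply le_of_commuting F hFn hL hf hcomm hne
    · have h5 : f * z * f⁻¹ * z⁻¹ ∈ cenMod C L := by
        apply hcm _ hF1
        rw [hC, mem_centralizer_singleton_iff]
        calc f * z * f⁻¹ * z⁻¹ * z = z * (f * z * f⁻¹) * z⁻¹ := by rw [hcomm.eq]; group
          _ = z * (f * z * f⁻¹ * z⁻¹) := by group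
      have h6 := (cenMod C L).mul_mem h5 hL.z_mem_cenMod
      rwa [inv_mul_cancel_right] at h6
    · have h5 : z * (f * z * f⁻¹)⁻¹ ∈ cenMod (centralizer ({f * z * f⁻¹} : Set G)) (cj f L) := by
        apply hcm' f
        · have := F.inv_mem hF1
          convert this using 1
          group
        · rw [mem_centralizer_singleton_iff]
          calc z * (f * z * f⁻¹)⁻¹ * (f * z * f⁻¹) = (f * z * f⁻¹)⁻¹ * ((f * z * f⁻¹) * z) := by
                group
            _ = (f * z * f⁻¹)⁻¹ * (z * (f * z * f⁻¹)) := by rw [hcomm.eq]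
            _ = (f * z * f⁻¹)⁻¹ * z * (f * z * f⁻¹) := by group
            _ = (f * z * f⁻¹) * (z * (f * z * f⁻¹)⁻¹) := by
                have h6 : (f * z * f⁻¹)⁻¹ = f * z * f⁻¹ := inv_eq_of_mul_eq_one_left hL'.sq
                rw [h6]
                calc f * z * f⁻¹ * z * (f * z * f⁻¹) = (f * z * f⁻¹) * (z * (f * z * f⁻¹)) := by
                      group
                  _ = _ := rfl
      have h6 := (cenMod (centralizer ({f * z * f⁻¹} : Set G)) (cj f L)).mul_mem h5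
        hL'.z_mem_cenMod
      rwa [inv_mul_cancel_right] at h6

end Cfsg.Agent.Intrinsic.Red
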