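import Cfsg.Agent.Intrinsic.Basic
import Cfsg.Agent.Intrinsic.RedStar
import Cfsg.Agent.SignalizersComponents.QsBasic
import Mathlib.GroupTheory.Transfer

/-!
# S1738, section 2 : quasisimple groups with a central involution
-/

set_option autoImplicit false

namespace Cfsg.Agent.Intrinsic.Red

open Subgroup Cfsg Cfsg.Agent.SignalizersComponents Cfsg.Agent.SignalizersComponents.PLayerAut
open Cfsg.Agent.SignalizersComponents.IntrinsicBasic
open Cfsg.Agent.Lib.PComponents (pElem)
open Cfsg.Agent.Intrinsic.Basic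
open scoped commutatorElement

/-- A group of order two has trivial square map etc.: an element of order two in a group of order
two is the only nontrivial element. -/
theorem eq_of_card_two {A : Type*} [Group A] (h : Nat.card A = 2) {a b : A} (ha : a ≠ 1)
    (hb : b ≠ 1) : a = b := by
  obtain ⟨x, hx, hu⟩ := (Nat.card_eq_two_iff' (1 : A)).mp h
  rw [hu a ha, hu b hb]

/-- The central quotient data of a pair. -/
theorem pair_pr {G : Type*} [Group G] [Finite G] {n : ℕ} {z : G} {L : Subgroup G}
    (h : IsPair n z L) : Pr z L := by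
  refine ⟨h.comp.tc, h.mem, h.sq, h.ne_one, ?_⟩
  have hz1 : ∀ (x : G) (hx : x ∈ L), x ∈ cenMod (centralizer ({z} : Set G)) L →
      (QuotientGroup.mk' (oddCore ↥L)) ⟨x, hx⟩ ∈ center (↥L ⧸ oddCore ↥L) := by
    intro x hx hxc
    rw [mem_center_iff]
    intro y
    obtain ⟨⟨k, hk⟩, rfl⟩ := QuotientGroup.mk'_surjective _ y
    have h1 := ((mem_cenMod h.comp.le).mp hxc).2 k hk
    have h2 : k⁻¹ * (x * k * x⁻¹) ∈ core L := by
      rw [h.comp.core_eq]
      exact ⟨L.mul_mem (L.inv_mem hk) (L.mul_mem (L.mul_mem hx hk) (L.inv_mem hx)), h1⟩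
    have h3 : (QuotientGroup.mk' (oddCore ↥L)) ⟨k, hk⟩ =
        (QuotientGroup.mk' (oddCore ↥L)) (⟨x, hx⟩ * ⟨k, hk⟩ * ⟨x, hx⟩⁻¹) := by
      rw [mk_eq_mk_iff]
      exact h2
    rw [map_mul, map_mul, map_inv] at h3
    calc (QuotientGroup.mk' (oddCore ↥L)) ⟨k, hk⟩ * (QuotientGroup.mk' (oddCore ↥L)) ⟨x, hx⟩
        = ((QuotientGroup.mk' (oddCore ↥L)) ⟨x, hx⟩ * (QuotientGroup.mk' (oddCore ↥L)) ⟨k, hk⟩ *
          ((QuotientGroup.mk' (oddCore ↥L)) ⟨x, hx⟩)⁻¹) *
            (QuotientGroup.mk' (oddCore ↥L)) ⟨x, hx⟩ := by rw [← h3]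
      _ = _ := by group
  have hcz : z ∈ cenMod (centralizer ({z} : Set G)) L := by
    rw [mem_cenMod h.comp.le]
    refine ⟨mem_centralizer_singleton_iff.mpr rfl, fun k hk => ?_⟩
    have h2 : k * z = z * k := mem_centralizer_singleton_iff.mp (h.comp.le hk)
    have h1 : k⁻¹ * (z * k * z⁻¹) = 1 := by rw [← h2]; group
    rw [h1]
    exact one_mem _
  intro j hj hjc
  by_cases hj1 : (QuotientGroup.mk' (oddCore ↥L)) ⟨j, hj⟩ = 1
  · left
    apply h.comp.core_le_core
    rw [mem_core_iff hj]
    exact (QuotientGroup.eq_one_iff _).mp hj1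
  · right
    have hz2 : (QuotientGroup.mk' (oddCore ↥L)) ⟨z, h.mem⟩ ≠ 1 := by
      intro h1
      have h2 : z ∈ core L := by
        rw [mem_core_iff h.mem]
        exact (QuotientGroup.eq_one_iff _).mp h1
      exact h.ne_one (eq_one_of_mem_core_sq h2 h.sq)
    have h3 := eq_of_card_two h.cover.1 (a := ⟨_, hz1 j hj hjc⟩) (b := ⟨_, hz1 z h.mem hcz⟩)
      (fun h4 => hj1 (congrArg Subtype.val h4)) (fun h4 => hz2 (congrArg Subtype.val h4))
    have h5 : (QuotientGroup.mk' (oddCore ↥L)) ⟨j, hj⟩ =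
        (QuotientGroup.mk' (oddCore ↥L)) ⟨z, h.mem⟩ := congrArg Subtype.val h3
    have h6 : j * z ∈ core L := by
      rw [mem_core_iff (L.mul_mem hj h.mem)]
      apply (QuotientGroup.eq_one_iff _).mp
      have h7 : (⟨j * z, L.mul_mem hj h.mem⟩ : ↥L) = ⟨j, hj⟩ * ⟨z, h.mem⟩ := rfl
      change (QuotientGroup.mk' (oddCore ↥L)) ⟨j * z, L.mul_mem hj h.mem⟩ = 1
      rw [h7, map_mul, h5, ← map_mul]
      have h8 : (⟨z, h.mem⟩ : ↥L) * ⟨z, h.mem⟩ = 1 := Subtype.ext h.sq
      rw [h8, map_one]
    exact h.comp.core_le_core h6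

/-- In a perfect group an element all of whose commutators are central is central. -/
theorem mem_center_of_commutators {X : Type*} [Group X] (hX : Group.IsPerfect X) {z : X}
    (h : ∀ k : X, z * k * z⁻¹ * k⁻¹ ∈ center X) : z ∈ center X := by
  have h1 := IntrinsicTools.comm_of_perfect (K := (⊤ : Subgroup X)) hX.commutator_eq_top
    (x := z) (fun _ _ => mem_top _)
    (fun k _ l _ => (mem_center_iff.mp (h k) l).symm)
  rw [mem_center_iff]
  exact fun g => (h1 g (mem_top g)).symm

/-- Transfer: a perfect group has no subgroup of odd index with an index two subgroup avoiding a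
central involution. -/
theorem false_of_transfer {X : Type*} [Group X] [Finite X] (hX : Group.IsPerfect X)
    (W : Subgroup X) (hW : Odd W.index) (L : Subgroup ↥W) (hL : L.index = 2) {u : X}
    (hu : u ∈ center X) (huu : u * u = 1) (huW : u ∈ W) (huL : (⟨u, huW⟩ : ↥W) ∉ L) : False := by
  classical
  let φ : ↥W →* ℤˣ :=
    { toFun := fun w => if w ∈ L then 1 else -1
      map_one' := by simp [one_mem]
      map_mul' := by
        intro a b
        have h := Subgroup.mul_mem_iff_of_index_two hL (a := a) (b := b)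
        by_cases ha : a ∈ L <;> by_cases hb : b ∈ L <;> simp [ha, hb, h] }
  have hφu : φ ⟨u, huW⟩ = -1 := by
    change (if (⟨u, huW⟩ : ↥W) ∈ L then (1 : ℤˣ) else -1) = -1
    rw [if_neg huL]
  have key : ∀ (k : ℕ) (g₀ : X), g₀⁻¹ * u ^ k * g₀ ∈ W → g₀⁻¹ * u ^ k * g₀ = u ^ k := by
    intro k g₀ _
    have h1 : u ^ k ∈ center X := pow_mem hu k
    rw [mul_assoc, ← mem_center_iff.mp h1 g₀]
    group
  have h1 := MonoidHom.transfer_eq_pow φ u key
  obtain ⟨m, hm⟩ := hW
  have h2 : u ^ W.index = u := by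
    rw [hm, pow_succ, pow_mul, pow_two, huu, one_pow, one_mul]
  have h3 : MonoidHom.transfer φ u = -1 := by
    rw [h1]
    rw [← hφu]
    congr 1
    exact Subtype.ext h2
  have h4 : u ∈ (MonoidHom.transfer φ).ker := by
    have h5 : commutator X ≤ (MonoidHom.transfer φ).ker := Abelianization.commutator_subset_ker _
    rw [hX.commutator_eq_top] at h5
    exact h5 (mem_top u)
  rw [MonoidHom.mem_ker, h3] at h4
  exact absurd h4 (by decide)

/-- If all involutions are conjugate to `z` then `C(z)` has odd index. -/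
theorem odd_index_of_conj {X : Type*} [Group X] [Finite X] {z : X} (hz : orderOf z = 2)
    (h : ∀ x : X, orderOf x = 2 → ∃ g, g * z * g⁻¹ = x) :
    Odd (centralizer ({z} : Set X)).index := by
  have hp2 : Fact (Nat.Prime 2) := ⟨Nat.prime_two⟩
  obtain ⟨P⟩ := (inferInstance : Nonempty (Sylow 2 X))
  have h2 : 2 ∣ Nat.card X := hz ▸ orderOf_dvd_natCard z
  have hPn : Nontrivial ↥P := by
    rw [← Finite.one_lt_card_iff_nontrivial]
    have h3 := P.dvd_card_of_dvd_card h2
    exact lt_of_lt_of_le one_lt_two (Nat.le_of_dvd Nat.card_pos h3)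
  have hcn := P.2.center_nontrivial
  have h4 : 2 ∣ Nat.card (center ↥P) := by
    have h5 : IsPGroup 2 ↥(center ↥P) := P.2.to_subgroup _
    obtain ⟨k, hk⟩ := (IsPGroup.iff_card).mp h5
    rw [hk]
    have h6 : 1 < Nat.card (center ↥P) := Finite.one_lt_card_iff_nontrivial.mpr hcn
    rw [hk] at h6
    rcases k with _ | k
    · simp at h6
    · exact dvd_pow_self 2 (Nat.succ_ne_zero k)
  obtain ⟨t, ht⟩ := exists_prime_orderOf_dvd_card' 2 h4
  have ht2 : orderOf ((t : ↥P) : X) = 2 := by
    rw [Subgroup.orderOf_coe, Subgroup.orderOf_coe, ht]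
  obtain ⟨g, hg⟩ := h _ ht2
  have hPC : (P : Subgroup X) ≤ centralizer ({((t : ↥P) : X)} : Set X) := by
    intro y hy
    rw [mem_centralizer_singleton_iff]
    exact congrArg Subtype.val (mem_center_iff.mp t.2 ⟨y, hy⟩)
  have h7 : (centralizer ({((t : ↥P) : X)} : Set X)).index ∣ (P : Subgroup X).index :=
    Subgroup.index_dvd_of_le hPC
  have h8 : ¬ 2 ∣ (P : Subgroup X).index := P.not_dvd_index
  have h9 : (centralizer ({z} : Set X)).index = (centralizer ({((t : ↥P) : X)} : Set X)).index := by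
    rw [← hg, ← cj_centralizer]
    have h10 := Subgroup.index_map_equiv (centralizer ({z} : Set X)) (MulAut.conj g)
    exact h10.symm
  rw [h9, ← Nat.not_even_iff_odd, even_iff_two_dvd]
  exact fun h10 => h8 (h10.trans h7)

/-- Section 2. -/
theorem false_of_center.{u} {X : Type u} [Group X] [Finite X] (hq : IsQuasisimple X)
    (hO : oddCore X = ⊥) (hPQS : PQS.{u} (Nat.card X)) {n : ℕ} (hn : 8 ≤ n) {z : X}
    {L : Subgroup X} (hp : IsPair n z L) (hz : z ∉ center X) (hc : center X ≠ ⊥) : False := by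
  have hp2 : Fact (Nat.Prime 2) := ⟨Nat.prime_two⟩
  have hX : Group.IsPerfect X := hq.1
  -- a central involution
  obtain ⟨u, hu, hu2⟩ : ∃ u ∈ center X, orderOf u = 2 := by
    have h2 : 2 ∣ Nat.card (center X) := by
      by_contra h
      apply hc
      rw [eq_bot_iff, ← hO]
      apply Lib.Cores.le_pPrimeCore inferInstance
      exact ((Nat.Prime.coprime_iff_not_dvd Nat.prime_two).mpr h).symm
    obtain ⟨t, ht⟩ := exists_prime_orderOf_dvd_card' 2 h2
    exact ⟨t, t.2, by rw [Subgroup.orderOf_coe, ht]⟩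
  have huc : ∀ x : X, u * x = x * u := fun x => (mem_center_iff.mp hu x).symm
  have huu : u * u = 1 := by rw [← pow_two, ← hu2, pow_orderOf_eq_one]
  have hu1 : u ≠ 1 := by
    rintro rfl
    simp at hu2
  have hzz : z * z = 1 := hp.sq
  have hzi : z⁻¹ = z := inv_eq_of_mul_eq_one_left hzz
  have hzu : z ≠ u := fun h => hz (h ▸ hu)
  -- `u ∉ L`
  have huL : u ∉ L := by
    intro huL
    have h1 : u ∈ cenMod (centralizer ({z} : Set X)) L := by
      rw [mem_cenMod hp.comp.le]
      refine ⟨mem_centralizer_singleton_iff.mpr (huc z), fun k hk => ?_⟩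
      have h2 : k⁻¹ * (u * k * u⁻¹) = 1 := by rw [huc k]; group
      rw [h2]
      exact one_mem _
    rcases (pair_pr hp).ctr u huL h1 with h2 | h2
    · exact hu1 (eq_one_of_sq h2 huu)
    · have h3 : u * z = 1 := by
        apply eq_one_of_sq h2
        calc u * z * (u * z) = u * (z * u) * z := by group
          _ = u * (u * z) * z := by rw [huc z]
          _ = (u * u) * (z * z) := by group
          _ = 1 := by rw [huu, hzz, one_mul]
      exact hzu (by rw [← hzi]; exact (inv_eq_of_mul_eq_one_left h3).symm ▸ rfl)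
  set U := zpowers u with hU
  have hUmem : ∀ x : X, x ∈ U ↔ x = 1 ∨ x = u := by
    intro x
    constructor
    · intro hx
      have h1 : (⟨x, hx⟩ : ↥U) = 1 ∨ (⟨x, hx⟩ : ↥U) = ⟨u, mem_zpowers u⟩ := by
        by_cases h2 : (⟨x, hx⟩ : ↥U) = 1
        · exact Or.inl h2
        · right
          apply eq_of_card_two (by rw [hU, Nat.card_zpowers, hu2]) h2
          exact fun h3 => hu1 (congrArg Subtype.val h3)
      rcases h1 with h1 | h1
      · exact Or.inl (congrArg Subtype.val h1)
      · exact Or.inr (congrArg Subtype.val h1)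
    · rintro (rfl | rfl)
      · exact one_mem _
      · exact mem_zpowers _
  have hUn : U.Normal := by
    constructor
    intro x hx g
    rcases (hUmem x).mp hx with rfl | rfl
    · simp [one_mem]
    · rw [← huc g]
      rw [mul_inv_cancel_right]
      exact hx
  set q := QuotientGroup.mk' U with hqdef
  have hqs : Function.Surjective q := QuotientGroup.mk'_surjective U
  have hq1 : ∀ x : X, q x = 1 ↔ x = 1 ∨ x = u := fun x => by
    rw [← hUmem x]; exact QuotientGroup.eq_one_iff x
  have hqe : ∀ x y : X, q x = q y ↔ y = x ∨ y = x * u := fun x y => by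
    have h0 : q x = q y ↔ x⁻¹ * y ∈ U := QuotientGroup.eq
    rw [h0, hUmem, inv_mul_eq_one, inv_mul_eq_iff_eq_mul, eq_comm]
  have hcardU : Nat.card U = 2 := by rw [hU, Nat.card_zpowers, hu2]
  have hcard : Nat.card (X ⧸ U) < Nat.card X := by
    rw [Subgroup.card_eq_card_quotient_mul_card_subgroup U, hcardU]
    have : 0 < Nat.card (X ⧸ U) := Nat.card_pos
    omega
  have hqz : orderOf (q z) = 2 := by
    apply orderOf_eq_prime
    · rw [← map_pow, pow_two, hzz, map_one]
    · intro h
      rcases (hq1 z).mp h with h | h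
      · exact hp.ne_one h
      · exact hzu h
  have hnt : Nontrivial (X ⧸ U) := ⟨q z, 1, fun h => by rw [h] at hqz; simp at hqz⟩
  have hqq : IsQuasisimple (X ⧸ U) := ComponentImage.isQuasisimple_of_surjective hq q hqs hnt
  -- `O(X/U) = 1`
  have hqO : oddCore (X ⧸ U) = ⊥ := by
    have hN : (oddCore (X ⧸ U)).Normal := Lib.Cores.pPrimeCore_normal 2
    have hNodd : Odd (Nat.card (oddCore (X ⧸ U))) :=
      Nat.coprime_two_right.mp (Lib.Cores.pPrimeCore_coprime 2)
    have hcen : (oddCore (X ⧸ U)).comap q ≤ center X := by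
      by_cases h : (oddCore (X ⧸ U)).comap q = ⊤
      swap
      · have hNn : ((oddCore (X ⧸ U)).comap q).Normal := hN.comap q
        exact SignalizersComponents.QsBasic.normal_le_center_of_ne_top hq _ h
      · exfalso
        have h1 : q z ∈ oddCore (X ⧸ U) := by
          have : z ∈ (oddCore (X ⧸ U)).comap q := h ▸ mem_top z
          exact this
        have h2 := eq_one_of_mem_odd hNodd h1 (n := 1) (by
          rw [pow_one, ← hqz, pow_orderOf_eq_one])
        rw [h2] at hqz
        simp at hqz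
    rw [eq_bot_iff]
    intro y hy
    obtain ⟨x, rfl⟩ := hqs y
    have hxc : x ∈ center X := hcen hy
    set m := Nat.card (oddCore (X ⧸ U)) with hm
    have h1 : q x ^ m = 1 := by
      have := pow_card_eq_one' (x := (⟨q x, hy⟩ : ↥(oddCore (X ⧸ U))))
      exact congrArg Subtype.val this
    have h2 : (x ^ 2) ^ m = 1 := by
      rw [← map_pow] at h1
      rcases (hq1 _).mp h1 with h3 | h3
      · rw [← pow_mul, mul_comm, pow_mul, h3, one_pow]
      · rw [← pow_mul, mul_comm, pow_mul, h3, pow_two, huu]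
    have h3 : zpowers (x ^ 2) ≤ oddCore X := by
      apply Lib.Cores.le_pPrimeCore
      · constructor
        intro w hw g
        have h4 : w ∈ center X := (zpowers_le.mpr (pow_mem hxc 2)) hw
        rw [← mul_inv_cancel_right w g] at hw
        rw [mem_center_iff.mp h4 g]
        exact hw
      · rw [Nat.card_zpowers]
        exact Nat.coprime_two_right.mpr (odd_of_dvd (orderOf_dvd_of_pow_eq_one h2) hNodd)
    rw [hO, le_bot_iff, zpowers_eq_bot] at h3
    rw [mem_bot]
    exact eq_one_of_mem_odd hNodd hy (n := 1) (by rw [pow_one, ← map_pow, h3, map_one])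
  -- `q z` is not central
  have hqc : q z ∉ center (X ⧸ U) := by
    intro h
    apply hz
    apply mem_center_of_commutators hX
    intro k
    have h1 : q (z * k * z⁻¹ * k⁻¹) = 1 := by
      have h2 := mem_center_iff.mp h (q k)
      rw [map_mul, map_mul, map_mul, map_inv, map_inv, ← h2]
      group
    rcases (hq1 _).mp h1 with h3 | h3
    · rw [h3]; exact one_mem _
    · rw [h3]; exact hu
  -- the pair in the quotient
  set W := (centralizer ({q z} : Set (X ⧸ U))).comap q with hW
  have hWmem : ∀ w : X, w ∈ W ↔ w * z * w⁻¹ = z ∨ w * z * w⁻¹ = z * u := by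
    intro w
    rw [← hqe, hW, mem_comap, mem_centralizer_singleton_iff]
    rw [map_mul, map_mul, map_inv]
    constructor
    · intro h; rw [h]; group
    · intro h; conv_rhs => rw [h]
      group
  have hCW : centralizer ({z} : Set X) ≤ W := by
    intro c hc
    rw [hWmem]
    left
    rw [mem_centralizer_singleton_iff] at hc
    rw [hc]; group
  have hLW : L ≤ W := hp.comp.le.trans hCW
  have hCn : ((centralizer ({z} : Set X)).subgroupOf W).Normal := by
    constructor
    rintro ⟨c, hcW⟩ hc ⟨w, hw⟩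
    have hc' : c * z = z * c := mem_centralizer_singleton_iff.mp hc
    change w * c * w⁻¹ ∈ centralizer ({z} : Set X)
    rw [mem_centralizer_singleton_iff]
    have h1 : c * (w⁻¹ * z * w) = (w⁻¹ * z * w) * c := by
      have h2 := (hWmem w⁻¹).mp (W.inv_mem hw)
      rw [inv_inv] at h2
      rcases h2 with h2 | h2
      · rw [h2, hc']
      · rw [h2, ← mul_assoc, hc', mul_assoc, ← huc c, mul_assoc]
    calc w * c * w⁻¹ * z = w * (c * (w⁻¹ * z * w)) * w⁻¹ := by group
      _ = w * ((w⁻¹ * z * w) * c) * w⁻¹ := by rw [h1]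
      _ = z * (w * c * w⁻¹) := by group
  have hLn : (L.subgroupOf W).IsSubnormal := by
    apply Subgroup.IsSubnormal.trans (K := (centralizer ({z} : Set X)).subgroupOf W)
    · intro x hx
      exact hp.comp.le hx
    · have h1 := (Basic.isComp_iff.mp hp.comp).2.1
      let f : ↥((centralizer ({z} : Set X)).subgroupOf W) →* ↥(centralizer ({z} : Set X)) :=
        { toFun := fun x => ⟨x.1.1, x.2⟩
          map_one' := rfl
          map_mul' := fun _ _ => rfl }
      have h2 : (L.subgroupOf W).subgroupOf ((centralizer ({z} : Set X)).subgroupOf W) =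
          (L.subgroupOf (centralizer ({z} : Set X))).comap f := by
        ext x; rfl
      rw [h2]
      exact h1.comap f
    · exact hCn.isSubnormal
  set L' := L.map q with hL'
  have hL'le : L' ≤ centralizer ({q z} : Set (X ⧸ U)) := by
    rintro _ ⟨l, hl, rfl⟩
    exact hLW hl
  have hinj : Function.Injective (q.subgroupMap L) := by
    rw [injective_iff_map_eq_one]
    rintro ⟨x, hx⟩ h
    have h1 : q x = 1 := congrArg Subtype.val h
    apply Subtype.ext
    rcases (hq1 x).mp h1 with h2 | h2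
    · exact h2
    · exact absurd (h2 ▸ hx) huL
  let e0 : ↥L ≃* ↥L' := MulEquiv.ofBijective (q.subgroupMap L)
    ⟨hinj, MonoidHom.subgroupMap_surjective q L⟩
  let e1 : (↥L ⧸ oddCore ↥L) ≃* (↥L' ⧸ oddCore ↥L') :=
    QuotientGroup.congr _ _ e0 (Lib.Cores.map_equiv_pPrimeCore e0 2)
  have hp' : IsPair n (q z) L' := by
    refine ⟨hqz, ⟨z, hp.mem, rfl⟩, ?_, cover_congr e1 hp.cover⟩
    rw [Basic.isComp_iff]
    obtain ⟨-, -, h3, h4⟩ := Basic.isComp_iff.mp hp.comp
    refine ⟨hL'le, ?_, PCompQuot.quasisimple_congr e1 h3, ?_⟩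
    · have h5 : L'.subgroupOf (centralizer ({q z} : Set (X ⧸ U))) =
          (L.subgroupOf W).map (q.subgroupComap (centralizer ({q z} : Set (X ⧸ U)))) := by
        ext x
        constructor
        · intro hx
          obtain ⟨l, hl, hlx⟩ := (hx : (x : X ⧸ U) ∈ L.map q)
          exact ⟨⟨l, hLW hl⟩, hl, Subtype.ext hlx⟩
        · rintro ⟨⟨l, hlW⟩, hl, rfl⟩
          exact ⟨l, hl, rfl⟩
      rw [h5]
      apply hLn.map
      rintro ⟨x, hx⟩
      obtain ⟨y, rfl⟩ := hqs x
      exact ⟨⟨y, hx⟩, rfl⟩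
    · exact pElem_map_le q h4
  rcases hPQS (X ⧸ U) hcard hqq hqO n hn (q z) L' hp' with h | ⟨-, -, hC, -, hconj⟩
  · exact hqc h
  have hodd := odd_index_of_conj hqz hconj
  have hWodd : Odd W.index := by
    rw [hW, Subgroup.index_comap_of_surjective _ hqs]
    exact hodd
  have huW : u ∈ W := hCW (mem_centralizer_singleton_iff.mpr (huc z))
  refine false_of_transfer hX W hWodd (L.subgroupOf W) ?_ hu huu huW huL
  rw [Subgroup.index_eq_two_iff_exists_notMem_and]
  refine ⟨⟨u, huW⟩, huL, ?_⟩
  rintro ⟨b, hb⟩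
  have h1 : q b ∈ L' := hC ▸ hb
  obtain ⟨l, hl, hlb⟩ := h1
  rcases (hqe _ _).mp hlb with h2 | h2
  · right
    change b ∈ L
    rw [h2]; exact hl
  · left
    change b * u ∈ L
    rw [h2, mul_assoc, huu, mul_one]; exact hl

end Cfsg.Agent.Intrinsic.Red
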