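import Cfsg.Agent.Intrinsic.ANFactBigCent
import Cfsg.Agent.S0222

/-!
# A target group has no strongly embedded subgroup
-/

set_option autoImplicit false

open Cfsg Subgroup
open Cfsg.Agent.Intrinsic.Basic

namespace Cfsg.Agent.Intrinsic.TargetNoSE

variable {X : Type*} [Group X] [Finite X] {n : ℕ} {z : X} {L : Subgroup X}

/-- A target group has no strongly embedded subgroup. -/
theorem not_se (h : Target n X z L) (hp : IsPair n z L) (H : Subgroup X) : ¬ IsStronglyEmbedded H := by
  have hs : IsSimpleGroup X := h.2.1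
  refine ANFactBigCent.Target.no_se h hp (fun S hS => ?_) H
  refine Cfsg.Agent.S0222.result ?_ S hS
  by_contra hcon
  push Not at hcon
  obtain ⟨K, -⟩ := ANFactBigCent.Target.exists_cover h hp
  have h8 : 8 ≤ n := by have := h.1; omega
  have e : Fin 4 ↪ Fin n := Fin.castLEEmb (by omega)
  obtain ⟨a, ha⟩ := K.exists_lift (Cfsg.Agent.SporRec.TwoAn.Cover.swap_mul_swap_mem (e 0) (e 1) (e 2) (e 3)
    (e.injective.ne (by decide)) (e.injective.ne (by decide)))
  obtain ⟨b, hb⟩ := K.exists_lift (Cfsg.Agent.SporRec.TwoAn.Cover.swap_mul_swap_mem (e 0) (e 2) (e 1) (e 3)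
    (e.injective.ne (by decide)) (e.injective.ne (by decide)))
  have h1 := K.anticomm (e.injective.ne (by decide)) (e.injective.ne (by decide)) (e.injective.ne (by decide))
    (e.injective.ne (by decide)) (e.injective.ne (by decide)) (e.injective.ne (by decide)) ha hb
  have h2 : b * a = a * b := Subtype.ext (hcon b a)
  rw [h2] at h1
  exact K.mul_z_ne _ h1.symm

end Cfsg.Agent.Intrinsic.TargetNoSE
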