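import Cfsg.Agent.Intrinsic.TypesDef
import Cfsg.Agent.Intrinsic.Diag

/-!
# S1738, (3.F)

If `v` moves some member of `Ω_u` then `u` moves all members of `Ω_v`.
-/

set_option autoImplicit false

open Cfsg Subgroup Equiv
open Cfsg.Agent.SignalizersComponents
open Cfsg.Agent.SignalizersComponents.IntrinsicBasic
open Cfsg.Agent.Intrinsic.Basic Cfsg.Agent.Intrinsic.Cen Cfsg.Agent.Intrinsic.Quot
open Cfsg.Agent.Intrinsic.Diag Cfsg.Agent.Intrinsic.TypesDef
open scoped commutatorElement

namespace Cfsg.Agent.Intrinsic.TypeF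

variable {G : Type*} [Group G]

/-- the exact square root of (3.C) -/
def HasSqrt (z : G) (L : Subgroup G) : Prop :=
  ∀ (u v : G) (X X' : Subgroup G), u ≠ v → u * v = v * u → Om z L u X → Om z L v X' →
    v ∈ normalizer (X : Set G) → ¬ Fixes v X → ∃ q ∈ X, q * v = v * q ∧ q * q = u

variable [Finite G]

/-- `E ≤ Y` covers `Y / O(Y)` as soon as `|Y / O(Y)| ≤ 2 |E / O(E)|`. -/
theorem sup_of_card_two {H E Y : Subgroup G} (hY : IsComp H Y) (hE : E ≤ Y)
    (hc : Nat.card (↥Y ⧸ oddCore ↥Y) ≤ 2 * Nat.card (↥E ⧸ oddCore ↥E)) : E ⊔ core Y = Y := by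
  let f : ↥E →* (↥Y ⧸ oddCore ↥Y) := (QuotientGroup.mk' (oddCore ↥Y)).comp (inclusion hE)
  have hk : f.ker ≤ oddCore ↥E := by
    intro x hx
    have h1 : (x : G) ∈ core Y := by
      rw [mem_core_iff (hE x.2)]
      exact (QuotientGroup.eq_one_iff _).mp hx
    have h2 : E ⊓ core Y ≤ core E := by
      refine le_core inf_le_left ?_ (Odd.of_dvd_nat (odd_card_core Y) (card_dvd_of_le inf_le_right))
      intro j hj
      rw [mem_normalizer_iff_cj, cj_inf, cj_eq_self_of_mem hj,
        mem_normalizer_iff_cj.mp (le_normalizer_core Y (hE hj))]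
    exact (mem_core_iff x.2).mp (h2 ⟨x.2, h1⟩)
  have h3 : Nat.card (↥E ⧸ oddCore ↥E) ≤ Nat.card f.range := by
    have e := QuotientGroup.quotientKerEquivRange f
    rw [← Nat.card_congr e.toEquiv]
    have h4 : (oddCore ↥E).index ∣ f.ker.index := Subgroup.index_dvd_of_le hk
    have h5 : f.ker.index ≠ 0 := Subgroup.index_ne_zero_of_finite
    exact Nat.le_of_dvd (Nat.pos_of_ne_zero h5) h4
  have hidx : f.range.index ≤ 2 := by
    have h4 := Subgroup.card_mul_index f.range
    have h5 : 0 < Nat.card f.range := Nat.card_pos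
    by_contra h6
    push Not at h6
    have h7 : Nat.card f.range * 3 ≤ Nat.card f.range * f.range.index := Nat.mul_le_mul_left _ h6
    omega
  have h6 : f.range = ⊤ := by
    have h5 : f.range.index ≠ 0 := Subgroup.index_ne_zero_of_finite
    have h8 : f.range.index = 1 ∨ f.range.index = 2 := by omega
    rcases h8 with h8 | h8
    · exact Subgroup.index_eq_one.mp h8
    · have hperf : Group.IsPerfect (↥Y ⧸ oddCore ↥Y) := (quasisimple_quot hY).1
      rw [Group.isPerfect_def] at hperf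
      rw [eq_top_iff, ← hperf, commutator_def, commutator_le]
      intro a _ b _
      rw [commutatorElement_def, Subgroup.mul_mem_iff_of_index_two h8,
        Subgroup.mul_mem_iff_of_index_two h8, Subgroup.mul_mem_iff_of_index_two h8,
        inv_mem_iff, inv_mem_iff]
      tauto
  apply sup_of_exists hE
  intro x hx
  have h7 : (QuotientGroup.mk ⟨x, hx⟩ : ↥Y ⧸ oddCore ↥Y) ∈ f.range := by rw [h6]; exact mem_top _
  obtain ⟨j, hj⟩ := h7
  exact ⟨j, j.2, mk_eq_mk_iff.mp hj⟩

/-- the diagonal has at least half the order modulo the cores -/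
theorem card_diag {m : ℕ} {X K : Subgroup G} {v : G} (hK : IsComp X K) (hvX : v ∈ X)
    (hv : v * v = 1) (hne : cj v K ≠ K)
    (hcov : IsNonsplitDoubleCover (↥K ⧸ oddCore ↥K) ↥(alternatingGroup (Fin m))) :
    Nat.card (↥K ⧸ oddCore ↥K) ≤ 2 * Nat.card (↥(diag X K v) ⧸ oddCore ↥(diag X K v)) := by
  obtain ⟨-, -, -, -, f, hf, hker, -⟩ := exists_diag hK hvX hv hne
  have h1 := f.ker.card_mul_index
  have h2 : f.ker.index = Nat.card (↥(diag X K v) ⧸ oddCore ↥(diag X K v)) := by
    rw [Subgroup.index_ker, MonoidHom.range_eq_top.mpr hf]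
    exact Nat.card_congr Subgroup.topEquiv.toEquiv
  have h3 : Nat.card f.ker ≤ 2 :=
    (Nat.le_of_dvd Nat.card_pos (card_dvd_of_le hker)).trans hcov.1.le
  calc Nat.card (↥K ⧸ oddCore ↥K) = Nat.card f.ker * f.ker.index := h1.symm
    _ = Nat.card f.ker * Nat.card (↥(diag X K v) ⧸ oddCore ↥(diag X K v)) := by rw [h2]
    _ ≤ _ := Nat.mul_le_mul_right _ h3

variable {n : ℕ} {z : G} {L : Subgroup G} {u v : G} {X X' : Subgroup G}

omit [Finite G] in
theorem subnormal_inf {H M K A : Subgroup G} (hK : IsComp H K) (hM : M ≤ H) (hMA : M ≤ A) :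
    ((K ⊓ A).subgroupOf M).IsSubnormal := by
  have h1 := hK.2.1.comap (inclusion hM)
  have h2 : (K.subgroupOf H).comap (inclusion hM) = (K ⊓ A).subgroupOf M := by
    ext x
    simp only [mem_comap, mem_subgroupOf, mem_inf, coe_inclusion]
    exact ⟨fun h => ⟨h, hMA x.2⟩, fun h => h.1⟩
  rwa [h2] at h1

/-- **(3.F)** -/
theorem typeF (hp : IsPair n z L) (hs : HasSqrt z L) (hne : u ≠ v) (huv : u * v = v * u)
    (hX : Om z L u X) (hX' : Om z L v X') (hmove : cj v X ≠ X) : cj u X' ≠ X' := by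
  intro h
  have hpu := hX.pair hp
  have hpv := hX'.pair hp
  have hnf : ¬ Fixes u X' := fun hf =>
    hmove (mem_normalizer_iff_cj.mp (typeZero_symm hp hX' hX huv.symm hf).1)
  obtain ⟨q, hqX', hqu, hqq⟩ :=
    hs v u X' X hne.symm huv.symm hX' hX (mem_normalizer_iff_cj.mpr h) hnf
  have hqC : q ∈ centralizer ({u} : Set G) := mem_centralizer_singleton_iff.mpr hqu
  have hvC : v ∈ centralizer ({u} : Set G) := mem_centralizer_singleton_iff.mpr huv.symm
  have hqv : q * v = v * q := by rw [← hqq, mul_assoc]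
  have hqvi : q * v * q⁻¹ = v := by rw [hqv, mul_inv_cancel_right]
  have hvq : cj v X = cj q (cj q X) := by rw [← cj_mul, hqq]
  have hq1 : cj q X ≠ X := by
    intro h'
    apply hmove
    rw [hvq, h', h']
  have hq2 : cj q X ≠ cj v X := by
    intro h'
    rw [hvq] at h'
    exact hq1 (cj_injective q h').symm
  have hXq : IsComp (centralizer ({u} : Set G)) (cj q X) := isComp_cj_of_mem hpu.comp hqC
  have hqvX : cj v (cj q X) ≠ cj q X := by
    intro h'
    rw [← cj_mul, ← hqv, cj_mul] at h'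
    exact hmove (cj_injective q h')
  have hdne := diag_ne hpu.comp hvC hpv.sq hmove hXq hqvX hq1 hq2
  have hcjE : cj q (diag (centralizer ({u} : Set G)) X v) =
      diag (centralizer ({u} : Set G)) (cj q X) v := by
    rw [cj_diag, cj_eq_self_of_mem hqC, hqvi]
  obtain ⟨hE, -, -, -, -⟩ := exists_diag hpu.comp hvC hpv.sq hmove
  set E := diag (centralizer ({u} : Set G)) X v with hEdef
  set M := centralizer ({u} : Set G) ⊓ centralizer ({v} : Set G) with hM
  have hsub : ((X' ⊓ centralizer ({u} : Set G)).subgroupOf M).IsSubnormal :=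
    subnormal_inf hpv.comp inf_le_right inf_le_left
  have hSM : X' ⊓ centralizer ({u} : Set G) ≤ M := by
    rw [hM, inf_comm]
    exact inf_le_inf_left _ hpv.comp.le
  have hES : E ≤ X' ⊓ centralizer ({u} : Set G) := by
    by_contra hES
    have hf := hE.fixes_of_subnormal hSM hsub hES ⟨hqX', hqC⟩
    rw [← hcjE] at hdne
    exact hdne (mem_normalizer_iff_cj.mp hf.1)
  have hEX' : E ≤ X' := hES.trans inf_le_left
  have hc : Nat.card (↥X' ⧸ oddCore ↥X') ≤ 2 * Nat.card (↥E ⧸ oddCore ↥E) := by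
    rw [card_quot_eq hpv.cover hpu.cover]
    exact card_diag hpu.comp hvC hpv.sq hmove hpu.cover
  have hsm : Small E X' := sup_of_card_two hpv.comp hEX' hc
  apply hnf
  -- `u` commutes with `E`
  rw [fixes_iff_conj]
  refine ⟨mem_normalizer_iff_cj.mpr h, fun x hx => ?_⟩
  obtain ⟨j, hj, hcj⟩ := exists_mul_of_sup hsm hx
  have hju : u * j * u⁻¹ = j := by
    have : j * u = u * j := mem_centralizer_singleton_iff.mp (hES hj).2
    rw [← this, mul_inv_cancel_right]
  have h2 : u * (j⁻¹ * x) * u⁻¹ ∈ core X' := conj_mem_core (mem_normalizer_iff_cj.mpr h) hcj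
  have h3 : x⁻¹ * (u * x * u⁻¹) = (j⁻¹ * x)⁻¹ * (j⁻¹ * (u * j * u⁻¹)) * (u * (j⁻¹ * x) * u⁻¹) := by
    group
  rw [h3, hju, inv_mul_cancel, mul_one]
  exact mul_mem (inv_mem hcj) h2

end Cfsg.Agent.Intrinsic.TypeF
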