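import Cfsg.Agent.Intrinsic.TypesDef
import Cfsg.Agent.Intrinsic.AnTypes
import Cfsg.Agent.Intrinsic.Lifting

/-!
# S1738, section 3: (3.B), (3.C), (3.D)
-/

set_option autoImplicit false

open Cfsg Subgroup Equiv
open Cfsg.Agent.SignalizersComponents
open Cfsg.Agent.SignalizersComponents.IntrinsicBasic
open Cfsg.Agent.SporRec.TwoAn
open Cfsg.Agent.Intrinsic.Basic Cfsg.Agent.Intrinsic.Cen Cfsg.Agent.Intrinsic.Quot
open Cfsg.Agent.Intrinsic.Bridge Cfsg.Agent.Intrinsic.TypesDef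

namespace Cfsg.Agent.Intrinsic.Types

variable {G : Type*} [Group G] [Finite G] {n : ℕ} {u v : G} {X : Subgroup G}

/-! ### lifting from `(N(X) ∩ C(u)) / O(X)` -/

/-- the class of `a` in `(N(X) ∩ C(u)) / O(X)` -/
def mkQ (u : G) (X : Subgroup G) (a : G) (ha : a ∈ NX u X) : QX u X := QuotientGroup.mk ⟨a, ha⟩

omit [Finite G] in
theorem mkQ_mul {a b : G} (ha : a ∈ NX u X) (hb : b ∈ NX u X) :
    mkQ u X a ha * mkQ u X b hb = mkQ u X (a * b) (mul_mem ha hb) := rfl

omit [Finite G] in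
theorem mkQ_inv {a : G} (ha : a ∈ NX u X) : (mkQ u X a ha)⁻¹ = mkQ u X a⁻¹ (inv_mem ha) := rfl

omit [Finite G] in
theorem mkQ_eq_iff {a b : G} (ha : a ∈ NX u X) (hb : b ∈ NX u X) :
    mkQ u X a ha = mkQ u X b hb ↔ a⁻¹ * b ∈ core X := by
  unfold mkQ
  rw [QuotientGroup.eq]
  rfl

omit [Finite G] in
theorem mkQ_eq_one_iff {a : G} (ha : a ∈ NX u X) : mkQ u X a ha = 1 ↔ a ∈ core X := by
  unfold mkQ
  rw [QuotientGroup.eq_one_iff]
  rfl

omit [Finite G] in
theorem exists_mkQ {x : QX u X} : ∃ (a : G) (ha : a ∈ NX u X), mkQ u X a ha = x := by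
  obtain ⟨⟨a, ha⟩, rfl⟩ := QuotientGroup.mk_surjective x
  exact ⟨a, ha, rfl⟩

omit [Finite G] in
theorem NX_le_normalizer_core : NX u X ≤ normalizer (core X : Set G) :=
  inf_le_left.trans (normalizer_le_normalizer_core X)

/-- what we know about the action record of a pair -/
structure IsAct (h : IsPair n u X) (S : QAct (QX u X) n (mkQ u X u (le_NX h h.mem))) : Prop where
  mem_L : ∀ (a : G) (ha : a ∈ NX u X), mkQ u X a ha ∈ S.L ↔ a ∈ X
  φ_one : ∀ (a : G) (ha : a ∈ NX u X), S.φ (mkQ u X a ha) = 1 ↔ Fixes a X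

theorem exists_isAct (h : IsPair n u X) (hn : 7 ≤ n) : ∃ S, IsAct h S := by
  obtain ⟨S, h1, h2⟩ := exists_pair_act h hn
  exact ⟨S, h1, h2⟩

/-- **(3.C)** exact elements for an involution `v` acting on a pair `(u, X)`. -/
theorem elements (h : IsPair n u X) (hn : 8 ≤ n) {S : QAct (QX u X) n (mkQ u X u (le_NX h h.mem))}
    (hS : IsAct h S) (hv : v ∈ NX u X) (hvv : v * v = 1)
    (h4 : n ≤ (S.φ (mkQ u X v hv)).support.card + 4) :
    (∃ k ∈ X, k⁻¹ * v * k = v * u) ∧ (∃ q ∈ X, q * v = v * q ∧ q * q = u) ∧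
      ∃ w ∈ X, ∃ g ∈ X, ∃ k ∈ X, w * w = 1 ∧ w * v = v * w ∧
        (∀ hw : w ∈ NX u X, (S.φ (mkQ u X w hw)).support.card = 8) ∧ g⁻¹ * v * g = v * w ∧
        k * v = v * k ∧ k⁻¹ * w * k = w * u ∧
        (8 ≤ (S.φ (mkQ u X v hv)).support.card →
          w ∈ Subgroup.closure {x | x ∈ X ∧ x * v = v * x ∧ Odd (orderOf x)}) := by
  have hXN := le_NX h
  have hodd := odd_card_core X
  have hvN := NX_le_normalizer_core hv
  have huu := h.sq
  have hvu : v * u = u * v := (mem_NX.mp hv).2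
  have hvi : v⁻¹ = v := inv_eq_of_mul_eq_one_left hvv
  have hv1 : v ^ 2 ^ 1 = 1 := by rw [pow_one, pow_two, hvv]
  have hu1 : u ^ 2 ^ 1 = 1 := by rw [pow_one, pow_two, huu]
  have hcz : (S.cov.z : QX u X) = mkQ u X u (hXN h.mem) := S.cov_z
  have lift : ∀ x ∈ S.L, ∃ a ∈ X, ∃ ha, mkQ u X a ha = x := by
    intro x hx
    obtain ⟨a, ha, rfl⟩ := exists_mkQ (x := x)
    exact ⟨a, (hS.mem_L a ha).mp hx, ha, rfl⟩
  obtain ⟨⟨h0, hh0, e1⟩, ⟨q0, hq0, e2, e3⟩, -, w0, hw0, g0, hg0, k0, hk0, e4, e5, e6, e7, e8, e9, e10⟩ :=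
    AnTypes.exists_elements S.cov S.φ (fun v x hx => S.conj_mem hx v) S.φ_L
      (by rw [Fintype.card_fin]; exact hn) (v := mkQ u X v hv)
      (by rw [mkQ_mul, mkQ_eq_one_iff, hvv]; exact one_mem _) (by rw [Fintype.card_fin]; exact h4)
  -- conjugating `v` to an involution congruent to a conjugate
  have conj : ∀ g1 ∈ X, ∀ b : G, b * b = 1 → (g1⁻¹ * v * g1)⁻¹ * b ∈ core X →
      ∃ g ∈ X, g⁻¹ * v * g = b ∧ g1⁻¹ * g ∈ core X := by
    intro g1 hg1 b hb hc
    obtain ⟨o, ho, hob⟩ := Lifting.exists_conj_eq hodd (v := g1⁻¹ * v * g1) (v' := b) (n := 1) (m := 1)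
      (by rw [pow_one, pow_two, show g1⁻¹ * v * g1 * (g1⁻¹ * v * g1) = g1⁻¹ * (v * v) * g1 by group,
        hvv, mul_one, inv_mul_cancel]) (by rw [pow_one, pow_two, hb])
      (by
        refine mul_mem (mul_mem (inv_mem ?_) hvN) ?_ <;> exact le_normalizer_core X hg1) hc
    refine ⟨g1 * o⁻¹, mul_mem hg1 (inv_mem (core_le X ho)), ?_, ?_⟩
    · rw [← hob]; group
    · rw [inv_mul_cancel_left]; exact inv_mem ho
  refine ⟨?_, ?_, ?_⟩
  · obtain ⟨h1, hh1, hn1, rfl⟩ := lift _ hh0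
    rw [hcz, mkQ_inv, mkQ_mul, mkQ_mul, mkQ_mul, mkQ_eq_iff] at e1
    obtain ⟨g, hg, hgv, -⟩ := conj h1 hh1 (v * u) (by
      calc v * u * (v * u) = v * (u * v) * u := by group
        _ = v * (v * u) * u := by rw [hvu]
        _ = (v * v) * (u * u) := by group
        _ = 1 := by rw [hvv, huu, one_mul]) e1
    exact ⟨g, hg, hgv⟩
  · obtain ⟨q1, hq1, hn1, rfl⟩ := lift _ hq0
    rw [mkQ_mul, mkQ_mul, mkQ_eq_iff] at e2
    rw [hcz, mkQ_mul, mkQ_eq_iff] at e3
    have hq1N := le_normalizer_core X hq1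
    have hqq : q1 ^ 2 ^ 2 ∈ core X := by
      obtain ⟨c, hc⟩ : ∃ c, c = (q1 * q1)⁻¹ * u := ⟨_, rfl⟩
      rw [← hc] at e3
      have h1 : q1 * q1 = u * c⁻¹ := by rw [hc, mul_inv_rev, inv_inv, mul_inv_cancel_left]
      have h2 : q1 ^ 2 ^ 2 = u * c⁻¹ * u⁻¹ * (u * u) * c⁻¹ := by
        calc q1 ^ 2 ^ 2 = (q1 * q1) * (q1 * q1) := by
              show q1 ^ 4 = _
              simp only [pow_succ, pow_zero, one_mul, mul_assoc]
          _ = (u * c⁻¹) * (u * c⁻¹) := by rw [h1]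
          _ = u * c⁻¹ * u⁻¹ * (u * u) * c⁻¹ := by group
      rw [h2, huu, mul_one]
      exact mul_mem (conj_mem_core (le_normalizer h.mem) (inv_mem e3)) (inv_mem e3)
    obtain ⟨o, ho, p1, p2⟩ := Lifting.exists_two_element hodd (v := v) (x := q1) (n := 1) (m := 2) hv1 hvN
      hq1N hqq (by
        have h1 := conj_mem_core (x := v) (mem_NX.mp hv).1 e2
        convert h1 using 1
        group)
    have hqX : q1 * o ∈ X := mul_mem hq1 (core_le X ho)
    refine ⟨q1 * o, hqX, p2.symm, ?_⟩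
    apply Lifting.eq_of_commute hodd (n := 1) (m := 1) (a := (q1 * o) * (q1 * o)) (b := u) ?_ hu1 ?_ ?_
    · rw [← p1]
      rw [← pow_two, ← pow_mul]; rfl
    · have h1 := pair_comm h hqX
      calc q1 * o * (q1 * o) * u = q1 * o * (q1 * o * u) := by group
        _ = q1 * o * (u * (q1 * o)) := by rw [h1]
        _ = (q1 * o * u) * (q1 * o) := by group
        _ = (u * (q1 * o)) * (q1 * o) := by rw [h1]
        _ = u * (q1 * o * (q1 * o)) := by group
    · -- (q o q o)⁻¹ u ∈ core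
      have h1 : (q1 * o * (q1 * o))⁻¹ * u = (o⁻¹ * (q1⁻¹ * o⁻¹ * q1)) * ((q1 * q1)⁻¹ * u) := by group
      rw [h1]
      refine mul_mem (mul_mem (inv_mem ho) ?_) e3
      have h2 := conj_mem_core (x := q1⁻¹) (inv_mem (le_normalizer hq1)) (inv_mem ho)
      rwa [inv_inv] at h2
  · obtain ⟨w1, hw1, hnw, rfl⟩ := lift _ hw0
    obtain ⟨g1, hg1, hng, rfl⟩ := lift _ hg0
    obtain ⟨k1, hk1, hnk, rfl⟩ := lift _ hk0
    rw [mkQ_mul, mkQ_eq_one_iff] at e4
    rw [mkQ_mul, mkQ_mul, mkQ_eq_iff] at e6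
    rw [mkQ_mul, mkQ_mul, mkQ_eq_iff] at e8
    have comm' : ∀ x : G, (x * v)⁻¹ * (v * x) ∈ core X → x⁻¹ * (v * x * v⁻¹) ∈ core X := by
      intro x hx
      have h1 := conj_mem_core (x := v) (mem_NX.mp hv).1 hx
      convert h1 using 1
      group
    obtain ⟨o, ho, p1, p2⟩ := Lifting.exists_involution hodd (v := v) (x := w1) (n := 1) hv1 hvN
      (le_normalizer_core X hw1) e4 (comm' _ e6)
    set w := w1 * o with hw
    have hwX : w ∈ X := mul_mem hw1 (core_le X ho)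
    have hww : mkQ u X w1 hnw = mkQ u X w (hXN hwX) := by
      rw [mkQ_eq_iff, hw, inv_mul_cancel_left]; exact ho
    rw [hww] at e5 e7 e9 e10
    -- `g`
    rw [mkQ_inv, mkQ_mul, mkQ_mul, mkQ_mul, mkQ_eq_iff] at e7
    obtain ⟨g, hg, hgv, -⟩ := conj g1 hg1 (v * w) (by
      calc v * w * (v * w) = v * (w * v) * w := by group
        _ = v * (v * w) * w := by rw [p2]
        _ = (v * v) * (w * w) := by group
        _ = 1 := by rw [hvv, p1, one_mul]) e7
    -- `k`
    obtain ⟨o2, ho2, hc2⟩ := Lifting.exists_commute hodd hv1 hvN (comm' _ e8)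
    have hk2X : k1 * o2 ∈ X := mul_mem hk1 (core_le X ho2)
    have hwu := pair_comm h hwX
    set k2 := k1 * o2 with hk2
    have hkk : mkQ u X k1 hnk = mkQ u X k2 (hXN hk2X) := by
      rw [mkQ_eq_iff, hk2, inv_mul_cancel_left]; exact ho2
    rw [hcz, hkk, mkQ_inv, mkQ_mul, mkQ_mul, mkQ_mul, mkQ_eq_iff] at e9
    have hk2i : k2⁻¹ * v = v * k2⁻¹ := by
      rw [inv_mul_eq_iff_eq_mul, ← mul_assoc, ← hc2, mul_inv_cancel_right]
    obtain ⟨o3, ho3, q1, q2⟩ := Lifting.exists_conj_commute hodd (v := v) (a := k2⁻¹ * w * k2) (b := w * u)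
      (n := 1) (m := 1) (by
        rw [pow_one, pow_two, show k2⁻¹ * w * k2 * (k2⁻¹ * w * k2) = k2⁻¹ * (w * w) * k2 by group, p1,
          mul_one, inv_mul_cancel]) (by
        rw [pow_one, pow_two]
        calc w * u * (w * u) = w * (u * w) * u := by group
          _ = w * (w * u) * u := by rw [hwu]
          _ = (w * w) * (u * u) := by group
          _ = 1 := by rw [p1, huu, one_mul])
      (le_normalizer_core X (mul_mem (mul_mem (inv_mem hk2X) hwX) hk2X))
      (by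
        calc k2⁻¹ * w * k2 * v = k2⁻¹ * w * (k2 * v) := by group
          _ = k2⁻¹ * w * (v * k2) := by rw [← hc2]
          _ = k2⁻¹ * (w * v) * k2 := by group
          _ = k2⁻¹ * (v * w) * k2 := by rw [p2]
          _ = (k2⁻¹ * v) * w * k2 := by group
          _ = (v * k2⁻¹) * w * k2 := by rw [hk2i]
          _ = v * (k2⁻¹ * w * k2) := by group)
      (by
        calc w * u * v = w * (u * v) := by group
          _ = w * (v * u) := by rw [hvu]
          _ = (w * v) * u := by group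
          _ = (v * w) * u := by rw [p2]
          _ = v * (w * u) := by group)
      e9
    refine ⟨w, hwX, g, hg, k2 * o3⁻¹, mul_mem hk2X (inv_mem (core_le X ho3)), p1, p2.symm, fun _ => e5,
      hgv, ?_, ?_, ?_⟩
    · have h1 : o3⁻¹ * v = v * o3⁻¹ := by
        rw [inv_mul_eq_iff_eq_mul, ← mul_assoc, q1, mul_inv_cancel_right]
      calc k2 * o3⁻¹ * v = k2 * (o3⁻¹ * v) := by group
        _ = (k2 * v) * o3⁻¹ := by rw [h1]; group
        _ = v * (k2 * o3⁻¹) := by rw [← hc2]; group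
    · rw [← q2]; group
    · intro h8
      have h9 := e10 h8
      set C1 := Subgroup.closure {x | x ∈ X ∧ x * v = v * x ∧ Odd (orderOf x)} with hC1
      have hCX : C1 ≤ X ⊓ centralizer ({v} : Set G) := by
        rw [hC1, Subgroup.closure_le]
        rintro x ⟨hx1, hx2, -⟩
        exact ⟨hx1, mem_centralizer_singleton_iff.mpr hx2⟩
      -- the image of `C1` contains the closure
      have h10 : Subgroup.closure {x | x ∈ S.L ∧ x * mkQ u X v hv = mkQ u X v hv * x ∧ x ^ 3 = 1} ≤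
          (C1.subgroupOf (NX u X)).map (QuotientGroup.mk' ((core X).subgroupOf (NX u X))) := by
        rw [Subgroup.closure_le]
        rintro y ⟨hy1, hy2, hy3⟩
        obtain ⟨y1, hy1X, hny, rfl⟩ := lift _ hy1
        rw [mkQ_mul, mkQ_mul, mkQ_eq_iff] at hy2
        obtain ⟨o4, ho4, hc4⟩ := Lifting.exists_commute hodd hv1 hvN (comm' _ hy2)
        have hy4X : y1 * o4 ∈ X := mul_mem hy1X (core_le X ho4)
        have hyy : mkQ u X y1 hny = mkQ u X (y1 * o4) (hXN hy4X) := by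
          rw [mkQ_eq_iff, inv_mul_cancel_left]; exact ho4
        rw [hyy] at hy3 ⊢
        have h11 : (y1 * o4) ^ 3 ∈ core X := by
          rw [pow_succ, pow_two, mkQ_mul, mkQ_mul, mkQ_eq_one_iff] at hy3
          rw [pow_succ, pow_two]; exact hy3
        have h12 : Odd (orderOf (y1 * o4)) := by
          have h13 : ((y1 * o4) ^ 3) ^ Nat.card (core X) = 1 := by
            have := pow_card_eq_one' (x := (⟨(y1 * o4) ^ 3, h11⟩ : ↥(core X)))
            exact congrArg Subtype.val this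
          rw [← pow_mul] at h13
          exact Odd.of_dvd_nat ((by decide : Odd 3).mul hodd) (orderOf_dvd_of_pow_eq_one h13)
        exact ⟨⟨y1 * o4, hXN hy4X⟩, Subgroup.subset_closure ⟨hy4X, hc4.symm, h12⟩, rfl⟩
      obtain ⟨⟨c, hcN⟩, hc, hcw⟩ := h10 h9
      have hc1 : c ∈ C1 := hc
      have hcw' : c⁻¹ * w ∈ core X := (mkQ_eq_iff hcN (hXN hwX)).mp hcw
      have hcv := (hCX hc1).2
      have h14 : c⁻¹ * w ∈ C1 := by
        apply Subgroup.subset_closure
        refine ⟨core_le X hcw', ?_, ?_⟩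
        · rw [← mem_centralizer_singleton_iff]
          exact mul_mem (inv_mem hcv) (mem_centralizer_singleton_iff.mpr p2.symm)
        · exact Odd.of_dvd_nat hodd (Subgroup.orderOf_dvd_natCard _ hcw')
      have := mul_mem hc1 h14
      rwa [mul_inv_cancel_left] at this

/-! ### (3.D) -/

section D

variable {z : G} {L : Subgroup G} {X' : Subgroup G}

omit [Finite G] in
theorem Fixes_mul {a b : G} {K : Subgroup G} (ha : Fixes a K) (hb : Fixes b K) : Fixes (a * b) K := by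
  rw [fixes_iff_conj] at *
  refine ⟨mul_mem ha.1 hb.1, fun y hy => ?_⟩
  have hy' : b * y * b⁻¹ ∈ K := (mem_normalizer_iff.mp hb.1 y).mp hy
  have h1 := ha.2 _ hy'
  have h2 := hb.2 _ hy
  have : y⁻¹ * (a * b * y * (a * b)⁻¹) =
      (y⁻¹ * (b * y * b⁻¹)) * ((b * y * b⁻¹)⁻¹ * (a * (b * y * b⁻¹) * a⁻¹)) := by group
  rw [this]
  exact mul_mem h2 h1

/-- **(3.D)** for a pair `(u, X)` and a conjugate `v` of type (1) with `n ≤ supp + 4`. -/
theorem typeOne (hp : IsPair n z L) (hn : 8 ≤ n) (hX : Om z L u X) (hX' : Om z L v X')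
    (huv : u * v = v * u) (hv : v ∈ normalizer (X : Set G)) (hnf : ¬ Fixes v X)
    {S : QAct (QX u X) n (mkQ u X u (le_NX (hX.pair hp) (hX.pair hp).mem))} (hS : IsAct (hX.pair hp) S)
    (h4 : n ≤ (S.φ (mkQ u X v (mem_NX.mpr ⟨hv, huv.symm⟩))).support.card + 4)
    (hP : ∀ u v : G, ∀ X Y : Subgroup G, Om z L u X → Om z L v Y → u * v = v * u →
      v ∈ normalizer (X : Set G) → ¬ Fixes v X → ∃ k ∈ X, k⁻¹ * v * k = v * u) :
    ∃ w ∈ X, w * w = 1 ∧ w * v = v * w ∧ (∃ g, g * z * g⁻¹ = v * w) ∧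
      (∀ Y, Om z L v Y → ¬ Fixes (v * w) Y) ∧
      ((∃ Y, Om z L v Y ∧ v * w ∈ normalizer (Y : Set G)) →
        (∃ g, g * z * g⁻¹ = w) ∧ ∀ Y₁ Y₂, Om z L u Y₁ → Om z L u Y₂ → Y₁ = Y₂) ∧
      (∀ hw : w ∈ NX u X, (S.φ (mkQ u X w hw)).support.card = 8) ∧
      (8 ≤ (S.φ (mkQ u X v (mem_NX.mpr ⟨hv, huv.symm⟩))).support.card →
          w ∈ Subgroup.closure {x | x ∈ X ∧ x * v = v * x ∧ Odd (orderOf x)}) := by
  have hu := hX.pair hp
  have hv' := hX'.pair hp
  obtain ⟨-, -, w, hw, g, hg, k, hk, w1, w2, w3, w4, w5, w6, w7⟩ :=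
    elements hu hn hS (mem_NX.mpr ⟨hv, huv.symm⟩) hv'.sq h4
  have hwu := pair_comm hu hw
  -- `vw` is a conjugate
  have hvw : Om z L (v * w) (cj g⁻¹ X') := by
    have := hX'.cj g⁻¹
    rwa [inv_inv, w4] at this
  have hvwv : v * (v * w) = (v * w) * v := by
    rw [mul_assoc v w v, w2]
  have hno : ∀ Y, Om z L v Y → ¬ Fixes (v * w) Y := by
    intro Y hY hf
    -- conjugate by `k`
    have hk' : k⁻¹ * v = v * k⁻¹ := by
      rw [inv_mul_eq_iff_eq_mul, ← mul_assoc, w5, mul_inv_cancel_right]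
    have h1 : Fixes (v * w * u) (cj k⁻¹ Y) := by
      have := hf.cj k⁻¹
      have e : k⁻¹ * (v * w) * (k⁻¹)⁻¹ = v * w * u := by
        rw [inv_inv]
        calc k⁻¹ * (v * w) * k = (k⁻¹ * v) * w * k := by group
          _ = v * (k⁻¹ * w * k) := by rw [hk']; group
          _ = v * w * u := by rw [w6]; group
      rwa [e] at this
    have hYk : Om z L v (cj k⁻¹ Y) := hY.cj_of_comm hk'
    -- so `vw` and `vwu` both fix every `X'`
    have hvwu : Om z L (v * w * u) (cj k⁻¹ (cj g⁻¹ X')) := by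
      have := hvw.cj k⁻¹
      have e : k⁻¹ * (v * w) * (k⁻¹)⁻¹ = v * w * u := by
        rw [inv_inv]
        calc k⁻¹ * (v * w) * k = (k⁻¹ * v) * w * k := by group
          _ = v * (k⁻¹ * w * k) := by rw [hk']; group
          _ = v * w * u := by rw [w6]; group
      rwa [e] at this
    have hc2 : v * (v * w * u) = (v * w * u) * v := by
      calc v * (v * w * u) = (v * (v * w)) * u := by group
        _ = v * w * (v * u) := by rw [hvwv]; group
        _ = v * w * (u * v) := by rw [huv]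
        _ = v * w * u * v := by group
    have h2 : Fixes v (cj g⁻¹ X') := typeZero_symm hp hY hvw hvwv hf
    have h3 : Fixes (v * w) X' := typeZero_symm hp hvw hX' hvwv.symm h2
    have h4 : Fixes v (cj k⁻¹ (cj g⁻¹ X')) := typeZero_symm hp hYk hvwu hc2 h1
    have h5 : Fixes (v * w * u) X' := typeZero_symm hp hvwu hX' hc2.symm h4
    have h6 : Fixes u X' := by
      have h7 := Fixes_mul h3 h5
      have e : v * w * (v * w * u) = u := by
        calc v * w * (v * w * u) = v * (w * v) * w * u := by group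
          _ = v * (v * w) * w * u := by rw [w2]
          _ = (v * v) * (w * w) * u := by group
          _ = u := by rw [hv'.sq, w1, one_mul, one_mul]
      rwa [e] at h7
    exact hnf (typeZero_symm hp hX' hX huv.symm h6)
  refine ⟨w, hw, w1, w2, ?_, hno, ?_, w3, w7⟩
  · obtain ⟨g0, h0, -⟩ := hvw
    exact ⟨g0, h0⟩
  · rintro ⟨Y, hY, hYn⟩
    -- `(v, vw, Y)` is of type (1), so `w = v * vw` is a conjugate
    obtain ⟨k', hk', hk2⟩ := hP v (v * w) Y _ hY hvw hvwv hYn (hno Y hY)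
    have e : v * w * v = w := by
      rw [mul_assoc, w2, ← mul_assoc, hv'.sq, one_mul]
    rw [e] at hk2
    have hwD : Om z L w (cj k'⁻¹ (cj g⁻¹ X')) := by
      have := hvw.cj k'⁻¹
      rwa [inv_inv, hk2] at this
    have hwX : ¬ Fixes w X := by
      intro hf
      have h1 : (S.φ (mkQ u X w (le_NX hu hw))) = 1 := (hS.φ_one w _).mpr hf
      have h2 := w3 (le_NX hu hw)
      rw [h1, Perm.support_one, Finset.card_empty] at h2
      omega
    have key : ∀ Y₁, Om z L u Y₁ → Y₁ = X := by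
      intro Y₁ hY₁
      by_contra hne
      have h1 : Fixes w Y₁ := (hY₁.pair hp).comp.fixes_of_mem hu.comp hne hw
      have h2 := typeZero_symm hp hY₁ hwD hwu.symm h1
      exact hwX (typeZero_symm hp hwD hX hwu h2)
    refine ⟨?_, fun Y₁ Y₂ h1 h2 => (key Y₁ h1).trans (key Y₂ h2).symm⟩
    obtain ⟨g0, h0, -⟩ := hwD
    exact ⟨g0, h0⟩

end D

end Cfsg.Agent.Intrinsic.Types
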