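import Cfsg.Agent.Intrinsic.Types
import Cfsg.Agent.Intrinsic.TypeF
import Cfsg.Agent.Intrinsic.AnThree
import Cfsg.Agent.SignalizersComponents.IntrinsicLift

/-!
# S1738, (3.B): a conjugate of type (1) has at most four fixed points
-/

set_option autoImplicit false

open Cfsg Subgroup Equiv
open Cfsg.Agent.SignalizersComponents Cfsg.Agent.Lib
open Cfsg.Agent.SignalizersComponents.IntrinsicBasic
open Cfsg.Agent.SporRec.TwoAn
open Cfsg.Agent.Intrinsic.Basic Cfsg.Agent.Intrinsic.Cen Cfsg.Agent.Intrinsic.Quot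
open Cfsg.Agent.Intrinsic.Bridge Cfsg.Agent.Intrinsic.TypesDef Cfsg.Agent.Intrinsic.Types

namespace Cfsg.Agent.Intrinsic.TypesB

section cover

variable {α : Type*} [Fintype α] [DecidableEq α] {C : Type*} [Group C] (K : Cover α C)

include K in
theorem perfect_of_Cover (h5 : 5 ≤ Fintype.card α) : Group.IsPerfect C := by
  have hz : K.z ∈ commutator C := K.z_mem_commutator (by omega)
  refine ⟨eq_top_iff.mpr fun x _ => ?_⟩
  have h1 : K.π x ∈ ((commutator C).map K.π) := by
    rw [commutator_def, Subgroup.map_commutator, ← MonoidHom.range_eq_map, K.range_eq,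
      commutator_alternatingGroup_eq_self]
    · exact K.mem_alternating x
    · rwa [Nat.card_eq_fintype_card]
  obtain ⟨c, hc, hcx⟩ := h1
  rcases K.lift_eq hcx.symm with h3 | h3
  · rw [h3]; exact hc
  · rw [h3]; exact mul_mem hc hz

include K in
theorem quasisimple_of_Cover (h5 : 5 ≤ Fintype.card α) : IsQuasisimple C := by
  refine ⟨perfect_of_Cover K h5, ?_⟩
  have hker : center C = K.π.ker := by
    ext x
    rw [MonoidHom.mem_ker, K.ker, K.mem_center_iff (by omega)]
  have e : C ⧸ center C ≃* ↥(alternatingGroup α) :=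
    (QuotientGroup.quotientMulEquivOfEq hker).trans
      ((QuotientGroup.quotientKerEquivRange K.π).trans (MulEquiv.subgroupCongr K.range_eq))
  have : IsSimpleGroup ↥(alternatingGroup α) :=
    alternatingGroup.isSimpleGroup (by rwa [Nat.card_eq_fintype_card])
  exact e.isSimpleGroup

end cover

/-! ### the subgroup of elements of `L` supported on the fixed points of `v` -/

section J0

variable {H : Type*} [Group H] {n : ℕ} {z : H} (S : QAct H n z) (v : H)

/-- the elements of `L` moving only fixed points of `v` -/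
def J0 : Subgroup H := (S.cov.sub (fun i => S.φ v i = i)).map S.L.subtype

theorem mem_J0 {x : H} : x ∈ J0 S v ↔ x ∈ S.L ∧ ∀ i, S.φ v i ≠ i → S.φ x i = i := by
  constructor
  · rintro ⟨y, hy, rfl⟩
    refine ⟨y.2, fun i hi => ?_⟩
    rw [show S.φ (S.L.subtype y) = S.cov.π y from S.φ_L y]
    exact hy i hi
  · rintro ⟨hx, h⟩
    refine ⟨⟨x, hx⟩, fun i hi => ?_, rfl⟩
    rw [← S.φ_L]
    exact h i hi

/-- `J0` and the restricted cover -/
noncomputable def equivJ0 : ↥(S.cov.sub (fun i => S.φ v i = i)) ≃* ↥(J0 S v) :=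
  (S.cov.sub (fun i => S.φ v i = i)).equivMapOfInjective S.L.subtype S.L.subtype_injective

theorem card_fixed (h : (S.φ v).support.card + 5 ≤ n) :
    5 ≤ Fintype.card {i // S.φ v i = i} := by
  have h1 : Fintype.card {i // S.φ v i = i} + (S.φ v).support.card = n := by
    have h2 := Fintype.card_subtype_compl (fun i => S.φ v i = i)
    have h3 : Fintype.card {i // ¬ S.φ v i = i} = (S.φ v).support.card := by
      rw [Fintype.card_subtype]
      congr 1
    have h4 : Fintype.card {i // S.φ v i = i} ≤ Fintype.card (Fin n) := Fintype.card_subtype_le _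
    rw [h3, Fintype.card_fin] at h2
    rw [Fintype.card_fin] at h4
    omega
  omega

theorem z_mem_J0 : z ∈ J0 S v := by
  rw [mem_J0]
  exact ⟨S.z_mem, fun i _ => by rw [S.φ_z]; rfl⟩

theorem quasisimple_J0 (h : (S.φ v).support.card + 5 ≤ n) : IsQuasisimple ↥(J0 S v) :=
  PLayerAut.isQuasisimple_of_equiv (equivJ0 S v)
    (quasisimple_of_Cover (S.cov.restrict (fun i => S.φ v i = i)) (card_fixed S v h))

/-- `v` centralizes `J0` -/
theorem comm_J0 (h : (S.φ v).support.card + 5 ≤ n) (hvv : v * v = 1) {x : H} (hx : x ∈ J0 S v) :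
    v * x = x * v := by
  have hperf : Group.IsPerfect ↥(J0 S v) := (quasisimple_J0 S v h).1
  have hσ : ∀ i, S.φ v (S.φ v i) = i := fun i => by
    rw [← Perm.mul_apply, ← map_mul, hvv, map_one, Perm.one_apply]
  have hφ : ∀ y ∈ J0 S v, S.φ (v * y * v⁻¹) = S.φ y := by
    intro y hy
    obtain ⟨-, hy2⟩ := (mem_J0 S v).mp hy
    have hyi : ∀ i, S.φ v (S.φ y i) = S.φ y (S.φ v i) := by
      intro i
      by_cases hi : S.φ v i = i
      · rw [hi]
        by_contra hc
        have h3 := hy2 _ hc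
        have h4 := (S.φ y).injective h3
        rw [h4] at hc
        exact hc hi
      · rw [hy2 i hi, hy2 (S.φ v i) (by
          intro h5
          exact hi ((S.φ v).injective h5))]
    ext i
    rw [map_mul, map_mul, map_inv, Perm.mul_apply, Perm.mul_apply, hyi, ← Perm.mul_apply (S.φ v),
      mul_inv_cancel, Perm.one_apply]
  have hmem : ∀ y ∈ J0 S v, v * y * v⁻¹ ∈ J0 S v := by
    intro y hy
    have h1 := (mem_J0 S v).mp hy
    rw [mem_J0]
    refine ⟨S.conj_mem h1.1 v, ?_⟩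
    rw [hφ y hy]
    exact h1.2
  refine StandardComponent.AltExists.comm_of_perfect (J0 S v) hperf v hmem ?_ x hx
  intro y hy w hw
  have hyL := ((mem_J0 S v).mp hy).1
  have hwL := ((mem_J0 S v).mp hw).1
  have h1 : v * y * v⁻¹ * y⁻¹ ∈ S.L := mul_mem (S.conj_mem hyL v) (inv_mem hyL)
  have h2 : S.φ (v * y * v⁻¹ * y⁻¹) = 1 := by
    rw [map_mul, hφ y hy, map_inv, mul_inv_cancel]
  rcases S.eq_of_mem_of_φ h1 h2 with h3 | h3
  · rw [h3, one_mul, mul_one]
  · rw [h3]; exact (S.L_comm hwL).symm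

/-- elements of `L` commuting with `v` normalize `J0` -/
theorem conj_J0 {y x : H} (hyv : y * v = v * y) (hx : x ∈ J0 S v) : y * x * y⁻¹ ∈ J0 S v := by
  obtain ⟨hx1, hx2⟩ := (mem_J0 S v).mp hx
  rw [mem_J0]
  refine ⟨S.conj_mem hx1 y, fun i hi => ?_⟩
  rw [map_mul, map_mul, Perm.mul_apply, Perm.mul_apply]
  have h1 : S.φ x (S.φ y⁻¹ i) = S.φ y⁻¹ i := by
    apply hx2
    intro h2
    apply hi
    have h3 : S.φ v i = S.φ y (S.φ v (S.φ y⁻¹ i)) := by
      rw [← Perm.mul_apply, ← map_mul, ← Perm.mul_apply, ← map_mul, hyv, mul_inv_cancel_right]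
    rw [h3, h2, ← Perm.mul_apply, ← map_mul, mul_inv_cancel, map_one, Perm.one_apply]
  rw [h1, ← Perm.mul_apply, ← map_mul, mul_inv_cancel, map_one, Perm.one_apply]

theorem isComponent_J0 (h : (S.φ v).support.card + 5 ≤ n) (hvv : v * v = 1) :
    J0 S v ≤ S.L ⊓ centralizer ({v} : Set H) ∧
      IsComponent ((J0 S v).subgroupOf (S.L ⊓ centralizer ({v} : Set H))) := by
  have hle : J0 S v ≤ S.L ⊓ centralizer ({v} : Set H) := by
    intro x hx
    refine ⟨((mem_J0 S v).mp hx).1, mem_centralizer_singleton_iff.mpr (comm_J0 S v h hvv hx).symm⟩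
  refine ⟨hle, ?_, ?_⟩
  · have : ((J0 S v).subgroupOf (S.L ⊓ centralizer ({v} : Set H))).Normal := by
      constructor
      intro x hx y
      exact conj_J0 S v (mem_centralizer_singleton_iff.mp y.2.2) hx
    exact this.isSubnormal
  · exact PLayerAut.isQuasisimple_of_equiv (subgroupOfEquivOfLe hle).symm (quasisimple_J0 S v h)

end J0

/-! ### the 2-component of `C_X(v)` over it -/

section lift

variable {G : Type*} [Group G] [Finite G] {n : ℕ} {u v : G} {X : Subgroup G}

theorem exists_J (h : IsPair n u X) {S : QAct (QX u X) n (mkQ u X u (le_NX h h.mem))}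
    (hS : IsAct h S) (hv : v ∈ NX u X) (hvv : v * v = 1)
    (h5 : (S.φ (mkQ u X v hv)).support.card + 5 ≤ n) :
    ∃ J, IsComp (X ⊓ centralizer ({v} : Set G)) J ∧ u ∈ J := by
  have hXN := le_NX h
  have hodd := odd_card_core X
  have hvb : mkQ u X v hv * mkQ u X v hv = 1 := by
    rw [mkQ_mul, mkQ_eq_one_iff, hvv]; exact one_mem _
  obtain ⟨hle, hcomp⟩ := isComponent_J0 S (mkQ u X v hv) h5 hvb
  let f : ↥(X ⊓ centralizer ({v} : Set G)) →*
      ↥(S.L ⊓ centralizer ({mkQ u X v hv} : Set (QX u X))) :=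
    { toFun := fun m => ⟨mkQ u X m (hXN m.2.1), (hS.mem_L _ _).mpr m.2.1,
        mem_centralizer_singleton_iff.mpr (by
          rw [mkQ_mul, mkQ_mul, mkQ_eq_iff, mem_centralizer_singleton_iff.mp m.2.2, inv_mul_cancel]
          exact one_mem _)⟩
      map_one' := rfl
      map_mul' := fun _ _ => rfl }
  have hf : Function.Surjective f := by
    rintro ⟨y, hy1, hy2⟩
    obtain ⟨a, ha, rfl⟩ := exists_mkQ (x := y)
    have haX := (hS.mem_L a ha).mp hy1
    have hy2 := mem_centralizer_singleton_iff.mp hy2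
    rw [mkQ_mul, mkQ_mul, mkQ_eq_iff] at hy2
    obtain ⟨o, ho, hc⟩ := Lifting.exists_commute hodd (v := v) (m := a) (n := 1)
      (by rw [pow_one, pow_two, hvv]) (NX_le_normalizer_core hv) (by
        have h1 := conj_mem_core (x := v) (mem_NX.mp hv).1 hy2
        convert h1 using 1
        group)
    refine ⟨⟨a * o, mul_mem haX (core_le X ho), mem_centralizer_singleton_iff.mpr hc.symm⟩, ?_⟩
    apply Subtype.ext
    change mkQ u X (a * o) _ = mkQ u X a ha
    rw [mkQ_eq_iff]
    have : (a * o)⁻¹ * a = o⁻¹ := by group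
    rw [this]; exact inv_mem ho
  have hker : Odd (Nat.card f.ker) := by
    have h1 : f.ker.map (X ⊓ centralizer ({v} : Set G)).subtype ≤ core X := by
      rintro _ ⟨m, hm, rfl⟩
      have h2 := congrArg Subtype.val (MonoidHom.mem_ker.mp hm)
      exact (mkQ_eq_one_iff (hXN m.2.1)).mp h2
    have h2 := Subgroup.card_dvd_of_le h1
    rw [Subgroup.card_map_of_injective (subtype_injective _)] at h2
    exact Odd.of_dvd_nat hodd h2
  have h2 : 2 ∣ Nat.card ((J0 S (mkQ u X v hv)).subgroupOf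
      (S.L ⊓ centralizer ({mkQ u X v hv} : Set (QX u X)))) := by
    rw [Nat.card_congr (subgroupOfEquivOfLe hle).toEquiv]
    have h3 := orderOf_dvd_natCard (⟨_, z_mem_J0 S (mkQ u X v hv)⟩ : ↥(J0 S (mkQ u X v hv)))
    rw [Subgroup.orderOf_mk, S.orderOf_z] at h3
    exact h3
  obtain ⟨h6, h7⟩ := IntrinsicLift.lift_component f hf hker hcomp h2
  refine ⟨_, isComp_of_subtype h6, ⟨⟨u, h.mem, ?_⟩, ?_, rfl⟩⟩
  · exact mem_centralizer_singleton_iff.mpr (mem_NX.mp hv).2.symm
  · apply PComponents.mem_pElem (n := 1)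
    · exact z_mem_J0 S (mkQ u X v hv)
    · apply Subtype.ext
      change u ^ 2 ^ 1 = 1
      rw [pow_one, pow_two, h.sq]

omit [Finite G] in
theorem fixes_of_center {Y : Subgroup G} {a : G} (ha : a ∈ Y)
    (h : (QuotientGroup.mk ⟨a, ha⟩ : ↥Y ⧸ oddCore ↥Y) ∈ center (↥Y ⧸ oddCore ↥Y)) : Fixes a Y := by
  rw [fixes_iff_conj]
  refine ⟨le_normalizer ha, fun y hy => ?_⟩
  have h1 := mem_center_iff.mp h (QuotientGroup.mk ⟨y, hy⟩)
  have h2 : (QuotientGroup.mk ⟨y * a, mul_mem hy ha⟩ : ↥Y ⧸ oddCore ↥Y) =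
      QuotientGroup.mk ⟨a * y, mul_mem ha hy⟩ := h1
  rw [mk_eq_mk_iff'] at h2
  have h3 := conj_mem_core (x := a) (le_normalizer ha) h2
  convert h3 using 1
  group

/-- **(3.B)** a conjugate of type (1) has at most four fixed points. -/
theorem bound {z : G} {L X' : Subgroup G} (hp : IsPair n z L) (hn : 8 ≤ n) (hX : Om z L u X)
    (hX' : Om z L v X') (huv : u * v = v * u) (hv : v ∈ normalizer (X : Set G))
    (hnf : ¬ Fixes v X)
    {S : QAct (QX u X) n (mkQ u X u (le_NX (hX.pair hp) (hX.pair hp).mem))} (hS : IsAct (hX.pair hp) S) :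
    n ≤ (S.φ (mkQ u X v (mem_NX.mpr ⟨hv, huv.symm⟩))).support.card + 4 := by
  by_contra hcon
  have hu := hX.pair hp
  have hv' := hX'.pair hp
  obtain ⟨J, hJ, huJ⟩ := exists_J hu hS (mem_NX.mpr ⟨hv, huv.symm⟩) hv'.sq (by omega)
  have hJ2 : IsComp (centralizer ({v} : Set G) ⊓ centralizer ({u} : Set G)) J := by
    refine hJ.extend ?_ (TypeF.subnormal_inf hu.comp inf_le_right inf_le_left)
    rw [inf_comm]
    exact inf_le_inf_left _ hu.comp.le
  obtain ⟨M, hM, hle⟩ := exists_pumpup hu.sq huJ hJ2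
  by_cases hMX : X' = M
  · subst hMX
    have huX' := hle huJ
    have h1 := isComp_inf hJ2 hM hle
    have h2 := PumpUp.tc_image huX' hu.sq h1.tc
    have h3 : (QuotientGroup.mk ⟨u, huX'⟩ : ↥X' ⧸ oddCore ↥X') ∈
        (J.subgroupOf X').map (QuotientGroup.mk' (oddCore ↥X')) := ⟨⟨u, huX'⟩, huJ, rfl⟩
    obtain ⟨π, z0, hcov, hcen⟩ := SporadicRecognition.AltCover.exists_isCover hv'.cover
    have hz0 : (ofIsCover (by omega : 5 ≤ n) hcov).z = z0 := rfl
    refine AnThree.not_mem (ofIsCover (by omega : 5 ≤ n) hcov) (x := QuotientGroup.mk ⟨u, huX'⟩)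
      ?_ ?_ ?_ (IsComp.of_tc h2) h3
    · change (QuotientGroup.mk ⟨u * u, mul_mem huX' huX'⟩ : ↥X' ⧸ oddCore ↥X') = 1
      rw [mk_eq_one_iff, hu.sq]; exact one_mem _
    · rw [Ne, mk_eq_one_iff]
      intro h4
      exact hu.ne_one (eq_one_of_mem_core_sq h4 hu.sq)
    · rw [hz0]
      intro h4
      have h5 : z0 ∈ center (↥X' ⧸ oddCore ↥X') := (hcen _).mpr (Or.inr rfl)
      rw [← h4] at h5
      exact hnf (typeZero_symm hp hX' hX huv.symm (fixes_of_center huX' h5))
  · exact hnf (typeZero_symm hp hX' hX huv.symm (hv'.comp.fixes_of_mem hM hMX (hle huJ)))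

end lift

end Cfsg.Agent.Intrinsic.TypesB
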