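import Cfsg.Agent.Intrinsic.TypesB

/-!
# S1738, section 3: the inputs for (3.F), (3.G) and for world one
-/

set_option autoImplicit false

open Cfsg Subgroup Equiv
open Cfsg.Agent.SignalizersComponents
open Cfsg.Agent.SignalizersComponents.IntrinsicBasic
open Cfsg.Agent.SporRec.TwoAn
open Cfsg.Agent.Intrinsic.Basic Cfsg.Agent.Intrinsic.Cen Cfsg.Agent.Intrinsic.Quot
open Cfsg.Agent.Intrinsic.Bridge Cfsg.Agent.Intrinsic.TypesDef Cfsg.Agent.Intrinsic.Types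

namespace Cfsg.Agent.Intrinsic.TypesC

variable {G : Type*} [Group G] [Finite G] {n : ℕ} {z u v : G} {L X X' : Subgroup G}

/-- (P) -/
theorem swap_of (hp : IsPair n z L) (hn : 8 ≤ n) (hX : Om z L u X) (hX' : Om z L v X')
    (huv : u * v = v * u) (hv : v ∈ normalizer (X : Set G)) (hnf : ¬ Fixes v X) :
    ∃ k ∈ X, k⁻¹ * v * k = v * u := by
  obtain ⟨S, hS⟩ := exists_isAct (hX.pair hp) (by omega)
  exact (elements (hX.pair hp) hn hS (mem_NX.mpr ⟨hv, huv.symm⟩) (hX'.pair hp).sq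
    (TypesB.bound hp hn hX hX' huv hv hnf hS)).1

/-- (3.C), the square root -/
theorem hasSqrt (hp : IsPair n z L) (hn : 8 ≤ n) : TypeF.HasSqrt z L := by
  intro u v X X' _ huv hX hX' hv hnf
  obtain ⟨S, hS⟩ := exists_isAct (hX.pair hp) (by omega)
  exact (elements (hX.pair hp) hn hS (mem_NX.mpr ⟨hv, huv.symm⟩) (hX'.pair hp).sq
    (TypesB.bound hp hn hX hX' huv hv hnf hS)).2.1

/-- `X / O(X)` and the group `L` of the action record -/
noncomputable def equivL (h : IsPair n u X) {S : QAct (QX u X) n (mkQ u X u (le_NX h h.mem))}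
    (hS : IsAct h S) : (↥X ⧸ oddCore ↥X) ≃* ↥S.L := by
  let f : ↥X →* ↥S.L :=
    { toFun := fun x => ⟨mkQ u X x (le_NX h x.2), (hS.mem_L _ _).mpr x.2⟩
      map_one' := rfl
      map_mul' := fun _ _ => rfl }
  have hf : Function.Surjective f := by
    rintro ⟨y, hy⟩
    obtain ⟨a, ha, rfl⟩ := exists_mkQ (x := y)
    exact ⟨⟨a, (hS.mem_L a ha).mp hy⟩, rfl⟩
  have hk : oddCore ↥X = f.ker := by
    ext x
    rw [MonoidHom.mem_ker, Subtype.ext_iff]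
    change x ∈ oddCore ↥X ↔ mkQ u X x (le_NX h x.2) = 1
    rw [mkQ_eq_one_iff, mem_core_iff x.2]
  exact (QuotientGroup.quotientMulEquivOfEq hk).trans
    (QuotientGroup.quotientKerEquivOfSurjective f hf)

omit [Finite G] in
theorem equivL_mk (h : IsPair n u X) {S : QAct (QX u X) n (mkQ u X u (le_NX h h.mem))}
    (hS : IsAct h S) {a : G} (ha : a ∈ X) :
    ((equivL h hS (QuotientGroup.mk ⟨a, ha⟩) : ↥S.L) : QX u X) = mkQ u X a (le_NX h ha) := rfl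

omit [Finite G] in
theorem om_unique {w : G} (hX : Om z L u X)
    (h : ∀ Y₁ Y₂, Om z L u Y₁ → Om z L u Y₂ → Y₁ = Y₂) (hw : Om z L w X') {Y₁ Y₂ : Subgroup G}
    (h₁ : Om z L w Y₁) (h₂ : Om z L w Y₂) : Y₁ = Y₂ := by
  obtain ⟨g, rfl, rfl⟩ := hX
  obtain ⟨k, rfl, rfl⟩ := hw
  have e : g * k⁻¹ * (k * z * k⁻¹) * (g * k⁻¹)⁻¹ = g * z * g⁻¹ := by group
  have a1 := h₁.cj (g * k⁻¹)
  have a2 := h₂.cj (g * k⁻¹)
  rw [e] at a1 a2
  exact cj_injective _ (h _ _ a1 a2)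

/-- **(3.D)** in the form used for (3.G). -/
theorem typeD (hp : IsPair n z L) (hn : 8 ≤ n) : ∀ u v X X', u ≠ v → u * v = v * u →
    Om z L u X → Om z L v X' → v ∈ normalizer (X : Set G) → ¬ Fixes v X →
    ∃ w ∈ X, ((∃ Y, Om z L v Y ∧ v * w ∈ normalizer (Y : Set G)) →
        ∀ Y₁ Y₂, Om z L z Y₁ → Om z L z Y₂ → Y₁ = Y₂) ∧
      (∀ a (ha : a ∈ X), Fixes (a⁻¹ * v) X →
        (∀ K : Cover (Fin n) (↥X ⧸ oddCore ↥X), (K.π (QuotientGroup.mk ⟨a, ha⟩)).support.card = 8) →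
        w ∈ Subgroup.closure {y | y ∈ X ∧ y * v = v * y ∧ Odd (orderOf y)}) := by
  intro u v X X' _ huv hX hX' hv hnf
  have hu := hX.pair hp
  have hvN : v ∈ NX u X := mem_NX.mpr ⟨hv, huv.symm⟩
  obtain ⟨S, hS⟩ := exists_isAct hu (by omega)
  obtain ⟨w, hw, w1, w2, w3, w4, w5, w6, w7⟩ := typeOne hp hn hX hX' huv hv hnf hS
    (TypesB.bound hp hn hX hX' huv hv hnf hS)
    (fun u v X Y hX hY huv hv hnf => swap_of hp hn hX hY huv hv hnf)
  refine ⟨w, hw, fun h Y₁ Y₂ h₁ h₂ => om_unique hX (w5 h).2 (Om.refl z L) h₁ h₂, ?_⟩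
  intro a ha hf hK
  apply w7
  have h1 : S.φ (mkQ u X (a⁻¹ * v) (mul_mem (inv_mem (le_NX hu ha)) hvN)) = 1 :=
    (hS.φ_one _ _).mpr hf
  have h2 : S.φ (mkQ u X v hvN) = S.φ (mkQ u X a (le_NX hu ha)) := by
    have e : mkQ u X v hvN = mkQ u X a (le_NX hu ha) *
        mkQ u X (a⁻¹ * v) (mul_mem (inv_mem (le_NX hu ha)) hvN) := by
      rw [mkQ_mul, mkQ_eq_iff]
      have : v⁻¹ * (a * (a⁻¹ * v)) = 1 := by group
      rw [this]; exact one_mem _
    rw [e, map_mul, h1, mul_one]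
  have h3 := hK (S.cov.map (equivL hu hS).symm)
  have h4 : (S.cov.map (equivL hu hS).symm).π (QuotientGroup.mk ⟨a, ha⟩) =
      S.φ (mkQ u X a (le_NX hu ha)) := by
    have h5 : (S.cov.map (equivL hu hS).symm).π (QuotientGroup.mk ⟨a, ha⟩) =
        S.cov.π (equivL hu hS (QuotientGroup.mk ⟨a, ha⟩)) := rfl
    rw [h5, ← S.φ_L, equivL_mk]
  rw [h4] at h3
  rw [h2, h3]

end Cfsg.Agent.Intrinsic.TypesC
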