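import Cfsg.Agent.Intrinsic.Quot
import Cfsg.Agent.Intrinsic.Bridge

/-!
# S1738, section 3: conjugate pairs, (3.A)

`Om z L u X`: the pair `(u, X)` is conjugate to `(z, L)`.
`World n z L`: the induction setting.
-/

set_option autoImplicit false

open Cfsg Subgroup Equiv
open Cfsg.Agent.SignalizersComponents
open Cfsg.Agent.SignalizersComponents.IntrinsicBasic
open Cfsg.Agent.Intrinsic.Basic Cfsg.Agent.Intrinsic.Cen Cfsg.Agent.Intrinsic.Quot

namespace Cfsg.Agent.Intrinsic.TypesDef

/-- the pairs conjugate to `(z, L)` -/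
def Om {G : Type*} [Group G] (z : G) (L : Subgroup G) (u : G) (X : Subgroup G) : Prop :=
  ∃ g : G, g * z * g⁻¹ = u ∧ cj g L = X

/-- the setting of the induction -/
structure World.{u} {G : Type u} [Group G] (n : ℕ) (z : G) (L : Subgroup G) : Prop where
  pair : IsPair n z L
  le : 8 ≤ n
  ih : PQS.{u} (Nat.card G)
  cent : ∀ x : G, orderOf x = 2 → centralizer ({x} : Set G) ≠ ⊤

section

variable {G : Type*} [Group G] {n : ℕ} {z : G} {L : Subgroup G} {u v : G} {X X' : Subgroup G}

theorem Om.pair (h : Om z L u X) (hp : IsPair n z L) : IsPair n u X := by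
  obtain ⟨g, rfl, rfl⟩ := h
  exact hp.cj g

theorem Om.refl (z : G) (L : Subgroup G) : Om z L z L := ⟨1, by group, cj_one L⟩

theorem Om.cj (h : Om z L u X) (g : G) : Om z L (g * u * g⁻¹) (cj g X) := by
  obtain ⟨k, rfl, rfl⟩ := h
  exact ⟨g * k, by group, cj_mul g k L⟩

theorem Om.cj_of_comm (h : Om z L u X) {g : G} (hg : g * u = u * g) : Om z L u (IntrinsicBasic.cj g X) := by
  have := h.cj g
  rwa [hg, mul_inv_cancel_right] at this

/-- conjugate elements have pairs over them -/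
theorem exists_om {g : G} (h : Om z L u X) : ∃ Y, Om z L (g * u * g⁻¹) Y := ⟨_, h.cj g⟩

end

section

variable {G : Type*} [Group G] [Finite G] {n : ℕ} {z : G} {L : Subgroup G} {u v : G}
  {X X' : Subgroup G}

/-- `J ≤ X'` covers `X'/O(X')` as soon as `|J/O(J)| = |X'/O(X')|` -/
theorem sup_of_card {J Y : Subgroup G} (hJ : J ≤ Y)
    (hc : Nat.card (↥J ⧸ oddCore ↥J) = Nat.card (↥Y ⧸ oddCore ↥Y)) : J ⊔ core Y = Y := by
  let f : ↥J →* (↥Y ⧸ oddCore ↥Y) := (QuotientGroup.mk' (oddCore ↥Y)).comp (inclusion hJ)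
  have hk : f.ker ≤ oddCore ↥J := by
    intro x hx
    have h1 : (x : G) ∈ core Y := by
      rw [mem_core_iff (hJ x.2)]
      exact (QuotientGroup.eq_one_iff _).mp hx
    have h2 : J ⊓ core Y ≤ core J := by
      refine le_core inf_le_left ?_ (Odd.of_dvd_nat (odd_card_core Y) (card_dvd_of_le inf_le_right))
      intro j hj
      rw [mem_normalizer_iff_cj, cj_inf, cj_eq_self_of_mem hj,
        mem_normalizer_iff_cj.mp (le_normalizer_core Y (hJ hj))]
    exact (mem_core_iff x.2).mp (h2 ⟨x.2, h1⟩)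
  have h3 : Nat.card (↥J ⧸ oddCore ↥J) ≤ Nat.card f.range := by
    have e := QuotientGroup.quotientKerEquivRange f
    rw [← Nat.card_congr e.toEquiv]
    have h4 : (oddCore ↥J).index ∣ f.ker.index := Subgroup.index_dvd_of_le hk
    have h5 : f.ker.index ≠ 0 := Subgroup.index_ne_zero_of_finite
    exact Nat.le_of_dvd (Nat.pos_of_ne_zero h5) h4
  have h6 : f.range = ⊤ := by
    apply Subgroup.eq_top_of_le_card
    rw [← hc]; exact h3
  apply sup_of_exists hJ
  intro x hx
  have h7 : (QuotientGroup.mk ⟨x, hx⟩ : ↥Y ⧸ oddCore ↥Y) ∈ f.range := by rw [h6]; exact mem_top _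
  obtain ⟨j, hj⟩ := h7
  refine ⟨j, j.2, ?_⟩
  exact mk_eq_mk_iff.mp hj

theorem card_quot_eq {m : ℕ} {A B : Type*} [Group A] [Group B]
    (hA : IsNonsplitDoubleCover A ↥(alternatingGroup (Fin m)))
    (hB : IsNonsplitDoubleCover B ↥(alternatingGroup (Fin m))) : Nat.card A = Nat.card B := by
  obtain ⟨a1, ⟨a2⟩, -⟩ := hA
  obtain ⟨b1, ⟨b2⟩, -⟩ := hB
  rw [Subgroup.card_eq_card_quotient_mul_card_subgroup (center A), Nat.card_congr a2.toEquiv, a1,
    Subgroup.card_eq_card_quotient_mul_card_subgroup (center B), Nat.card_congr b2.toEquiv, b1]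

/-- **(3.A)** -/
theorem typeZero_symm (hp : IsPair n z L) (hX : Om z L u X) (hX' : Om z L v X')
    (huv : u * v = v * u) (hf : Fixes v X) : Fixes u X' := by
  have h1 := hX.pair hp
  have h2 := hX'.pair hp
  obtain ⟨M, hM, hle, huM⟩ := exists_pump h1 h2.sq huv.symm hf
  by_cases hMX : X' = M
  · subst hMX
    have hvC : v ∈ centralizer ({u} : Set G) := mem_centralizer_singleton_iff.mpr huv.symm
    have hcov := (cover_cen h1.comp hvC h2.sq hf (C := ↥(alternatingGroup (Fin n)))).mpr h1.cover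
    have hs := sup_of_card hle (card_quot_eq hcov h2.cover)
    have hsm : Small (cen X v) X' := hs
    exact hsm.fixes (pair_mem_cen h1 huv.symm) fun x hx =>
      mem_centralizer_singleton_iff.mpr (pair_comm h1 (cen_le X v hx))
  · exact h2.comp.fixes_of_mem hM hMX huM

theorem typeZero_iff (hp : IsPair n z L) (hX : Om z L u X) (hX' : Om z L v X')
    (huv : u * v = v * u) : Fixes v X ↔ Fixes u X' :=
  ⟨typeZero_symm hp hX hX' huv, typeZero_symm hp hX' hX huv.symm⟩

end

end Cfsg.Agent.Intrinsic.TypesDef
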