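import Cfsg.Agent.Intrinsic.TypesC
import Cfsg.Agent.Intrinsic.TypeGTwo
import Cfsg.Agent.Intrinsic.AnTwelve
import Cfsg.Agent.Intrinsic.WOne.Base

/-!
# S1738, the end of section 3: world zero or world one
-/

set_option autoImplicit false

open Cfsg Subgroup Equiv
open Cfsg.Agent.SignalizersComponents
open Cfsg.Agent.SignalizersComponents.IntrinsicBasic
open Cfsg.Agent.SporRec.TwoAn
open Cfsg.Agent.Intrinsic.Basic Cfsg.Agent.Intrinsic.Cen Cfsg.Agent.Intrinsic.Quot
open Cfsg.Agent.Intrinsic.Bridge Cfsg.Agent.Intrinsic.TypesDef Cfsg.Agent.Intrinsic.Types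

namespace Cfsg.Agent.Intrinsic.TypesEnd

section

variable {G : Type*} [Group G] [Finite G] {n : ℕ} {z u v : G} {L X X' : Subgroup G}

/-- `C_X(v) → (N(X) ∩ C(u)) / O(X)` -/
def rho (h : IsPair n u X) (v : G) : ↥(X ⊓ centralizer ({v} : Set G)) →* QX u X where
  toFun m := mkQ u X m (le_NX h m.2.1)
  map_one' := rfl
  map_mul' _ _ := rfl

theorem odd_ker_rho (h : IsPair n u X) (v : G) : Odd (Nat.card (rho h v).ker) := by
  have h1 : (rho h v).ker.map (X ⊓ centralizer ({v} : Set G)).subtype ≤ core X := by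
    rintro _ ⟨m, hm, rfl⟩
    exact (mkQ_eq_one_iff (le_NX h m.2.1)).mp (MonoidHom.mem_ker.mp hm)
  have h2 := Subgroup.card_dvd_of_le h1
  rw [Subgroup.card_map_of_injective (subtype_injective _)] at h2
  exact Odd.of_dvd_nat (odd_card_core X) h2

theorem mem_range_rho (h : IsPair n u X) {S : QAct (QX u X) n (mkQ u X u (le_NX h h.mem))}
    (hS : IsAct h S) (hv : v ∈ NX u X) (hvv : v * v = 1) {y : QX u X} (hy : y ∈ S.L)
    (hyv : y * mkQ u X v hv = mkQ u X v hv * y) : y ∈ (rho h v).range := by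
  obtain ⟨a, ha, rfl⟩ := exists_mkQ (x := y)
  have haX := (hS.mem_L a ha).mp hy
  rw [mkQ_mul, mkQ_mul, mkQ_eq_iff] at hyv
  obtain ⟨o, ho, hc⟩ := Lifting.exists_commute (odd_card_core X) (v := v) (m := a) (n := 1)
    (by rw [pow_one, pow_two, hvv]) (NX_le_normalizer_core hv) (by
      have h1 := conj_mem_core (x := v) (mem_NX.mp hv).1 hyv
      convert h1 using 1
      group)
  refine ⟨⟨a * o, mul_mem haX (core_le X ho), mem_centralizer_singleton_iff.mpr hc.symm⟩, ?_⟩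
  change mkQ u X (a * o) _ = mkQ u X a ha
  rw [mkQ_eq_iff]
  have : (a * o)⁻¹ * a = o⁻¹ := by group
  rw [this]; exact inv_mem ho

/-- (A2) the exact quaternion group of (3.C) -/
theorem quat_of (hp : IsPair n z L) (hn : 8 ≤ n) (hX : Om z L u X) (hX' : Om z L v X')
    (huv : u * v = v * u) (hv : v ∈ normalizer (X : Set G)) (hnf : ¬ Fixes v X) :
    ∃ a ∈ X, ∃ b ∈ X, a * v = v * a ∧ b * v = v * b ∧ a * a = u ∧ b * b = u ∧ b * a = a * b * u := by
  have hu := hX.pair hp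
  have hvv := (hX'.pair hp).sq
  have hvN : v ∈ NX u X := mem_NX.mpr ⟨hv, huv.symm⟩
  obtain ⟨S, hS⟩ := exists_isAct hu (by omega)
  have h4 := TypesB.bound hp hn hX hX' huv hv hnf hS
  obtain ⟨-, -, ⟨a, ha, b, hb, hav, hbv, haa, hbb, hba⟩, -⟩ :=
    AnTypes.exists_elements S.cov S.φ (fun v x hx => S.conj_mem hx v) S.φ_L
      (by rw [Fintype.card_fin]; exact hn) (v := mkQ u X v hvN)
      (by rw [mkQ_mul, mkQ_eq_one_iff, hvv]; exact one_mem _) (by rw [Fintype.card_fin]; exact h4)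
  have hcz : (S.cov.z : QX u X) = mkQ u X u (le_NX hu hu.mem) := S.cov_z
  rw [hcz] at haa hbb hba
  have huC : u ∈ X ⊓ centralizer ({v} : Set G) :=
    ⟨hu.mem, mem_centralizer_singleton_iff.mpr huv⟩
  obtain ⟨a', b', -, -, e1, e2, e3⟩ := AnTwelve.exists_quat_lift (rho hu v) (odd_ker_rho hu v)
    (u := ⟨u, huC⟩) (Subtype.ext hu.sq) (fun y => Subtype.ext (pair_comm hu y.2.1))
    (by
      change mkQ u X u _ ≠ 1
      rw [Ne, mkQ_eq_one_iff]
      intro h
      exact hu.ne_one (eq_one_of_mem_core_sq h hu.sq))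
    (mem_range_rho hu hS hvN hvv ha hav) (mem_range_rho hu hS hvN hvv hb hbv) haa hbb hba
  exact ⟨a', a'.2.1, b', b'.2.1, mem_centralizer_singleton_iff.mp a'.2.2,
    mem_centralizer_singleton_iff.mp b'.2.2, congrArg Subtype.val e1, congrArg Subtype.val e2,
    congrArg Subtype.val e3⟩

end

section

variable {G : Type*} [Group G] [Finite G] {n : ℕ} {z u v : G} {L X X' : Subgroup G}

theorem normalizes (hW : World n z L) (hX : Om z L u X) (hX' : Om z L v X')
    (huv : u * v = v * u) : v ∈ normalizer (X : Set G) := by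
  by_cases hne : u = v
  · subst hne
    exact le_normalizer (hX.pair hW.pair).mem
  · exact mem_normalizer_iff_cj.mpr (TypeGTwo.no_type_two hW (TypesC.hasSqrt hW.pair hW.le)
      (TypesC.typeD hW.pair hW.le) hne huv hX hX')

/-- A pair of type (1): `Ω_u` has one element and `X` contains other members of the class. -/
theorem of_typeOne (hW : World n z L) (hX : Om z L u X) (hX' : Om z L v X')
    (huv : u * v = v * u) (hnf : ¬ Fixes v X) :
    (∀ Y₁ Y₂, Om z L u Y₁ → Om z L u Y₂ → Y₁ = Y₂) ∧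
      ∃ w ∈ X, w ≠ u ∧ (∃ g, g * z * g⁻¹ = w) ∧ ¬ Fixes w X ∧ n ≤ 12 := by
  have hp := hW.pair
  have hn := hW.le
  have hu := hX.pair hp
  obtain ⟨S, hS⟩ := exists_isAct hu (by omega)
  have hv := normalizes hW hX hX' huv
  obtain ⟨w, hw, w1, w2, ⟨g, hg⟩, w4, w5, w6, -⟩ := typeOne hp hn hX hX' huv hv hnf hS
    (TypesB.bound hp hn hX hX' huv hv hnf hS)
    (fun u v X Y hX hY huv hv hnf => TypesC.swap_of hp hn hX hY huv hv hnf)
  have hvw : Om z L (v * w) (cj g L) := ⟨g, hg, rfl⟩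
  have hvv := (hX'.pair hp).sq
  have h1 : v * w ∈ normalizer (X' : Set G) :=
    normalizes hW hX' hvw (by rw [mul_assoc v w v, w2])
  obtain ⟨⟨k, hk⟩, h2⟩ := w5 ⟨X', hX', h1⟩
  have hwf : ¬ Fixes w X := by
    intro hf
    have h3 : (S.φ (mkQ u X w (le_NX hu hw))) = 1 := (hS.φ_one w _).mpr hf
    have h4 := w6 (le_NX hu hw)
    rw [h3, Perm.support_one, Finset.card_empty] at h4
    omega
  have hwu : w ≠ u := by
    rintro rfl
    apply hwf
    rw [fixes_iff_conj]
    refine ⟨le_normalizer hw, fun y hy => ?_⟩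
    have h3 := pair_comm hu hy
    have : y⁻¹ * (w * y * w⁻¹) = 1 := by rw [← h3]; group
    rw [this]; exact one_mem _
  have hwX : Om z L w (cj k L) := ⟨k, hk, rfl⟩
  have hb := TypesB.bound hp hn hX hwX (pair_comm hu hw).symm (le_normalizer hw) hwf hS
  rw [w6] at hb
  exact ⟨h2, w, hw, hwu, ⟨k, hk⟩, hwf, hb⟩

end

/-! ### world one -/

section

variable {G : Type*} [Group G] [Finite G] {n : ℕ} {z : G} {L : Subgroup G}

/-- the class of `z` -/
def Dz (z : G) : Set G := {u | ∃ g, g * z * g⁻¹ = u}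

open Classical in
/-- the members of `Ω_u` -/
noncomputable def Lz (z : G) (L : Subgroup G) (u : G) : Subgroup G :=
  if h : ∃ Y, Om z L u Y then h.choose else ⊥

omit [Finite G] in
theorem om_Lz {u : G} (hu : u ∈ Dz z) : Om z L u (Lz z L u) := by
  obtain ⟨g, hg⟩ := hu
  have h : ∃ Y, Om z L u Y := ⟨_, g, hg, rfl⟩
  rw [Lz, dif_pos h]
  exact h.choose_spec

omit [Finite G] in
theorem mem_Dz {u : G} {X : Subgroup G} (h : Om z L u X) : u ∈ Dz z := by
  obtain ⟨g, hg, -⟩ := h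
  exact ⟨g, hg⟩

end

theorem exists_w1.{u} {G : Type u} [Group G] [Finite G] {n : ℕ} {z : G} {L : Subgroup G}
    (hW : World n z L)
    (h1 : ∃ u v X X', Om z L u X ∧ Om z L v X' ∧ u * v = v * u ∧ ¬ Fixes v X) :
    WOne.W1 n (Dz z) (Lz z L) ∧ Lz z L z = L := by
  obtain ⟨u, v, X, X', hX, hX', huv, hnf⟩ := h1
  have hp := hW.pair
  have hn := hW.le
  obtain ⟨h2, w, hw, hwu, ⟨k, hk⟩, hwf, hn12⟩ := of_typeOne hW hX hX' huv hnf
  have huniq : ∀ {x : G} {Y₁ Y₂ : Subgroup G}, Om z L x Y₁ → Om z L x Y₂ → Y₁ = Y₂ :=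
    fun a b => TypesC.om_unique hX h2 a a b
  have hLz : ∀ {x : G} {Y : Subgroup G}, Om z L x Y → Lz z L x = Y := fun h =>
    huniq (om_Lz (mem_Dz h)) h
  have hu := hX.pair hp
  have hwX : Om z L w (cj k L) := ⟨k, hk, rfl⟩
  have hww := (hwX.pair hp).sq
  have hwc := pair_comm hu hw
  have hn11 : n ≤ 11 := by
    by_contra hcon
    have h12 : n = 12 := by omega
    have hpw := hwX.pair hp
    -- `C(w)` normalizes the member over `w`
    have hnorm : ∀ a : G, a * w = w * a → a ∈ NX w (cj k L) := by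
      intro a ha
      refine mem_NX.mpr ⟨?_, ha⟩
      rw [mem_normalizer_iff_cj]
      exact huniq (hwX.cj_of_comm ha) hwX
    obtain ⟨S', hS'⟩ := exists_isAct hpw (by omega)
    let ψ : ↥(X ⊓ centralizer ({w} : Set G)) →* Perm (Fin n) :=
      { toFun := fun m => S'.φ (mkQ w (cj k L) m (hnorm m (mem_centralizer_singleton_iff.mp m.2.2)))
        map_one' := by
          rw [← map_one S'.φ]
          rfl
        map_mul' := fun a b => by rw [← map_mul]; rfl }
    obtain ⟨π, z0, hcov, hcen⟩ := SporadicRecognition.AltCover.exists_isCover hu.cover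
    have hz0 : (ofIsCover (by omega : 5 ≤ n) hcov).z = z0 := rfl
    let ρ : ↥(X ⊓ centralizer ({w} : Set G)) →* (↥X ⧸ oddCore ↥X) :=
      (Subgroup.subtype _).comp (IntrinsicIntr.centMap X w hw)
    have hρker : ∀ m : ↥(X ⊓ centralizer ({w} : Set G)), m ∈ ρ.ker → (m : G) ∈ core X := by
      intro m hm
      have h3 : (QuotientGroup.mk ⟨(m : G), m.2.1⟩ : ↥X ⧸ oddCore ↥X) = 1 := hm
      rwa [mk_eq_one_iff] at h3
    have huC : u ∈ X ⊓ centralizer ({w} : Set G) :=
      ⟨hu.mem, mem_centralizer_singleton_iff.mpr hwc.symm⟩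
    refine AnTwelve.false_of_twelve (ofIsCover (by omega : 5 ≤ n) hcov)
      (by rw [Fintype.card_fin]; exact h12) (x := QuotientGroup.mk ⟨w, hw⟩) ?_ ?_ ρ ?_ ?_
      (u := ⟨u, huC⟩) (Subtype.ext hu.sq) (fun y => Subtype.ext (pair_comm hu y.2.1)) ?_
      (β := Fin n) (by rw [Fintype.card_fin]; omega) ψ ?_
    · change (QuotientGroup.mk ⟨w * w, mul_mem hw hw⟩ : ↥X ⧸ oddCore ↥X) = 1
      rw [mk_eq_one_iff, hww]; exact one_mem _
    · intro h3
      apply hwf
      apply TypesB.fixes_of_center hw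
      rw [hcen]
      rw [(ofIsCover (by omega : 5 ≤ n) hcov).ker, hz0] at h3
      exact h3
    · rw [MonoidHom.range_comp, MonoidHom.range_eq_top.mpr (IntrinsicIntr.centMap_surjective X w hw hww),
        ← MonoidHom.range_eq_map, Subgroup.range_subtype]
      rfl
    · have h3 : ρ.ker.map (X ⊓ centralizer ({w} : Set G)).subtype ≤ core X := by
        rintro _ ⟨m, hm, rfl⟩
        exact hρker m hm
      have h4 := Subgroup.card_dvd_of_le h3
      rw [Subgroup.card_map_of_injective (subtype_injective _)] at h4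
      exact Odd.of_dvd_nat (odd_card_core X) h4
    · rw [hz0]
      have h3 : (QuotientGroup.mk ⟨u, hu.mem⟩ : ↥X ⧸ oddCore ↥X) ∈ center (↥X ⧸ oddCore ↥X) := by
        rw [mem_center_iff]
        intro y
        obtain ⟨⟨y, hy⟩, rfl⟩ := QuotientGroup.mk_surjective y
        change (QuotientGroup.mk ⟨y * u, mul_mem hy hu.mem⟩ : ↥X ⧸ oddCore ↥X) =
          QuotientGroup.mk ⟨u * y, mul_mem hu.mem hy⟩
        congr 1
        exact Subtype.ext (pair_comm hu hy)
      rcases (hcen _).mp h3 with h4 | h4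
      · exfalso
        rw [mk_eq_one_iff] at h4
        exact hu.ne_one (eq_one_of_mem_core_sq h4 hu.sq)
      · exact h4
    · intro h3
      have h4 : S'.φ (mkQ w (cj k L) u (hnorm u hwc.symm)) = 1 := h3
      rw [hS'.φ_one] at h4
      exact hwf (typeZero_symm hp hwX hX hwc h4)
  refine ⟨⟨hn, hn11, hW.ih, hW.cent, fun h => (om_Lz h).pair hp, ?_, ?_, ?_, ?_, ?_, ?_, ?_⟩,
    hLz (Om.refl z L)⟩
  · rintro u ⟨g, rfl⟩ k
    exact ⟨k * g, by group⟩
  · intro u hu g
    exact hLz ((om_Lz hu).cj g)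
  · rintro _ _ ⟨g, rfl⟩ ⟨k, rfl⟩
    exact ⟨k * g⁻¹, by group⟩
  · intro u v hu hv huv hf
    exact typeZero_symm hp (om_Lz hu) (om_Lz hv) huv hf
  · intro u v hu hv huv hnf
    exact TypesC.swap_of hp hn (om_Lz hu) (om_Lz hv) huv
      (normalizes hW (om_Lz hu) (om_Lz hv) huv) hnf
  · intro u v hu hv huv hnf
    exact quat_of hp hn (om_Lz hu) (om_Lz hv) huv
      (normalizes hW (om_Lz hu) (om_Lz hv) huv) hnf
  · intro y hy
    obtain ⟨g0, hg0⟩ := mem_Dz hX
    obtain ⟨g1, hg1⟩ := hy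
    have e : g1 * g0⁻¹ * u * (g1 * g0⁻¹)⁻¹ = y := by rw [← hg0, ← hg1]; group
    have hY := hX.cj (g1 * g0⁻¹)
    rw [e] at hY
    refine ⟨g1 * g0⁻¹ * w * (g1 * g0⁻¹)⁻¹, ?_, ?_, ?_⟩
    · rw [hLz hY]
      exact conj_mem_cj hw
    · exact ⟨g1 * g0⁻¹ * k, by rw [← hk]; group⟩
    · intro h
      apply hwu
      have h3 : g1 * g0⁻¹ * w * (g1 * g0⁻¹)⁻¹ = g1 * g0⁻¹ * u * (g1 * g0⁻¹)⁻¹ := by rw [h, e]
      exact mul_left_cancel (mul_right_cancel h3)

end Cfsg.Agent.Intrinsic.TypesEnd
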