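import Cfsg.Agent.Intrinsic.WZeroFour
import Cfsg.Agent.Intrinsic.Diag
import Cfsg.Agent.Intrinsic.Lifting

/-!
# World `W0` (S1738, section 4): all commuting pairs of type (0)

`World z L`: every conjugate `v` of `z` commuting with a conjugate `u` fixes (= centralizes modulo the
core) every conjugate `X` of `L` attached to `u`, and the pump-ups of these `X` are small.

Main result of this file: `World.strongly`, the subgroup generated by the conjugates of `z` in a
Sylow 2-subgroup `T` is elementary abelian and strongly closed in `T`.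
-/

set_option autoImplicit false

open Cfsg Subgroup
open Cfsg.Agent.SignalizersComponents
open Cfsg.Agent.SignalizersComponents.IntrinsicBasic
open Cfsg.Agent.Intrinsic.Basic Cfsg.Agent.Intrinsic.Cen
open scoped commutatorElement

namespace Cfsg.Agent.Intrinsic.WZero

variable {G : Type*} [Group G]

/-- `u` is a conjugate of `z` -/
def InD (z u : G) : Prop := ∃ g, g * z * g⁻¹ = u

/-- `(u, X)` is a conjugate of `(z, L)` -/
def Om (z : G) (L : Subgroup G) (u : G) (X : Subgroup G) : Prop :=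
  ∃ g, g * z * g⁻¹ = u ∧ X = cj g L

/-- World `W0`. -/
structure World (z : G) (L : Subgroup G) : Prop where
  zz : z * z = 1
  z1 : z ≠ 1
  zL : z ∈ L
  comp : IsComp (centralizer ({z} : Set G)) L
  type0 : ∀ u X v, Om z L u X → InD z v → v * u = u * v → Fixes v X
  pump : ∀ u X x, Om z L u X → x * x = 1 → x ≠ 1 → x * u = u * x → Fixes x X →
    ∃ M, IsComp (centralizer ({x} : Set G)) M ∧ cen X x ≤ M ∧ u ∈ M ∧ Fixes u M ∧
      ∀ a ∈ M, Fixes a M → a ∈ core M ∨ a * u ∈ core M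

/-! ### generalities on `Fixes` -/

theorem fixes_mul {a b : G} {K : Subgroup G} (ha : Fixes a K) (hb : Fixes b K) :
    Fixes (a * b) K := by
  refine ⟨mul_mem ha.1 hb.1, fun y hy => ?_⟩
  have h1 : ⁅a * b, y⁆ = (a * ⁅b, y⁆ * a⁻¹) * ⁅a, y⁆ := by
    simp only [commutatorElement_def]; group
  rw [h1]
  exact mul_mem (conj_mem_core ha.1 (hb.2 y hy)) (ha.2 y hy)

theorem fixes_of_comm {a : G} {K : Subgroup G} (h : ∀ y ∈ K, a * y = y * a) : Fixes a K := by
  have hn : a ∈ normalizer (K : Set G) := by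
    rw [mem_normalizer_iff]
    intro y
    constructor
    · intro hy
      rw [h y hy, mul_inv_cancel_right]; exact hy
    · intro hy
      have h1 := h _ hy
      have h2 : a * y * a⁻¹ = y := by
        have h3 : a * (a * y * a⁻¹) = a * y := by rw [h1]; group
        exact mul_left_cancel h3
      rw [h2] at hy; exact hy
  refine ⟨hn, fun y hy => ?_⟩
  rw [commutatorElement_def, h y hy]
  simp

theorem fixes_one (K : Subgroup G) : Fixes 1 K := fixes_of_comm (fun y _ => by simp)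

theorem fixes_inv {a : G} {K : Subgroup G} (ha : Fixes a K) : Fixes a⁻¹ K := by
  refine ⟨inv_mem ha.1, fun y hy => ?_⟩
  have h1 : ⁅a⁻¹, y⁆ = a⁻¹ * ⁅a, y⁆⁻¹ * a⁻¹⁻¹ := by
    simp only [commutatorElement_def]; group
  rw [h1]
  exact conj_mem_core (inv_mem ha.1) (inv_mem (ha.2 y hy))

/-- the elements fixing `K` -/
def fixSub (K : Subgroup G) : Subgroup G where
  carrier := {a | Fixes a K}
  mul_mem' := fixes_mul
  one_mem' := fixes_one K
  inv_mem' := fixes_inv

theorem mem_fixSub {a : G} {K : Subgroup G} : a ∈ fixSub K ↔ Fixes a K := Iff.rfl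

/-! ### conjugates of `z` -/

theorem InD.sq {z u : G} (hz : z * z = 1) (h : InD z u) : u * u = 1 := by
  obtain ⟨g, rfl⟩ := h
  calc g * z * g⁻¹ * (g * z * g⁻¹) = g * (z * z) * g⁻¹ := by group
    _ = 1 := by rw [hz]; group

theorem InD.ne_one {z u : G} (hz : z ≠ 1) (h : InD z u) : u ≠ 1 := by
  obtain ⟨g, rfl⟩ := h
  intro h1
  apply hz
  have : g⁻¹ * (g * z * g⁻¹) * g = z := by group
  rw [← this, h1]; group

theorem InD.conj {z u : G} (h : InD z u) (x : G) : InD z (x * u * x⁻¹) := by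
  obtain ⟨g, rfl⟩ := h
  exact ⟨x * g, by group⟩

theorem InD.exists_om {z u : G} (h : InD z u) (L : Subgroup G) : ∃ X, Om z L u X := by
  obtain ⟨g, hg⟩ := h
  exact ⟨cj g L, g, hg, rfl⟩

theorem Om.inD {z u : G} {L X : Subgroup G} (h : Om z L u X) : InD z u := by
  obtain ⟨g, hg, -⟩ := h
  exact ⟨g, hg⟩

theorem Om.mem {z u : G} {L X : Subgroup G} (hL : z ∈ L) (h : Om z L u X) : u ∈ X := by
  obtain ⟨g, rfl, rfl⟩ := h
  exact conj_mem_cj hL

theorem Om.comp {z u : G} {L X : Subgroup G} (hL : IsComp (centralizer ({z} : Set G)) L)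
    (h : Om z L u X) : IsComp (centralizer ({u} : Set G)) X := by
  obtain ⟨g, rfl, rfl⟩ := h
  rw [← cj_centralizer]
  exact hL.cj g

theorem Om.fixes_self {z u : G} {L X : Subgroup G} (hL : IsComp (centralizer ({z} : Set G)) L)
    (h : Om z L u X) : Fixes u X :=
  fixes_of_comm fun _ hy => (mem_centralizer_singleton_iff.mp ((h.comp hL).le hy)).symm

theorem mem_cent {x y : G} : y ∈ centralizer ({x} : Set G) ↔ y * x = x * y :=
  mem_centralizer_singleton_iff

theorem inv_eq {x : G} (h : x * x = 1) : x⁻¹ = x := inv_eq_of_mul_eq_one_left h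

namespace World

variable {z : G} {L : Subgroup G} (W : World z L)
include W

theorem sq {u : G} (h : InD z u) : u * u = 1 := h.sq W.zz

theorem ne_one {u : G} (h : InD z u) : u ≠ 1 := h.ne_one W.z1

theorem ocomp {u : G} {X : Subgroup G} (h : Om z L u X) :
    IsComp (centralizer ({u} : Set G)) X := h.comp W.comp

/-- If `u`, `u'` are different commuting members of `M` fixing `M` and `M` is a pump-up: impossible. -/
theorem absurd_two {M : Subgroup G} [Finite G] {u u' : G} (hu : InD z u) (hu' : InD z u')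
    (hne : u ≠ u') (hc : u * u' = u' * u) (huM : u ∈ M) (hu'M : u' ∈ M) (hf : Fixes u M)
    (hf' : Fixes u' M) (h2 : ∀ a ∈ M, Fixes a M → a ∈ core M ∨ a * u ∈ core M) : False := by
  have hb := h2 (u * u') (mul_mem huM hu'M) (fixes_mul hf hf')
  have husq := W.sq hu
  have husq' := W.sq hu'
  rcases hb with h | h
  · have h1 : (u * u') ^ 2 ^ 1 = 1 := by
      rw [pow_one, pow_two]
      calc u * u' * (u * u') = u * (u' * u) * u' := by group
        _ = (u * u) * (u' * u') := by rw [← hc]; group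
        _ = 1 := by rw [husq, husq', one_mul]
    have h3 := eq_one_of_mem_core h h1
    apply hne
    calc u = u * (u' * u') := by rw [husq', mul_one]
      _ = (u * u') * u' := by group
      _ = u' := by rw [h3, one_mul]
  · have h1 : u * u' * u = u' := by rw [hc, mul_assoc, husq, mul_one]
    rw [h1] at h
    exact W.ne_one hu' (eq_one_of_mem_core h (n := 1) (by rw [pow_one, pow_two, husq']))

variable [Finite G]

/-- the pump-up fixes every 2-component -/
theorem exists_good {u x : G} {X : Subgroup G} (hX : Om z L u X) (hx : x * x = 1) (hx1 : x ≠ 1)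
    (hxu : x * u = u * x) (hf : Fixes x X) :
    ∃ M, IsComp (centralizer ({x} : Set G)) M ∧ cen X x ≤ M ∧ u ∈ M ∧ Fixes u M ∧
      (∀ E, IsComp (centralizer ({x} : Set G)) E → Fixes u E) ∧
      ∀ a ∈ M, Fixes a M → a ∈ core M ∨ a * u ∈ core M := by
  obtain ⟨M, hM, hcM, huM, hfM, h2⟩ := W.pump u X x hX hx hx1 hxu hf
  refine ⟨M, hM, hcM, huM, hfM, fun E hE => ?_, h2⟩
  by_cases h : E = M
  · rw [h]; exact hfM
  · exact hE.fixes_of_mem hM h huM

/-- a conjugate of the pump-up by an element moving `u` to a different commuting conjugate is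
different -/
theorem cj_ne {M : Subgroup G} {u v : G} (hu : InD z u) (huM : u ∈ M) (hf : Fixes u M)
    (h2 : ∀ a ∈ M, Fixes a M → a ∈ core M ∨ a * u ∈ core M) (hne : u ≠ v * u * v⁻¹)
    (hc : u * (v * u * v⁻¹) = (v * u * v⁻¹) * u) : cj v M ≠ M := by
  intro h
  have h1 : v * u * v⁻¹ ∈ M := by rw [← h]; exact conj_mem_cj huM
  have h3 : Fixes (v * u * v⁻¹) M := by
    have := hf.cj v
    rwa [h] at this
  exact W.absurd_two hu (hu.conj v) hne hc huM h1 hf h3 h2

theorem comm_four {u v : G} (hu : InD z u) (hv : InD z v) (h4 : (u * v) ^ 4 = 1) :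
    u * v = v * u := by
  have huu := W.sq hu
  have hvv := W.sq hv
  have hui := inv_eq huu
  have hvi := inv_eq hvv
  by_contra hne
  obtain ⟨b, hb⟩ : ∃ b, b = u * (v * u * v⁻¹) := ⟨_, rfl⟩
  have hb' : b = u * v * (u * v) := by rw [hb, hvi]; group
  have hb2 : b * b = 1 := by
    rw [hb', ← h4]; simp only [pow_succ, pow_zero, one_mul, mul_assoc]
  have hb1 : b ≠ 1 := by
    intro h
    apply hne
    have h1 : u * v * (u * v) = 1 := by rw [← hb', h]
    have h2 : u * v = (u * v)⁻¹ := eq_inv_of_mul_eq_one_left h1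
    rw [h2, mul_inv_rev, hui, hvi]
  have hbi := inv_eq hb2
  have hcomm : u * (v * u * v⁻¹) = (v * u * v⁻¹) * u := by
    rw [← hb]
    have : (v * u * v⁻¹) * u = b⁻¹ := by
      rw [hb, mul_inv_rev, mul_inv_rev, mul_inv_rev, inv_inv, hui]; group
    rw [this, hbi]
  have hbu : b * u = u * b := by
    rw [hb, mul_assoc, ← hcomm]
  have hbv : b * v = v * b := by
    have h1 : v * b * v⁻¹ = b := by
      have : v * b * v⁻¹ = b⁻¹ := by
        rw [hb', mul_inv_rev, mul_inv_rev, hui, hvi]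
        calc v * (u * v * (u * v)) * v = v * u * (v * u) * (v * v) := by group
          _ = _ := by rw [hvv, mul_one]
      rw [this, hbi]
    calc b * v = (v * b * v⁻¹) * v := by rw [h1]
      _ = v * b := by group
  obtain ⟨X, hX⟩ := hu.exists_om L
  obtain ⟨Y, hY⟩ := hv.exists_om L
  have hfX : Fixes b X := by
    rw [hb]
    exact fixes_mul (hX.fixes_self W.comp) (W.type0 u X _ hX (hu.conj v) hcomm.symm)
  have hfY : Fixes b Y := by
    have h1 : b = (u * v * u⁻¹) * v := by rw [hb', hui]; group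
    rw [h1]
    refine fixes_mul (W.type0 v Y _ hY (hv.conj u) ?_) (hY.fixes_self W.comp)
    rw [← h1]
    have h2 : v * (u * v * u⁻¹) = v * b * v⁻¹ := by rw [h1]; group
    rw [h2, ← hbv]; group
  obtain ⟨M, hM, -, huM, hfM, -, h2⟩ := W.exists_good hX hb2 hb1 hbu hfX
  obtain ⟨N, hN, -, hvN, -, -, -⟩ := W.exists_good hY hb2 hb1 hbv hfY
  have hne' : u ≠ v * u * v⁻¹ := by
    intro h
    apply hne
    calc u * v = (v * u * v⁻¹) * v := by rw [← h]
      _ = v * u := by group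
  have h3 : cj v M ≠ M := W.cj_ne hu huM hfM h2 hne' hcomm
  apply h3
  have h4 : v ∈ normalizer (M : Set G) := hM.L2_le_normalizer (hN.le_L2 hvN)
  exact mem_normalizer_iff_cj.mp h4

/-- (4.1): conjugates of `z` generating a 2-group commute. -/
theorem comm_of_pow {k : ℕ} : ∀ {u v : G}, InD z u → InD z v → (u * v) ^ 2 ^ k = 1 →
    u * v = v * u := by
  induction k with
  | zero =>
    intro u v hu hv h
    exact W.comm_four hu hv (by
      rw [pow_zero, pow_one] at h; rw [h, one_pow])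
  | succ k ih =>
    intro u v hu hv h
    have hvi := inv_eq (W.sq hv)
    have h1 : u * (v * u * v⁻¹) = (u * v) ^ 2 := by rw [hvi, pow_two]; group
    have h2 := ih hu (hu.conj v) (by rw [h1, ← pow_mul, ← pow_succ', h])
    apply W.comm_four hu hv
    have h3 : (u * (v * u * v⁻¹)) * (u * (v * u * v⁻¹)) = 1 := by
      have e1 := W.sq hu
      have e2 := W.sq (hu.conj v)
      calc (u * (v * u * v⁻¹)) * (u * (v * u * v⁻¹))
          = u * ((v * u * v⁻¹) * u) * (v * u * v⁻¹) := by group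
        _ = (u * u) * ((v * u * v⁻¹) * (v * u * v⁻¹)) := by rw [← h2]; group
        _ = 1 := by rw [e1, e2, one_mul]
    rw [h1, ← pow_add] at h3
    exact h3

theorem comm_of_isPGroup {P : Subgroup G} (hP : IsPGroup 2 P) {u v : G} (hu : InD z u)
    (hv : InD z v) (huP : u ∈ P) (hvP : v ∈ P) : u * v = v * u := by
  obtain ⟨k, hk⟩ := hP ⟨u * v, mul_mem huP hvP⟩
  exact W.comm_of_pow hu hv (congrArg Subtype.val hk)

end World

/-! ### the group generated by the conjugates of `z` in a 2-group -/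

/-- the subgroup generated by the conjugates of `z` lying in `P` -/
def AA (z : G) (P : Subgroup G) : Subgroup G := closure {v | InD z v ∧ v ∈ P}

theorem mem_AA {z v : G} {P : Subgroup G} (h : InD z v) (hv : v ∈ P) : v ∈ AA z P :=
  subset_closure ⟨h, hv⟩

theorem AA_le (z : G) (P : Subgroup G) : AA z P ≤ P :=
  (closure_le _).mpr fun _ h => h.2

theorem AA_le_of {z : G} {P H : Subgroup G} (h : ∀ v, InD z v → v ∈ P → v ∈ H) : AA z P ≤ H :=
  (closure_le _).mpr fun _ hv => h _ hv.1 hv.2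

/-- `A` acts trivially on the 2-layer of `C(x)` modulo the core, and lies in it. -/
structure Good (A : Subgroup G) (x : G) : Prop where
  sq : x * x = 1
  ne : x ≠ 1
  comm : ∀ a ∈ A, a * x = x * a
  le : A ≤ L2 (centralizer ({x} : Set G))
  fix : ∀ a ∈ A, ∀ E, IsComp (centralizer ({x} : Set G)) E → Fixes a E

/-- the centralizer as a subgroup containing a set of commuting elements -/
theorem le_centralizer_singleton {H : Subgroup G} {x : G} (h : ∀ a ∈ H, a * x = x * a) :
    H ≤ centralizer ({x} : Set G) := fun a ha => mem_cent.mpr (h a ha)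

namespace World

variable {z : G} {L : Subgroup G} (W : World z L) [Finite G]
include W

theorem AA_comm_of {P : Subgroup G} (hP : IsPGroup 2 P) {v : G} (hv : InD z v) (hvP : v ∈ P) :
    ∀ a ∈ AA z P, a * v = v * a := by
  have h1 : AA z P ≤ centralizer ({v} : Set G) := AA_le_of fun w hw hwP =>
    mem_cent.mpr (W.comm_of_isPGroup hP hw hv hwP hvP)
  exact fun a ha => mem_cent.mp (h1 ha)

theorem AA_comm {P : Subgroup G} (hP : IsPGroup 2 P) : ∀ a ∈ AA z P, ∀ b ∈ AA z P,
    a * b = b * a := by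
  intro a ha
  have h1 : AA z P ≤ centralizer ({a} : Set G) := AA_le_of fun w hw hwP =>
    mem_cent.mpr (W.AA_comm_of hP hw hwP a ha).symm
  exact fun b hb => (mem_cent.mp (h1 hb)).symm

theorem AA_sq {P : Subgroup G} (hP : IsPGroup 2 P) : ∀ a ∈ AA z P, a * a = 1 := by
  intro a ha
  have h1 : a ∈ AA z P ∧ a * a = 1 := by
    refine closure_induction (p := fun a _ => a ∈ AA z P ∧ a * a = 1) ?_ ?_ ?_ ?_ ha
    · intro x hx
      exact ⟨mem_AA hx.1 hx.2, W.sq hx.1⟩
    · exact ⟨one_mem _, by simp⟩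
    · intro x y _ _ hx hy
      refine ⟨mul_mem hx.1 hy.1, ?_⟩
      have := W.AA_comm hP x hx.1 y hy.1
      calc x * y * (x * y) = x * (y * x) * y := by group
        _ = (x * x) * (y * y) := by rw [← this]; group
        _ = 1 := by rw [hx.2, hy.2, one_mul]
    · intro x _ hx
      refine ⟨inv_mem hx.1, ?_⟩
      rw [← mul_inv_rev, hx.2, inv_one]
  exact h1.2

theorem AA_fixes {P : Subgroup G} (hP : IsPGroup 2 P) {v : G} (hv : InD z v) (hvP : v ∈ P)
    {X : Subgroup G} (hX : Om z L v X) : ∀ a ∈ AA z P, Fixes a X := by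
  have h1 : AA z P ≤ fixSub X := AA_le_of fun w hw hwP =>
    W.type0 v X w hX hw (W.comm_of_isPGroup hP hw hv hwP hvP)
  exact fun a ha => h1 ha

theorem good_of_mem {P : Subgroup G} (hP : IsPGroup 2 P) {c : G} (hc : c ∈ AA z P) (hc1 : c ≠ 1) :
    Good (AA z P) c := by
  have hcc := W.AA_sq hP c hc
  have key : ∀ v, InD z v → v ∈ P → v ∈ L2 (centralizer ({c} : Set G)) ∧
      ∀ E, IsComp (centralizer ({c} : Set G)) E → Fixes v E := by
    intro v hv hvP
    obtain ⟨X, hX⟩ := hv.exists_om L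
    obtain ⟨M, hM, -, hvM, -, hE, -⟩ := W.exists_good hX hcc hc1 (W.AA_comm_of hP hv hvP c hc)
      (W.AA_fixes hP hv hvP hX c hc)
    exact ⟨hM.le_L2 hvM, hE⟩
  refine ⟨hcc, hc1, fun a ha => W.AA_comm hP a ha c hc, AA_le_of fun v hv hvP => (key v hv hvP).1,
    fun a ha E hE => ?_⟩
  have h1 : AA z P ≤ fixSub E := AA_le_of fun v hv hvP => (key v hv hvP).2 E hE
  exact h1 ha

/-- two conjugates of `z` in `C(v)`, `v` a conjugate of `z`, commute modulo the core -/
theorem comm_mod {v q w : G} (hv : InD z v) (hq : InD z q) (hw : InD z w) (hqv : q * v = v * q)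
    (hwv : w * v = v * w) : ⁅q, w⁆ ∈ core (centralizer ({v} : Set G)) := by
  obtain ⟨X, hX⟩ := hq.exists_om L
  obtain ⟨Y, hY⟩ := hw.exists_om L
  obtain ⟨M, hM, -, hqM, -, -, -⟩ := W.exists_good hX (W.sq hv) (W.ne_one hv) hqv.symm
    (W.type0 q X v hX hv hqv.symm)
  obtain ⟨N, hN, -, -, -, hE, -⟩ := W.exists_good hY (W.sq hv) (W.ne_one hv) hwv.symm
    (W.type0 w Y v hY hv hwv.symm)
  have h1 := hM.core_le_core ((hE M hM).2 q hqM)
  rw [← commutatorElement_inv]
  exact inv_mem h1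

omit W in
theorem inter_eq {T T' : Sylow 2 G} (h : ∀ w, InD z w → w ∈ (T : Subgroup G) →
    w ∈ (T' : Subgroup G)) : ∀ w, InD z w → w ∈ (T' : Subgroup G) → w ∈ (T : Subgroup G) := by
  have : Fact (Nat.Prime 2) := ⟨Nat.prime_two⟩
  obtain ⟨g, hg⟩ := MulAction.exists_smul_eq G T T'
  have hmem : ∀ x, x ∈ (T' : Subgroup G) ↔ g⁻¹ * x * g ∈ (T : Subgroup G) := by
    intro x
    rw [← hg, Sylow.coe_subgroup_smul, mem_smul_pointwise_iff_exists]
    constructor
    · rintro ⟨s, hs, rfl⟩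
      have : g⁻¹ * (MulAut.conj g • s) * g = s := by
        change g⁻¹ * (g * s * g⁻¹) * g = s
        group
      rw [this]; exact hs
    · intro hx
      refine ⟨g⁻¹ * x * g, hx, ?_⟩
      change g * (g⁻¹ * x * g) * g⁻¹ = x
      group
  obtain ⟨S, hS⟩ : ∃ S : Set G, S = {v | InD z v ∧ v ∈ (T : Subgroup G)} := ⟨_, rfl⟩
  obtain ⟨S', hS'⟩ : ∃ S : Set G, S = {v | InD z v ∧ v ∈ (T' : Subgroup G)} := ⟨_, rfl⟩
  have h1 : S ⊆ S' := by
    rw [hS, hS']
    exact fun w hw => ⟨hw.1, h w hw.1 hw.2⟩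
  have h2 : S' = (fun x => g * x * g⁻¹) '' S := by
    rw [hS, hS']
    ext x
    constructor
    · rintro ⟨hx1, hx2⟩
      refine ⟨g⁻¹ * x * g, ⟨?_, (hmem x).mp hx2⟩, ?_⟩
      · have := hx1.conj g⁻¹
        rwa [inv_inv] at this
      · simp only; group
    · rintro ⟨y, ⟨hy1, hy2⟩, rfl⟩
      refine ⟨hy1.conj g, (hmem _).mpr ?_⟩
      simp only
      have : g⁻¹ * (g * y * g⁻¹) * g = y := by group
      rw [this]; exact hy2
  have hinj : Function.Injective (fun x => g * x * g⁻¹) := by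
    intro x y hxy
    exact mul_left_cancel (mul_right_cancel hxy)
  have h3 : S'.ncard = S.ncard := by rw [h2]; exact Set.ncard_image_of_injective S hinj
  have h4 : S = S' := Set.eq_of_subset_of_ncard_le h1 h3.le (Set.toFinite _)
  intro w hw hwT'
  have h5 : w ∈ S' := by rw [hS']; exact ⟨hw, hwT'⟩
  rw [← h4, hS] at h5
  exact h5.2

/-- Step (I) of 4.2. -/
theorem stepI {T T' : Sylow 2 G} {b : G} (hbT : b ∈ (T : Subgroup G))
    (hC : ∀ x ∈ (T : Subgroup G), x * b = b * x → x ∈ (T' : Subgroup G))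
    (hb : b ∈ AA z (T' : Subgroup G)) {v : G} (hv : InD z v) (hvT : v ∈ (T : Subgroup G))
    (hvb : v * b = b * v) : b ∈ AA z (T : Subgroup G) := by
  have hvT' := hC v hvT hvb
  have hcomm : ∀ w, InD z w → w ∈ (T : Subgroup G) → w * b = b * w := by
    intro w hw hwT
    have hwv : w * v = v * w := W.comm_of_isPGroup T.isPGroup' hw hv hwT hvT
    have h1 : b ∈ centralizer ({v} : Set G) ∧ ⁅b, w⁆ ∈ core (centralizer ({v} : Set G)) := by
      refine closure_induction (p := fun b _ => b ∈ centralizer ({v} : Set G) ∧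
        ⁅b, w⁆ ∈ core (centralizer ({v} : Set G))) ?_ ?_ ?_ ?_ hb
      · intro q hq
        have hqv := W.comm_of_isPGroup T'.isPGroup' hq.1 hv hq.2 hvT'
        exact ⟨mem_cent.mpr hqv, W.comm_mod hv hq.1 hw hqv hwv⟩
      · exact ⟨one_mem _, by simp⟩
      · intro x y _ _ hx hy
        refine ⟨mul_mem hx.1 hy.1, ?_⟩
        have h1 : ⁅x * y, w⁆ = (x * ⁅y, w⁆ * x⁻¹) * ⁅x, w⁆ := by
          simp only [commutatorElement_def]; group
        rw [h1]
        exact mul_mem (conj_mem_core (le_normalizer hx.1) hy.2) hx.2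
      · intro x _ hx
        refine ⟨inv_mem hx.1, ?_⟩
        have h1 : ⁅x⁻¹, w⁆ = x⁻¹ * ⁅x, w⁆⁻¹ * x⁻¹⁻¹ := by
          simp only [commutatorElement_def]; group
        rw [h1]
        exact conj_mem_core (inv_mem (le_normalizer hx.1)) (inv_mem hx.2)
    have hw' : InD z (b * w * b⁻¹) := hw.conj b
    have hw'T : b * w * b⁻¹ ∈ (T : Subgroup G) := mul_mem (mul_mem hbT hwT) (inv_mem hbT)
    have hc := W.comm_of_isPGroup T.isPGroup' hw hw' hwT hw'T
    have hwi := inv_eq (W.sq hw)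
    have h2 : ⁅b, w⁆ ^ 2 ^ 1 = 1 := by
      have e1 := W.sq hw
      have e2 := W.sq hw'
      rw [pow_one, pow_two, commutatorElement_def, hwi]
      calc b * w * b⁻¹ * w * (b * w * b⁻¹ * w) = b * w * b⁻¹ * (w * (b * w * b⁻¹)) * w := by group
        _ = (b * w * b⁻¹ * (b * w * b⁻¹)) * (w * w) := by rw [hc]; group
        _ = 1 := by rw [e1, e2, one_mul]
    have h3 := eq_one_of_mem_core h1.2 h2
    exact (commutatorElement_eq_one_iff_mul_comm.mp h3).symm
  have h1 : ∀ w, InD z w → w ∈ (T : Subgroup G) → w ∈ (T' : Subgroup G) :=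
    fun w hw hwT => hC w hwT (hcomm w hw hwT)
  have h2 := inter_eq h1
  have h3 : AA z (T' : Subgroup G) ≤ AA z (T : Subgroup G) := AA_le_of fun w hw hwT' =>
    mem_AA hw (h2 w hw hwT')
  exact h3 hb

/-- choice of the Sylow group containing `C_T(b)` -/
theorem exists_choice {T T' : Sylow 2 G} {b : G} (hb : b ∈ AA z (T' : Subgroup G)) :
    ∃ T₁ : Sylow 2 G, (∀ x ∈ (T : Subgroup G), x * b = b * x → x ∈ (T₁ : Subgroup G)) ∧
      b ∈ AA z (T₁ : Subgroup G) := by
  have : Fact (Nat.Prime 2) := ⟨Nat.prime_two⟩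
  have hAC : AA z (T' : Subgroup G) ≤ centralizer ({b} : Set G) :=
    le_centralizer_singleton fun a ha => W.AA_comm T'.isPGroup' a ha b hb
  have h1 : IsPGroup 2 ↥((T : Subgroup G).subgroupOf (centralizer ({b} : Set G))) :=
    T.isPGroup'.comap_subtype
  have h2 : IsPGroup 2 ↥((AA z (T' : Subgroup G)).subgroupOf (centralizer ({b} : Set G))) :=
    (T'.isPGroup'.to_le (AA_le _ _)).comap_subtype
  obtain ⟨Q, hQ⟩ := h1.exists_le_sylow
  obtain ⟨Q', hQ'⟩ := h2.exists_le_sylow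
  obtain ⟨c, hc⟩ := MulAction.exists_smul_eq (↥(centralizer ({b} : Set G))) Q' Q
  have hQG : IsPGroup 2 ↥((Q : Subgroup ↥(centralizer ({b} : Set G))).map
      (centralizer ({b} : Set G)).subtype) := Q.isPGroup'.map _
  obtain ⟨T₁, hT₁⟩ := hQG.exists_le_sylow
  refine ⟨T₁, ?_, ?_⟩
  · intro x hx hxb
    exact hT₁ ⟨⟨x, mem_cent.mpr hxb⟩, hQ hx, rfl⟩
  · have h3 : AA z (T' : Subgroup G) ≤ cj (c : G)⁻¹ (AA z (T₁ : Subgroup G)) := by
      refine AA_le_of fun v hv hvT' => ?_
      rw [mem_cj, inv_inv]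
      refine mem_AA (hv.conj _) (hT₁ ?_)
      have hvC : v ∈ centralizer ({b} : Set G) := hAC (mem_AA hv hvT')
      refine ⟨c * ⟨v, hvC⟩ * c⁻¹, ?_, rfl⟩
      have h4 : (⟨v, hvC⟩ : ↥(centralizer ({b} : Set G))) ∈ (Q' : Subgroup _) :=
        hQ' (mem_AA hv hvT')
      have h5 : c * ⟨v, hvC⟩ * c⁻¹ ∈ ((c • Q' : Sylow 2 _) : Subgroup _) := by
        rw [Sylow.coe_subgroup_smul]
        exact smul_mem_pointwise_smul _ (MulAut.conj c) _ h4
      rw [hc] at h5
      exact h5
    have h4 := h3 hb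
    rw [mem_cj, inv_inv] at h4
    have h5 : (c : G) * b * (c : G)⁻¹ = b := by
      rw [mem_cent.mp c.2, mul_inv_cancel_right]
    rwa [h5] at h4

theorem exists_inD (T : Sylow 2 G) : ∃ v, InD z v ∧ v ∈ (T : Subgroup G) := by
  have : Fact (Nat.Prime 2) := ⟨Nat.prime_two⟩
  have h1 : IsPGroup 2 ↥(zpowers z) := by
    rintro ⟨_, n, rfl⟩
    refine ⟨1, ?_⟩
    apply Subtype.ext
    have h2 : z ^ 2 = 1 := by rw [pow_two, W.zz]
    change (z ^ n) ^ (2 ^ 1) = 1
    rw [pow_one, ← zpow_natCast, ← zpow_mul, mul_comm, zpow_mul, zpow_natCast, h2, one_zpow]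
  obtain ⟨T', hT'⟩ := h1.exists_le_sylow
  obtain ⟨g, hg⟩ := MulAction.exists_smul_eq G T' T
  refine ⟨g * z * g⁻¹, ⟨g, rfl⟩, ?_⟩
  rw [← hg, Sylow.coe_subgroup_smul]
  exact smul_mem_pointwise_smul _ (MulAut.conj g) _ (hT' (mem_zpowers z))

/-- (4.2): `AA z T` is strongly closed. -/
theorem strongly' {T T' : Sylow 2 G} {b : G} (hbT : b ∈ (T : Subgroup G))
    (hb : b ∈ AA z (T' : Subgroup G)) : b ∈ AA z (T : Subgroup G) := by
  by_cases hb1 : b = 1
  · rw [hb1]; exact one_mem _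
  obtain ⟨T₁, hT₁, hbT₁⟩ := W.exists_choice (T := T) hb
  have hbb := W.AA_sq T₁.isPGroup' b hbT₁
  have hbi := inv_eq hbb
  by_cases hex : ∃ v, InD z v ∧ v ∈ (T : Subgroup G) ∧ v * b = b * v
  · obtain ⟨v, hv, hvT, hvb⟩ := hex
    exact W.stepI hbT hT₁ hbT₁ hv hvT hvb
  exfalso
  push Not at hex
  obtain ⟨w, hw, hwT⟩ := W.exists_inD T
  have hw' : InD z (b * w * b⁻¹) := hw.conj b
  have hw'T : b * w * b⁻¹ ∈ (T : Subgroup G) := mul_mem (mul_mem hbT hwT) (inv_mem hbT)
  have hcw := W.comm_of_isPGroup T.isPGroup' hw hw' hwT hw'T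
  have hne : w ≠ b * w * b⁻¹ := by
    intro h
    apply hex w hw hwT
    calc w * b = b * w * b⁻¹ * b := by rw [← h]
      _ = b * w := by group
  obtain ⟨c, hc⟩ : ∃ c, c = w * (b * w * b⁻¹) := ⟨_, rfl⟩
  have hcA : c ∈ AA z (T : Subgroup G) := hc ▸ mul_mem (mem_AA hw hwT) (mem_AA hw' hw'T)
  have hcc := W.AA_sq T.isPGroup' c hcA
  have hc1 : c ≠ 1 := by
    intro h
    apply hne
    have h1 := inv_eq (W.sq hw)
    rw [hc] at h
    exact h1.symm.trans (inv_eq_of_mul_eq_one_right h)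
  have hcT : c ∈ (T : Subgroup G) := AA_le _ _ hcA
  have hbc : b * c = c * b := by
    have h1 : b * c * b⁻¹ = c := by
      calc b * c * b⁻¹ = (b * w * b⁻¹) * (b * b * w * (b * b)⁻¹) := by rw [hc]; group
        _ = (b * w * b⁻¹) * w := by rw [hbb]; group
        _ = c := by rw [hc, hcw]
    calc b * c = b * c * b⁻¹ * b := by group
      _ = c * b := by rw [h1]
  have hcT₁ : c ∈ (T₁ : Subgroup G) := hT₁ c hcT hbc.symm
  obtain ⟨X, hX⟩ := hw.exists_om L
  have hcw' : c * w = w * c := W.AA_comm_of T.isPGroup' hw hwT c hcA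
  obtain ⟨M, hM, -, hwM, hfM, -, h2⟩ := W.exists_good hX hcc hc1 hcw'
    (W.AA_fixes T.isPGroup' hw hwT hX c hcA)
  have hMne : cj b M ≠ M := W.cj_ne hw hwM hfM h2 hne hcw
  -- `c ∉ AA z T₁`
  have hcn : c ∉ AA z (T₁ : Subgroup G) := by
    intro h
    have h1 := (W.good_of_mem T₁.isPGroup' h hc1).le hbT₁
    exact hMne (mem_normalizer_iff_cj.mp (hM.L2_le_normalizer h1))
  -- `c` commutes with no conjugate of `z` in `T₁`
  obtain ⟨T₂, hT₂, hcT₂⟩ := W.exists_choice (T := T₁) hcA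
  obtain ⟨v, hv, hvT₁⟩ := W.exists_inD T₁
  have hvc : v * c ≠ c * v := fun h => hcn (W.stepI hcT₁ hT₂ hcT₂ hv hvT₁ h)
  obtain ⟨Y, hY⟩ := hv.exists_om L
  obtain ⟨N, hN, -, hvN, hfN, -, h3⟩ := W.exists_good hY hbb hb1
    (W.AA_comm_of T₁.isPGroup' hv hvT₁ b hbT₁) (W.AA_fixes T₁.isPGroup' hv hvT₁ hY b hbT₁)
  have hv'T₁ : c * v * c⁻¹ ∈ (T₁ : Subgroup G) := mul_mem (mul_mem hcT₁ hvT₁) (inv_mem hcT₁)
  have hNne : cj c N ≠ N := by
    refine W.cj_ne hv hvN hfN h3 ?_ (W.comm_of_isPGroup T₁.isPGroup' hv (hv.conj c) hvT₁ hv'T₁)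
    intro h
    apply hvc
    calc v * c = c * v * c⁻¹ * c := by rw [← h]
      _ = c * v := by group
  -- the diagonal component
  have hbC : b ∈ centralizer ({c} : Set G) := mem_cent.mpr hbc
  obtain ⟨hE, -⟩ := Diag.exists_diag hM hbC hbb hMne
  have hcE : c ∈ Diag.diag (centralizer ({c} : Set G)) M b := by
    refine Diag.mem_diag (k := w) (n := 1) (mem_cent.mpr rfl) hbc.symm hwM ?_ ?_
    · rw [← hc, inv_mul_cancel]; exact one_mem _
    · rw [pow_one, pow_two, hcc]
  have h4 := isComp_le_L2 (H := centralizer ({b} : Set G)) (u := c) (mem_cent.mpr hbc.symm) hcc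
    (by rw [inf_comm]; exact hE)
  exact hNne (mem_normalizer_iff_cj.mp (hN.L2_le_normalizer (h4 hcE)))

omit [Finite G] W in
theorem cj_AA (g : G) (P : Subgroup G) : cj g (AA z P) = AA z (cj g P) := by
  have key : ∀ (g : G) (P : Subgroup G), AA z P ≤ cj g⁻¹ (AA z (cj g P)) := by
    intro g P
    refine AA_le_of fun v hv hvP => ?_
    rw [mem_cj, inv_inv]
    exact mem_AA (hv.conj g) (conj_mem_cj hvP)
  apply le_antisymm
  · have := cj_mono (g := g) (key g P)
    rwa [cj_cj_inv] at this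
  · have := key g⁻¹ (cj g P)
    rwa [inv_inv, cj_inv_cj] at this

/-- (4.2) in the usual form -/
theorem strongly (T : Sylow 2 G) {a g : G} (ha : a ∈ AA z (T : Subgroup G))
    (hg : g * a * g⁻¹ ∈ (T : Subgroup G)) : g * a * g⁻¹ ∈ AA z (T : Subgroup G) := by
  have : Fact (Nat.Prime 2) := ⟨Nat.prime_two⟩
  refine W.strongly' (T' := g • T) hg ?_
  have h1 : (((g • T : Sylow 2 G) : Subgroup G)) = cj g (T : Subgroup G) := by
    rw [Sylow.coe_subgroup_smul]; rfl
  rw [h1, ← cj_AA]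
  exact conj_mem_cj ha

end World

end Cfsg.Agent.Intrinsic.WZero
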