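import Cfsg.Agent.Intrinsic.WZero
import Cfsg.Agent.TwoFusion.StronglyEmbeddedBasic
import Cfsg.Prelude.Def_TwoFusion

/-!
# World `W0` (S1738, section 4): (4.5)

If a proper subgroup contains the centralizers of all involutions of `A = AA z T`, the simple group has a
strongly embedded subgroup, hence one class of involutions, but `L` contains involutions which are not
conjugate to `z`.
-/

set_option autoImplicit false

open Cfsg Subgroup
open Cfsg.Agent.SignalizersComponents
open Cfsg.Agent.SignalizersComponents.IntrinsicBasic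
open Cfsg.Agent.Intrinsic.Basic Cfsg.Agent.Intrinsic.Cen Cfsg.Agent.Intrinsic.WZero

namespace Cfsg.Agent.Intrinsic.WZeroFive

/-- the statement of S1174 for `G` -/
def Crit (G : Type*) [Group G] : Prop :=
  ∀ (S : Sylow 2 G) (T : Subgroup G), T ≠ ⊥ → IsStronglyClosed T (S : Subgroup G) →
    (⨆ t : {t : G // t ∈ T ∧ orderOf t = 2}, centralizer ({(t : G)} : Set G)) ≠ ⊤ →
    ∃ H : Subgroup G, IsStronglyEmbedded H

variable {G : Type*} [Group G] [Finite G] {z : G} {L : Subgroup G}

theorem orderOf_two {x : G} (h : x * x = 1) (h1 : x ≠ 1) : orderOf x = 2 :=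
  orderOf_eq_prime (by rw [pow_two, h]) h1

theorem isStronglyClosed (W : World z L) (T : Sylow 2 G) :
    IsStronglyClosed (AA z (T : Subgroup G)) (T : Subgroup G) :=
  ⟨AA_le _ _, fun _ hx _ hg => W.strongly T hx hg⟩

/-- not all involutions are conjugate to `z` -/
theorem not_inD (W : World z L) {t : G} (ht : t ∈ L) (hf : ¬ Fixes t L) : ¬ InD z t := by
  intro h
  apply hf
  refine W.type0 z L t ⟨1, by group, (cj_one L).symm⟩ h ?_
  exact mem_centralizer_singleton_iff.mp (W.comp.le ht)

/-- **(4.5)** -/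
theorem false_of_le (W : World z L) (hCrit : Crit G) {t : G} (ht : t ∈ L) (ht2 : t * t = 1)
    (hf : ¬ Fixes t L) (T : Sylow 2 G) {M : Subgroup G} (hM : M ≠ ⊤)
    (hC : ∀ a ∈ AA z (T : Subgroup G), a ≠ 1 → centralizer ({a} : Set G) ≤ M) : False := by
  have ht1 : t ≠ 1 := by
    rintro rfl
    exact hf (fixes_one L)
  obtain ⟨H, hH⟩ := hCrit T (AA z (T : Subgroup G)) (by
    obtain ⟨v, hv, hvT⟩ := W.exists_inD T
    intro h
    have h1 : v ∈ AA z (T : Subgroup G) := mem_AA hv hvT
    rw [h, mem_bot] at h1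
    exact W.ne_one hv h1) (isStronglyClosed W T) (by
    intro h
    apply hM
    rw [eq_top_iff, ← h]
    refine iSup_le fun a => hC a a.2.1 ?_
    intro h1
    have := a.2.2
    rw [h1, orderOf_one] at this
    exact absurd this (by norm_num))
  have hconj := Cfsg.Agent.TwoFusion.StronglyEmbeddedBasic.isConj_of_involutions hH z t
    (orderOf_two W.zz W.z1) (orderOf_two ht2 ht1)
  obtain ⟨g, hg⟩ := isConj_iff.mp hconj
  exact not_inD W ht hf ⟨g, hg⟩

end Cfsg.Agent.Intrinsic.WZeroFive
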