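import Cfsg.Agent.Intrinsic.WZeroFun
import Cfsg.Agent.Intrinsic.WZeroFive
import Cfsg.Agent.Intrinsic.TypesDef

/-!
# World `W0` (S1738, section 4): the assembly

`norm`: `C(x) = O(C(x)) N_{C(x)}(A)`; `exists_ne`: no element of `A#` is isolated (Z*);
`world`: the abstract world of `WZero` from `TypesDef.World`; `false_of_zero`.
-/

set_option autoImplicit false

open Cfsg Subgroup
open Cfsg.Agent.SignalizersComponents
open Cfsg.Agent.SignalizersComponents.IntrinsicBasic
open Cfsg.Agent.Intrinsic.Basic Cfsg.Agent.Intrinsic.Cen Cfsg.Agent.Intrinsic.Quot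
open scoped commutatorElement

namespace Cfsg.Agent.Intrinsic.WZeroEnd

open Cfsg.Agent.Intrinsic.WZero

variable {G : Type*} [Group G] [Finite G]

/-- A 2-group `A` normalizing the odd group `O` is maximal in `O A`. -/
theorem le_of_isPGroup {A O Q : Subgroup G} (hO : Odd (Nat.card O)) (hAO : A ≤ normalizer (O : Set G))
    (hAQ : A ≤ Q) (hQ : IsPGroup 2 ↥Q) (hle : Q ≤ O ⊔ A) : Q ≤ A := by
  intro q hq
  obtain ⟨o, ho, a, ha, rfl⟩ := (CoprimeBasic.mem_sup_iff hAO q).mp (hle hq)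
  have h1 : o ∈ Q := by
    have := mul_mem hq (inv_mem (hAQ ha))
    rwa [mul_inv_cancel_right] at this
  obtain ⟨k, hk⟩ := hQ ⟨o, h1⟩
  have h2 : o = 1 := Lifting.eq_one_of_odd hO ho (n := k) (congrArg Subtype.val hk)
  rw [h2, one_mul]; exact ha

/-- Frattini for a 2-group modulo an odd group -/
theorem exists_norm_of_conj {A O : Subgroup G} (hO : Odd (Nat.card O)) (hA : IsPGroup 2 ↥A)
    (hAO : A ≤ normalizer (O : Set G)) {h : G} (hconj : ∀ a ∈ A, h * a * h⁻¹ ∈ O ⊔ A) :
    ∃ o ∈ O, o * h ∈ normalizer (A : Set G) := by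
  have hp : Fact (Nat.Prime 2) := ⟨Nat.prime_two⟩
  obtain ⟨H, hH⟩ : ∃ H, H = O ⊔ A := ⟨_, rfl⟩
  rw [← hH] at hconj
  have hAH : A ≤ H := hH ▸ le_sup_right
  have hOH : O ≤ H := hH ▸ le_sup_left
  have hBH : cj h A ≤ H := by
    intro x hx
    rw [mem_cj] at hx
    have := hconj _ hx
    have e : h * (h⁻¹ * x * h) * h⁻¹ = x := by group
    rwa [e] at this
  have hB : IsPGroup 2 ↥(cj h A) := by
    rw [cj_def]; exact hA.map _
  obtain ⟨P, hP⟩ := (hA.comap_subtype (K := H)).exists_le_sylow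
  obtain ⟨Q, hQ⟩ := (hB.comap_subtype (K := H)).exists_le_sylow
  have hPA : (P : Subgroup ↥H).map H.subtype ≤ A := by
    refine le_of_isPGroup hO hAO ?_ (P.isPGroup'.map _) ?_
    · intro a ha
      exact ⟨⟨a, hAH ha⟩, hP (show a ∈ A from ha), rfl⟩
    · rw [← hH]
      exact map_subtype_le _
  obtain ⟨s, hs⟩ := MulAction.exists_smul_eq (↥H) Q P
  have key : ∀ a ∈ A, (s : G) * (h * a * h⁻¹) * (s : G)⁻¹ ∈ A := by
    intro a ha
    apply hPA
    have h1 : (⟨h * a * h⁻¹, hconj a ha⟩ : ↥H) ∈ (Q : Subgroup ↥H) :=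
      hQ (show h * a * h⁻¹ ∈ cj h A from conj_mem_cj ha)
    have h2 : s * ⟨h * a * h⁻¹, hconj a ha⟩ * s⁻¹ ∈ ((s • Q : Sylow 2 ↥H) : Subgroup ↥H) := by
      rw [Sylow.coe_subgroup_smul]
      exact smul_mem_pointwise_smul _ (MulAut.conj s) _ h1
    rw [hs] at h2
    exact ⟨_, h2, rfl⟩
  obtain ⟨o, ho, b, hb, hob⟩ : ∃ o ∈ O, ∃ b ∈ A, b * o = s := by
    have h1 : (s : G) ∈ O ⊔ A := hH ▸ s.2
    obtain ⟨o, ho, b, hb, h2⟩ := (CoprimeBasic.mem_sup_iff hAO _).mp h1
    refine ⟨b⁻¹ * o * b⁻¹⁻¹, (mem_normalizer_iff.mp (hAO (inv_mem hb)) o).mp ho, b, hb, ?_⟩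
    rw [← h2]; group
  refine ⟨o, ho, ?_⟩
  have h1 : ∀ a ∈ A, (o * h) * a * (o * h)⁻¹ ∈ A := by
    intro a ha
    have h2 := key a ha
    rw [← hob] at h2
    have h3 : (o * h) * a * (o * h)⁻¹ = b⁻¹ * (b * o * (h * a * h⁻¹) * (b * o)⁻¹) * b := by group
    rw [h3]
    exact mul_mem (mul_mem (inv_mem hb) h2) hb
  exact mem_normalizer_fintype h1

theorem norm {z : G} {L : Subgroup G} (W : WZero.World z L) (T : Sylow 2 G) {x : G}
    (hx : Good (AA z (T : Subgroup G)) x) {h : G} (hh : h ∈ centralizer ({x} : Set G)) :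
    ∃ o ∈ core (centralizer ({x} : Set G)),
      o * h ∈ normalizer (AA z (T : Subgroup G) : Set G) := by
  refine exists_norm_of_conj (odd_card_core _) (T.isPGroup'.to_le (AA_le _ _))
    hx.le_normalizer fun a ha => ?_
  rw [sup_comm]
  exact W.conj_mem_sup T hx hh ha

omit [Finite G] in
theorem normalizer_WW (A : Subgroup G) :
    normalizer (A : Set G) ≤ normalizer (WW A : Set G) := by
  have key : ∀ g ∈ normalizer (A : Set G), WW A ≤ cj g⁻¹ (WW A) := by
    intro g hg
    refine WW_le fun a ha ha1 => ?_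
    have h1 : g * a * g⁻¹ ∈ A := (mem_normalizer_iff.mp hg _).mp ha
    have h2 : g * a * g⁻¹ ≠ 1 := by
      intro h
      apply ha1
      calc a = g⁻¹ * (g * a * g⁻¹) * g := by group
        _ = 1 := by rw [h]; group
    have h3 := core_le_WW h1 h2
    rw [← cj_centralizer, core_cj] at h3
    have h4 := cj_mono (g := g⁻¹) h3
    rwa [cj_inv_cj] at h4
  intro g hg
  rw [mem_normalizer_iff_cj]
  apply le_antisymm
  · have h1 := cj_mono (g := g) (key g hg)
    rwa [cj_cj_inv] at h1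
  · have h1 := key g⁻¹ (inv_mem hg)
    rwa [inv_inv] at h1

/-- the statement of S0215 (Glauberman's Z*-theorem) for `G` -/
def ZStar (G : Type*) [Group G] : Prop :=
  ∀ (P : Sylow 2 G) (u : G), orderOf u = 2 → u ∈ P →
    (∀ g : G, g * u * g⁻¹ ∈ P → g * u * g⁻¹ = u) →
    ∃ N : Subgroup G, N.Normal ∧ Odd (Nat.card N) ∧ ∀ g : G, (u * g * u⁻¹ * g⁻¹) ∈ N

/-- no element of `A#` is isolated -/
theorem exists_ne [IsSimpleGroup G] (hZ : ZStar G)
    (hcent : ∀ x : G, orderOf x = 2 → centralizer ({x} : Set G) ≠ ⊤) (T : Sylow 2 G) {c : G}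
    (hcT : c ∈ (T : Subgroup G)) (hcc : c * c = 1) (hc1 : c ≠ 1) :
    ∃ g, g * c * g⁻¹ ∈ (T : Subgroup G) ∧ g * c * g⁻¹ ≠ c := by
  by_contra hcon
  push Not at hcon
  have hc2 := WZeroFive.orderOf_two hcc hc1
  obtain ⟨N, hN, hodd, hcomm⟩ := hZ T c hc2 hcT hcon
  rcases hN.eq_bot_or_eq_top with h | h
  · apply hcent c hc2
    rw [eq_top_iff]
    intro g _
    rw [mem_cent]
    have h1 := hcomm g
    rw [h, mem_bot] at h1
    have h2 : c * g = 1 * g * c := by rw [← h1]; group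
    rw [h2, one_mul]
  · rw [h, card_top] at hodd
    have h4 := orderOf_dvd_natCard c
    rw [hc2] at h4
    exact (Nat.not_even_iff_odd.mpr hodd) (even_iff_two_dvd.mpr h4)

end Cfsg.Agent.Intrinsic.WZeroEnd

namespace Cfsg.Agent.Intrinsic.WZeroEnd

universe u

variable {G : Type u} [Group G] [Finite G]

/-- the abstract world -/
theorem world {n : ℕ} {z : G} {L : Subgroup G} (hW : TypesDef.World n z L)
    (h0 : ∀ u v X X', TypesDef.Om z L u X → TypesDef.Om z L v X' → u * v = v * u → Fixes v X) :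
    WZero.World z L := by
  have h0' : ∀ u X v, WZero.Om z L u X → WZero.InD z v → v * u = u * v → Fixes v X := by
    rintro u X v ⟨g, hg, hX⟩ ⟨k, hk⟩ hc
    exact h0 u v X (cj k L) ⟨g, hg, hX.symm⟩ ⟨k, hk, rfl⟩ hc.symm
  refine ⟨hW.pair.sq, hW.pair.ne_one, hW.pair.mem, hW.pair.comp, h0', ?_⟩
  intro u X x hX hxx hx1 hxu hf
  have hpair : IsPair n u X := by
    obtain ⟨g, rfl, rfl⟩ := hX
    exact hW.pair.cj g
  obtain ⟨M, hM, hle, huM⟩ := exists_pump hpair hxx hxu hf
  have hxC : x ∈ centralizer ({u} : Set G) := WZero.mem_cent.mpr hxu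
  obtain ⟨hJ, -⟩ := isComp_cen hpair.comp hxC hxx hf
  rw [inf_comm] at hJ
  have hcov := (cover_cen hpair.comp hxC hxx hf (C := ↥(alternatingGroup (Fin n)))).mpr
    hpair.cover
  have huJ : u ∈ cen X x := pair_mem_cen hpair hxu
  have hcard : Nat.card M < Nat.card G := by
    have h1 := hW.cent x (WZeroFive.orderOf_two hxx hx1)
    have h2 : Nat.card M ≤ Nat.card (centralizer ({x} : Set G)) := Subgroup.card_le_of_le hM.le
    refine lt_of_le_of_lt h2 ?_
    exact lt_of_le_of_ne (Subgroup.card_le_card_group _) fun h =>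
      h1 (Subgroup.eq_top_of_card_eq _ h)
  have hJu : cen X x ≤ centralizer ({u} : Set G) := (cen_le X x).trans hpair.comp.le
  have hne : ∃ M', IsComp (centralizer ({x} : Set G)) M' ∧ M' = M := ⟨M, hM, rfl⟩
  rcases small_or_big hW.ih hW.le hpair.inv huJ hJ hcov hM hle hcard with hs | hb
  · have hfM : Fixes u M := hs.fixes huJ hJu
    refine ⟨M, hM, hle, huM, hfM, fun a ha hfa => ?_⟩
    have hcovM := (cover_of_sup (show cen X x ⊔ core M = M from hs)
      (C := ↥(alternatingGroup (Fin n)))).mp hcov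
    exact WZeroFour.center_two (le_trans (by norm_num) hW.le) hcovM ha hfa huM hfM fun h =>
      hpair.ne_one (eq_one_of_mem_core_sq h hpair.sq)
  · -- big: a noncentral involution of `cen X x` is conjugate to `u`
    exfalso
    obtain ⟨a, haJ, b, -, haa, -, -, hfa, -, -⟩ := WZeroFour.exists_four_lift hW.le hcov
    have ha1 : a ≠ 1 := fun h => hfa (h ▸ WZero.fixes_one _)
    obtain ⟨g, -, hg⟩ := hb.conj hpair.sq (hle haJ) haa ha1
    have haX : a ∈ X := cen_le X x haJ
    have hau : a * u = u * a := pair_comm hpair haX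
    have haD : WZero.InD z a := by
      have := hX.inD.conj g
      rwa [hg] at this
    have h1 : Fixes a X := h0' u X a hX haD hau
    apply hfa
    have hs := (isComp_cen hpair.comp hxC hxx hf).2
    exact (fixes_iff_of_sup hs (Subgroup.le_normalizer haJ) (Subgroup.le_normalizer haX)).mpr h1

/-- the end of world zero, modulo the external theorems -/
theorem false_of_zero [IsSimpleGroup G] (hCrit : WZeroFive.Crit G) (hZ : ZStar G)
    (hC : TwoFusion.ClosedFunctor.Complete G)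
    (hFT : ∀ H : Subgroup G, Odd (Nat.card H) → Group.IsSolvable H) {n : ℕ} {z : G}
    {L : Subgroup G} (hW : TypesDef.World n z L)
    (h0 : ∀ u v X X', TypesDef.Om z L u X → TypesDef.Om z L v X' → u * v = v * u → Fixes v X) :
    False := by
  have W := world hW h0
  obtain ⟨T⟩ : Nonempty (Sylow 2 G) := inferInstance
  have hodd := W.odd_WW T hC hFT (fun c hc hc1 => exists_ne hZ hW.cent T (WZero.AA_le _ _ hc)
    (W.AA_sq T.isPGroup' c hc) hc1) hW.le hW.pair.cover
  obtain ⟨t, ht, b, -, htt, -, -, hf, -, -⟩ := WZeroFour.exists_four_lift hW.le hW.pair.cover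
  obtain ⟨A, hA⟩ : ∃ A, A = WZero.AA z (T : Subgroup G) := ⟨_, rfl⟩
  have hnorm : ∀ a ∈ A, a ≠ 1 → ∀ x ∈ centralizer ({a} : Set G),
      ∃ o ∈ core (centralizer ({a} : Set G)), o * x ∈ normalizer (A : Set G) := by
    intro a ha ha1 x hx
    rw [hA] at ha ⊢
    exact norm W T (W.good_of_mem T.isPGroup' ha ha1) hx
  rw [← hA] at hodd
  have hAcm : ∀ a ∈ A, ∀ b ∈ A, a * b = b * a := hA ▸ W.AA_comm T.isPGroup'
  by_cases h : WZero.WW A = ⊥
  · refine WZeroFive.false_of_le W hCrit ht htt hf T (M := normalizer (A : Set G)) ?_ ?_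
    · intro h1
      have hn : A.Normal := normalizer_eq_top_iff.mp h1
      rcases hn.eq_bot_or_eq_top with h2 | h2
      · obtain ⟨v, hv, hvT⟩ := W.exists_inD T
        have h3 : v ∈ A := hA ▸ WZero.mem_AA hv hvT
        rw [h2, mem_bot] at h3
        exact W.ne_one hv h3
      · apply W.comp.ne_bot
        rw [← W.comp.perfect, eq_bot_iff, Subgroup.commutator_le]
        intro a _ b _
        rw [mem_bot, commutatorElement_eq_one_iff_mul_comm]
        exact hAcm a (h2 ▸ mem_top a) b (h2 ▸ mem_top b)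
    · intro a ha ha1 x hx
      rw [← hA] at ha
      obtain ⟨o, ho, hox⟩ := hnorm a ha ha1 x hx
      have h3 := WZero.core_le_WW ha ha1 ho
      rw [h, mem_bot] at h3
      rwa [h3, one_mul] at hox
  · refine WZeroFive.false_of_le W hCrit ht htt hf T (M := normalizer (WZero.WW A : Set G)) ?_ ?_
    · intro h1
      have hn : (WZero.WW A).Normal := normalizer_eq_top_iff.mp h1
      rcases hn.eq_bot_or_eq_top with h2 | h2
      · exact h h2
      · rw [h2, card_top] at hodd
        have h3 : orderOf z = 2 := WZeroFive.orderOf_two W.zz W.z1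
        have h4 := orderOf_dvd_natCard z
        rw [h3] at h4
        exact (Nat.not_even_iff_odd.mpr hodd) (even_iff_two_dvd.mpr h4)
    · intro a ha ha1 x hx
      rw [← hA] at ha
      obtain ⟨o, ho, hox⟩ := hnorm a ha ha1 x hx
      have h3 : x = o⁻¹ * (o * x) := by group
      rw [h3]
      refine mul_mem (inv_mem (Subgroup.le_normalizer (WZero.core_le_WW ha ha1 ho))) ?_
      exact normalizer_WW A hox

end Cfsg.Agent.Intrinsic.WZeroEnd
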