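import Cfsg.Agent.Intrinsic.Cen
import Cfsg.Agent.Intrinsic.OddQuot
import Cfsg.Agent.SporRec.TwoAn

/-!
# A four-group of non-central involutions in `X`, `X / O(X) ≅ 2.A_n`, `n ≥ 8`
-/

set_option autoImplicit false

open Cfsg Subgroup
open Cfsg.Agent.SignalizersComponents
open Cfsg.Agent.Intrinsic.Basic
open scoped commutatorElement

namespace Cfsg.Agent.Intrinsic.WZeroFour

open Equiv Cfsg.Agent.SporRec.TwoAn

section cover

variable {α : Type*} [Fintype α] [DecidableEq α] {C : Type*} [Group C] (K : Cover α C)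

/-- In a double cover of an alternating group of degree at least 8 there are two commuting
involutions generating together with `z` a group of order 8. -/
theorem exists_four (hα : 8 ≤ Fintype.card α) : ∃ a b : C, a * a = 1 ∧ b * b = 1 ∧ a * b = b * a ∧
    K.π a ≠ 1 ∧ K.π b ≠ 1 ∧ K.π (a * b) ≠ 1 := by
  obtain ⟨f⟩ : Nonempty (Fin 8 ↪ α) := Function.Embedding.nonempty_of_card_le (by simpa using hα)
  have hne : ∀ i j : Fin 8, i ≠ j → f i ≠ f j := fun i j h e => h (f.injective e)
  obtain ⟨u, hu⟩ := K.exists_lift (Cover.swap_mul_swap_mem (f 0) (f 1) (f 2) (f 3) (hne _ _ (by decide)) (hne _ _ (by decide)))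
  obtain ⟨v, hv⟩ := K.exists_lift (Cover.swap_mul_swap_mem (f 4) (f 5) (f 6) (f 7) (hne _ _ (by decide)) (hne _ _ (by decide)))
  obtain ⟨u', hu'⟩ := K.exists_lift (Cover.swap_mul_swap_mem (f 0) (f 2) (f 1) (f 3) (hne _ _ (by decide)) (hne _ _ (by decide)))
  obtain ⟨v', hv'⟩ := K.exists_lift (Cover.swap_mul_swap_mem (f 4) (f 6) (f 5) (f 7) (hne _ _ (by decide)) (hne _ _ (by decide)))
  have hdis : ∀ {a b : C}, (K.π a = swap (f 0) (f 1) * swap (f 2) (f 3) ∨ K.π a = swap (f 0) (f 2) * swap (f 1) (f 3)) →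
      (K.π b = swap (f 4) (f 5) * swap (f 6) (f 7) ∨ K.π b = swap (f 4) (f 6) * swap (f 5) (f 7)) → a * b = b * a := by
    intro a b ha hb
    apply K.commute_of_disjoint
    intro x
    by_cases hx : x = f 0 ∨ x = f 1 ∨ x = f 2 ∨ x = f 3
    · right
      rcases hb with hb | hb <;> rw [hb] <;> rcases hx with rfl | rfl | rfl | rfl <;>
      rw [Perm.mul_apply, swap_apply_of_ne_of_ne (hne _ _ (by decide)) (hne _ _ (by decide)),
        swap_apply_of_ne_of_ne (hne _ _ (by decide)) (hne _ _ (by decide))]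
    · left
      push Not at hx
      obtain ⟨h0, h1, h2, h3⟩ := hx
      rcases ha with ha | ha <;> rw [ha, Perm.mul_apply]
      · rw [swap_apply_of_ne_of_ne h2 h3, swap_apply_of_ne_of_ne h0 h1]
      · rw [swap_apply_of_ne_of_ne h1 h3, swap_apply_of_ne_of_ne h0 h2]
  have e1 : u * u = K.z := K.dbl _ _ _ _ (hne _ _ (by decide)) (hne _ _ (by decide)) (hne _ _ (by decide))
    (hne _ _ (by decide)) (hne _ _ (by decide)) (hne _ _ (by decide)) u hu
  have e2 : v * v = K.z := K.dbl _ _ _ _ (hne _ _ (by decide)) (hne _ _ (by decide)) (hne _ _ (by decide))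
    (hne _ _ (by decide)) (hne _ _ (by decide)) (hne _ _ (by decide)) v hv
  have e3 : u' * u' = K.z := K.dbl _ _ _ _ (hne _ _ (by decide)) (hne _ _ (by decide)) (hne _ _ (by decide))
    (hne _ _ (by decide)) (hne _ _ (by decide)) (hne _ _ (by decide)) u' hu'
  have e4 : v' * v' = K.z := K.dbl _ _ _ _ (hne _ _ (by decide)) (hne _ _ (by decide)) (hne _ _ (by decide))
    (hne _ _ (by decide)) (hne _ _ (by decide)) (hne _ _ (by decide)) v' hv'
  have e5 : u' * u = u * u' * K.z := K.anticomm (hne _ _ (by decide)) (hne _ _ (by decide)) (hne _ _ (by decide))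
    (hne _ _ (by decide)) (hne _ _ (by decide)) (hne _ _ (by decide)) hu hu'
  have e6 : v' * v = v * v' * K.z := K.anticomm (hne _ _ (by decide)) (hne _ _ (by decide)) (hne _ _ (by decide))
    (hne _ _ (by decide)) (hne _ _ (by decide)) (hne _ _ (by decide)) hv hv'
  have c1 : u * v = v * u := hdis (Or.inl hu) (Or.inl hv)
  have c2 : u * v' = v' * u := hdis (Or.inl hu) (Or.inr hv')
  have c3 : u' * v = v * u' := hdis (Or.inr hu') (Or.inl hv)
  have c4 : u' * v' = v' * u' := hdis (Or.inr hu') (Or.inr hv')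
  have zz := K.z_mul_z
  refine ⟨u * v, u' * v', ?_, ?_, ?_, ?_, ?_, ?_⟩
  · calc u * v * (u * v) = u * (v * u) * v := by group
      _ = (u * u) * (v * v) := by rw [← c1]; group
      _ = 1 := by rw [e1, e2, zz]
  · calc u' * v' * (u' * v') = u' * (v' * u') * v' := by group
      _ = (u' * u') * (v' * v') := by rw [← c4]; group
      _ = 1 := by rw [e3, e4, zz]
  · calc u * v * (u' * v') = u * (v * u') * v' := by group
      _ = u * (u' * v) * v' := by rw [c3]
      _ = (u * u') * (v * v') := by group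
      _ = (u * u') * (v * v') * (K.z * K.z) := by rw [zz, mul_one]
      _ = (u * u') * ((v * v') * K.z) * K.z := by group
      _ = (u * u') * (K.z * (v * v')) * K.z := by rw [K.z_comm (v * v')]
      _ = (u * u' * K.z) * (v * v' * K.z) := by group
      _ = (u' * u) * (v' * v) := by rw [e5, e6]
      _ = u' * (u * v') * v := by group
      _ = u' * (v' * u) * v := by rw [c2]
      _ = u' * v' * (u * v) := by group
  · intro h
    have h1 := congrFun (congrArg DFunLike.coe h) (f 0)
    rw [map_mul, hu, hv, Perm.mul_apply, Perm.mul_apply, Perm.mul_apply,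
      swap_apply_of_ne_of_ne (hne 0 6 (by decide)) (hne 0 7 (by decide)),
      swap_apply_of_ne_of_ne (hne 0 4 (by decide)) (hne 0 5 (by decide)),
      swap_apply_of_ne_of_ne (hne 0 2 (by decide)) (hne 0 3 (by decide)), swap_apply_left,
      Perm.one_apply] at h1
    exact hne 1 0 (by decide) h1
  · intro h
    have h1 := congrFun (congrArg DFunLike.coe h) (f 0)
    rw [map_mul, hu', hv', Perm.mul_apply, Perm.mul_apply, Perm.mul_apply,
      swap_apply_of_ne_of_ne (hne 0 5 (by decide)) (hne 0 7 (by decide)),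
      swap_apply_of_ne_of_ne (hne 0 4 (by decide)) (hne 0 6 (by decide)),
      swap_apply_of_ne_of_ne (hne 0 1 (by decide)) (hne 0 3 (by decide)), swap_apply_left,
      Perm.one_apply] at h1
    exact hne 2 0 (by decide) h1
  · intro h
    have h1 := congrFun (congrArg DFunLike.coe h) (f 0)
    rw [map_mul, map_mul, map_mul, hu, hv, hu', hv', Perm.mul_apply, Perm.mul_apply, Perm.mul_apply,
      Perm.mul_apply, Perm.mul_apply, Perm.mul_apply, Perm.mul_apply,
      swap_apply_of_ne_of_ne (hne 0 5 (by decide)) (hne 0 7 (by decide)),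
      swap_apply_of_ne_of_ne (hne 0 4 (by decide)) (hne 0 6 (by decide)),
      swap_apply_of_ne_of_ne (hne 0 1 (by decide)) (hne 0 3 (by decide)), swap_apply_left,
      swap_apply_of_ne_of_ne (hne 2 6 (by decide)) (hne 2 7 (by decide)),
      swap_apply_of_ne_of_ne (hne 2 4 (by decide)) (hne 2 5 (by decide)), swap_apply_left,
      swap_apply_of_ne_of_ne (hne 3 0 (by decide)) (hne 3 1 (by decide)),
      Perm.one_apply] at h1
    exact hne 3 0 (by decide) h1

end cover

/-- a nonsplit double cover of `A_n` is a `Cover` -/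
theorem nonempty_cover {n : ℕ} (hn : 5 ≤ n) {C : Type*} [Group C]
    (h : IsNonsplitDoubleCover C ↥(alternatingGroup (Fin n))) : Nonempty (Cover (Fin n) C) := by
  obtain ⟨π, z, hc, -⟩ := Cfsg.Agent.SporadicRecognition.AltCover.exists_isCover h
  exact ⟨ofIsCover hn hc⟩

variable {G : Type*} [Group G] [Finite G]

omit [Finite G] in
/-- the image of an element fixing `X` is central -/
theorem mk_center_of_fixes {X : Subgroup G} {a : G} (ha : a ∈ X) (h : Fixes a X) :
    (QuotientGroup.mk' (oddCore ↥X) ⟨a, ha⟩) ∈ center (↥X ⧸ oddCore ↥X) := by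
  rw [mem_center_iff]
  intro g
  obtain ⟨g, rfl⟩ := QuotientGroup.mk'_surjective _ g
  obtain ⟨y, hy, hyg⟩ := h.2 g g.2
  have h1 : (QuotientGroup.mk' (oddCore ↥X)) ⁅(⟨a, ha⟩ : ↥X), g⁆ = 1 := by
    have h2 : ⁅(⟨a, ha⟩ : ↥X), g⁆ = y := by
      apply Subtype.ext
      exact hyg.symm
    rw [h2]
    exact (QuotientGroup.eq_one_iff y).mpr hy
  rw [map_commutatorElement, commutatorElement_eq_one_iff_mul_comm] at h1
  exact h1.symm

omit [Finite G] in
/-- the centre of `X / O(X)` has order 2: an element of `X` fixing `X` is congruent to `1` or to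
the given central involution -/
theorem center_two {X : Subgroup G} {n : ℕ} (hn : 5 ≤ n)
    (hcov : IsNonsplitDoubleCover (↥X ⧸ oddCore ↥X) ↥(alternatingGroup (Fin n))) {a u : G}
    (ha : a ∈ X) (hfa : Fixes a X) (hu : u ∈ X) (hfu : Fixes u X) (hu1 : u ∉ core X) :
    a ∈ core X ∨ a * u ∈ core X := by
  obtain ⟨K⟩ := nonempty_cover hn hcov
  have h4 : 4 ≤ Fintype.card (Fin n) := by rw [Fintype.card_fin]; omega
  have key : ∀ c : G, ∀ hc : c ∈ X, (QuotientGroup.mk' (oddCore ↥X)) ⟨c, hc⟩ = 1 ↔ c ∈ core X := by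
    intro c hc
    constructor
    · intro h
      exact ⟨⟨c, hc⟩, (QuotientGroup.eq_one_iff _).mp h, rfl⟩
    · rintro ⟨y, hy, hyc⟩
      have : y = ⟨c, hc⟩ := Subtype.ext hyc
      rw [← this]
      exact (QuotientGroup.eq_one_iff y).mpr hy
  have h1 := (K.mem_center_iff h4).mp (mk_center_of_fixes ha hfa)
  have h2 := (K.mem_center_iff h4).mp (mk_center_of_fixes hu hfu)
  rcases h1 with h1 | h1
  · left; exact (key a ha).mp h1
  · right
    rcases h2 with h2 | h2
    · exact absurd ((key u hu).mp h2) hu1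
    · apply (key (a * u) (mul_mem ha hu)).mp
      have : (⟨a * u, mul_mem ha hu⟩ : ↥X) = ⟨a, ha⟩ * ⟨u, hu⟩ := rfl
      rw [this, map_mul, h1, h2, K.z_mul_z]

/-- A four-group in `X` none of whose involutions fixes `X`. -/
theorem exists_four_lift {X : Subgroup G} {n : ℕ} (hn : 8 ≤ n)
    (hcov : IsNonsplitDoubleCover (↥X ⧸ oddCore ↥X) ↥(alternatingGroup (Fin n))) :
    ∃ a ∈ X, ∃ b ∈ X, a * a = 1 ∧ b * b = 1 ∧ a * b = b * a ∧ ¬ Fixes a X ∧ ¬ Fixes b X ∧
      ¬ Fixes (a * b) X := by
  obtain ⟨K⟩ := nonempty_cover (by omega) hcov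
  have h4 : 4 ≤ Fintype.card (Fin n) := by rw [Fintype.card_fin]; omega
  obtain ⟨a', b', ha', hb', hab', ha1, hb1, hab1⟩ := exists_four K (by rw [Fintype.card_fin]; exact hn)
  have hodd : Odd (Nat.card (oddCore ↥X)) := by
    have := odd_card_core X
    rwa [core, card_map_of_injective X.subtype_injective] at this
  obtain ⟨a, ha, haa⟩ := OddQuot.exists_inv_lift hodd a' ha'
  obtain ⟨b, hb, hbb, hba⟩ := OddQuot.exists_comm_inv_lift hodd haa b' hb' (by rw [ha, hab'])
  have hz : ∀ c : ↥X, K.π (QuotientGroup.mk' (oddCore ↥X) c) ≠ 1 → ¬ Fixes (c : G) X := by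
    intro c hc hf
    apply hc
    have h1 := (K.mem_center_iff h4).mp (mk_center_of_fixes c.2 hf)
    exact (K.ker _).mpr h1
  refine ⟨a, a.2, b, b.2, congrArg Subtype.val haa, congrArg Subtype.val hbb,
    congrArg Subtype.val hba.symm, hz a (by rw [ha]; exact ha1), hz b (by rw [hb]; exact hb1),
    hz (a * b) (by rw [map_mul, ha, hb]; exact hab1)⟩

end Cfsg.Agent.Intrinsic.WZeroFour
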